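/-
Subgroups of small index of symmetric groups.
-/
import Mathlib
import Cfsg.Agent.S2119

set_option autoImplicit false
set_option linter.style.haveILetI false

namespace CfsgLib.MaxSub

open Equiv

variable {n : ℕ}

theorem eq_or_eq_of_alt_le {H : Subgroup (Perm (Fin n))} (h : alternatingGroup (Fin n) ≤ H) :
    H = ⊤ ∨ H = alternatingGroup (Fin n) := by
  rcases subsingleton_or_nontrivial (Fin n) with hs | hs
  · exact Or.inl (eq_top_iff.mpr fun x _ => by rw [Subsingleton.elim x 1]; exact one_mem H)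
  · have hd := Subgroup.index_dvd_of_le h
    rw [alternatingGroup.index_eq_two] at hd
    rcases (Nat.dvd_prime Nat.prime_two).mp hd with e | e
    · exact Or.inl (Subgroup.index_eq_one.mp e)
    · exact Or.inr (Perm.eq_alternatingGroup_of_index_eq_two e)

theorem normalCore_eq_bot (hn : 5 ≤ n) {H : Subgroup (Perm (Fin n))} (hH : H ≠ ⊤) (hA : H ≠ alternatingGroup (Fin n)) :
    H.normalCore = ⊥ := by
  by_contra hne
  have hle : alternatingGroup (Fin n) ≤ H.normalCore :=
    Perm.alternatingGroup_le_of_normal (by rwa [Nat.card_fin]) ((Subgroup.nontrivial_iff_ne_bot _).mpr hne)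
  rcases eq_or_eq_of_alt_le (hle.trans H.normalCore_le) with h | h
  · exact hH h
  · exact hA h

theorem le_index (hn : n ≠ 4) {H : Subgroup (Perm (Fin n))} (hH : H ≠ ⊤) (hA : H ≠ alternatingGroup (Fin n)) :
    n ≤ H.index := by
  have h2 : 2 ≤ H.index := Subgroup.one_lt_index_of_ne_top hH
  rcases lt_or_ge n 5 with h5 | h5
  · by_contra hlt
    have he : H.index = 2 := by omega
    exact hA (Perm.eq_alternatingGroup_of_index_eq_two he)
  · by_contra hlt
    have hinj : Function.Injective (MulAction.toPermHom (Perm (Fin n)) (Perm (Fin n) ⧸ H)) := by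
      rw [← MonoidHom.ker_eq_bot_iff, ← Subgroup.normalCore_eq_ker]
      exact normalCore_eq_bot h5 hH hA
    have hc := Nat.card_le_card_of_injective _ hinj
    rw [Nat.card_perm, Nat.card_perm, Nat.card_fin, ← Subgroup.index] at hc
    exact absurd hc (not_le.mpr ((Nat.factorial_lt (by omega)).mpr (by omega)))

theorem eq_stabilizer_four {H : Subgroup (Perm (Fin 4))} (hH : H.index = 4) :
    ∃ x : Fin 4, H = MulAction.stabilizer (Perm (Fin 4)) x := by
  have hc : Nat.card H = 6 := by
    have h := H.card_mul_index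
    rw [hH, Nat.card_perm, Nat.card_fin] at h
    simp only [Nat.factorial] at h
    omega
  obtain ⟨c, hc3⟩ := exists_prime_orderOf_dvd_card' (G := H) 3 (by rw [hc]; norm_num)
  have hcc : (c : Perm (Fin 4)) ^ 3 = 1 := by rw [← SubmonoidClass.coe_pow, ← hc3, pow_orderOf_eq_one]; rfl
  have hc1 : (c : Perm (Fin 4)) ≠ 1 := fun e => by
    rw [show c = 1 from Subtype.ext e, orderOf_one] at hc3; norm_num at hc3
  have key : ∀ c : Perm (Fin 4), c ^ 3 = 1 → c ≠ 1 →
      ∃ x, ∀ y, (c y = y ↔ y = x) ∧ ((c * c) y = y ↔ y = x) := by decide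
  obtain ⟨x, hx⟩ := key c hcc hc1
  haveI : (Subgroup.zpowers c).Normal := by
    apply Subgroup.normal_of_index_eq_two
    have h := (Subgroup.zpowers c).card_mul_index
    rw [Nat.card_zpowers, hc3, hc] at h
    omega
  have hle : H ≤ MulAction.stabilizer (Perm (Fin 4)) x := by
    intro h hh
    have hm := (inferInstance : (Subgroup.zpowers c).Normal).conj_mem c (Subgroup.mem_zpowers c) ⟨h, hh⟩
    rw [mem_zpowers_iff_mem_range_orderOf, hc3, Finset.mem_image] at hm
    obtain ⟨k, hk, e⟩ := hm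
    have e' : (c : Perm (Fin 4)) ^ k = h * c * h⁻¹ := congrArg Subtype.val e
    have hfix : ((c : Perm (Fin 4)) ^ k) (h x) = h x := by
      rw [e', Perm.mul_apply, Perm.mul_apply, Perm.inv_eq_iff_eq.mpr rfl, (hx x).1.mpr rfl]
    rw [MulAction.mem_stabilizer_iff, Perm.smul_def]
    rw [Finset.mem_range] at hk
    interval_cases k
    · exfalso
      rw [pow_zero, eq_comm, mul_inv_eq_one, mul_eq_left] at e'
      exact hc1 e'
    · rw [pow_one] at hfix; exact (hx _).1.mp hfix
    · rw [pow_two] at hfix; exact (hx _).2.mp hfix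
  refine ⟨x, Subgroup.eq_of_le_of_card_ge hle ?_⟩
  have h := (MulAction.stabilizer (Perm (Fin 4)) x).card_mul_index
  rw [MulAction.index_stabilizer_of_transitive, Nat.card_perm, Nat.card_fin] at h
  simp only [Nat.factorial] at h
  omega

theorem eq_stabilizer_small (hn : n ≤ 3) {H : Subgroup (Perm (Fin n))} (hH : H.index = n) :
    ∃ x : Fin n, H = MulAction.stabilizer (Perm (Fin n)) x := by
  interval_cases n
  · exact absurd hH Subgroup.index_ne_zero_of_finite
  · exact ⟨0, (Subgroup.index_eq_one.mp hH).trans (eq_top_iff.mpr fun g _ => Subsingleton.elim (α := Fin 1) _ _).symm⟩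
  · refine ⟨0, ?_⟩
    have hc : Nat.card H = 1 := by
      have h := H.card_mul_index
      rw [hH, Nat.card_perm, Nat.card_fin] at h
      simp only [Nat.factorial] at h
      omega
    rw [Subgroup.card_eq_one.mp hc, eq_comm, Subgroup.eq_bot_iff_forall]
    intro g hg
    have hg' : g 0 = 0 := hg
    revert g; decide
  · have hc : Nat.card H = 2 := by
      have h := H.card_mul_index
      rw [hH, Nat.card_perm, Nat.card_fin] at h
      simp only [Nat.factorial] at h
      omega
    obtain ⟨⟨g, hg⟩, hg2⟩ := exists_prime_orderOf_dvd_card' (G := H) 2 (by rw [hc])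
    rw [← Subgroup.orderOf_coe] at hg2
    have key : ∀ g : Perm (Fin 3), g ^ 2 = 1 → ∃ x, g x = x := by decide
    obtain ⟨x, hx⟩ := key g (hg2 ▸ pow_orderOf_eq_one g)
    refine ⟨x, ?_⟩
    have h1 : Subgroup.zpowers g = H := Subgroup.eq_of_le_of_card_ge (Subgroup.zpowers_le.mpr hg) (by
      rw [hc, Nat.card_zpowers, show orderOf g = 2 from hg2])
    have h2 : Subgroup.zpowers g = MulAction.stabilizer (Perm (Fin 3)) x := by
      refine Subgroup.eq_of_le_of_card_ge (Subgroup.zpowers_le.mpr hx) ?_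
      have h := (MulAction.stabilizer (Perm (Fin 3)) x).card_mul_index
      rw [MulAction.index_stabilizer_of_transitive, Nat.card_perm, Nat.card_fin] at h
      simp only [Nat.factorial] at h
      rw [Nat.card_zpowers, show orderOf g = 2 from hg2]
      omega
    exact h1.symm.trans h2

theorem eq_stabilizer (h6 : n ≠ 6) {H : Subgroup (Perm (Fin n))} (hH : H.index = n) :
    ∃ x : Fin n, H = MulAction.stabilizer (Perm (Fin n)) x := by
  rcases le_or_gt n 3 with h3 | h3
  · exact eq_stabilizer_small h3 hH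
  rcases eq_or_ne n 4 with rfl | h4
  · exact eq_stabilizer_four hH
  have hn : 5 ≤ n := by omega
  have hne : H ≠ ⊤ := fun e => by rw [e, Subgroup.index_top] at hH; omega
  have hnA : H ≠ alternatingGroup (Fin n) := fun e => by
    haveI : Nontrivial (Fin n) := Fin.nontrivial_iff_two_le.mpr (by omega)
    rw [e, alternatingGroup.index_eq_two] at hH; omega
  have e : Perm (Fin n) ⧸ H ≃ Fin n := Finite.equivFinOfCardEq hH
  let ψ₀ : Perm (Fin n) →* Perm (Fin n) :=
    (e.permCongrHom : Perm (Perm (Fin n) ⧸ H) →* Perm (Fin n)).comp (MulAction.toPermHom _ _)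
  have hinj : Function.Injective ψ₀ := by
    refine e.permCongrHom.injective.comp ?_
    rw [← MonoidHom.ker_eq_bot_iff, ← Subgroup.normalCore_eq_ker]
    exact normalCore_eq_bot hn hne hnA
  obtain ⟨ψ, hψ₀⟩ : ∃ ψ : Perm (Fin n) ≃* Perm (Fin n), ∀ g, ψ g = ψ₀ g :=
    ⟨MulEquiv.ofBijective ψ₀ (Finite.injective_iff_bijective.mp hinj), fun _ => rfl⟩
  have hA : ∀ a, a ∈ alternatingGroup (Fin n) ↔ ψ a ∈ alternatingGroup (Fin n) := fun a => by
    constructor <;> intro ha
    · have := (inferInstance : (alternatingGroup (Fin n)).Characteristic).fixed ψ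
      rw [SetLike.ext_iff] at this
      exact (this a).mpr ha
    · have := (inferInstance : (alternatingGroup (Fin n)).Characteristic).fixed ψ
      rw [SetLike.ext_iff] at this
      exact (this a).mp ha
  obtain ⟨φ, hφ⟩ : ∃ φ : MulAut (alternatingGroup (Fin n)), ∀ a, (φ a : Perm (Fin n)) = ψ a :=
    ⟨{ toFun := fun a => ⟨ψ a, (hA a).mp a.2⟩
       invFun := fun a => ⟨ψ.symm a, (hA _).mpr (by rw [MulEquiv.apply_symm_apply]; exact a.2)⟩
       left_inv := fun a => Subtype.ext (ψ.symm_apply_apply a)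
       right_inv := fun a => Subtype.ext (ψ.apply_symm_apply a)
       map_mul' := fun a b => Subtype.ext (map_mul ψ _ _) }, fun a => rfl⟩
  obtain ⟨hCinj, hCsurj⟩ := Cfsg.Agent.S2119.result n (by omega) h6
  obtain ⟨σ, hσ⟩ := hCsurj φ
  have hc : ∀ a : alternatingGroup (Fin n), ψ a = σ * a * σ⁻¹ := fun a => by
    rw [← hφ, ← hσ, MulAut.conjNormal_apply]
  have hψ : ∀ g, ψ g = σ * g * σ⁻¹ := by
    intro g
    refine hCinj (MulEquiv.ext fun b => Subtype.ext ?_)
    obtain ⟨a, rfl⟩ := φ.surjective b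
    have hgb := hc ⟨g * a * g⁻¹, (inferInstance : (alternatingGroup (Fin n)).Normal).conj_mem _ a.2 g⟩
    simp only [map_mul, map_inv] at hgb
    rw [MulAut.conjNormal_apply, MulAut.conjNormal_apply, hφ, hgb, hc a]
    group
  refine ⟨σ⁻¹ (e (1 : Perm (Fin n))), ?_⟩
  ext g
  have h1 : g ∈ H ↔ ψ g (e (1 : Perm (Fin n))) = e (1 : Perm (Fin n)) := by
    rw [hψ₀]
    show g ∈ H ↔ e (g • e.symm (e (1 : Perm (Fin n)))) = _
    rw [e.symm_apply_apply, e.injective.eq_iff, MulAction.Quotient.smul_coe, smul_eq_mul, mul_one, eq_comm,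
      QuotientGroup.eq, inv_one, one_mul]
  rw [h1, hψ, MulAction.mem_stabilizer_iff, Perm.smul_def, Perm.mul_apply, Perm.mul_apply, Perm.eq_inv_iff_eq]

end CfsgLib.MaxSub
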