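/-
The subgroups of index six of the symmetric group on six points.
-/
import Cfsg.Agent.Lib.MaxSub.SmallIndex

set_option autoImplicit false
set_option linter.style.haveILetI false
set_option maxRecDepth 4000

namespace CfsgLib.MaxSub

open Equiv MulAction

theorem normalCore_six {H : Subgroup (Perm (Fin 6))} (hH : H.index = 6) : H.normalCore = ⊥ := by
  refine normalCore_eq_bot (by norm_num) (fun e => ?_) (fun e => ?_)
  · rw [e, Subgroup.index_top] at hH; omega
  · rw [e, alternatingGroup.index_eq_two] at hH; omega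

theorem exists_toStab {H : Subgroup (Perm (Fin 6))} (hH : H.index = 6) :
    ∃ (ψ : MulAut (Perm (Fin 6))) (e : Perm (Fin 6) ⧸ H ≃ Fin 6), ∀ g q, ψ g (e q) = e (g • q) := by
  have e : Perm (Fin 6) ⧸ H ≃ Fin 6 := Finite.equivFinOfCardEq hH
  let ψ₀ : Perm (Fin 6) →* Perm (Fin 6) :=
    (e.permCongrHom : Perm (Perm (Fin 6) ⧸ H) →* Perm (Fin 6)).comp (MulAction.toPermHom _ _)
  have hinj : Function.Injective ψ₀ := by
    refine e.permCongrHom.injective.comp ?_
    rw [← MonoidHom.ker_eq_bot_iff, ← Subgroup.normalCore_eq_ker]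
    exact normalCore_six hH
  refine ⟨MulEquiv.ofBijective ψ₀ (Finite.injective_iff_bijective.mp hinj), e, fun g q => ?_⟩
  show e (g • e.symm (e q)) = _
  rw [e.symm_apply_apply]

theorem comap_stab {H : Subgroup (Perm (Fin 6))} {ψ : MulAut (Perm (Fin 6))} {e : Perm (Fin 6) ⧸ H ≃ Fin 6}
    (h : ∀ g q, ψ g (e q) = e (g • q)) (k : Perm (Fin 6)) :
    (stabilizer (Perm (Fin 6)) (e k)).comap ψ.toMonoidHom = H.map (MulAut.conj k).toMonoidHom := by
  ext g
  rw [Subgroup.mem_comap, MulEquiv.coe_toMonoidHom, mem_stabilizer_iff, Perm.smul_def, h, e.injective.eq_iff,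
    Subgroup.mem_map_equiv, MulAut.conj_symm_apply, MulAction.Quotient.smul_coe, eq_comm, QuotientGroup.eq, smul_eq_mul,
    mul_assoc]

theorem stab_iso (x : Fin 6) : Nonempty (stabilizer (Perm (Fin 6)) x ≃* Perm (Fin 5)) := by
  have hc : Fintype.card {y : Fin 6 // y ≠ x} = 5 := by simp
  let e := Fintype.equivFinOfCardEq hc
  let f : Perm (Fin 5) →* stabilizer (Perm (Fin 6)) x :=
    ((Perm.ofSubtype).comp (e.symm.permCongrHom : Perm (Fin 5) →* Perm {y : Fin 6 // y ≠ x})).codRestrict _ fun σ => by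
      rw [mem_stabilizer_iff, Perm.smul_def]
      exact Perm.ofSubtype_apply_of_not_mem _ (by simp)
  have hf : Function.Injective f := fun σ τ h =>
    e.symm.permCongrHom.injective (Perm.ofSubtype_injective (congrArg Subtype.val h))
  refine ⟨(MulEquiv.ofBijective f ⟨hf, ?_⟩).symm⟩
  intro y
  have hfin := (Nat.bijective_iff_injective_and_card f).mpr ⟨hf, ?_⟩
  · exact hfin.2 y
  have h := (stabilizer (Perm (Fin 6)) x).card_mul_index
  rw [index_stabilizer_of_transitive, Nat.card_perm, Nat.card_fin] at h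
  rw [Nat.card_perm, Nat.card_fin]
  simp only [Nat.factorial] at h ⊢
  omega

theorem iso_five {H : Subgroup (Perm (Fin 6))} (hH : H.index = 6) : Nonempty (H ≃* Perm (Fin 5)) := by
  obtain ⟨ψ, e, h⟩ := exists_toStab hH
  have hc := comap_stab h 1
  rw [map_one, show ((1 : MulAut (Perm (Fin 6))).toMonoidHom) = MonoidHom.id _ from rfl, Subgroup.map_id] at hc
  obtain ⟨i⟩ := stab_iso (e (1 : Perm (Fin 6)))
  let f : H ≃* stabilizer (Perm (Fin 6)) (e (1 : Perm (Fin 6))) :=
    { toFun := fun g => ⟨ψ g, (SetLike.ext_iff.mp hc (g : Perm (Fin 6))).mpr g.2⟩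
      invFun := fun s => ⟨ψ.symm s, (SetLike.ext_iff.mp hc (ψ.symm s)).mp (by
        rw [Subgroup.mem_comap, MulEquiv.coe_toMonoidHom, MulEquiv.apply_symm_apply]; exact s.2)⟩
      left_inv := fun g => Subtype.ext (ψ.symm_apply_apply g)
      right_inv := fun g => Subtype.ext (ψ.apply_symm_apply g)
      map_mul' := fun a b => Subtype.ext (map_mul ψ _ _) }
  exact ⟨f.trans i⟩

theorem exists_transitive : ∃ H : Subgroup (Perm (Fin 6)), H.index = 6 ∧ ∀ a : Fin 6, H ≠ stabilizer (Perm (Fin 6)) a := by
  haveI : Fact (Nat.Prime 5) := ⟨by norm_num⟩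
  set n := Nat.card (Sylow 5 (Perm (Fin 5))) with hn
  obtain ⟨P⟩ : Nonempty (Sylow 5 (Perm (Fin 5))) := inferInstance
  have hP : Nat.card P = 5 := by
    rw [P.card_eq_multiplicity, Nat.card_perm, Nat.card_fin,
      show Nat.factorization (Nat.factorial 5) 5 = padicValNat 5 (Nat.factorial 5) from Nat.factorization_def _ Fact.out]
    have : padicValNat 5 (Nat.factorial 5) = 1 := by
      haveI : Fact (Nat.Prime 5) := ⟨by norm_num⟩
      rw [show Nat.factorial 5 = 5 * 24 by rfl, padicValNat.mul (by norm_num) (by norm_num), padicValNat.self (by norm_num),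
        padicValNat.eq_zero_of_not_dvd (by norm_num)]
    rw [this, pow_one]
  have hdvd : n ∣ 24 := by
    have h1 := P.card_dvd_index
    have h2 := (P : Subgroup (Perm (Fin 5))).card_mul_index
    rw [hP, Nat.card_perm, Nat.card_fin, show Nat.factorial 5 = 5 * 24 from rfl] at h2
    rwa [Nat.eq_of_mul_eq_mul_left (by norm_num) h2] at h1
  have hmod := card_sylow_modEq_one 5 (Perm (Fin 5))
  rw [← hn, Nat.ModEq] at hmod
  have hne1 : n ≠ 1 := fun e => by
    haveI : Subsingleton (Sylow 5 (Perm (Fin 5))) := (Nat.card_eq_one_iff_unique.mp (hn ▸ e)).1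
    haveI : (P : Subgroup (Perm (Fin 5))).Normal := P.normal_of_subsingleton
    have hle := Perm.alternatingGroup_le_of_normal (N := (P : Subgroup (Perm (Fin 5)))) (by simp)
      ((Subgroup.nontrivial_iff_ne_bot _).mpr (fun e' => by rw [e', Subgroup.card_bot] at hP; omega))
    have h := Subgroup.card_dvd_of_le hle
    rw [hP, nat_card_alternatingGroup, Nat.card_fin] at h
    norm_num [Nat.factorial] at h
  have h6 : n = 6 := by
    have : n ≤ 24 := Nat.le_of_dvd (by norm_num) hdvd
    interval_cases n <;> omega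
  have e : Sylow 5 (Perm (Fin 5)) ≃ Fin 6 := Finite.equivFinOfCardEq (hn ▸ h6)
  let f : Perm (Fin 5) →* Perm (Fin 6) :=
    (e.permCongrHom : Perm (Sylow 5 (Perm (Fin 5))) →* Perm (Fin 6)).comp (MulAction.toPermHom _ _)
  have hf : Function.Injective f := by
    refine e.permCongrHom.injective.comp ?_
    rw [← MonoidHom.ker_eq_bot_iff]
    by_contra hk
    have hle := Perm.alternatingGroup_le_of_normal (N := (MulAction.toPermHom (Perm (Fin 5)) (Sylow 5 (Perm (Fin 5)))).ker)
      (by simp) ((Subgroup.nontrivial_iff_ne_bot _).mpr hk)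
    have hsub : alternatingGroup (Fin 5) ≤ Subgroup.normalizer (P : Set (Perm (Fin 5))) := fun g hg => by
      rw [← Sylow.smul_eq_iff_mem_normalizer]
      exact congrArg (fun σ : Perm (Sylow 5 (Perm (Fin 5))) => σ P) (MonoidHom.mem_ker.mp (hle hg))
    have hi := Subgroup.index_dvd_of_le hsub
    rw [← P.card_eq_index_normalizer, ← hn, h6, alternatingGroup.index_eq_two] at hi
    norm_num at hi
  refine ⟨f.range, ?_, fun a ha => ?_⟩
  · have h := f.range.card_mul_index
    rw [Nat.card_congr (MonoidHom.ofInjective hf).symm.toEquiv, Nat.card_perm, Nat.card_perm, Nat.card_fin, Nat.card_fin] at h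
    simp only [Nat.factorial] at h
    omega
  · obtain ⟨b, hb⟩ : ∃ b : Fin 6, b ≠ a := exists_ne a
    obtain ⟨g, hg⟩ := MulAction.exists_smul_eq (Perm (Fin 5)) (e.symm a) (e.symm b)
    have : f g ∈ stabilizer (Perm (Fin 6)) a := ha ▸ ⟨g, rfl⟩
    have h : e (g • e.symm a) = a := this
    rw [hg, e.apply_symm_apply] at h
    exact hb h

theorem inner_of_swaps {ψ : MulAut (Perm (Fin 6))} (h : ∀ a b : Fin 6, a ≠ b → ∃ c d, c ≠ d ∧ ψ (swap a b) = swap c d) :
    ∃ σ : Perm (Fin 6), ∀ g, ψ g = σ * g * σ⁻¹ := by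
  have hshare : ∀ a b c d : Fin 6, swap a b * swap c d ≠ swap c d * swap a b →
      ∃ x y z, swap a b = swap x y ∧ swap c d = swap x z ∧ x ≠ y ∧ x ≠ z ∧ y ≠ z := by
    intro a b c d hne
    have hab : a ≠ b := fun e => hne (by rw [e, swap_self]; exact (one_mul _).trans (mul_one _).symm)
    have hcd : c ≠ d := fun e => hne (by rw [e, swap_self]; exact (mul_one _).trans (one_mul _).symm)
    by_cases h1 : a = c
    · subst h1; exact ⟨a, b, d, rfl, rfl, hab, hcd, fun e => hne (by rw [e])⟩
    by_cases h2 : a = d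
    · subst h2; exact ⟨a, b, c, rfl, swap_comm _ _, hab, Ne.symm hcd, fun e => hne (by rw [e, swap_comm])⟩
    by_cases h3 : b = c
    · subst h3; exact ⟨b, a, d, swap_comm _ _, rfl, hab.symm, hcd, h2⟩
    by_cases h4 : b = d
    · subst h4; exact ⟨b, a, c, swap_comm _ _, swap_comm _ _, hab.symm, Ne.symm hcd, h1⟩
    exact absurd (Perm.Disjoint.commute (fun x => by
      by_cases e1 : x = a
      · subst e1; exact Or.inr (swap_apply_of_ne_of_ne h1 h2)
      by_cases e2 : x = b
      · subst e2; exact Or.inr (swap_apply_of_ne_of_ne h3 h4)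
      exact Or.inl (swap_apply_of_ne_of_ne e1 e2))).eq hne
  have hnc : ∀ i j : Fin 6, i ≠ 0 → j ≠ 0 → i ≠ j →
      swap (0 : Fin 6) i * swap 0 j ≠ swap 0 j * swap 0 i ∧
      swap (0 : Fin 6) i * swap 0 j * swap 0 i = swap i j := by decide
  have hdist : ∀ i j k : Fin 6, i ≠ 0 → j ≠ 0 → k ≠ 0 → i ≠ j → swap i j ≠ swap (0 : Fin 6) k := by decide
  obtain ⟨a1, b1, -, t1⟩ := h 0 1 (by decide)
  obtain ⟨a2, b2, -, t2⟩ := h 0 2 (by decide)
  obtain ⟨x, y, z, e1, e2, hxy, hxz, hyz⟩ := hshare a1 b1 a2 b2 (by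
    rw [← t1, ← t2, ← map_mul, ← map_mul]
    exact fun e => (hnc 1 2 (by decide) (by decide) (by decide)).1 (ψ.injective e))
  rw [e1] at t1; rw [e2] at t2
  have himg : ∀ j : Fin 6, j ≠ 0 → ∃ c, x ≠ c ∧ ψ (swap 0 j) = swap x c := by
    intro j hj
    by_cases j1 : j = 1
    · exact ⟨y, hxy, j1 ▸ t1⟩
    by_cases j2 : j = 2
    · exact ⟨z, hxz, j2 ▸ t2⟩
    obtain ⟨c, d, hcd, t⟩ := h 0 j (Ne.symm hj)
    have n1 : swap c d * swap x y ≠ swap x y * swap c d := by
      rw [← t, ← t1, ← map_mul, ← map_mul]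
      exact fun e => (hnc j 1 hj (by decide) j1).1 (ψ.injective e)
    have n2 : swap c d * swap x z ≠ swap x z * swap c d := by
      rw [← t, ← t2, ← map_mul, ← map_mul]
      exact fun e => (hnc j 2 hj (by decide) j2).1 (ψ.injective e)
    have n3 : swap c d ≠ swap x y * swap x z * swap x y := by
      rw [← t, ← t1, ← t2, ← map_mul, ← map_mul, (hnc 1 2 (by decide) (by decide) (by decide)).2]
      exact fun e => hdist 1 2 j (by decide) (by decide) hj (by decide) (ψ.injective e).symm
    have key : x = c ∨ x = d := by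
      by_contra hne
      rw [not_or] at hne
      have hy : y = c ∨ y = d := by
        by_contra hy
        rw [not_or] at hy
        refine n1 ((Perm.Disjoint.commute fun w => ?_).eq)
        by_cases w1 : w = x
        · subst w1; exact Or.inl (swap_apply_of_ne_of_ne hne.1 hne.2)
        by_cases w2 : w = y
        · subst w2; exact Or.inl (swap_apply_of_ne_of_ne hy.1 hy.2)
        exact Or.inr (swap_apply_of_ne_of_ne w1 w2)
      have hz : z = c ∨ z = d := by
        by_contra hz
        rw [not_or] at hz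
        refine n2 ((Perm.Disjoint.commute fun w => ?_).eq)
        by_cases w1 : w = x
        · subst w1; exact Or.inl (swap_apply_of_ne_of_ne hne.1 hne.2)
        by_cases w2 : w = z
        · subst w2; exact Or.inl (swap_apply_of_ne_of_ne hz.1 hz.2)
        exact Or.inr (swap_apply_of_ne_of_ne w1 w2)
      refine n3 ?_
      have hconj : swap x y * swap x z * swap x y = swap y z := by
        have := (Equiv.swap_apply_apply (swap x y) x z).symm
        rw [swap_inv, swap_apply_left, swap_apply_of_ne_of_ne hxz.symm hyz.symm] at this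
        exact this
      rw [hconj]
      rcases hy with rfl | rfl <;> rcases hz with rfl | rfl
      · exact absurd rfl hyz
      · rfl
      · exact swap_comm _ _
      · exact absurd rfl hyz
    rcases key with rfl | rfl
    · exact ⟨d, hcd, t⟩
    · exact ⟨c, hcd.symm, t.trans (swap_comm _ _)⟩
  choose c hc hψc using himg
  let s : Fin 6 → Fin 6 := fun i => if hi : i = 0 then x else c i hi
  have hs : Function.Injective s := by
    intro i j e
    simp only [s] at e
    split_ifs at e with hi hj hj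
    · exact hi.trans hj.symm
    · exact absurd e (hc j hj)
    · exact absurd e.symm (hc i hi)
    · by_contra hij
      have := (hψc i hi).trans ((congrArg (swap x) e).trans (hψc j hj).symm)
      exact hij (by
        have h' := congrArg (fun g : Perm (Fin 6) => g 0) (ψ.injective this)
        simpa using h')
  let σ : Perm (Fin 6) := Equiv.ofBijective s (Finite.injective_iff_bijective.mp hs)
  refine ⟨σ, fun g => ?_⟩
  have hgen : ∀ i j : Fin 6, i ≠ j → ψ (swap i j) = σ * swap i j * σ⁻¹ := by
    have h0 : ∀ j : Fin 6, j ≠ 0 → ψ (swap 0 j) = σ * swap 0 j * σ⁻¹ := fun j hj => by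
      rw [← swap_apply_apply, hψc j hj]
      simp [σ, s, hj]
    intro i j hij
    by_cases hi : i = 0
    · subst hi; exact h0 j hij.symm
    by_cases hj : j = 0
    · subst hj; rw [swap_comm]; exact h0 i hi
    rw [← (hnc i j hi hj hij).2, map_mul, map_mul, h0 i hi, h0 j hj]
    group
  have hclo : ∀ g, ψ g = MulAut.conj σ g := by
    intro g
    induction g using Perm.swap_induction_on with
    | one => simp
    | swap_mul g a b hab ih => rw [map_mul, map_mul, ih, MulAut.conj_apply, MulAut.conj_apply, hgen a b hab]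
  exact hclo g

theorem swap_or_triple {g : Perm (Fin 6)} (h2 : g * g = 1) (hs : Perm.sign g = -1) :
    (∃ c d, c ≠ d ∧ g = swap c d) ∨ (∀ a, g a ≠ a) := by
  by_contra hc
  simp only [not_or, not_exists, not_and, not_forall, not_not] at hc
  obtain ⟨hns, a, ha⟩ := hc
  have hg1 : g ≠ 1 := fun e => by rw [e, map_one] at hs; exact absurd hs (by decide)
  obtain ⟨b, hb⟩ : ∃ b, g b ≠ b := by
    by_contra hc; simp only [not_exists, not_not] at hc; exact hg1 (Equiv.ext hc)
  have hgg : g (g b) = b := congrArg (fun k : Perm (Fin 6) => k b) h2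
  obtain ⟨c, hcne⟩ : ∃ c, g c ≠ swap b (g b) c := by
    by_contra hc; simp only [not_exists, not_not] at hc; exact hns b (g b) hb.symm (Equiv.ext hc)
  have hcb : c ≠ b := fun e => hcne (by rw [e, swap_apply_left])
  have hcgb : c ≠ g b := fun e => hcne (by rw [e, swap_apply_right, hgg])
  rw [swap_apply_of_ne_of_ne hcb hcgb] at hcne
  -- `g` moves at least four points, so it has sign one unless it moves all six
  have hpow : g ^ 2 ^ 1 = 1 := by rw [pow_one, pow_two, h2]
  have hmod := Perm.card_compl_support_modEq (p := 2) (n := 1) hpow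
  have hcard : g.support.card + g.supportᶜ.card = 6 := by
    rw [Finset.card_compl]
    have := Finset.card_le_univ g.support
    simp only [Fintype.card_fin] at this ⊢
    omega
  have h4 : 4 ≤ g.support.card := by
    have hsub : ({b, g b, c, g c} : Finset (Fin 6)) ⊆ g.support := by
      intro x hx
      simp only [Finset.mem_insert, Finset.mem_singleton] at hx
      rw [Perm.mem_support]
      rcases hx with rfl | rfl | rfl | rfl
      · exact hb
      · exact fun e => hb (g.injective e)
      · exact hcne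
      · exact fun e => hcne (g.injective e)
    refine le_trans ?_ (Finset.card_le_card hsub)
    have hgc1 : g c ≠ b := fun e => hcgb (by rw [← e]; exact (congrArg (fun k : Perm (Fin 6) => k c) h2).symm)
    have hgc2 : g c ≠ g b := fun e => hcb (g.injective e)
    rw [Finset.card_insert_of_notMem (by simp [hb.symm, hcb.symm, hgc1.symm]),
      Finset.card_insert_of_notMem (by simp [hcgb.symm, hgc2.symm]), Finset.card_insert_of_notMem (by simp [Ne.symm hcne]),
      Finset.card_singleton]
  have h6 : g.support.card ≤ 5 := by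
    have : a ∈ g.supportᶜ := by simp [Perm.mem_support, ha]
    have := Finset.card_pos.mpr ⟨a, this⟩
    omega
  have h4' : g.support.card = 4 := by
    rw [Nat.ModEq, Fintype.card_fin] at hmod
    omega
  have hct : g.cycleType = Multiset.replicate g.cycleType.card 2 := by
    haveI : Fact (Nat.Prime 2) := ⟨Nat.prime_two⟩
    exact Perm.cycleType_of_pow_prime_eq_one (by rw [pow_two, h2])
  have hsum := g.sum_cycleType
  rw [hct, Multiset.sum_replicate, smul_eq_mul, h4'] at hsum
  rw [Perm.sign_of_cycleType, hct, Multiset.sum_replicate, Multiset.card_replicate, show g.cycleType.card = 2 by omega] at hs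
  exact absurd hs (by decide)

theorem classification {H₀ : Subgroup (Perm (Fin 6))} (h₀ : H₀.index = 6) (h₀' : ∀ a : Fin 6, H₀ ≠ stabilizer (Perm (Fin 6)) a)
    {H : Subgroup (Perm (Fin 6))} (hH : H.index = 6) :
    (∃ a : Fin 6, H = stabilizer (Perm (Fin 6)) a) ∨ ∃ g, H = H₀.map (MulAut.conj g).toMonoidHom := by
  classical
  obtain ⟨ψ, e, he⟩ := exists_toStab hH
  obtain ⟨ψ₀, e₀, he₀⟩ := exists_toStab h₀
  have hdich : ∀ φ : MulAut (Perm (Fin 6)), (∀ a b : Fin 6, a ≠ b → ∃ c d, c ≠ d ∧ φ (swap a b) = swap c d) ∨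
      (∀ a b : Fin 6, a ≠ b → ∀ x, φ (swap a b) x ≠ x) := by
    intro φ
    have hsign : ∀ a b : Fin 6, a ≠ b → φ (swap a b) * φ (swap a b) = 1 ∧ Perm.sign (φ (swap a b)) = -1 := by
      intro a b hab
      refine ⟨by rw [← map_mul, swap_mul_self, map_one], ?_⟩
      rcases Int.units_eq_one_or (Perm.sign (φ (swap a b))) with h | h
      · exfalso
        have h' := (inferInstance : (alternatingGroup (Fin 6)).Characteristic).fixed φ
        have hmem : swap a b ∈ (alternatingGroup (Fin 6)).comap φ.toMonoidHom := h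
        rw [h', Perm.mem_alternatingGroup, Perm.sign_swap hab] at hmem
        exact absurd hmem (by decide)
      · exact h
    by_cases hsw : ∃ c d, c ≠ d ∧ φ (swap (0 : Fin 6) 1) = swap c d
    · left
      intro a b hab
      obtain ⟨c, d, hcd, e⟩ := hsw
      obtain ⟨g, hg⟩ := isConj_iff.mp (Perm.isConj_swap (show (0 : Fin 6) ≠ 1 by decide) hab)
      refine ⟨φ g c, φ g d, (φ g).injective.ne hcd, ?_⟩
      rw [← hg, map_mul, map_mul, map_inv, e, ← swap_apply_apply]
    · right
      intro a b hab x hx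
      rcases swap_or_triple (hsign a b hab).1 (hsign a b hab).2 with ⟨c, d, hcd, e⟩ | h
      · obtain ⟨g, hg⟩ := isConj_iff.mp (Perm.isConj_swap hab (show (0 : Fin 6) ≠ 1 by decide))
        refine hsw ⟨φ g c, φ g d, (φ g).injective.ne hcd, ?_⟩
        rw [← hg, map_mul, map_mul, map_inv, e, ← swap_apply_apply]
      · exact h x hx
  -- the automorphism belonging to a subgroup without fixed point is outer
  have hout : ∀ a b : Fin 6, a ≠ b → ∀ x, ψ₀ (swap a b) x ≠ x := by
    refine (hdich ψ₀).resolve_left fun h => ?_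
    obtain ⟨σ, hσ⟩ := inner_of_swaps h
    refine h₀' (σ⁻¹ (e₀ (1 : Perm (Fin 6)))) ?_
    have hc := comap_stab he₀ 1
    rw [map_one, show ((1 : MulAut (Perm (Fin 6))).toMonoidHom) = MonoidHom.id _ from rfl, Subgroup.map_id] at hc
    refine hc.symm.trans ?_
    ext g
    rw [Subgroup.mem_comap, MulEquiv.coe_toMonoidHom, mem_stabilizer_iff, mem_stabilizer_iff, Perm.smul_def,
      Perm.smul_def, hσ, Perm.mul_apply, Perm.mul_apply, Perm.eq_inv_iff_eq]
  have hc := comap_stab he 1
  rw [map_one, show ((1 : MulAut (Perm (Fin 6))).toMonoidHom) = MonoidHom.id _ from rfl, Subgroup.map_id] at hc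
  rcases hdich ψ with h | h
  · left
    obtain ⟨σ, hσ⟩ := inner_of_swaps h
    refine ⟨σ⁻¹ (e (1 : Perm (Fin 6))), ?_⟩
    refine hc.symm.trans ?_
    ext g
    rw [Subgroup.mem_comap, MulEquiv.coe_toMonoidHom, mem_stabilizer_iff, mem_stabilizer_iff, Perm.smul_def,
      Perm.smul_def, hσ, Perm.mul_apply, Perm.mul_apply, Perm.eq_inv_iff_eq]
  · right
    -- `ψ₀` maps the transpositions onto the triple transpositions
    have hpre : ∀ a b : Fin 6, a ≠ b → ∃ c d, c ≠ d ∧ (ψ.trans ψ₀.symm) (swap a b) = swap c d := by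
      intro a b hab
      have hct : ∀ g : Perm (Fin 6), g * g = 1 → (∀ x, g x ≠ x) → g.cycleType = Multiset.replicate 3 2 := by
        intro g h2 hf
        haveI : Fact (Nat.Prime 2) := ⟨Nat.prime_two⟩
        have hct := Perm.cycleType_of_pow_prime_eq_one (p := 2) (σ := g) (by rw [pow_two, h2])
        have hs : g.support = Finset.univ := Finset.eq_univ_iff_forall.mpr fun x => Perm.mem_support.mpr (hf x)
        have hsum := g.sum_cycleType
        rw [hct, Multiset.sum_replicate, smul_eq_mul, hs, Finset.card_univ, Fintype.card_fin] at hsum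
        rw [hct, show g.cycleType.card = 3 by omega]
      have h01 : (0 : Fin 6) ≠ 1 := by decide
      obtain ⟨k, hk⟩ := isConj_iff.mp (Perm.isConj_iff_cycleType_eq.mpr
        ((hct _ (by rw [← map_mul, swap_mul_self, map_one]) (hout 0 1 h01)).trans
          (hct _ (by rw [← map_mul, swap_mul_self, map_one]) (h a b hab)).symm))
      refine ⟨ψ₀.symm k 0, ψ₀.symm k 1, (ψ₀.symm k).injective.ne h01, ?_⟩
      show ψ₀.symm (ψ (swap a b)) = _
      rw [← hk, map_mul, map_mul, map_inv, MulEquiv.symm_apply_apply, ← swap_apply_apply]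
    obtain ⟨σ, hσ⟩ := inner_of_swaps hpre
    obtain ⟨k, hk⟩ := QuotientGroup.mk_surjective (e₀.symm (e (1 : Perm (Fin 6))))
    refine ⟨σ⁻¹ * k, ?_⟩
    have hψ : ∀ g, ψ g = ψ₀ (σ * g * σ⁻¹) := fun g => by rw [← hσ]; exact (ψ₀.apply_symm_apply _).symm
    have hk' : e (1 : Perm (Fin 6)) = e₀ k := by rw [hk, e₀.apply_symm_apply]
    refine hc.symm.trans ?_
    rw [map_mul, show ((MulAut.conj σ⁻¹ * MulAut.conj k).toMonoidHom)
      = (MulAut.conj σ⁻¹).toMonoidHom.comp (MulAut.conj k).toMonoidHom from rfl, ← Subgroup.map_map, ← comap_stab he₀ k, hk']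
    ext g
    rw [Subgroup.mem_comap, Subgroup.mem_map_equiv, MulAut.conj_symm_apply, Subgroup.mem_comap, inv_inv,
      MulEquiv.coe_toMonoidHom, MulEquiv.coe_toMonoidHom, hψ]

theorem map_conj_stab (g : Perm (Fin 6)) (a : Fin 6) :
    (stabilizer (Perm (Fin 6)) a).map (MulAut.conj g).toMonoidHom = stabilizer (Perm (Fin 6)) (g a) := by
  rw [← Perm.smul_def, stabilizer_smul_eq_stabilizer_map_conj]

theorem stab_injective : Function.Injective fun a : Fin 6 => stabilizer (Perm (Fin 6)) a := by
  intro a b h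
  by_contra hne
  have key : ∀ a b : Fin 6, ∃ c, c ≠ a ∧ c ≠ b := by decide
  obtain ⟨c, hca, hcb⟩ := key a b
  have : swap b c ∈ stabilizer (Perm (Fin 6)) a := by
    rw [mem_stabilizer_iff, Perm.smul_def, swap_apply_of_ne_of_ne hne hca.symm]
  rw [show stabilizer (Perm (Fin 6)) a = stabilizer (Perm (Fin 6)) b from h, mem_stabilizer_iff, Perm.smul_def,
    swap_apply_left] at this
  exact hcb this

theorem card_index_six : Nat.card {H : Subgroup (Perm (Fin 6)) // H.index = 6} = 12 := by
  obtain ⟨H₀, h₀, h₀'⟩ := exists_transitive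
  obtain ⟨ψ, e, he⟩ := exists_toStab h₀
  let F : Fin 6 ⊕ Fin 6 → Subgroup (Perm (Fin 6)) :=
    Sum.elim (fun a => stabilizer (Perm (Fin 6)) a) (fun a => (stabilizer (Perm (Fin 6)) a).comap ψ.toMonoidHom)
  have hF : ∀ x, (F x).index = 6 := by
    rintro (a | a)
    · exact (index_stabilizer_of_transitive _ a).trans (Nat.card_fin 6)
    · exact (Subgroup.index_comap_of_surjective _ ψ.surjective).trans
        ((index_stabilizer_of_transitive _ a).trans (Nat.card_fin 6))
  have hno : ∀ a b : Fin 6, (stabilizer (Perm (Fin 6)) a).comap ψ.toMonoidHom ≠ stabilizer (Perm (Fin 6)) b := by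
    intro a b h
    obtain ⟨k, hk⟩ := QuotientGroup.mk_surjective (e.symm a)
    rw [show a = e k by rw [hk, e.apply_symm_apply], comap_stab he k] at h
    refine h₀' (k⁻¹ b) ?_
    rw [← map_conj_stab, ← h, Subgroup.map_map]
    convert (Subgroup.map_id H₀).symm
    ext x; simp
  have hbij : Function.Bijective (fun x => (⟨F x, hF x⟩ : {H : Subgroup (Perm (Fin 6)) // H.index = 6})) := by
    constructor
    · intro x y h
      have h' : F x = F y := congrArg Subtype.val h
      rcases x with a | a <;> rcases y with b | b <;> simp only [F, Sum.elim_inl, Sum.elim_inr] at h'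
      · rw [stab_injective h']
      · exact absurd h'.symm (hno b a)
      · exact absurd h' (hno a b)
      · rw [stab_injective (Subgroup.comap_injective ψ.surjective h')]
    · rintro ⟨H, hH⟩
      rcases classification h₀ h₀' hH with ⟨a, rfl⟩ | ⟨g, rfl⟩
      · exact ⟨Sum.inl a, rfl⟩
      · exact ⟨Sum.inr (e g), Subtype.ext (comap_stab he g)⟩
  rw [← Nat.card_congr (Equiv.ofBijective _ hbij), Nat.card_sum, Nat.card_fin]

end CfsgLib.MaxSub
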