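/-
Elementary tools for decompositions of `F^ι` into subspaces of equal dimension.
-/
import Mathlib
import Cfsg.Prelude.Def_GeometricClasses

set_option autoImplicit false

namespace CfsgLib.MaxSub.Decomp

open Matrix Module Cfsg Cfsg.Geo

variable {F : Type*} [Field F] {ι : Type} [Fintype ι] [DecidableEq ι]
variable {t m : ℕ} {D : Fin t → Submodule F (ι → F)}

/-- A family of components. -/
def Fam (D : Fin t → Submodule F (ι → F)) (c : Fin t → ι → F) : Prop := ∀ i, c i ∈ D i

omit [Fintype ι] [DecidableEq ι] in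
theorem comp_zero (hD : IsMDecomposition m D) {c : Fin t → ι → F} (hc : Fam D c)
    (h : ∑ i, c i = 0) (i : Fin t) : c i = 0 :=
  (iSupIndep_iff_finsetSum_eq_zero_imp_eq_zero D).1 hD.indep Finset.univ c
    (fun j _ => hc j) h i (Finset.mem_univ i)

omit [Fintype ι] [DecidableEq ι] in
theorem comp_unique (hD : IsMDecomposition m D) {c d : Fin t → ι → F} (hc : Fam D c) (hd : Fam D d)
    (h : ∑ i, c i = ∑ i, d i) (i : Fin t) : c i = d i :=
  sub_eq_zero.1 (comp_zero hD (c := fun j => c j - d j) (fun j => (D j).sub_mem (hc j) (hd j))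
    (by rw [Finset.sum_sub_distrib, h, sub_self]) i)

omit [Fintype ι] [DecidableEq ι] in
theorem exists_comp (hD : IsMDecomposition m D) (v : ι → F) : ∃ c, Fam D c ∧ ∑ i, c i = v := by
  have hv : v ∈ iSup D := hD.iSup_eq_top ▸ Submodule.mem_top
  classical
  refine Submodule.iSup_induction D (motive := fun v => ∃ c, Fam D c ∧ ∑ i, c i = v) hv ?_ ?_ ?_
  · exact fun i x hx => ⟨Pi.single i x, fun j => by
      by_cases h : j = i
      · subst h; simpa using hx
      · simp [Pi.single_eq_of_ne h], by simp⟩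
  · exact ⟨0, fun j => zero_mem _, by simp⟩
  · rintro x y ⟨c, hc, rfl⟩ ⟨d, hd, rfl⟩
    exact ⟨c + d, fun j => (D j).add_mem (hc j) (hd j), by simp [Finset.sum_add_distrib]⟩

omit [Fintype ι] [DecidableEq ι] in
/-- A subspace inside the union of the members is inside one member. -/
theorem le_member (hD : IsMDecomposition m D) {U : Submodule F (ι → F)}
    (h : ∀ x ∈ U, ∃ i, x ∈ D i) : ∃ i, U ≤ D i := by
  classical
  by_cases hU : ∀ x ∈ U, x = 0
  · exact ⟨⟨0, by have := hD.two_le; omega⟩, fun x hx => by rw [hU x hx]; exact zero_mem _⟩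
  push Not at hU
  obtain ⟨u, hu, hu0⟩ := hU
  obtain ⟨j, hj⟩ := h u hu
  refine ⟨j, fun x hx => ?_⟩
  obtain ⟨l, hl⟩ := h x hx
  by_cases hlj : l = j
  · exact hlj ▸ hl
  obtain ⟨p, hp⟩ := h (u + x) (U.add_mem hu hx)
  have key := comp_unique hD (c := Pi.single j u + Pi.single l x) (d := Pi.single p (u + x))
    (fun i => by
      by_cases h1 : i = j <;> by_cases h2 : i = l <;>
        simp_all [Pi.single_apply, Submodule.zero_mem])
    (fun i => by by_cases h1 : i = p <;> simp_all [Pi.single_apply, Submodule.zero_mem])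
    (by simp [Finset.sum_add_distrib])
  have h1 := key j
  have h2 := key l
  by_cases hpj : p = j
  · subst hpj
    simp [Pi.single_apply, hlj, Ne.symm hlj] at h2
    rw [h2]; exact zero_mem _
  · simp [Pi.single_apply, Ne.symm hlj, Ne.symm hpj] at h1
    exact absurd h1 hu0

/-- An invertible map sending members into members stabilises the decomposition. -/
theorem mem_stab_of (hD : IsMDecomposition m D) {g : GL ι F}
    (h : ∀ i, ∃ j, ∀ x ∈ D i, (g : Matrix ι ι F) *ᵥ x ∈ D j) : g ∈ decompositionStabilizer D := by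
  classical
  choose f hf using h
  let L := Matrix.toLin' (g : Matrix ι ι F)
  have hinj : Function.Injective L := Matrix.mulVec_injective_iff_isUnit.2 g.isUnit
  have hmap : ∀ i, (D i).map L = D (f i) := fun i => by
    refine Submodule.eq_of_le_of_finrank_eq ?_ ?_
    · rintro _ ⟨x, hx, rfl⟩
      rw [Matrix.toLin'_apply]; exact hf i x hx
    · rw [← LinearEquiv.finrank_eq (Submodule.equivMapOfInjective L hinj (D i)), hD.finrank_eq,
        hD.finrank_eq]
  have hfi : Function.Injective f := fun i j e => by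
    by_contra hne
    have h1 : D i = D j := Submodule.map_injective_of_injective hinj (by rw [hmap, hmap, e])
    have h2 : Disjoint (D i) (D j) := hD.indep.pairwiseDisjoint hne
    rw [h1, disjoint_self] at h2
    have := hD.finrank_eq j
    rw [h2, finrank_bot] at this
    exact absurd this (Nat.ne_of_lt hD.pos)
  exact ⟨Equiv.ofBijective f (Finite.injective_iff_bijective.1 hfi), hmap⟩

omit [DecidableEq ι] in
theorem exists_moved [DecidableEq ι] (hD : IsMDecomposition m D) {g : GL ι F}
    (h : g ∉ decompositionStabilizer D) :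
    ∃ i, ∃ x ∈ D i, ∀ j, (g : Matrix ι ι F) *ᵥ x ∉ D j := by
  by_contra hc
  push Not at hc
  refine h (mem_stab_of hD fun i => ?_)
  obtain ⟨j, hj⟩ := le_member hD (U := (D i).map (Matrix.mulVecLin (g : Matrix ι ι F))) (by
    rintro _ ⟨x, hx, rfl⟩
    exact hc i x hx)
  exact ⟨j, fun x hx => hj (Submodule.mem_map_of_mem hx)⟩

omit [Fintype ι] [DecidableEq ι] in
/-- Gluing linear maps on the members. -/
theorem exists_glue (hD : IsMDecomposition m D) (φ : ∀ i, D i →ₗ[F] (ι → F)) :
    ∃ T : (ι → F) →ₗ[F] (ι → F), ∀ c : Fin t → ι → F, ∀ hc : Fam D c,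
      T (∑ i, c i) = ∑ i, φ i ⟨c i, hc i⟩ := by
  classical
  let Φ : (∀ i, D i) →ₗ[F] (ι → F) := ∑ i, (D i).subtype ∘ₗ LinearMap.proj i
  have hΦ : ∀ c, Φ c = ∑ i, ((c i : D i) : ι → F) := fun c => by simp [Φ]
  have hb : Function.Bijective Φ := by
    refine ⟨fun a b e => funext fun i => Subtype.ext ?_, fun v => ?_⟩
    · exact comp_unique hD (fun j => (a j).2) (fun j => (b j).2) (by rw [← hΦ, ← hΦ, e]) i
    · obtain ⟨c, hc, rfl⟩ := exists_comp hD v
      exact ⟨fun i => ⟨c i, hc i⟩, hΦ _⟩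
  refine ⟨(∑ i, φ i ∘ₗ LinearMap.proj i) ∘ₗ (LinearEquiv.ofBijective Φ hb).symm.toLinearMap,
    fun c hc => ?_⟩
  have : (LinearEquiv.ofBijective Φ hb).symm (∑ i, c i) = fun i => ⟨c i, hc i⟩ := by
    rw [LinearEquiv.symm_apply_eq]
    show _ = Φ _
    rw [hΦ]
  show (∑ i, φ i ∘ₗ LinearMap.proj i) ((LinearEquiv.ofBijective Φ hb).symm (∑ i, c i)) = _
  rw [this]
  simp

end CfsgLib.MaxSub.Decomp
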