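/-
Transvections moving one subspace and fixing another.
-/
import Cfsg.Prelude.Def_GeometricClasses

set_option autoImplicit false

namespace CfsgLib.MaxSub

open Matrix Cfsg Cfsg.Geo

variable {F : Type*} [Field F] {n : ℕ}

theorem exists_sl_moving {W U : Submodule F (Fin n → F)} {u v : Fin n → F} (hu : u ∈ U) (hv : v ∉ U)
    (hnot : u ∉ W ⊔ Submodule.span F {v}) :
    ∃ g : GL (Fin n) F, g ∈ subspaceStabilizer W ∧ g ∈ specialLinear (Fin n) F ∧ g ∉ subspaceStabilizer U := by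
  obtain ⟨φ, hφu, hφ⟩ := Submodule.exists_dual_map_eq_bot_of_notMem hnot inferInstance
  have hφ0 : ∀ x ∈ W ⊔ Submodule.span F {v}, φ x = 0 := fun x hx => by
    have : φ x ∈ (W ⊔ Submodule.span F {v}).map φ := Submodule.mem_map_of_mem hx
    rwa [hφ, Submodule.mem_bot] at this
  set w := (dotProductEquiv F (Fin n)).symm φ with hw
  have hwx : ∀ x, w ⬝ᵥ x = φ x := fun x => by
    conv_rhs => rw [← (dotProductEquiv F (Fin n)).apply_symm_apply φ, ← hw]
    rfl
  have hwv : w ⬝ᵥ v = 0 := (hwx v).trans (hφ0 v (Submodule.mem_sup_right (Submodule.mem_span_singleton_self v)))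
  have hdet : (1 + vecMulVec v w : Matrix (Fin n) (Fin n) F).det = 1 := by
    rw [vecMulVec_eq (ι := Unit), det_one_add_replicateCol_mul_replicateRow, hwv, add_zero]
  let g : GL (Fin n) F := GeneralLinearGroup.mkOfDetNeZero _ (hdet.trans_ne one_ne_zero)
  have happ : ∀ x, glToMat (Fin n) F g *ᵥ x = x + φ x • v := fun x => by
    show (1 + vecMulVec v w) *ᵥ x = _
    rw [add_mulVec, one_mulVec, vecMulVec_mulVec, hwx]
    ext i; simp [mul_comm]
  refine ⟨g, fun x => ?_, ?_, fun h => ?_⟩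
  · rw [SetLike.mem_coe, SetLike.mem_coe, happ]
    constructor
    · intro hx
      rw [hφ0 x (Submodule.mem_sup_left hx), zero_smul, add_zero]
      exact hx
    · intro hx
      have h0 := hφ0 _ (Submodule.mem_sup_left hx)
      rw [map_add, map_smul, hφ0 v (Submodule.mem_sup_right (Submodule.mem_span_singleton_self v)), smul_zero,
        add_zero] at h0
      rwa [h0, zero_smul, add_zero] at hx
  · exact Units.ext hdet
  · have := (h u).mp hu
    rw [happ, SetLike.mem_coe] at this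
    have h' : φ u • v ∈ U := by simpa using U.sub_mem this hu
    exact hv (by simpa [smul_smul, inv_mul_cancel₀ hφu] using U.smul_mem (φ u)⁻¹ h')

theorem stabilizer_pair_not_maximal {W U : Submodule F (Fin n → F)}
    (h1 : ∃ u v : Fin n → F, u ∈ U ∧ v ∉ U ∧ u ∉ W ⊔ Submodule.span F {v})
    (h2 : ∃ u v : Fin n → F, u ∈ W ∧ v ∉ W ∧ u ∉ (⊥ : Submodule F (Fin n → F)) ⊔ Submodule.span F {v}) :
    ∃ K : Subgroup (GL (Fin n) F), subspaceStabilizer W ⊓ subspaceStabilizer U ⊓ specialLinear (Fin n) F < K ∧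
      K < specialLinear (Fin n) F := by
  refine ⟨subspaceStabilizer W ⊓ specialLinear (Fin n) F, ?_, ?_⟩
  · obtain ⟨u, v, hu, hv, hn⟩ := h1
    obtain ⟨g, hgW, hgS, hgU⟩ := exists_sl_moving hu hv hn
    refine lt_of_le_of_ne (fun x hx => ⟨hx.1.1, hx.2⟩) fun e => hgU ?_
    have : g ∈ subspaceStabilizer W ⊓ subspaceStabilizer U ⊓ specialLinear (Fin n) F := e ▸ ⟨hgW, hgS⟩
    exact this.1.2
  · obtain ⟨u, v, hu, hv, hn⟩ := h2
    obtain ⟨g, -, hgS, hgW⟩ := exists_sl_moving hu hv hn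
    refine lt_of_le_of_ne inf_le_right fun e => hgW ?_
    have : g ∈ subspaceStabilizer W ⊓ specialLinear (Fin n) F := e.symm ▸ hgS
    exact this.1

theorem not_mem_bot_sup_span {W : Submodule F (Fin n → F)} {u v : Fin n → F} (hu : u ∈ W) (hu0 : u ≠ 0)
    (hv : v ∉ W) : u ∉ (⊥ : Submodule F (Fin n → F)) ⊔ Submodule.span F {v} := by
  rw [bot_sup_eq, Submodule.mem_span_singleton]
  rintro ⟨c, rfl⟩
  have hc : c ≠ 0 := fun e => hu0 (by rw [e, zero_smul])
  exact hv (by simpa [smul_smul, inv_mul_cancel₀ hc] using W.smul_mem c⁻¹ hu)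

end CfsgLib.MaxSub
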