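/-
Stabilisers of subspaces are maximal in `SL_n` and in `Sp_2m`, by generation by transvections.
-/
import Cfsg.Agent.Lib.SLGen.FullCentre
import Cfsg.Agent.Lib.MaxSub.NotMaximal
import Cfsg.Agent.Lib.SympGen
import Cfsg.Agent.Lib.Aschbacher.SympProper

set_option autoImplicit false
set_option maxHeartbeats 400000

namespace CfsgLib.MaxSub

open Matrix Module Cfsg Cfsg.Geo
open CfsgLib.Aschbacher (perp isRefl_sympForm sT sT_mem sT_mulVec sympForm_alt IsRefl)

variable {F : Type*} [Field F]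

section general

variable {ι : Type} [Fintype ι] [DecidableEq ι]

/-- An invertible matrix mapping `W` into itself stabilises it. -/
theorem mem_stab_of_maps {W : Submodule F (ι → F)} {g : GL ι F}
    (h : ∀ x ∈ W, (g : Matrix ι ι F) *ᵥ x ∈ W) : g ∈ subspaceStabilizer W := by
  have hinj : Function.Injective fun x : ι → F => (g : Matrix ι ι F) *ᵥ x :=
    Matrix.mulVec_injective_iff_isUnit.2 g.isUnit
  intro x
  refine ⟨fun hx => h x hx, fun hx => ?_⟩
  have hmap : W.map (Matrix.mulVecLin (g : Matrix ι ι F)) = W :=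
    Submodule.eq_of_le_of_finrank_eq (Submodule.map_le_iff_le_comap.2 h)
      (LinearEquiv.finrank_eq (Submodule.equivMapOfInjective _ hinj W).symm)
  obtain ⟨y, hy, hye⟩ := Submodule.mem_map.1 (hmap.ge hx)
  rw [← hinj hye]
  exact hy

theorem exists_moved {W : Submodule F (ι → F)} {g : GL ι F} (h : g ∉ subspaceStabilizer W) :
    ∃ x ∈ W, (g : Matrix ι ι F) *ᵥ x ∉ W := by
  by_contra hc
  push Not at hc
  exact h (mem_stab_of_maps hc)

/-- A proper intermediate group with no element outside the stabiliser is the stabiliser. -/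
theorem isMaximalIn_of {G : Subgroup (GL ι F)} {W : Submodule F (ι → F)}
    (hne : ¬ G ≤ subspaceStabilizer W)
    (h : ∀ K ≤ G, subspaceStabilizer W ⊓ G ≤ K → ∀ g ∈ K, g ∉ subspaceStabilizer W → G ≤ K) :
    IsMaximalIn G (subspaceStabilizer W ⊓ G) := by
  refine ⟨lt_of_le_of_ne inf_le_right fun e => hne (e ▸ inf_le_left), fun K hK hKG => ?_⟩
  by_cases hle : K ≤ subspaceStabilizer W
  · exact Or.inl (le_antisymm (le_inf hle hKG) hK)
  · obtain ⟨g, hg, hgW⟩ := Set.not_subset.1 hle
    exact Or.inr (le_antisymm hKG (h K hKG hK g hg hgW))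

/-- A subspace inside the union of two subspaces is inside one of them. -/
theorem le_or_le {U A B : Submodule F (ι → F)} (h : ∀ x ∈ U, x ∈ A ∨ x ∈ B) : U ≤ A ∨ U ≤ B := by
  by_contra hc
  rw [not_or] at hc
  obtain ⟨x, hx, hxA⟩ := SetLike.not_le_iff_exists.1 hc.1
  obtain ⟨y, hy, hyB⟩ := SetLike.not_le_iff_exists.1 hc.2
  rcases h (x + y) (U.add_mem hx hy) with e | e
  · exact hxA (by simpa using A.sub_mem e ((h y hy).resolve_right hyB))
  · exact hyB (by simpa using B.sub_mem e ((h x hx).resolve_left hxA))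

end general

section linear

variable {n : ℕ}

open CfsgLib.SLCentre CfsgLib.PSLn

/-- Subspace stabilisers are maximal in `SL_n`. -/
theorem sl_subspace_maximal (hn : 2 ≤ n) {W : Submodule F (Fin n → F)} (hW0 : W ≠ ⊥)
    (hW1 : W ≠ ⊤) : IsMaximalIn (specialLinear (Fin n) F)
      (subspaceStabilizer W ⊓ specialLinear (Fin n) F) := by
  obtain ⟨w₀, hw₀, hw₀0⟩ := Submodule.exists_mem_ne_zero_of_ne_bot hW0
  obtain ⟨v₀, -, hv₀⟩ := SetLike.exists_of_lt (lt_top_iff_ne_top.mpr hW1)
  refine isMaximalIn_of (fun hle => ?_) fun K _ hHK g hg hgW => ?_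
  · obtain ⟨g, -, hgS, hgW⟩ := exists_sl_moving hw₀ hv₀ (not_mem_bot_sup_span hw₀ hw₀0 hv₀)
    exact hgW (hle hgS)
  set K' : Subgroup (Matrix.SpecialLinearGroup (Fin n) F) :=
    K.comap Matrix.SpecialLinearGroup.toGL with hK'
  have hin : ∀ (c φ : Fin n → F) (e : φ ⬝ᵥ c = 0),
      (∀ x ∈ W, x + (φ ⬝ᵥ x) • c ∈ W) → tv c φ e ∈ K' := by
    intro c φ e hmap
    refine hHK ⟨mem_stab_of_maps fun x hx => ?_, ?_⟩
    · have : (tv c φ e).1 *ᵥ x ∈ W := by
        rw [coe_tv, add_mulVec, one_mulVec, vecMulVec_mulVec, op_smul_eq_smul]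
        exact hmap x hx
      exact this
    · exact Units.ext (tv c φ e).2
  have hWS : ∀ w ∈ W, w ∈ fullSubmodule K' := fun w hw φ e =>
    ⟨e, hin w φ e fun x hx => W.add_mem hx (W.smul_mem _ hw)⟩
  obtain ⟨w, hw, hgw⟩ := exists_moved hgW
  have hgSL : (g : Matrix (Fin n) (Fin n) F).det = 1 := by
    have := congrArg Units.val (MonoidHom.mem_ker.1 (‹K ≤ _› hg))
    simpa using this
  let gs : Matrix.SpecialLinearGroup (Fin n) F := ⟨(g : Matrix (Fin n) (Fin n) F), hgSL⟩
  have hgs : gs ∈ K' := by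
    show Matrix.SpecialLinearGroup.toGL gs ∈ K
    convert hg using 1
    exact Units.ext rfl
  set x := (g : Matrix (Fin n) (Fin n) F) *ᵥ w with hx
  have hxS : x ∈ fullSubmodule K' := full_conj hgs (hWS w hw)
  have hall : fullSubmodule K' = ⊤ := by
    refine eq_top_iff.2 fun v _ => ?_
    by_cases hv : x ∈ W ⊔ Submodule.span F {v}
    · obtain ⟨a, ha, b, hb, e⟩ := Submodule.mem_sup.1 hv
      obtain ⟨c, rfl⟩ := Submodule.mem_span_singleton.1 hb
      have hc : c ≠ 0 := by rintro rfl; exact hgw (by rw [← e, zero_smul, add_zero]; exact ha)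
      have : c • v ∈ fullSubmodule K' := by
        rw [eq_sub_of_add_eq' e]; exact Submodule.sub_mem _ hxS (hWS a ha)
      exact ((fullSubmodule K').smul_mem_iff hc).1 this
    · obtain ⟨L, hLx, hL⟩ := Submodule.exists_dual_map_eq_bot_of_notMem hv inferInstance
      have hL0 : ∀ y ∈ W ⊔ Submodule.span F {v}, L y = 0 := fun y hy => by
        have : L y ∈ (W ⊔ Submodule.span F {v}).map L := Submodule.mem_map_of_mem hy
        rwa [hL, Submodule.mem_bot] at this
      set φ := (L x)⁻¹ • (dotProductEquiv F (Fin n)).symm L with hφ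
      have hφy : ∀ y, φ ⬝ᵥ y = (L x)⁻¹ * L y := fun y => by
        rw [hφ, smul_dotProduct, smul_eq_mul]
        congr 1
        exact LinearMap.congr_fun ((dotProductEquiv F (Fin n)).apply_symm_apply L) y
      have e : φ ⬝ᵥ v = 0 := by
        rw [hφy, hL0 v (Submodule.mem_sup_right (Submodule.mem_span_singleton_self v)), mul_zero]
      have hm := hin v φ e fun y hy => by
        rw [hφy, hL0 y (Submodule.mem_sup_left hy), mul_zero, zero_smul, add_zero]; exact hy
      have h2 : Full K' ((tv v φ e).1 *ᵥ x) := full_conj hm hxS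
      rw [coe_tv, add_mulVec, one_mulVec, vecMulVec_mulVec, op_smul_eq_smul, hφy,
        inv_mul_cancel₀ hLx, one_smul] at h2
      simpa using Submodule.sub_mem _ (h2 : _ ∈ fullSubmodule K') hxS
  intro k hk
  have hkd : (k : Matrix (Fin n) (Fin n) F).det = 1 := by
    simpa using congrArg Units.val (MonoidHom.mem_ker.1 hk)
  have : (⟨(k : Matrix (Fin n) (Fin n) F), hkd⟩ : Matrix.SpecialLinearGroup (Fin n) F) ∈ K' :=
    (eq_top_iff.1 (eq_top_of_full hn hall)) (Subgroup.mem_top _)
  convert (Subgroup.mem_comap.1 this) using 1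
  exact Units.ext rfl

end linear

section symplectic

variable {m : ℕ}

local notation "V" => (Fin m ⊕ Fin m → F)
local notation "M2m" => Matrix (Fin m ⊕ Fin m) (Fin m ⊕ Fin m) F
local notation "B" => Cfsg.sympForm m F

/-- Symplectic transvections are permuted by conjugation. -/
theorem conj_sT {g : GL (Fin m ⊕ Fin m) F} (hg : g ∈ Cfsg.spGL m F) (v : V) (c : F) :
    g * sT v c * g⁻¹ = sT ((g : M2m) *ᵥ v) c := by
  rw [mul_inv_eq_iff_eq_mul]
  refine Units.ext (Matrix.ext_of_mulVec_single fun i => ?_)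
  simp only [Units.val_mul, ← Matrix.mulVec_mulVec, sT_mulVec, Matrix.mulVec_add, Matrix.mulVec_smul]
  rw [show B ((g : M2m) *ᵥ Pi.single i 1) ((g : M2m) *ᵥ v) = B (Pi.single i 1) v from hg _ _]

theorem sT_smul (v : V) (a c : F) : sT (a • v) c = sT v (a ^ 2 * c) := by
  refine Units.ext (Matrix.ext_of_mulVec_single fun i => ?_)
  rw [sT_mulVec, sT_mulVec, (isRefl_sympForm m).sesq.smul_right, smul_smul, RingEquiv.refl_apply]
  congr 2
  ring

/-- The centres of the transvections in `K`. -/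
def Centre (K : Subgroup (GL (Fin m ⊕ Fin m) F)) (v : V) : Prop := ∀ c, sT v c ∈ K

variable {K : Subgroup (GL (Fin m ⊕ Fin m) F)}

theorem Centre.smul {v : V} (h : Centre K v) (a : F) : Centre K (a • v) := fun c => by
  rw [sT_smul]; exact h _

theorem Centre.conj {v : V} (h : Centre K v) {g : GL (Fin m ⊕ Fin m) F} (hg : g ∈ K)
    (hgG : g ∈ Cfsg.spGL m F) : Centre K ((g : M2m) *ᵥ v) := fun c => by
  rw [← conj_sT hgG]; exact mul_mem (mul_mem hg (h c)) (inv_mem hg)

theorem Centre.move {v u : V} (h : Centre K v) (hu : Centre K u) (c : F) :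
    Centre K (v + (c * B v u) • u) := by
  have := h.conj (hu c) (sT_mem u c)
  rwa [sT_mulVec] at this

/-- `Sp_2m` is generated by its transvections. -/
theorem spGL_le_of_centre (h : ∀ v : V, Centre K v) : Cfsg.spGL m F ≤ K := by
  intro g hg
  let φ : Matrix.symplecticGroup (Fin m) F →* GL (Fin m ⊕ Fin m) F :=
    (Matrix.symplecticGroup (Fin m) F).subtype.toHomUnits
  have hmem : (g : M2m) ∈ Matrix.symplecticGroup (Fin m) F := by
    rw [SymplecticGroup.mem_iff']
    ext i j
    have e := hg (Pi.single i 1) (Pi.single j 1)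
    change B ((g : M2m) *ᵥ Pi.single i 1) ((g : M2m) *ᵥ Pi.single j 1) =
      B (Pi.single i 1) (Pi.single j 1) at e
    simp only [Cfsg.sympForm, Matrix.mulVec_single_one, single_one_dotProduct, Matrix.col_apply] at e
    rw [← e, Matrix.mul_assoc, Matrix.mul_apply]
    simp [dotProduct, Matrix.mulVec, Matrix.mul_apply]
  have hle : CfsgLib.SympGen.TV F m ≤ K.comap φ := by
    refine (Subgroup.closure_le _).2 ?_
    rintro A ⟨w, c, hA⟩
    have : φ A = sT w c := Units.ext hA
    show φ A ∈ K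
    rw [this]; exact h w c
  have h2 : φ ⟨_, hmem⟩ ∈ K :=
    hle (by rw [CfsgLib.SympGen.TV_eq_top]; exact Subgroup.mem_top _)
  convert h2 using 1
  exact Units.ext rfl

/-- Stabilisers of totally singular subspaces are maximal in `Sp_2m`. -/
theorem sp_singular_maximal {W : Submodule F V} (hW0 : W ≠ ⊥)
    (hW : IsTotallySingularFor B W) :
    IsMaximalIn (Cfsg.spGL m F) (subspaceStabilizer W ⊓ Cfsg.spGL m F) := by
  have hf := isRefl_sympForm (F := F) m
  set P := perp hf.sesq W with hP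
  have hWP : W ≤ P := fun x hx y hy => hW x hx y hy
  obtain ⟨w₀, hw₀, hw₀0⟩ := Submodule.exists_mem_ne_zero_of_ne_bot hW0
  have hW1 : W ≠ ⊤ := by
    rintro rfl
    obtain ⟨-, x, hx⟩ := hf.nondeg w₀ hw₀0
    exact hx (hW w₀ hw₀ x Submodule.mem_top)
  refine isMaximalIn_of (CfsgLib.Aschbacher.spGL_not_le_subspaceStabilizer hW0 hW1)
    fun K hKG hHK g hg hgW => spGL_le_of_centre ?_
  have hH : ∀ {u : GL (Fin m ⊕ Fin m) F}, u ∈ Cfsg.spGL m F →
      (∀ x ∈ W, (u : M2m) *ᵥ x ∈ W) → u ∈ K := fun hu h => hHK ⟨mem_stab_of_maps h, hu⟩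
  have hPS : ∀ v ∈ P, Centre K v := fun v hv c => hH (sT_mem v c) fun x hx => by
    rw [sT_mulVec, hf.zero_iff.1 (hv x hx), mul_zero, zero_smul, add_zero]; exact hx
  obtain ⟨x₀, hx₀P, hx₀⟩ : ∃ x₀, x₀ ∉ P ∧ Centre K x₀ := by
    obtain ⟨w, hw, hgw⟩ := exists_moved hgW
    by_contra hc
    push Not at hc
    have hgP : g ∈ subspaceStabilizer P := mem_stab_of_maps fun p hp =>
      by_contra fun hn => hc _ hn ((hPS p hp).conj hg (hKG hg))
    apply hgw
    have hPP : perp hf.sesq P = W := by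
      refine (Submodule.eq_of_le_of_finrank_eq (hf.le_perp_perp W) ?_).symm
      have h1 := hf.finrank_perp W
      have h2 := hf.finrank_perp (perp hf.sesq W)
      change finrank F W = finrank F (perp hf.sesq (perp hf.sesq W))
      omega
    rw [← hPP]
    intro p hp
    have hp' : ((g⁻¹ : GL (Fin m ⊕ Fin m) F) : M2m) *ᵥ p ∈ P := (inv_mem hgP p).1 hp
    have e : p = (g : M2m) *ᵥ (((g⁻¹ : GL (Fin m ⊕ Fin m) F) : M2m) *ᵥ p) := by
      rw [Matrix.mulVec_mulVec, Units.mul_inv, Matrix.one_mulVec]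
    have hk : ∀ x, B ((g : M2m) *ᵥ w) ((g : M2m) *ᵥ x) = B w x := fun x => hKG hg w x
    rw [e, hk]
    exact hf.zero_iff.1 (hp' w hw)
  have stepA : ∀ x, x ∉ P → Centre K x → ∀ w ∈ P, Centre K (x + w) := by
    intro x hxP hx w hw
    have key : ∀ y, Centre K y → ∀ u ∈ P, B y u ≠ 0 → Centre K (y + u) := fun y hy u hu h => by
      have := hy.move (hPS u hu) (B y u)⁻¹
      rwa [inv_mul_cancel₀ h, one_smul] at this
    by_cases h : B x w = 0
    · obtain ⟨w1, hw1, hne⟩ : ∃ w1 ∈ W, B x w1 ≠ 0 := by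
        by_contra hc
        push Not at hc
        exact hxP hc
      have h1 := key (x + w1) (key x hx w1 (hWP hw1) hne) (w - w1) (P.sub_mem hw (hWP hw1))
        (by rw [hf.sesq.add_left, hf.sesq.sub_right, hf.sesq.sub_right, h, hf.zero_iff.1 (hw w1 hw1),
              hW w1 hw1 w1 hw1]
            simpa using hne)
      rwa [add_assoc, add_sub_cancel] at h1
    · exact key x hx w hw h
  have stepB : ∀ a ∈ W, ∀ x, Centre K x → B x a ≠ 0 → ∀ z, B z a ≠ 0 → Centre K z := by
    intro a ha x hx hxa z hz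
    set l := B z a / B x a with hl
    have hl0 : l ≠ 0 := div_ne_zero hz hxa
    set b := (B x a)⁻¹ • (l⁻¹ • z - x) with hb
    have hba : B b a = 0 := by
      rw [hb, hf.sesq.smul_left, hf.sesq.sub_left, hf.sesq.smul_left, hl]
      field_simp
      ring
    set u := sT (a + b) 1 * sT a (-1) * sT b (-1) with hu
    have hab : B a b = 0 := hf.zero_iff.1 hba
    have huy : ∀ y, (u : M2m) *ᵥ y = y + B y a • b + B y b • a := fun y => by
      simp only [hu, Units.val_mul, ← Matrix.mulVec_mulVec, sT_mulVec, hf.sesq.add_left,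
        hf.sesq.add_right, hf.sesq.smul_left, sympForm_alt, hab, hba]
      module
    have huK : u ∈ K := hH (mul_mem (mul_mem (sT_mem _ _) (sT_mem _ _)) (sT_mem _ _)) fun y hy => by
      rw [huy, hW y hy a ha, zero_smul, add_zero]
      exact W.add_mem hy (W.smul_mem _ ha)
    have h1 : Centre K ((u : M2m) *ᵥ x) := hx.conj huK (hKG huK)
    rw [huy] at h1
    have hnP : x + B x a • b + B x b • a ∉ P := fun h => hxa (by
      have := h a ha
      simpa only [hf.sesq.add_left, hf.sesq.smul_left, hba, sympForm_alt, mul_zero, add_zero] using this)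
    have h2 := (stepA _ hnP h1 (-(B x b) • a) (P.smul_mem _ (hWP ha))).smul l
    convert h2 using 1
    rw [hb, smul_smul (B x a), mul_inv_cancel₀ hxa, one_smul, neg_smul, add_neg_cancel_right,
      add_sub_cancel, smul_smul, mul_inv_cancel₀ hl0, one_smul]
  intro z
  by_cases hzP : z ∈ P
  · exact hPS z hzP
  obtain ⟨a, ha, hxa⟩ : ∃ a ∈ W, B x₀ a ≠ 0 := by
    by_contra hc
    push Not at hc
    exact hx₀P hc
  obtain ⟨a', ha', hza⟩ : ∃ a' ∈ W, B z a' ≠ 0 := by
    by_contra hc
    push Not at hc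
    exact hzP hc
  obtain ⟨y, hy1, hy2⟩ : ∃ y, B y a ≠ 0 ∧ B y a' ≠ 0 := by
    by_cases h1 : B x₀ a' = 0
    · by_cases h2 : B z a = 0
      · exact ⟨x₀ + z, by rw [hf.sesq.add_left, h2, add_zero]; exact hxa,
          by rw [hf.sesq.add_left, h1, zero_add]; exact hza⟩
      · exact ⟨z, h2, hza⟩
    · exact ⟨x₀, hxa, h1⟩
  exact stepB a' ha' y (stepB a ha x₀ hx₀ hxa y hy1) hy2 z hza

/-- Transvections inside a non-degenerate subspace move the component there. -/
theorem move_component {W : Submodule F V} (hW : IsNondegenerateOn B W)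
    (hS : ∀ v ∈ W, Centre K v) {a a' b : V} (ha : a ∈ W) (ha0 : a ≠ 0) (ha' : a' ∈ W)
    (ha'0 : a' ≠ 0) (hb : ∀ w ∈ W, B b w = 0) (h : Centre K (a + b)) : Centre K (a' + b) := by
  have hf := isRefl_sympForm (F := F) m
  have key : ∀ x y, x ∈ W → y ∈ W → B x y ≠ 0 → Centre K (x + b) → Centre K (y + b) := by
    intro x y hx hy hxy hc
    have := hc.move (hS (y - x) (W.sub_mem hy hx)) (B x y)⁻¹
    rw [hf.sesq.add_left, hb _ (W.sub_mem hy hx), hf.sesq.sub_right, sympForm_alt, sub_zero,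
      add_zero, inv_mul_cancel₀ hxy, one_smul] at this
    convert this using 1
    abel
  obtain ⟨z, hz, haz, hza⟩ : ∃ z ∈ W, B a z ≠ 0 ∧ B z a' ≠ 0 := by
    obtain ⟨-, z1, hz1, h1⟩ := hW a ha ha0
    obtain ⟨⟨z2, hz2, h2⟩, -⟩ := hW a' ha' ha'0
    by_cases h3 : B z1 a' = 0
    · by_cases h4 : B a z2 = 0
      · exact ⟨z1 + z2, W.add_mem hz1 hz2, by rw [hf.sesq.add_right, h4, add_zero]; exact h1,
          by rw [hf.sesq.add_left, h3, zero_add]; exact h2⟩
      · exact ⟨z2, hz2, h4, h2⟩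
    · exact ⟨z1, hz1, h1, h3⟩
  exact key z a' hz ha' hza (key a z ha hz haz h)

/-- Stabilisers of non-degenerate subspaces of less than half the dimension are maximal. -/
theorem sp_nondegenerate_maximal {W : Submodule F V} (hW0 : W ≠ ⊥) (hW : IsNondegenerateOn B W)
    (hdim : finrank F W < m) :
    IsMaximalIn (Cfsg.spGL m F) (subspaceStabilizer W ⊓ Cfsg.spGL m F) := by
  have hf := isRefl_sympForm (F := F) m
  set P := perp hf.sesq W with hP
  have hPn := hf.nondegenerateOn_perp hW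
  have hdimP := hf.finrank_perp W
  rw [← hP, Fintype.card_sum, Fintype.card_fin] at hdimP
  have hW1 : W ≠ ⊤ := by
    rintro rfl
    rw [finrank_top, Module.finrank_fintype_fun_eq_card, Fintype.card_sum, Fintype.card_fin] at hdim
    omega
  have hinf : W ⊓ P = ⊥ := hf.nondegenerateOn_iff.1 hW
  have hsup : W ⊔ P = ⊤ := by
    refine Submodule.eq_top_of_finrank_eq ?_
    have h1 := Submodule.finrank_sup_add_finrank_inf_eq W P
    rw [hinf, finrank_bot] at h1
    rw [Module.finrank_fintype_fun_eq_card, Fintype.card_sum, Fintype.card_fin]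
    omega
  refine isMaximalIn_of (CfsgLib.Aschbacher.spGL_not_le_subspaceStabilizer hW0 hW1)
    fun K hKG hHK g hg hgW => spGL_le_of_centre ?_
  have hWS : ∀ v ∈ W, Centre K v := fun v hv c => hHK ⟨mem_stab_of_maps fun x hx => by
    rw [sT_mulVec]; exact W.add_mem hx (W.smul_mem _ hv), sT_mem v c⟩
  have hPS : ∀ v ∈ P, Centre K v := fun v hv c => hHK ⟨mem_stab_of_maps fun x hx => by
    rw [sT_mulVec, hf.zero_iff.1 (hv x hx), mul_zero, zero_smul, add_zero]; exact hx, sT_mem v c⟩
  obtain ⟨v, hvW, hvP, hv⟩ : ∃ v, v ∉ W ∧ v ∉ P ∧ Centre K v := by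
    by_contra hc
    push Not at hc
    let L : V →ₗ[F] V := Matrix.mulVecLin (g : M2m)
    have hinj : Function.Injective L := Matrix.mulVec_injective_iff_isUnit.2 g.isUnit
    have hun : ∀ U : Submodule F V, (∀ u ∈ U, Centre K u) → U.map L ≤ W ∨ U.map L ≤ P := by
      intro U hU
      refine le_or_le ?_
      rintro _ ⟨u, hu, rfl⟩
      by_contra hn
      rw [not_or] at hn
      exact hc _ hn.1 hn.2 ((hU u hu).conj hg (hKG hg))
    rcases hun W hWS with h1 | h1
    · exact hgW (mem_stab_of_maps fun x hx => h1 (Submodule.mem_map_of_mem hx))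
    rcases hun P hPS with h2 | h2
    · have := Submodule.finrank_mono h2
      rw [← LinearEquiv.finrank_eq (Submodule.equivMapOfInjective L hinj P)] at this
      omega
    · have h3 : (W ⊔ P).map L ≤ P := by rw [Submodule.map_sup]; exact sup_le h1 h2
      have := Submodule.finrank_mono h3
      rw [hsup, ← LinearEquiv.finrank_eq (Submodule.equivMapOfInjective L hinj ⊤), finrank_top,
        Module.finrank_fintype_fun_eq_card, Fintype.card_sum, Fintype.card_fin] at this
      exact hW0 (Submodule.finrank_eq_zero.1 (by omega))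
  obtain ⟨a, ha, b, hb, rfl⟩ := Submodule.mem_sup.1 (hsup ▸ Submodule.mem_top : v ∈ W ⊔ P)
  have ha0 : a ≠ 0 := by rintro rfl; exact hvP (by rwa [zero_add])
  have hb0 : b ≠ 0 := by rintro rfl; exact hvW (by rwa [add_zero])
  intro z
  obtain ⟨a', ha', b', hb', rfl⟩ := Submodule.mem_sup.1 (hsup ▸ Submodule.mem_top : z ∈ W ⊔ P)
  by_cases ha'0 : a' = 0
  · rw [ha'0, zero_add]; exact hPS b' hb'
  by_cases hb'0 : b' = 0
  · rw [hb'0, add_zero]; exact hWS a' ha'
  have h1 := move_component hW hWS ha ha0 ha' ha'0 hb hv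
  rw [add_comm] at h1 ⊢
  exact move_component hPn hPS hb hb0 hb' hb'0 (fun w hw => hf.zero_iff.1 (hw a' ha')) h1

end symplectic

end CfsgLib.MaxSub
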