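/-
Eichler transformations and subspaces of an orthogonal space: preparations for the maximality of
subspace stabilisers.
-/
import Cfsg.Agent.Lib.OmegaSimple

set_option autoImplicit false
set_option maxHeartbeats 400000

namespace CfsgLib.MaxSub.Orth

open QuadraticMap Module CfsgLib.WittExtension CfsgLib.SpinorNorm CfsgLib.Eichler
open scoped Pointwise

variable {F V : Type*} [Field F] [AddCommGroup V] [Module F V] (Q : QuadraticForm F V)

/-- The perpendicular of a subspace. -/
def orth (W : Submodule F V) : Submodule F V := LinearMap.BilinForm.orthogonal (polarBilin Q) W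

variable {Q}

theorem mem_orth {W : Submodule F V} {x : V} : x ∈ orth Q W ↔ ∀ y ∈ W, polar Q y x = 0 := Iff.rfl

theorem orth_comm {W : Submodule F V} {x y : V} (hx : x ∈ orth Q W) (hy : y ∈ W) :
    polar Q x y = 0 := by rw [polar_comm]; exact hx y hy

theorem le_orth_orth (W : Submodule F V) : W ≤ orth Q (orth Q W) := fun _ hx _ hy => orth_comm hy hx

/-- A totally singular subspace is totally isotropic. -/
theorem polar_eq_zero_of_sing {W : Submodule F V} (hW : ∀ x ∈ W, Q x = 0) {x y : V} (hx : x ∈ W)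
    (hy : y ∈ W) : polar Q x y = 0 := by
  simp [polar, hW _ (W.add_mem hx hy), hW x hx, hW y hy]

section finite

variable [FiniteDimensional F V] (hQ : (polarBilin Q).Nondegenerate)

include hQ

theorem finrank_orth (W : Submodule F V) : finrank F W + finrank F (orth Q W) = finrank F V := by
  have := LinearMap.BilinForm.finrank_orthogonal hQ W
  have h2 := W.finrank_le
  show _ + finrank F (LinearMap.BilinForm.orthogonal (polarBilin Q) W) = _
  omega

theorem orth_orth (W : Submodule F V) : orth Q (orth Q W) = W := by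
  refine (Submodule.eq_of_le_of_finrank_eq (le_orth_orth W) ?_).symm
  have h1 := finrank_orth hQ W
  have h2 := finrank_orth hQ (orth Q W)
  omega

theorem two_mul_finrank_sing {S : Submodule F V} (hS : ∀ x ∈ S, Q x = 0) :
    2 * finrank F S ≤ finrank F V := by
  have h1 := finrank_orth hQ S
  have h2 := Submodule.finrank_mono
    (show S ≤ orth Q S from fun x hx y hy => polar_eq_zero_of_sing hS hy hx)
  omega

end finite

/-- Cutting with the kernel of a functional. -/
theorem finrank_inf_ker [FiniteDimensional F V] (S : Submodule F V) (φ : V →ₗ[F] F) :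
    finrank F S ≤ finrank F (S ⊓ LinearMap.ker φ : Submodule F V) + 1 := by
  have h1 := Submodule.finrank_sup_add_finrank_inf_eq S (LinearMap.ker φ)
  have h2 := LinearMap.finrank_range_add_finrank_ker φ
  have h3 := Submodule.finrank_le (LinearMap.range φ)
  rw [Module.finrank_self] at h3
  have h4 := Submodule.finrank_le (S ⊔ LinearMap.ker φ)
  omega

/-- A subspace inside two others: one vector outside both. -/
theorem exists_not_mem_two {W A B : Submodule F V} (hA : ¬ W ≤ A) (hB : ¬ W ≤ B) :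
    ∃ z ∈ W, z ∉ A ∧ z ∉ B := by
  obtain ⟨a, ha, haA⟩ := SetLike.not_le_iff_exists.1 hA
  obtain ⟨b, hb, hbB⟩ := SetLike.not_le_iff_exists.1 hB
  by_cases h1 : a ∈ B
  swap
  · exact ⟨a, ha, haA, h1⟩
  by_cases h2 : b ∈ A
  swap
  · exact ⟨b, hb, h2, hbB⟩
  exact ⟨a + b, W.add_mem ha hb, fun h => haA (by simpa using A.sub_mem h h2),
    fun h => hbB (by simpa using B.sub_mem h h1)⟩

theorem nondeg_comp {P : Submodule F V}
    (hP : ∀ x ∈ P, (∀ y ∈ P, polar Q x y = 0) → x = 0) :
    (polarBilin (Q.comp P.subtype)).Nondegenerate := by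
  have hc : ∀ u w : P, polarBilin (Q.comp P.subtype) u w = polar Q u.1 w.1 :=
    fun u w => by simp [polar]
  have hl : ∀ u : P, (∀ w : P, polar Q u.1 w.1 = 0) → u = 0 := fun u h =>
    Subtype.ext (hP u.1 u.2 fun y hy => h ⟨y, hy⟩)
  refine ⟨fun u h => hl u fun w => ?_, fun u h => hl u fun w => ?_⟩
  · rw [← hc]; exact h w
  · rw [polar_comm, ← hc]; exact h w

/-- Singular vectors in subspaces of dimension three. -/
theorem exists_singular_in [FiniteDimensional F V] [Finite F] {S : Submodule F V}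
    (hS : 3 ≤ finrank F S) : ∃ e ∈ S, e ≠ 0 ∧ Q e = 0 := by
  obtain ⟨e, he0, he⟩ := FiniteForms.exists_singular (Q.comp S.subtype) hS
  exact ⟨e.1, e.2, fun h => he0 (Subtype.ext h), he⟩

section plane

variable [FiniteDimensional F V] [Finite F] {P : Submodule F V}

/-- Hyperbolic pairs in a non-degenerate subspace, and their perpendiculars. -/
theorem pair_data (hP : ∀ x ∈ P, (∀ y ∈ P, polar Q x y = 0) → x = 0) (hd : 5 ≤ finrank F P)
    {e : V} (he : e ∈ P) (he0 : e ≠ 0) (hes : Q e = 0) :
    ∃ f ∈ P, Q f = 0 ∧ polar Q e f = 1 ∧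
      (∀ c : F, ∃ a ∈ P, a ≠ 0 ∧ polar Q e a = 0 ∧ polar Q f a = 0 ∧ Q a = c) ∧
      (∃ a ∈ P, ∃ b ∈ P, polar Q e a = 0 ∧ polar Q e b = 0 ∧ polar Q a b = 1) := by
  set Q' := Q.comp P.subtype with hQ'
  have hn := nondeg_comp hP
  let e' : P := ⟨e, he⟩
  obtain ⟨f, hf, hef⟩ := Eichler.exists_partner Q' hn (e := e')
    (fun h => he0 (congrArg Subtype.val h)) hes
  have hd2 := perp_finrank Q' (e := e') hes hf hef
  have hn2 := perp_nondeg Q' hn (e := e') hes hf hef
  set U := perp Q' e' f
  obtain ⟨e₂, he₂0, he₂⟩ := FiniteForms.exists_singular (Q'.comp U.subtype)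
    (show 3 ≤ finrank F U by omega)
  obtain ⟨f₂, hf₂, hef₂⟩ := Eichler.exists_partner (Q'.comp U.subtype) hn2 he₂0 he₂
  have hB : ∀ x y : P, polar Q' x y = polar Q x.1 y.1 := fun x y => by simp [polar, hQ']
  have hU : ∀ x : U, polar Q e x.1.1 = 0 ∧ polar Q f.1 x.1.1 = 0 := fun x => by
    obtain ⟨h1, h2⟩ := (mem_perp Q').1 x.2
    exact ⟨by rw [← h1, hB], by rw [← h2, hB]⟩
  have h22 : polar Q e₂.1.1 f₂.1.1 = 1 := by
    rw [← hef₂]; simp [polar, hQ']
  refine ⟨f.1, f.2, hf, by rw [← hef, hB], fun c => ⟨(c • e₂ + f₂).1.1, (c • e₂ + f₂).1.2, ?_,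
    (hU _).1, (hU _).2, ?_⟩, e₂.1.1, e₂.1.2, f₂.1.1, f₂.1.2, (hU _).1, (hU _).1, h22⟩
  · intro h
    have h' := congrArg (polar Q e₂.1.1) h
    simp only [Submodule.coe_add, Submodule.coe_smul, polar_add_right, polar_smul_right,
      QuadraticMap.polar_zero_right, ReflectionGen.pol_self, h22] at h'
    rw [show Q e₂.1.1 = 0 from he₂] at h'
    simp at h'
  · show Q (c • e₂.1.1 + f₂.1.1) = c
    rw [QuadraticMap.map_add Q, QuadraticMap.map_smul, polar_smul_left, h22,
      show Q e₂.1.1 = 0 from he₂, show Q f₂.1.1 = 0 from hf₂]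
    simp

/-- A non-degenerate space of dimension at least two takes every non-zero value. -/
theorem exists_value {W : Type*} [AddCommGroup W] [Module F W] [FiniteDimensional F W]
    (R : QuadraticForm F W) (hR : (polarBilin R).Nondegenerate) (hW : 2 ≤ finrank F W) {c : F}
    (hc : c ≠ 0) : ∃ a, R a = c := by
  by_cases hs : ∃ u : W, u ≠ 0 ∧ R u = 0
  · obtain ⟨u, hu0, hu⟩ := hs
    obtain ⟨f, hf, huf⟩ := Eichler.exists_partner R hR hu0 hu
    refine ⟨c • u + f, ?_⟩
    rw [QuadraticMap.map_add R, QuadraticMap.map_smul, polar_smul_left, huf, hu, hf]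
    simp
  · push Not at hs
    obtain ⟨⟨u, t⟩, h0, h⟩ := FiniteForms.exists_singular
      (R.prod ((-c) • (QuadraticMap.sq : QuadraticForm F F)))
      (by rw [Module.finrank_prod, Module.finrank_self]; omega)
    rw [QuadraticMap.prod_apply, QuadraticMap.smul_apply, QuadraticMap.sq_apply, smul_eq_mul] at h
    simp only at h
    have ht : t ≠ 0 := fun e => by
      subst e
      refine hs u (fun e => h0 (by rw [e]; rfl)) ?_
      linear_combination h
    refine ⟨t⁻¹ • u, ?_⟩
    rw [QuadraticMap.map_smul, smul_eq_mul, show R u = c * (t * t) by linear_combination h]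
    field_simp

/-- Hyperbolic pairs in a non-degenerate subspace of dimension at least four. -/
theorem pair_data_four (hP : ∀ x ∈ P, (∀ y ∈ P, polar Q x y = 0) → x = 0) (hd : 4 ≤ finrank F P)
    {e : V} (he : e ∈ P) (he0 : e ≠ 0) (hes : Q e = 0) :
    ∃ f ∈ P, Q f = 0 ∧ polar Q e f = 1 ∧
      (∀ c : F, c ≠ 0 → ∃ a ∈ P, a ≠ 0 ∧ polar Q e a = 0 ∧ polar Q f a = 0 ∧ Q a = c) ∧
      (∃ a ∈ P, ∃ b ∈ P, polar Q e a = 0 ∧ polar Q e b = 0 ∧ polar Q a b = 1) := by
  set Q' := Q.comp P.subtype with hQ'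
  have hn := nondeg_comp hP
  let e' : P := ⟨e, he⟩
  obtain ⟨f, hf, hef⟩ := Eichler.exists_partner Q' hn (e := e')
    (fun h => he0 (congrArg Subtype.val h)) hes
  have hd2 := perp_finrank Q' (e := e') hes hf hef
  have hn2 := perp_nondeg Q' hn (e := e') hes hf hef
  set U := perp Q' e' f
  have hB : ∀ x y : P, polar Q' x y = polar Q x.1 y.1 := fun x y => by simp [polar, hQ']
  have hU : ∀ x : U, polar Q e x.1.1 = 0 ∧ polar Q f.1 x.1.1 = 0 := fun x => by
    obtain ⟨h1, h2⟩ := (mem_perp Q').1 x.2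
    exact ⟨by rw [← h1, hB], by rw [← h2, hB]⟩
  obtain ⟨u, w, huw⟩ := OmegaSimple.exists_polar_one (Q'.comp U.subtype) hn2 (by omega)
  have huw' : polar Q u.1.1 w.1.1 = 1 := by
    rw [← huw]; simp [polar, hQ']
  refine ⟨f.1, f.2, hf, by rw [← hef, hB], fun c hc => ?_,
    u.1.1, u.1.2, w.1.1, w.1.2, (hU _).1, (hU _).1, huw'⟩
  obtain ⟨a, ha⟩ := exists_value (Q'.comp U.subtype) hn2 (by omega) hc
  exact ⟨a.1.1, a.1.2, fun h0 => hc (by rw [← ha]; show Q a.1.1 = 0; rw [h0, QuadraticMap.map_zero]),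
    (hU _).1, (hU _).2, ha⟩

/-- An anisotropic plane is non-degenerate and takes the value one. -/
theorem aniso_plane [Fintype F] {N : Submodule F V} (hd : finrank F N = 2)
    (ha : ∀ x ∈ N, Q x = 0 → x = 0) : ∀ x ∈ N, (∀ y ∈ N, polar Q x y = 0) → x = 0 := by
  intro x hx hxy
  by_contra hx0
  by_cases h2 : (2 : F) = 0
  · obtain ⟨y, hy, hyx⟩ : ∃ y ∈ N, y ∉ Submodule.span F ({x} : Set V) := by
      refine SetLike.not_le_iff_exists.1 fun h => ?_
      have := Submodule.finrank_mono h
      rw [finrank_span_singleton hx0] at this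
      omega
    obtain ⟨t, ht⟩ := FiniteForms.sqrt_charTwo h2 (Q y / Q x)
    have hQx : Q x ≠ 0 := fun h => hx0 (ha x hx h)
    have h := ha (t • x + y) (N.add_mem (N.smul_mem t hx) hy) (by
      rw [QuadraticMap.map_add Q, QuadraticMap.map_smul, polar_smul_left, hxy y hy, smul_zero,
        smul_eq_mul, ← ht, div_mul_cancel₀ _ hQx]
      linear_combination (Q y) * h2)
    exact hyx (Submodule.mem_span_singleton.2 ⟨-t, by
      rw [neg_smul]; exact (eq_neg_of_add_eq_zero_right h).symm⟩)
  · refine hx0 (ha x hx ?_)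
    have := hxy x hx
    rw [ReflectionGen.pol_self] at this
    exact (mul_eq_zero.1 this).resolve_left h2

/-- Two orthogonal anisotropic planes contain a totally singular plane. -/
theorem exists_singular_plane [Fintype F] {N₁ N₂ : Submodule F V} (h1 : finrank F N₁ = 2)
    (h2 : finrank F N₂ = 2) (ha₁ : ∀ x ∈ N₁, Q x = 0 → x = 0) (ha₂ : ∀ x ∈ N₂, Q x = 0 → x = 0)
    (hperp : ∀ x ∈ N₁, ∀ y ∈ N₂, polar Q x y = 0) (hinf : N₁ ⊓ N₂ = ⊥) :
    ∃ S : Submodule F V, S ≤ N₁ ⊔ N₂ ∧ (∀ x ∈ S, Q x = 0) ∧ finrank F S = 2 := by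
  classical
  obtain ⟨x, y, hx, hy, hQx, hxy, hroot, hli⟩ :=
    FiniteForms.exists_elliptic_basis h1 (aniso_plane h1 ha₁) ha₁
  obtain ⟨v', hv'⟩ := exists_value (Q.comp N₂.subtype) (nondeg_comp (aniso_plane h2 ha₂))
    (by rw [h2]) (neg_ne_zero.2 (one_ne_zero (α := F)))
  set v := v'.1 with hv
  have hQv : Q v = -1 := hv'
  have hv0 : v ≠ 0 := fun h => by rw [h, QuadraticMap.map_zero] at hQv; simp at hQv
  obtain ⟨w₀, hw₀, hvw₀⟩ : ∃ w ∈ N₂, polar Q v w ≠ 0 := by
    by_contra hc
    push Not at hc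
    exact hv0 (aniso_plane h2 ha₂ v v'.2 hc)
  set w := (-(polar Q v w₀)⁻¹) • w₀ with hwdef
  have hw : w ∈ N₂ := N₂.smul_mem _ hw₀
  have hvw : polar Q v w = -1 := by
    rw [hwdef, polar_smul_right, smul_eq_mul, neg_mul, inv_mul_cancel₀ hvw₀]
  clear_value w
  obtain ⟨z, ⟨hz, hvz⟩, hz0⟩ := (Submodule.ne_bot_iff (N₂ ⊓ LinearMap.ker (polarBilin Q v))).1
    fun h => by
      have := finrank_inf_ker N₂ (polarBilin Q v)
      rw [h, finrank_bot] at this
      omega
  have hvz' : polar Q v z = 0 := hvz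
  have hQz : Q z ≠ 0 := fun h => hz0 (ha₂ z hz h)
  -- the values on the coset and the anisotropic parameters
  let val : F → F := fun s => -Q (w + s • z)
  let T : Finset F := Finset.univ.filter fun s => w + s • z ∉ Submodule.span F ({v} : Set V)
  let I : Finset F := Finset.univ.image fun t : F => -(t * t + t)
  let A : Finset F := Finset.univ \ I
  have hA : ∀ c, c ∈ A ↔ ∀ t : F, t * t + t + c ≠ 0 := fun c => by
    simp only [A, I, Finset.mem_sdiff, Finset.mem_univ, true_and, Finset.mem_image, not_exists]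
    exact ⟨fun h t ht => h t (by linear_combination -ht), fun h t ht => h t (by linear_combination -ht)⟩
  have hsub : T.image val ⊆ A := fun c hc => by
    obtain ⟨s, hs, rfl⟩ := Finset.mem_image.1 hc
    rw [hA]
    intro t ht
    have hs' : w + s • z ∉ Submodule.span F ({v} : Set V) := (Finset.mem_filter.1 hs).2
    have h0 : Q (t • v + (w + s • z)) = 0 := by
      rw [QuadraticMap.map_add Q, QuadraticMap.map_smul, polar_smul_left, polar_add_right,
        polar_smul_right, hvw, hvz', hQv]
      simp only [val] at ht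
      simp only [smul_eq_mul]
      linear_combination -ht
    refine hs' (Submodule.mem_span_singleton.2 ⟨-t, ?_⟩)
    rw [neg_smul]
    exact (eq_neg_of_add_eq_zero_right (ha₂ _ (N₂.add_mem (N₂.smul_mem t v'.2)
      (N₂.add_mem hw (N₂.smul_mem s hz))) h0)).symm
  have hIcard : Fintype.card F ≤ 2 * I.card := by
    refine Finset.card_le_mul_card_image (Finset.univ : Finset F) 2 fun c hc => ?_
    obtain ⟨t₀, -, rfl⟩ := Finset.mem_image.1 hc
    refine le_trans (Finset.card_le_card (t := {t₀, -1 - t₀}) fun t ht => ?_) Finset.card_le_two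
    have ht' := (Finset.mem_filter.1 ht).2
    rw [Finset.mem_insert, Finset.mem_singleton]
    have : (t - t₀) * (t - (-1 - t₀)) = 0 := by linear_combination -ht'
    rcases mul_eq_zero.1 this with h | h
    · exact Or.inl (sub_eq_zero.1 h)
    · exact Or.inr (sub_eq_zero.1 h)
  have hTcard : Fintype.card F ≤ T.card + 1 := by
    have hone : (Finset.univ \ T).card ≤ 1 := by
      refine Finset.card_le_one.2 fun a ha b hb => ?_
      simp only [T, Finset.mem_sdiff, Finset.mem_univ, true_and, Finset.mem_filter,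
        not_not] at ha hb
      by_contra hab
      have h := Submodule.sub_mem _ ha hb
      rw [add_sub_add_left_eq_sub, ← sub_smul] at h
      obtain ⟨r, hr⟩ := Submodule.mem_span_singleton.1 ((Submodule.smul_mem_iff _ (sub_ne_zero.2 hab)).1 h)
      have h' : r * polar Q v v = 0 := by
        rw [← smul_eq_mul, ← polar_smul_right, hr, hvz']
      have hzz : Q z = r * r * Q v := by rw [← hr, QuadraticMap.map_smul, smul_eq_mul]
      by_cases h2' : (2 : F) = 0
      · have hvv : polar Q v v = 0 := by rw [ReflectionGen.pol_self, h2', zero_mul]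
        have h3 := Submodule.mem_span_singleton.1 ha
        obtain ⟨k, hk⟩ := h3
        have h4 : polar Q v (w + a • z) = 0 := by rw [← hk, polar_smul_right, hvv, smul_zero]
        rw [polar_add_right, polar_smul_right, hvw, hvz', smul_zero, add_zero] at h4
        simp at h4
      · rw [ReflectionGen.pol_self, hQv] at h'
        have hr0 : r = 0 := (mul_eq_zero.1 h').resolve_right
          (mul_ne_zero h2' (neg_ne_zero.2 one_ne_zero))
        rw [hr0, zero_smul] at hr
        exact hz0 hr.symm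
    have := Finset.card_le_card_sdiff_add_card (s := (Finset.univ : Finset F)) (t := T)
    rw [Finset.card_univ] at this
    omega
  have hTimg : T.card ≤ 2 * (T.image val).card := by
    refine Finset.card_le_mul_card_image T 2 fun c hc => ?_
    obtain ⟨s₀, -, rfl⟩ := Finset.mem_image.1 hc
    refine le_trans (Finset.card_le_card (t := {s₀, -(polar Q w z / Q z) - s₀}) fun s hs => ?_)
      Finset.card_le_two
    have hs' := (Finset.mem_filter.1 hs).2
    simp only [val, neg_inj, QuadraticMap.map_add Q, QuadraticMap.map_smul, polar_smul_right,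
      smul_eq_mul] at hs'
    rw [Finset.mem_insert, Finset.mem_singleton]
    have : (s - s₀) * (s - (-(polar Q w z / Q z) - s₀)) = 0 := by
      field_simp
      linear_combination hs'
    rcases mul_eq_zero.1 this with h | h
    · exact Or.inl (sub_eq_zero.1 h)
    · exact Or.inr (sub_eq_zero.1 h)
  have hAcard : A.card + I.card = Fintype.card F := by
    rw [← Finset.card_univ, Finset.card_sdiff_add_card_eq_card (Finset.subset_univ I)]
  have hall : T.image val = A := Finset.eq_of_subset_of_card_le hsub (by omega)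
  obtain ⟨s, -, hs⟩ := Finset.mem_image.1
    (hall ▸ (hA _).2 fun t ht => hroot t (by linear_combination ht) : Q y ∈ T.image val)
  simp only [val] at hs
  have hwz : w + s • z ∈ N₂ := N₂.add_mem hw (N₂.smul_mem s hz)
  refine ⟨Submodule.span F {x + v, y + (w + s • z)}, ?_, fun u hu => ?_, ?_⟩
  · rw [Submodule.span_le]
    rintro u (rfl | rfl)
    · exact Submodule.add_mem_sup hx v'.2
    · exact Submodule.add_mem_sup hy hwz
  · obtain ⟨a, b, rfl⟩ := Submodule.mem_span_pair.1 hu
    have e1 : Q (x + v) = 0 := by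
      rw [QuadraticMap.map_add Q, hperp x hx v v'.2, hQx, hQv]; ring
    have e2 : Q (y + (w + s • z)) = 0 := by
      rw [QuadraticMap.map_add Q, hperp y hy _ hwz]; linear_combination -hs
    have e3 : polar Q (x + v) (y + (w + s • z)) = 0 := by
      rw [polar_add_left, polar_add_right (Q := Q) x, polar_add_right (Q := Q) v, hxy,
        hperp x hx _ hwz, polar_comm Q v y, hperp y hy v v'.2, polar_add_right, polar_smul_right,
        hvw, hvz']
      simp
    rw [QuadraticMap.map_add Q, QuadraticMap.map_smul, QuadraticMap.map_smul, polar_smul_left,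
      polar_smul_right, e1, e2, e3]
    simp
  · have hind : LinearIndependent F ![x + v, y + (w + s • z)] := by
      rw [LinearIndependent.pair_iff]
      intro a b hab
      have hm : a • x + b • y ∈ N₁ ⊓ N₂ := by
        refine ⟨N₁.add_mem (N₁.smul_mem a hx) (N₁.smul_mem b hy), ?_⟩
        rw [show a • x + b • y = -(a • v + b • (w + s • z)) by
          rw [eq_neg_iff_add_eq_zero, ← hab]; module]
        exact N₂.neg_mem (N₂.add_mem (N₂.smul_mem a v'.2) (N₂.smul_mem b hwz))
      rw [hinf, Submodule.mem_bot] at hm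
      exact LinearIndependent.pair_iff.1 hli a b hm
    have h := finrank_span_eq_card hind
    rw [Fintype.card_fin, Matrix.range_cons, Matrix.range_cons, Matrix.range_empty,
      Set.union_empty, Set.singleton_union] at h
    exact h

end plane

/-- If all Eichler transformations at `e` with vector in `S` map `W` into itself and `e` is not
perpendicular to `W`, then `S` lies in `W`. -/
theorem eich_core {W S : Submodule F V} {e x a₁ a₂ : V} (he : Q e = 0) (hx : x ∈ W)
    (hex : polar Q e x ≠ 0) (hS : ∀ a ∈ S, polar Q e a = 0) (ha₁ : a₁ ∈ S) (ha₂ : a₂ ∈ S)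
    (ha : polar Q a₁ a₂ ≠ 0)
    (h : ∀ a ∈ S, ∀ g : quadIso Q, IsEich Q e a g → ∀ y ∈ W, g.1 y ∈ W) : e ∈ W ∧ S ≤ W := by
  set c := polar Q e x with hc
  have hf : ∀ a ∈ S, c • a + (-(polar Q a x) - Q a * c) • e ∈ W := fun a hS' => by
    obtain ⟨g, hg⟩ := exists_eich Q he (hS a hS')
    have := W.sub_mem (h a hS' g hg x hx) hx
    rwa [hg x, add_sub_cancel_left] at this
  have heW : e ∈ W := by
    have h1 := W.sub_mem (W.sub_mem (hf _ (S.add_mem ha₁ ha₂)) (hf _ ha₁)) (hf _ ha₂)
    have h2 : (-(polar Q a₁ a₂ * c)) • e ∈ W := by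
      convert h1 using 1
      rw [QuadraticMap.map_add Q, polar_add_left]
      module
    exact (W.smul_mem_iff (neg_ne_zero.2 (mul_ne_zero ha hex))).1 h2
  refine ⟨heW, fun a hS' => ?_⟩
  have h1 := W.sub_mem (hf a hS') (W.smul_mem (-(polar Q a x) - Q a * c) heW)
  rw [add_sub_cancel_right] at h1
  exact (W.smul_mem_iff hex).1 h1

section invariant

variable [Fintype F] [FiniteDimensional F V] (hQ : (polarBilin Q).Nondegenerate)

include hQ in
/-- A subspace of a non-degenerate space invariant under all reflections and Eichler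
transformations is trivial, apart from plus planes over two or three elements. -/
theorem invariant_eq {W M : Submodule F V} (hW : ∀ x ∈ W, (∀ y ∈ W, polar Q x y = 0) → x = 0)
    (hMW : M ≤ W) (hM0 : M ≠ ⊥)
    (hrefl : ∀ u ∈ W, Q u ≠ 0 → ∀ m ∈ M, m + (-((Q u)⁻¹ * polar Q u m)) • u ∈ M)
    (heich : ∀ s₁ ∈ W, ∀ s₂ ∈ W, Q s₁ = 0 → Q s₂ = 0 → polar Q s₁ s₂ = 0 →
      ∀ m ∈ M, m + (polar Q s₁ m • s₂ + (-(polar Q s₂ m) - Q s₂ * polar Q s₁ m) • s₁) ∈ M)
    (hex : ¬ (Fintype.card F ≤ 3 ∧ finrank F W = 2 ∧ ∃ z ∈ W, z ≠ 0 ∧ Q z = 0)) :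
    M = W := by
  classical
  by_contra hne
  set M' := W ⊓ orth Q M with hM'
  have hm' : ∀ {x y : V}, x ∈ M → y ∈ M' → polar Q x y = 0 := fun hx hy => hy.2 _ hx
  have hm'' : ∀ {x y : V}, x ∈ M → y ∈ M' → polar Q y x = 0 := fun hx hy => orth_comm hy.2 hx
  have hM'top : ¬ W ≤ M' := fun h => hM0 (eq_bot_iff.2 fun m hm =>
    (Submodule.mem_bot F).2 (hW m (hMW hm) fun y hy => hm' hm (h hy)))
  have hMtop : ¬ W ≤ M := fun h => hne (le_antisymm hMW h)
  have haniso : ∀ u ∈ W, Q u ≠ 0 → u ∈ M ∨ u ∈ M' := fun u hu hQu => by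
    by_contra hc
    rw [not_or] at hc
    refine hc.2 ⟨hu, fun m hm => ?_⟩
    by_contra hum
    have h1 := M.sub_mem (hrefl u hu hQu m hm) hm
    rw [add_sub_cancel_left] at h1
    refine hc.1 ((M.smul_mem_iff ?_).1 h1)
    exact neg_ne_zero.2 (mul_ne_zero (inv_ne_zero hQu) (by rwa [polar_comm]))
  obtain ⟨z, hzW, hzM, hzM'⟩ := exists_not_mem_two hMtop hM'top
  have hsing : ∀ z ∈ W, z ∉ M → z ∉ M' → Q z = 0 := fun z hz h1 h2 => by
    by_contra h3
    rcases haniso z hz h3 with h | h
    · exact h1 h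
    · exact h2 h
  have hexm : ∀ z ∈ W, z ∉ M' → ∃ m ∈ M, polar Q m z ≠ 0 := fun z hz h => by
    by_contra hc
    push Not at hc
    exact h ⟨hz, hc⟩
  have hQz := hsing z hzW hzM hzM'
  have hline : ∀ z ∈ W, z ∉ M → Q z = 0 → ∀ m ∈ M, ∀ t : F,
      t * polar Q z m + t * t * Q m ≠ 0 → z + t • m ∈ M' := fun z hz hzM hQz m hm t ht => by
    refine (haniso _ (W.add_mem hz (W.smul_mem t (hMW hm))) ?_).resolve_left
      fun h => hzM (by simpa using M.sub_mem h (M.smul_mem t hm))
    rw [QuadraticMap.map_add Q, hQz, QuadraticMap.map_smul, polar_smul_right]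
    simpa [add_comm] using ht
  -- the sum of `M` and `M'`
  have hdim : finrank F M + finrank F M' = finrank F W := by
    have h1 : M' = orth Q (M ⊔ orth Q W) := by
      ext x
      simp only [hM', Submodule.mem_inf, mem_orth]
      refine ⟨fun h y hy => ?_, fun h => ⟨?_, fun y hy => h y (Submodule.mem_sup_left hy)⟩⟩
      · obtain ⟨a, ha, b, hb, rfl⟩ := Submodule.mem_sup.1 hy
        rw [polar_add_left, h.2 a ha, orth_comm hb h.1, add_zero]
      · rw [← orth_orth hQ W]
        exact fun y hy => h y (Submodule.mem_sup_right hy)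
    have h2 := finrank_orth hQ (M ⊔ orth Q W)
    have h3 := Submodule.finrank_sup_add_finrank_inf_eq M (orth Q W)
    have h4 : M ⊓ orth Q W = ⊥ := eq_bot_iff.2 fun x hx =>
      (Submodule.mem_bot F).2 (hW x (hMW hx.1) fun y hy => orth_comm hx.2 hy)
    rw [h4, finrank_bot] at h3
    have h5 := finrank_orth hQ W
    rw [← h1] at h2
    omega
  have hsupinf : ∀ x ∈ M ⊓ M', (∀ y ∈ W, y ∈ M ⊔ M') → x = 0 := fun x hx hall => by
    refine hW x (hMW hx.1) fun y hy => ?_
    obtain ⟨a, ha, b, hb, rfl⟩ := Submodule.mem_sup.1 (hall y hy)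
    rw [polar_add_right, hm'' ha hx.2, hm' hx.1 hb, add_zero]
  have hne' : M' ≠ ⊥ := fun h => hne (Submodule.eq_of_le_of_finrank_eq hMW (by
    rw [h, finrank_bot] at hdim; omega))
  rcases lt_or_ge (Fintype.card F) 4 with hq | hq
  swap
  · -- at least four scalars
    obtain ⟨m, hm, hb⟩ := hexm z hzW hzM'
    have hb' : polar Q z m ≠ 0 := by rwa [polar_comm]
    set c : F := -(polar Q z m) / Q m
    have hcard : 1 < ((Finset.univ.erase (0 : F)).erase c).card := by
      have h1 := Finset.pred_card_le_card_erase (s := Finset.univ.erase (0 : F)) (a := c)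
      have h2 : (Finset.univ.erase (0 : F)).card = Fintype.card F - 1 := by
        rw [Finset.card_erase_of_mem (Finset.mem_univ _), Finset.card_univ]
      omega
    obtain ⟨t₁, ht₁, t₂, ht₂, ht⟩ := Finset.one_lt_card.1 hcard
    simp only [Finset.mem_erase, Finset.mem_univ, and_true] at ht₁ ht₂
    have hgood : ∀ t : F, t ≠ c → t ≠ 0 → polar Q z m + t * polar Q m m = 0 := fun t htc ht0 => by
      have h := hline z hzW hzM hQz m hm t fun e => by
        have e' : t * (polar Q z m + t * Q m) = 0 := by linear_combination e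
        have e'' := (mul_eq_zero.1 e').resolve_left ht0
        by_cases hQm : Q m = 0
        · rw [hQm, mul_zero, add_zero] at e''
          exact hb' e''
        · refine htc ?_
          show t = -(polar Q z m) / Q m
          rw [eq_div_iff hQm]
          linear_combination e''
      have h2 := hm'' hm h
      rwa [polar_add_left, polar_smul_left, smul_eq_mul] at h2
    have h1 := hgood t₁ ht₁.1 ht₁.2
    have h2 := hgood t₂ ht₂.1 ht₂.2
    have h3 : (t₁ - t₂) * polar Q m m = 0 := by linear_combination h1 - h2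
    rw [(mul_eq_zero.1 h3).resolve_left (sub_ne_zero.2 ht), mul_zero, add_zero] at h1
    exact hb' h1
  have hq2 : 2 ≤ Fintype.card F := Fintype.one_lt_card
  have honly : ∀ {a : V}, a ∈ M → ∀ {b : V}, b ∈ M' → M ⊓ M' = ⊥ → a ≠ 0 → b ≠ 0 → Q a = -Q b := by
    intro a ha b hb hR ha0 hb0
    have h1 : a + b ∉ M := fun h => hb0 ((Submodule.mem_bot F).1
      (hR ▸ ⟨by simpa using M.sub_mem h ha, hb⟩))
    have h2 : a + b ∉ M' := fun h => ha0 ((Submodule.mem_bot F).1
      (hR ▸ ⟨ha, by simpa using M'.sub_mem h hb⟩))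
    have h3 := hsing _ (W.add_mem (hMW ha) hb.1) h1 h2
    rw [QuadraticMap.map_add Q, hm' ha hb, add_zero] at h3
    linear_combination h3
  have hMQ : M ⊓ M' = ⊥ → ∃ m ∈ M, Q m ≠ 0 := fun hR => by
    by_contra hc
    push Not at hc
    refine hM0 (eq_bot_iff.2 fun m hm => ?_)
    rw [← hR]
    exact ⟨hm, hMW hm, fun y hy => polar_eq_zero_of_sing hc hy hm⟩
  rcases (show Fintype.card F = 2 ∨ Fintype.card F = 3 by omega) with hq | hq
  · -- two scalars
    have hone : ∀ c : F, c ≠ 0 → c = 1 := fun c hc => by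
      have := FiniteField.pow_card_sub_one_eq_one c hc
      rwa [hq, pow_one] at this
    have h2 : (2 : F) = 0 := by
      by_contra h
      have := hone 2 h
      exact one_ne_zero (show (1 : F) = 0 by linear_combination this)
    have hneg : ∀ c : F, -c = c := fun c => by linear_combination (-c) * h2
    by_cases hR : M ⊓ M' = ⊥
    · -- the two parts are non-degenerate
      obtain ⟨b₀, hb₀, hb₀0⟩ := Submodule.exists_mem_ne_zero_of_ne_bot hne'
      obtain ⟨m₀, hm₀, hm₀Q⟩ := hMQ hR
      have hm₀0 : m₀ ≠ 0 := fun h => hm₀Q (by rw [h, QuadraticMap.map_zero])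
      have hb1 : ∀ b ∈ M', b ≠ 0 → Q b = 1 := fun b hb hb0 => by
        rw [← hneg (Q b), ← honly hm₀ hb hR hm₀0 hb0, hone _ hm₀Q]
      have ha1 : ∀ a ∈ M, a ≠ 0 → Q a = 1 := fun a ha ha0 => by
        rw [honly ha hb₀ hR ha0 hb₀0, hb1 _ hb₀ hb₀0, hneg]
      have hsum : ∀ y ∈ W, y ∈ M ⊔ M' := by
        have h1 := Submodule.finrank_sup_add_finrank_inf_eq M M'
        rw [hR, finrank_bot, add_zero, hdim] at h1
        have := Submodule.eq_of_le_of_finrank_eq (sup_le hMW inf_le_left : M ⊔ M' ≤ W) h1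
        exact fun y hy => this.ge hy
      have hself : ∀ x, Q x = 1 → polar Q x x = 0 := fun x hx => by
        rw [ReflectionGen.pol_self, h2, zero_mul]
      have hpair : ∀ {X X' : Submodule F V}, (∀ x ∈ X, x ≠ 0 → Q x = 1) → X ⊔ X' = M ⊔ M' →
          (∀ x ∈ X, x ∈ W) → (∀ x ∈ X, ∀ y ∈ X', polar Q x y = 0) → ∀ a ∈ X, a ≠ 0 →
          ∃ a' ∈ X, polar Q a a' = 1 := by
        intro X X' h1 hXX hXW hperp a ha ha0
        by_contra hc
        push Not at hc
        refine ha0 (hW a (hXW a ha) fun y hy => ?_)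
        obtain ⟨u, hu, v, hv, rfl⟩ := Submodule.mem_sup.1 (hXX ▸ hsum y hy : y ∈ X ⊔ X')
        rw [polar_add_right, hperp a ha v hv, add_zero]
        by_contra h
        exact hc u hu (hone _ h)
      obtain ⟨a₁, ha₁, ha₁0⟩ := Submodule.exists_mem_ne_zero_of_ne_bot hM0
      obtain ⟨a₂, ha₂, ha12⟩ := hpair ha1 rfl (fun x hx => hMW hx)
        (fun x hx y hy => hm' hx hy) a₁ ha₁ ha₁0
      obtain ⟨b₂, hb₂, hb12⟩ := hpair hb1 (sup_comm M' M) (fun x hx => hx.1)
        (fun x hx y hy => hm'' hy hx) b₀ hb₀ hb₀0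
      have ha₂0 : a₂ ≠ 0 := fun h => by simp [h] at ha12
      have hb₂0 : b₂ ≠ 0 := fun h => by simp [h] at hb12
      have h := heich (a₁ + b₀) (W.add_mem (hMW ha₁) hb₀.1) (a₂ + b₂) (W.add_mem (hMW ha₂) hb₂.1)
        (by rw [QuadraticMap.map_add Q, ha1 _ ha₁ ha₁0, hb1 _ hb₀ hb₀0, hm' ha₁ hb₀]
            linear_combination h2)
        (by rw [QuadraticMap.map_add Q, ha1 _ ha₂ ha₂0, hb1 _ hb₂ hb₂0, hm' ha₂ hb₂]
            linear_combination h2)
        (by rw [polar_add_left, polar_add_right, polar_add_right, ha12, hb12, hm' ha₁ hb₂,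
              hm'' ha₂ hb₀]
            linear_combination h2) a₁ ha₁
      have e1 : polar Q (a₁ + b₀) a₁ = 0 := by
        rw [polar_add_left, hm'' ha₁ hb₀, hself _ (ha1 _ ha₁ ha₁0), add_zero]
      have e2 : polar Q (a₂ + b₂) a₁ = 1 := by
        rw [polar_add_left, hm'' ha₁ hb₂, add_zero, polar_comm, ha12]
      rw [e1, e2, zero_smul, zero_add, mul_zero, sub_zero, hneg, one_smul] at h
      have hb : b₀ ∈ M := by
        have h' := M.sub_mem (M.sub_mem h ha₁) ha₁
        rwa [add_sub_cancel_left, add_sub_cancel_left] at h'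
      exact hb₀0 ((Submodule.mem_bot F).1 (hR ▸ ⟨hb, hb₀⟩))
    · -- the degenerate case is a plus plane
      obtain ⟨r₀, hr₀, hr₀0⟩ := Submodule.exists_mem_ne_zero_of_ne_bot hR
      have key : ∀ r ∈ M ⊓ M', r ≠ 0 → ∃ y ∈ W, y ≠ 0 ∧ Q y = 0 ∧ polar Q r y = 1 ∧
          ∀ m ∈ M ⊔ M', Q m = polar Q y m := by
        intro r hr hr0
        obtain ⟨y, hy, hry⟩ : ∃ y ∈ W, polar Q r y ≠ 0 := by
          by_contra hc
          push Not at hc
          exact hr0 (hW r (hMW hr.1) hc)
        have hr1 : polar Q r y = 1 := hone _ hry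
        have hperp : ∀ m ∈ M ⊔ M', polar Q r m = 0 := fun m hm => by
          obtain ⟨a, ha, b, hb, rfl⟩ := Submodule.mem_sup.1 hm
          rw [polar_add_right, hm'' ha hr.2, hm' hr.1 hb, add_zero]
        have hzero : ∀ m ∈ M ⊔ M', Q (y + m) = 0 := fun m hm => by
          have hmW : m ∈ W := (sup_le hMW inf_le_left : M ⊔ M' ≤ W) hm
          have h1 : polar Q r (y + m) = 1 := by rw [polar_add_right, hr1, hperp m hm, add_zero]
          refine hsing _ (W.add_mem hy hmW) (fun h => ?_) (fun h => ?_)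
          · rw [hm'' h hr.2] at h1; exact zero_ne_one h1
          · rw [hm' hr.1 h] at h1; exact zero_ne_one h1
        have hQy : Q y = 0 := by simpa using hzero 0 (zero_mem _)
        refine ⟨y, hy, fun h => ?_, hQy, hr1, fun m hm => ?_⟩
        · rw [h, QuadraticMap.polar_zero_right] at hr1
          exact zero_ne_one hr1
        · have h1 := hzero m hm
          rw [QuadraticMap.map_add Q, hQy, zero_add] at h1
          linear_combination h1 - (polar Q y m) * h2
      obtain ⟨y₀, hy₀, hy₀0, hy₀Q, -, hlin⟩ := key r₀ hr₀ hr₀0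
      have hiso : ∀ a ∈ M ⊔ M', ∀ b ∈ M ⊔ M', polar Q a b = 0 := fun a ha b hb => by
        rw [QuadraticMap.polar, hlin _ (add_mem ha hb), hlin _ ha, hlin _ hb, polar_add_right]
        ring
      have hMM' : M ≤ M' := fun a ha =>
        ⟨hMW ha, fun b hb => hiso b (Submodule.mem_sup_left hb) a (Submodule.mem_sup_left ha)⟩
      have hM'M : M' ≤ M := by
        intro b hb
        have hb' : b ∈ orth Q (M' ⊔ orth Q W) := fun y hy => by
          obtain ⟨u, hu, v, hv, rfl⟩ := Submodule.mem_sup.1 hy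
          show polar Q (u + v) b = 0
          rw [polar_add_left, hiso u (Submodule.mem_sup_right hu) b (Submodule.mem_sup_right hb),
            orth_comm hv hb.1, add_zero]
        have h1 : orth Q (M' ⊔ orth Q W) = M := by
          refine (Submodule.eq_of_le_of_finrank_eq (fun a ha y hy => ?_) ?_).symm
          · obtain ⟨u, hu, v, hv, rfl⟩ := Submodule.mem_sup.1 hy
            show polar Q (u + v) a = 0
            rw [polar_add_left, hm'' ha hu, orth_comm hv (hMW ha), add_zero]
          · have h2 := finrank_orth hQ (M' ⊔ orth Q W)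
            have h3 := Submodule.finrank_sup_add_finrank_inf_eq M' (orth Q W)
            have h4 : M' ⊓ orth Q W = ⊥ := eq_bot_iff.2 fun x hx =>
              (Submodule.mem_bot F).2 (hW x hx.1.1 fun y hy => orth_comm hx.2 hy)
            rw [h4, finrank_bot] at h3
            have h5 := finrank_orth hQ W
            omega
        exact h1 ▸ hb'
      have hQ1 : ∀ r ∈ M, r ≠ 0 → Q r = 1 := fun r hr hr0 => by
        obtain ⟨y, -, -, -, hry, hl⟩ := key r ⟨hr, hMM' hr⟩ hr0
        rw [hl r (Submodule.mem_sup_left hr), polar_comm, hry]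
      have hspan : M = Submodule.span F {r₀} := by
        refine le_antisymm (fun r hr => ?_)
          ((Submodule.span_singleton_le_iff_mem _ _).2 hr₀.1)
        by_cases hr0 : r = 0
        · rw [hr0]; exact zero_mem _
        by_cases hrr : r + r₀ = 0
        · rw [eq_neg_of_add_eq_zero_left hrr]
          exact neg_mem (Submodule.mem_span_singleton_self _)
        · exfalso
          have h := hQ1 _ (M.add_mem hr hr₀.1) hrr
          rw [QuadraticMap.map_add Q, hQ1 r hr hr0, hQ1 r₀ hr₀.1 hr₀0,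
            hiso r (Submodule.mem_sup_left hr) r₀ (Submodule.mem_sup_left hr₀.1)] at h
          exact one_ne_zero (show (1 : F) = 0 by linear_combination h)
      have hMeq : M = M' := le_antisymm hMM' hM'M
      rw [← hMeq, hspan, finrank_span_singleton hr₀0] at hdim
      exact hex ⟨by omega, hdim.symm, y₀, hy₀, hy₀0, hy₀Q⟩
  · -- three scalars
    have h2 : (2 : F) ≠ 0 := fun h => by
      have h1 : (Fintype.card F : F) = 0 := FiniteField.cast_card_eq_zero F
      rw [hq] at h1
      push_cast at h1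
      exact one_ne_zero (show (1 : F) = 0 by linear_combination h1 - h)
    have hsum : ∀ y ∈ W, y ∈ M ⊔ M' := fun y hy => by
      by_cases hyM : y ∈ M
      · exact Submodule.mem_sup_left hyM
      by_cases hyM' : y ∈ M'
      · exact Submodule.mem_sup_right hyM'
      obtain ⟨m, hm, hb⟩ := hexm y hy hyM'
      have hQy := hsing y hy hyM hyM'
      obtain ⟨t, ht⟩ : ∃ t : F, t * polar Q y m + t * t * Q m ≠ 0 := by
        by_contra hc
        push Not at hc
        have h3 : 2 * polar Q y m = 0 := by linear_combination hc 1 - hc (-1)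
        exact hb (by rw [polar_comm]; exact (mul_eq_zero.1 h3).resolve_left h2)
      have h1 := hline y hy hyM hQy m hm t ht
      exact Submodule.mem_sup.2 ⟨-(t • m), M.neg_mem (M.smul_mem t hm), _, h1, by abel⟩
    have hR : M ⊓ M' = ⊥ := eq_bot_iff.2 fun x hx =>
      (Submodule.mem_bot F).2 (hsupinf x hx hsum)
    have hspan : ∀ {X X' : Submodule F V}, (∀ x ∈ X, x ≠ 0 → ∀ y ∈ X', y ≠ 0 → Q x = -Q y) →
        ∀ {x₀ y₀ : V}, x₀ ∈ X → y₀ ∈ X' → y₀ ≠ 0 → Q x₀ ≠ 0 → X = Submodule.span F {x₀} := by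
      intro X X' hc x₀ y₀ hx₀ hy₀ hy₀0 hQx
      have hx₀0 : x₀ ≠ 0 := fun h => hQx (by rw [h, QuadraticMap.map_zero])
      refine le_antisymm (fun x hx => ?_) ((Submodule.span_singleton_le_iff_mem _ _).2 hx₀)
      by_contra hxs
      have hx0 : x ≠ 0 := fun h => hxs (by rw [h]; exact zero_mem _)
      have hp : x + x₀ ≠ 0 := fun h => hxs (by
        rw [eq_neg_of_add_eq_zero_left h]
        exact neg_mem (Submodule.mem_span_singleton_self _))
      have hm : x + (-1 : F) • x₀ ≠ 0 := fun h => hxs (by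
        rw [eq_neg_of_add_eq_zero_left h]
        exact neg_mem (Submodule.smul_mem _ _ (Submodule.mem_span_singleton_self _)))
      have e1 := hc _ (X.add_mem hx hx₀) hp y₀ hy₀ hy₀0
      have e2 := hc _ (X.add_mem hx (X.smul_mem _ hx₀)) hm y₀ hy₀ hy₀0
      rw [QuadraticMap.map_add Q, hc x hx hx0 y₀ hy₀ hy₀0, hc x₀ hx₀ hx₀0 y₀ hy₀ hy₀0] at e1
      rw [QuadraticMap.map_add Q, QuadraticMap.map_smul, polar_smul_right,
        hc x hx hx0 y₀ hy₀ hy₀0, hc x₀ hx₀ hx₀0 y₀ hy₀ hy₀0] at e2
      simp only [smul_eq_mul] at e2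
      have h3 : 2 * Q x₀ = 0 := by
        rw [hc x₀ hx₀ hx₀0 y₀ hy₀ hy₀0]
        linear_combination e1 + e2
      exact hQx ((mul_eq_zero.1 h3).resolve_left h2)
    obtain ⟨a, ha, hQa⟩ := hMQ hR
    have ha0 : a ≠ 0 := fun h => hQa (by rw [h, QuadraticMap.map_zero])
    obtain ⟨b, hb, hb0⟩ := Submodule.exists_mem_ne_zero_of_ne_bot hne'
    have hQb : Q b ≠ 0 := fun h => hQa (by rw [honly ha hb hR ha0 hb0, h, neg_zero])
    have e1 := hspan (X := M) (X' := M') (fun x hx hx0 y hy hy0 => honly hx hy hR hx0 hy0)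
      ha hb hb0 hQa
    have e2 := hspan (X := M') (X' := M)
      (fun x hx hx0 y hy hy0 => by rw [honly hy hx hR hy0 hx0, neg_neg]) hb ha ha0 hQb
    rw [e1, e2, finrank_span_singleton ha0, finrank_span_singleton hb0] at hdim
    refine hex ⟨by omega, hdim.symm, a + b, W.add_mem (hMW ha) hb.1, fun h => ?_, ?_⟩
    · refine ha0 ((Submodule.mem_bot F).1 (hR ▸ ⟨ha, ?_⟩))
      rw [eq_neg_of_add_eq_zero_left h]
      exact neg_mem hb
    · rw [QuadraticMap.map_add Q, hm' ha hb, honly ha hb hR ha0 hb0]; ring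

end invariant

section anti

variable [Fintype F] [FiniteDimensional F V]

/-- An even-dimensional non-degenerate space has an anti-isometry. -/
theorem exists_anti {P : Submodule F V} (hP : ∀ x ∈ P, (∀ y ∈ P, polar Q x y = 0) → x = 0)
    (heven : Even (finrank F P)) :
    ∃ J : P →ₗ[F] V, (∀ x, J x ∈ P) ∧ ∀ x : P, Q (J x) = -Q x.1 := by
  by_cases h2 : (2 : F) = 0
  · exact ⟨P.subtype, fun x => x.2, fun x => by
      show Q x.1 = -Q x.1
      linear_combination (Q x.1) * h2⟩
  haveI : Invertible (2 : F) := invertibleOfNonzero h2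
  set B : LinearMap.BilinForm F P := polarBilin (Q.comp P.subtype) with hB
  have hBe : ∀ x y : P, B x y = polar Q x.1 y.1 := fun x y => by simp [hB, polar]
  obtain ⟨b, hb⟩ := LinearMap.BilinForm.exists_orthogonal_basis (B := B)
    ⟨fun x y => by simp only [hBe, RingHom.id_apply, polar_comm Q x.1]⟩
  obtain ⟨j, hj⟩ := heven
  let σ : Fin (finrank F P) ≃ Fin j × Fin 2 := (finCongr (by omega)).trans finProdFinEquiv.symm
  set v : Module.Basis (Fin j × Fin 2) F P := b.reindex σ with hv
  have horth : ∀ s t, s ≠ t → polar Q (v s).1 (v t).1 = 0 := fun s t hst => by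
    rw [← hBe, hv, Module.Basis.reindex_apply, Module.Basis.reindex_apply]
    exact hb fun h => hst (σ.symm.injective h)
  have hne : ∀ s, Q (v s).1 ≠ 0 := fun s h => v.ne_zero s (Subtype.ext (hP _ (v s).2 fun y hy => by
    have : B (v s) = 0 := v.ext fun t => by
      rw [hBe, LinearMap.zero_apply]
      by_cases hst : s = t
      · rw [← hst, ReflectionGen.pol_self, h, mul_zero]
      · exact horth s t hst
    have h' := LinearMap.congr_fun this ⟨y, hy⟩
    rwa [hBe] at h'))
  have hbin : ∀ i : Fin j, ∃ x y : F,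
      x * x * Q (v (i, 0)).1 + y * y * Q (v (i, 1)).1 = -Q (v (i, 0)).1 := fun i => by
    obtain ⟨x, y, hxy⟩ := FiniteForms.exists_rep_one h2 (a := (-1 : F))
      (b := -(Q (v (i, 1)).1 / Q (v (i, 0)).1)) (neg_ne_zero.2 one_ne_zero)
      (neg_ne_zero.2 (div_ne_zero (hne _) (hne _)))
    refine ⟨x, y, ?_⟩
    have := hne (i, 0)
    field_simp at hxy
    linear_combination (-1 : F) * hxy
  choose x y hxy using hbin
  let img : Fin j × Fin 2 → V := fun s => if s.2 = 0 then
      x s.1 • (v (s.1, 0)).1 + y s.1 • (v (s.1, 1)).1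
    else (-(Q (v (s.1, 1)).1 * y s.1 / Q (v (s.1, 0)).1)) • (v (s.1, 0)).1 + x s.1 • (v (s.1, 1)).1
  let J : P →ₗ[F] V := v.constr F img
  refine ⟨J, ?_, ?_⟩
  · intro p
    have : LinearMap.range J ≤ P := by
      rw [Module.Basis.constr_range, Submodule.span_le]
      rintro _ ⟨s, rfl⟩
      simp only [img]
      split_ifs <;> exact P.add_mem (P.smul_mem _ (v _).2) (P.smul_mem _ (v _).2)
    exact this (LinearMap.mem_range_self J p)
  · have hpol : ∀ s t, polar Q (img s) (img t) = -polar Q (v s).1 (v t).1 := by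
      rintro ⟨i, a⟩ ⟨k, c⟩
      by_cases hik : i = k
      · subst hik
        have h01 := horth (i, 0) (i, 1) (by simp)
        have h10 := horth (i, 1) (i, 0) (by simp)
        have := hne (i, 0)
        fin_cases a <;> fin_cases c <;>
          simp [img, polar_add_left, polar_add_right, polar_smul_left, polar_smul_right,
            ReflectionGen.pol_self, QuadraticMap.map_add Q, QuadraticMap.map_smul, h01, h10]
        · linear_combination 2 * hxy i
        · field_simp; ring
        · field_simp; ring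
        · field_simp
          linear_combination Q (v (i, 1)).1 * hxy i
      · have h0 : ∀ a c : Fin 2, polar Q (v (i, a)).1 (v (k, c)).1 = 0 :=
          fun a c => horth _ _ (by simp [hik])
        simp only [img]
        split_ifs <;> simp [polar_add_left, polar_add_right, polar_smul_left, polar_smul_right, h0]
    intro p
    have key : (polarBilin Q).compl₁₂ J J = -((polarBilin Q).compl₁₂ P.subtype P.subtype) :=
      LinearMap.ext_basis v v fun s t => by
        simp only [LinearMap.compl₁₂_apply, LinearMap.neg_apply, polarBilin_apply_apply, J,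
          Module.Basis.constr_basis, Submodule.subtype_apply]
        exact hpol s t
    have h := LinearMap.congr_fun₂ key p p
    simp only [LinearMap.compl₁₂_apply, LinearMap.neg_apply, polarBilin_apply_apply,
      Submodule.subtype_apply, ReflectionGen.pol_self] at h
    exact mul_left_cancel₀ h2 (by rw [h]; ring)

end anti

end CfsgLib.MaxSub.Orth
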