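/-
Stabilisers of totally singular subspaces, of non-degenerate subspaces and of non-singular points
are maximal in `Ω`.
-/
import Cfsg.Agent.Lib.MaxSub.SubspaceMaximalOrthBasic

set_option autoImplicit false
set_option maxHeartbeats 400000

namespace CfsgLib.MaxSub.Orth

open QuadraticMap Module CfsgLib.WittExtension CfsgLib.SpinorNorm CfsgLib.Eichler
open CfsgLib.OmegaSimple (eich_conj eich_scale eich_mem)
open scoped Pointwise

variable {F V : Type*} [Field F] [AddCommGroup V] [Module F V] [FiniteDimensional F V]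

/-- The stabiliser of a subspace among the isometries. -/
def St (Q : QuadraticForm F V) (W : Submodule F V) : Subgroup (quadIso Q) where
  carrier := {g | ∀ x, x ∈ W ↔ g.1 x ∈ W}
  one_mem' _ := Iff.rfl
  mul_mem' {a b} ha hb x := (hb x).trans (ha (b.1 x))
  inv_mem' {a} ha x := by
    rw [ha (a⁻¹.1 x)]
    show x ∈ W ↔ a.1 (a.1.symm x) ∈ W
    rw [LinearEquiv.apply_symm_apply]

variable {Q : QuadraticForm F V}

theorem mem_St {W : Submodule F V} {g : quadIso Q} (h : ∀ x ∈ W, g.1 x ∈ W) : g ∈ St Q W := by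
  intro x
  refine ⟨h x, fun hx => ?_⟩
  have hmap : W.map (g.1 : V →ₗ[F] V) = W :=
    Submodule.eq_of_le_of_finrank_eq (Submodule.map_le_iff_le_comap.2 h)
      (LinearEquiv.finrank_map_eq g.1 W)
  obtain ⟨y, hy, hye⟩ := Submodule.mem_map.1 (hmap.ge hx)
  rwa [← g.1.injective hye]

theorem exists_moved {W : Submodule F V} {g : quadIso Q} (h : g ∉ St Q W) :
    ∃ x ∈ W, g.1 x ∉ W := by
  by_contra hc
  push Not at hc
  exact h (mem_St hc)

theorem maps_of_mem {W : Submodule F V} {g : quadIso Q} (h : g ∈ St Q W) {x : V} (hx : x ∈ W) :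
    g.1 x ∈ W := (h x).1 hx

theorem St_orth {W : Submodule F V} {g : quadIso Q} (h : g ∈ St Q W) : g ∈ St Q (orth Q W) := by
  refine mem_St fun x hx y hy => ?_
  show polar Q y (g.1 x) = 0
  rw [← g.1.apply_symm_apply y, OrthOrder.polar_map g.2]
  exact hx _ ((h _).2 (by rwa [LinearEquiv.apply_symm_apply]))

theorem St_orth_eq (hQ : (polarBilin Q).Nondegenerate) (W : Submodule F V) :
    St Q (orth Q W) = St Q W :=
  le_antisymm (fun g h => orth_orth hQ W ▸ St_orth h) fun g h => St_orth h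

/-- Intermediate subgroups not in the stabiliser are the whole group. -/
def MaxStab (Q : QuadraticForm F V) (W : Submodule F V) : Prop :=
  ¬ Subgroup.closure (Sieg Q) ≤ St Q W ∧
    ∀ K ≤ Subgroup.closure (Sieg Q), St Q W ⊓ Subgroup.closure (Sieg Q) ≤ K →
      ∀ g ∈ K, g ∉ St Q W → Subgroup.closure (Sieg Q) ≤ K

/-- The Eichler transformation at `e` with vector `a` lies in `K`. -/
def InA (K : Subgroup (quadIso Q)) (e a : V) : Prop := ∀ g, IsEich Q e a g → g ∈ K

/-- All Eichler transformations at `e` lie in `K`. -/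
def Full (K : Subgroup (quadIso Q)) (e : V) : Prop := ∀ a, polar Q e a = 0 → InA K e a

variable {K : Subgroup (quadIso Q)}

theorem InA.conj {e a : V} (h : InA K e a) {k : quadIso Q} (hk : k ∈ K) :
    InA K (k.1 e) (k.1 a) := by
  intro g hg
  have h1 := eich_conj Q hg k⁻¹
  have e1 : ∀ y, k⁻¹.1 (k.1 y) = y := k.1.symm_apply_apply
  rw [e1, e1, inv_inv] at h1
  have h2 := mul_mem (mul_mem hk (h _ h1)) (inv_mem hk)
  rwa [show k * (k⁻¹ * g * k) * k⁻¹ = g by group] at h2

theorem InA.add {e a b : V} (he : Q e = 0) (ha : polar Q e a = 0) (hb : polar Q e b = 0)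
    (h1 : InA K e a) (h2 : InA K e b) : InA K e (a + b) := by
  intro g hg
  obtain ⟨g₁, hg₁⟩ := exists_eich Q he ha
  obtain ⟨g₂, hg₂⟩ := exists_eich Q he hb
  rw [eich_unique Q hg (eich_add Q he ha hb hg₁ hg₂)]
  exact mul_mem (h1 _ hg₁) (h2 _ hg₂)

theorem inA_zero (e : V) : InA K e 0 := fun g hg => by
  rw [eich_unique Q hg (eich_zero Q e)]; exact one_mem _

theorem Full.conj {e : V} (h : Full K e) {k : quadIso Q} (hk : k ∈ K) : Full K (k.1 e) := by
  intro a ha
  have e1 : k.1 (k.1.symm a) = a := k.1.apply_symm_apply a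
  rw [← e1]
  refine (h _ ?_).conj hk
  rwa [← OrthOrder.polar_map k.2, e1]

theorem Full.of_smul {e : V} {c : F} (hc : c ≠ 0) (he : Q e = 0) (h : Full K (c • e)) :
    Full K e := by
  intro a ha g hg
  have h1 : polar Q (c • e) (c⁻¹ • a) = 0 := by
    rw [polar_smul_left, polar_smul_right, ha]; simp
  obtain ⟨g', hg'⟩ := exists_eich Q (e := c • e) (w := c⁻¹ • a)
    (by rw [QuadraticMap.map_smul, he, smul_zero]) h1
  rw [eich_unique Q hg (by simpa [smul_inv_smul₀ hc] using eich_scale Q c hg')]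
  exact h _ h1 _ hg'

variable [Fintype F] (hQ : (polarBilin Q).Nondegenerate) (hn : 5 ≤ finrank F V)

include hQ hn

/-- Two non-perpendicular centres are enough. -/
theorem le_of_full_pair {e f : V} (he : Q e = 0) (hf : Q f = 0) (hef : polar Q e f ≠ 0)
    (hFe : Full K e) (hFf : Full K f) : Subgroup.closure (Sieg Q) ≤ K := by
  have he0 : e ≠ 0 := fun h => hef (by rw [h, QuadraticMap.polar_zero_left])
  have step : ∀ {x y z : V}, Q x = 0 → Q y = 0 → Q z = 0 → polar Q x y ≠ 0 → polar Q x z ≠ 0 →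
      Full K x → Full K y → Full K z := by
    intro x y z hx hy hz hxy hxz hFx hFy
    set c := polar Q x y * (polar Q x z)⁻¹ with hc
    have hc0 : c ≠ 0 := mul_ne_zero hxy (inv_ne_zero hxz)
    refine Full.of_smul hc0 hz ?_
    set w := (polar Q x y)⁻¹ • (c • z - y) with hw
    have hxw : polar Q x w = 0 := by
      rw [hw, polar_smul_right, sub_eq_add_neg, polar_add_right, polar_neg_right, polar_smul_right,
        hc]
      simp only [smul_eq_mul]
      field_simp
      ring
    obtain ⟨g, hg⟩ := exists_eich Q hx hxw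
    have hgy : g.1 y = c • z := by
      set κ := -(polar Q w y) - Q w * polar Q x y
      have hga : g.1 y = c • z + κ • x := by
        rw [hg y, hw, smul_smul, mul_inv_cancel₀ hxy, one_smul]
        abel
      have hq := g.2 y
      rw [hga, QuadraticMap.map_add Q (c • z), QuadraticMap.map_smul, QuadraticMap.map_smul, hz, hx,
        polar_smul_left, polar_smul_right, polar_comm Q z x, hy, hc] at hq
      simp only [smul_eq_mul, mul_zero, zero_add] at hq
      field_simp at hq
      simp [hxy, hxz] at hq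
      rw [hga, hq, zero_smul, add_zero]
    rw [← hgy]
    exact hFy.conj (hFx w hxw g hg)
  have hall : ∀ z : V, z ≠ 0 → Q z = 0 → Full K z := fun z hz0 hz => by
    obtain ⟨y, hy, hey, hyz⟩ := OmegaSimple.singular_avoid' Q hQ (by omega) he0 he hz0
    have hey' : polar Q e y ≠ 0 := by rw [hey]; exact one_ne_zero
    have hFy := step he hf hy hef hey' hFe hFf
    exact step hy he hz (by rwa [polar_comm]) hyz hFy hFe
  rw [Subgroup.closure_le]
  rintro g ⟨u, v, c, hu, hv, huv, hg⟩
  have hg' := (sieg_eich Q hv g).1 hg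
  by_cases hu0 : u = 0
  · have : g = 1 := Subtype.ext (LinearEquiv.ext fun x => by
      rw [hg x, hu0, QuadraticMap.polar_zero_left]; simp)
    rw [this]; exact one_mem _
  · exact hall u hu0 hu _ (by rw [polar_smul_right, huv, smul_zero]) g hg'

/-- `Ω` is not contained in a stabiliser. -/
theorem not_le_St {W : Submodule F V} (h0 : W ≠ ⊥) (h1 : W ≠ ⊤) :
    ¬ Subgroup.closure (Sieg Q) ≤ St Q W := by
  intro hle
  obtain ⟨w, hw, hw0⟩ := Submodule.exists_mem_ne_zero_of_ne_bot h0
  obtain ⟨e₀, he₀0, he₀⟩ := FiniteForms.exists_singular Q (by omega)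
  obtain ⟨e, he, hee, hew⟩ := OmegaSimple.singular_avoid' Q hQ (by omega) he₀0 he₀ hw0
  have he0 : e ≠ 0 := fun h => hew (by rw [h, QuadraticMap.polar_zero_left])
  obtain ⟨f, -, -, -, -, a₁, -, a₂, -, ha₁, ha₂, ha⟩ := pair_data (P := (⊤ : Submodule F V))
    (fun x _ h => hQ.1 x fun y => h y trivial) (by rw [finrank_top]; exact hn)
    Submodule.mem_top he0 he
  set S := LinearMap.ker (polarBilin Q e) with hS
  obtain ⟨heW, hSW⟩ := eich_core (Q := Q) (W := W) (S := S) he hw hew (fun a h => h) ha₁ ha₂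
    (by rw [ha]; exact one_ne_zero)
    (fun a hae g hg y hy => maps_of_mem (hle (eich_mem Q hQ hn he0 he hae hg)) hy)
  refine h1 (Submodule.eq_top_iff'.2 fun y => ?_)
  have h2 := W.add_mem (hSW (x := y - (polar Q e y / polar Q e w) • w) (by
    show polar Q e _ = 0
    rw [sub_eq_add_neg, polar_add_right, polar_neg_right, polar_smul_right, smul_eq_mul,
      div_mul_cancel₀ _ hew, add_neg_cancel])) (W.smul_mem (polar Q e y / polar Q e w) hw)
  rwa [sub_add_cancel] at h2

section trick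

variable {W : Submodule F V} (hHK : St Q W ⊓ Subgroup.closure (Sieg Q) ≤ K)

include hHK

theorem inA_of_maps {e a : V} (he0 : e ≠ 0) (he : Q e = 0) (hea : polar Q e a = 0)
    (h : ∀ x ∈ W, x + (polar Q e x • a + (-(polar Q a x) - Q a * polar Q e x) • e) ∈ W) :
    InA K e a :=
  fun g hg => hHK ⟨mem_St fun x hx => by rw [hg x]; exact h x hx, eich_mem Q hQ hn he0 he hea hg⟩

/-- A centre has its partner as a centre. -/
theorem full_partner {x y a : V} (hx : Q x = 0) (hy : Q y = 0) (hxy : polar Q x y = 1)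
    (hxa : polar Q x a = 0) (hya : polar Q y a = 0) (hQa : Q a ≠ 0)
    (hperp : ∀ w ∈ W, polar Q x w = 0 ∧ polar Q y w = 0 ∧ polar Q a w = 0) (hF : Full K x) :
    Full K y := by
  have hx0 : x ≠ 0 := fun h => by simp [h] at hxy
  have hy0 : y ≠ 0 := fun h => by simp [h] at hxy
  obtain ⟨g₁, hg₁⟩ := exists_eich Q hy hya
  have hxb : polar Q x ((Q a)⁻¹ • a) = 0 := by rw [polar_smul_right, hxa, smul_zero]
  obtain ⟨g₂, hg₂⟩ := exists_eich Q hx hxb
  have m1 : g₁ ∈ K := inA_of_maps hQ hn hHK hy0 hy hya (fun w hw => by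
    obtain ⟨-, h2, h3⟩ := hperp w hw
    rw [h2, h3]; simpa using hw) g₁ hg₁
  have m2 : g₂ ∈ K := inA_of_maps hQ hn hHK hx0 hx hxb (fun w hw => by
    obtain ⟨h1, -, h3⟩ := hperp w hw
    rw [h1, polar_smul_left, h3]; simpa using hw) g₂ hg₂
  have e1 : (g₂ * g₁).1 x = (-Q a) • y := by
    show g₂.1 (g₁.1 x) = _
    rw [hg₁ x, polar_comm Q y x, hxy, polar_comm Q a x, hxa]
    simp only [one_smul, neg_zero, zero_sub, mul_one, map_add, map_smul, hg₂ x, hg₂ a, hg₂ y,
      polar_smul_left, QuadraticMap.map_smul, ReflectionGen.pol_self, hx, hxa, hxy,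
      polar_comm Q a x, polar_comm Q a y, hya, smul_eq_mul]
    match_scalars <;> field_simp <;> ring
  have h := hF.conj (mul_mem m2 m1)
  rw [e1] at h
  exact h.of_smul (neg_ne_zero.2 hQa) hy

end trick

/-- Stabilisers of totally singular subspaces are maximal in `Ω`. -/
theorem maxStab_singular {W : Submodule F V} (h0 : W ≠ ⊥) (hW : ∀ x ∈ W, Q x = 0)
    (hdim : 2 * (finrank F W + 1) ≠ finrank F V ∨
      ∀ S : Submodule F V, (∀ x ∈ S, Q x = 0) → 2 * finrank F S ≠ finrank F V) :
    MaxStab Q W := by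
  have h1 : W ≠ ⊤ := fun h => by
    have := two_mul_finrank_sing hQ hW
    rw [h, finrank_top] at this
    omega
  refine ⟨not_le_St hQ hn h0 h1, fun K _ hHK g hg hgW => ?_⟩
  obtain ⟨w, hw, hgw⟩ := exists_moved hgW
  set x := g.1 w with hx
  have hWfull : ∀ e ∈ W, Full K e := fun e he a hea => by
    by_cases he0 : e = 0
    · subst he0
      intro t ht
      rw [show t = 1 from Subtype.ext (LinearEquiv.ext fun z => by
        rw [ht z, QuadraticMap.polar_zero_left]; simp)]
      exact one_mem _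
    · refine inA_of_maps hQ hn hHK he0 (hW e he) hea fun z hz => ?_
      rw [polar_eq_zero_of_sing hW he hz, zero_smul, zero_add]
      exact W.add_mem hz (W.smul_mem _ he)
  have hxF : Full K x := (hWfull w hw).conj hg
  have hQx : Q x = 0 := by rw [hx, g.2, hW w hw]
  by_cases hxP : x ∈ orth Q W
  swap
  · rw [mem_orth] at hxP
    push Not at hxP
    obtain ⟨y, hy, hyx⟩ := hxP
    exact le_of_full_pair hQ hn (hW y hy) hQx hyx (hWfull y hy) hxF
  obtain ⟨p, hp, hpx⟩ : ∃ p ∈ orth Q W, polar Q p x ≠ 0 := by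
    by_contra hc
    push Not at hc
    exact hgw (orth_orth hQ W ▸ (hc : x ∈ orth Q (orth Q W)))
  set p₁ := (polar Q p x)⁻¹ • p with hp1
  have hp1x : polar Q x p₁ = 1 := by
    rw [hp1, polar_smul_right, polar_comm Q x p, smul_eq_mul, inv_mul_cancel₀ hpx]
  have hp₁P : p₁ ∈ orth Q W := Submodule.smul_mem _ _ hp
  clear_value p₁
  set y := p₁ + (-Q p₁) • x with hy'
  have hyP : y ∈ orth Q W := add_mem hp₁P (Submodule.smul_mem _ _ hxP)
  have hQy : Q y = 0 := by
    rw [hy', QuadraticMap.map_add Q, QuadraticMap.map_smul, hQx, polar_smul_right,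
      polar_comm Q p₁ x, hp1x]
    simp
  have hxy : polar Q x y = 1 := by
    rw [hy', polar_add_right, polar_smul_right, ReflectionGen.pol_self, hQx, hp1x]; simp
  obtain ⟨a, haP, hxa, hya, hQa⟩ :
      ∃ a ∈ orth Q W, polar Q x a = 0 ∧ polar Q y a = 0 ∧ Q a ≠ 0 := by
    by_contra hc
    push Not at hc
    set U := orth Q W ⊓ LinearMap.ker (polarBilin Q x) ⊓ LinearMap.ker (polarBilin Q y) with hU
    have hUs : ∀ u ∈ U, Q u = 0 := fun u hu => hc u hu.1.1 hu.1.2 hu.2
    have hsx : ∀ (S : Submodule F V), (∀ u ∈ S, Q u = 0) → (∀ u ∈ S, polar Q x u = 0) →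
        ∀ u ∈ S ⊔ Submodule.span F {x}, Q u = 0 := by
      intro S hS hSx u hu
      obtain ⟨a, ha, b, hb, rfl⟩ := Submodule.mem_sup.1 hu
      obtain ⟨c, rfl⟩ := Submodule.mem_span_singleton.1 hb
      rw [QuadraticMap.map_add Q, QuadraticMap.map_smul, hS a ha, hQx, polar_smul_right,
        polar_comm, hSx a ha]
      simp
    have hx0 : x ≠ 0 := fun h => by simp [h] at hxy
    have hrank : ∀ S : Submodule F V, x ∉ S →
        finrank F (S ⊔ Submodule.span F {x} : Submodule F V) = finrank F S + 1 := fun S hxS => by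
      have h1 := Submodule.finrank_sup_add_finrank_inf_eq S (Submodule.span F {x})
      have h2 : S ⊓ Submodule.span F {x} = ⊥ := disjoint_iff.1
        ((Submodule.disjoint_span_singleton' hx0).2 hxS)
      rw [h2, finrank_bot, finrank_span_singleton hx0] at h1
      omega
    have hxW : ∀ u ∈ W, polar Q x u = 0 := fun u hu => orth_comm hxP hu
    have hS1 := two_mul_finrank_sing hQ (hsx W hW hxW)
    have hS2 := two_mul_finrank_sing hQ (hsx U hUs fun u hu => hu.1.2)
    rw [hrank W hgw] at hS1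
    rw [hrank U fun h => one_ne_zero (hxy.symm.trans ((polar_comm Q x y).trans h.2))] at hS2
    have h3 : finrank F (orth Q W) ≤ finrank F U + 2 := by
      have e1 := finrank_inf_ker (orth Q W) (polarBilin Q x)
      have e2 := finrank_inf_ker (orth Q W ⊓ LinearMap.ker (polarBilin Q x)) (polarBilin Q y)
      rw [hU]
      omega
    have h4 := finrank_orth hQ W
    have heq : 2 * (finrank F W + 1) = finrank F V := by omega
    rcases hdim with h | h
    · exact h heq
    · exact h _ (hsx W hW hxW) (by rw [hrank W hgw]; exact heq)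
  exact le_of_full_pair hQ hn hQx hQy (by rw [hxy]; exact one_ne_zero) hxF
    (full_partner hQ hn hHK hQx hQy hxy hxa hya hQa
      (fun z hz => ⟨orth_comm hxP hz, orth_comm hyP hz, orth_comm haP hz⟩) hxF)

/-- Stabilisers of non-singular points are maximal in `Ω` in characteristic two. -/
theorem maxStab_point (h2 : (2 : F) = 0) (hn7 : 7 ≤ finrank F V) {v : V} (hv : Q v ≠ 0) :
    MaxStab Q (Submodule.span F {v}) := by
  have hv0 : v ≠ 0 := fun h => hv (by rw [h, QuadraticMap.map_zero])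
  have hvv : polar Q v v = 0 := by rw [ReflectionGen.pol_self, h2, zero_mul]
  have h1 : Submodule.span F {v} ≠ ⊤ := fun h => by
    have := finrank_span_singleton (K := F) hv0
    rw [h, finrank_top] at this
    omega
  refine ⟨not_le_St hQ hn (by simpa using hv0) h1, fun K _ hHK g hg hgW => ?_⟩
  set v' := g.1 v with hv'
  have hQv' : Q v' = Q v := g.2 v
  have hv'v : v' ∉ Submodule.span F {v} := fun h => hgW (mem_St fun x hx => by
    obtain ⟨c, rfl⟩ := Submodule.mem_span_singleton.1 hx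
    rw [map_smul]
    exact Submodule.smul_mem _ _ h)
  have hperpv : ∀ {a : V}, polar Q v a = 0 → ∀ w ∈ Submodule.span F {v}, polar Q a w = 0 :=
    fun ha w hw => by
      obtain ⟨c, rfl⟩ := Submodule.mem_span_singleton.1 hw
      rw [polar_smul_right, polar_comm, ha, smul_zero]
  have hfix : ∀ {e a : V}, e ≠ 0 → Q e = 0 → polar Q e a = 0 → polar Q v e = 0 → polar Q v a = 0 →
      InA K e a := fun he0 he hea h1 h2 => inA_of_maps hQ hn hHK he0 he hea fun w hw => by
    rw [hperpv h1 w hw, hperpv h2 w hw]; simpa using hw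
  have hvd : v + v' ≠ 0 := fun h => hv'v (by
    rw [eq_neg_of_add_eq_zero_right h]
    exact neg_mem (Submodule.mem_span_singleton_self v))
  obtain ⟨φ, hφ⟩ := Module.Projective.exists_dual_eq_one F hvd
  obtain ⟨e, hemem, he0, he⟩ := exists_singular_in (Q := Q)
    (S := LinearMap.ker (polarBilin Q v) ⊓ LinearMap.ker (polarBilin Q v') ⊓ LinearMap.ker φ) (by
      have e1 := finrank_inf_ker (LinearMap.ker (polarBilin Q v)) (polarBilin Q v')
      have e2 := finrank_inf_ker
        (LinearMap.ker (polarBilin Q v) ⊓ LinearMap.ker (polarBilin Q v')) φ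
      have e3 := finrank_inf_ker (⊤ : Submodule F V) (polarBilin Q v)
      rw [top_inf_eq, finrank_top] at e3
      omega)
  have hve : polar Q v e = 0 := hemem.1.1
  have hv'e : polar Q v' e = 0 := hemem.1.2
  obtain ⟨a', hea', hv'a', hva'⟩ : ∃ a, polar Q e a = 0 ∧ polar Q v' a = 0 ∧ polar Q v a = 1 := by
    obtain ⟨a, h1, h2, h3⟩ : ∃ a, polar Q e a = 0 ∧ polar Q v' a = 0 ∧ polar Q v a ≠ 0 := by
      by_contra hc
      push Not at hc
      have hmem : v ∈ orth Q (orth Q (Submodule.span F ({e, v'} : Set V))) := by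
        intro a ha
        show polar Q a v = 0
        rw [polar_comm]
        exact hc a (ha e (Submodule.subset_span (by simp))) (ha v' (Submodule.subset_span (by simp)))
      rw [orth_orth hQ] at hmem
      obtain ⟨α, β, hαβ⟩ := Submodule.mem_span_pair.1 hmem
      have hq := congrArg Q hαβ
      rw [QuadraticMap.map_add Q, QuadraticMap.map_smul, QuadraticMap.map_smul, he, polar_smul_left,
        polar_smul_right, polar_comm Q e v', hv'e, hQv'] at hq
      simp only [smul_eq_mul, mul_zero, zero_add, add_zero] at hq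
      have hβ : β = 1 := by
        have h' : (β - 1) * (β - 1) * Q v = 0 := by
          linear_combination hq + (Q v - β * Q v) * h2
        rcases mul_eq_zero.1 h' with h' | h'
        · exact sub_eq_zero.1 (mul_self_eq_zero.1 h')
        · exact absurd h' hv
      rw [hβ, one_smul] at hαβ
      have hφ' : φ (v + v') = 0 := by
        have e1 : v + v' = α • e + (2 : F) • v' := by rw [two_smul, ← add_assoc, hαβ]
        rw [e1, map_add, map_smul, map_smul, h2]
        rw [show φ e = 0 from hemem.2]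
        simp
      exact one_ne_zero (hφ ▸ hφ')
    exact ⟨(polar Q v a)⁻¹ • a, by rw [polar_smul_right, h1, smul_zero],
      by rw [polar_smul_right, h2, smul_zero],
      by rw [polar_smul_right, smul_eq_mul, inv_mul_cancel₀ h3]⟩
  have hgi : g⁻¹.1 v' = v := g.1.symm_apply_apply v
  have hpi : ∀ a, polar Q v (g⁻¹.1 a) = polar Q v' a := fun a => by
    rw [← hgi, OrthOrder.polar_map g⁻¹.2]
  have hA' : ∀ a, polar Q e a = 0 → polar Q v' a = 0 → InA K e a := fun a hea hv'a => by
    have h := (hfix (e := g⁻¹.1 e) (a := g⁻¹.1 a)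
      (fun h => he0 (g⁻¹.1.injective (h.trans g⁻¹.1.map_zero.symm))) (by rw [g⁻¹.2, he])
      (by rw [OrthOrder.polar_map g⁻¹.2, hea]) (by rw [hpi, hv'e]) (by rw [hpi, hv'a])).conj hg
    rwa [show g.1 (g⁻¹.1 e) = e from g.1.apply_symm_apply e,
      show g.1 (g⁻¹.1 a) = a from g.1.apply_symm_apply a] at h
  have hF : Full K e := fun a hea => by
    have h1 : polar Q e (a - polar Q v a • a') = 0 := by
      rw [polar_sub_right, polar_smul_right, hea, hea', smul_zero, sub_zero]
    have h2' : polar Q v (a - polar Q v a • a') = 0 := by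
      rw [polar_sub_right, polar_smul_right, hva', smul_eq_mul, mul_one, sub_self]
    have h3 : polar Q e (polar Q v a • a') = 0 := by rw [polar_smul_right, hea', smul_zero]
    have h4 : polar Q v' (polar Q v a • a') = 0 := by rw [polar_smul_right, hv'a', smul_zero]
    have := (hfix he0 he h1 hve h2').add he h1 h3 (hA' _ h3 h4)
    rwa [sub_add_cancel] at this
  obtain ⟨p, hvp, hep⟩ : ∃ p, polar Q v p = 0 ∧ polar Q e p ≠ 0 := by
    by_contra hc
    push Not at hc
    have hmem : e ∈ orth Q (orth Q (Submodule.span F {v})) := fun a ha => by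
      show polar Q a e = 0
      rw [polar_comm]
      exact hc a (ha v (Submodule.mem_span_singleton_self v))
    rw [orth_orth hQ] at hmem
    obtain ⟨c, hc'⟩ := Submodule.mem_span_singleton.1 hmem
    have hq := congrArg Q hc'
    rw [QuadraticMap.map_smul, he, smul_eq_mul, mul_eq_zero] at hq
    rw [mul_self_eq_zero.1 (hq.resolve_right hv), zero_smul] at hc'
    exact he0 hc'.symm
  set p₁ := (polar Q e p)⁻¹ • p with hp1
  have hep1 : polar Q e p₁ = 1 := by rw [hp1, polar_smul_right, smul_eq_mul, inv_mul_cancel₀ hep]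
  have hvp1 : polar Q v p₁ = 0 := by rw [hp1, polar_smul_right, hvp, smul_zero]
  clear_value p₁
  set y := p₁ + (-Q p₁) • e with hy'
  have hQy : Q y = 0 := by
    rw [hy', QuadraticMap.map_add Q, QuadraticMap.map_smul, he, polar_smul_right,
      polar_comm Q p₁ e, hep1]
    simp
  have hey : polar Q e y = 1 := by
    rw [hy', polar_add_right, polar_smul_right, ReflectionGen.pol_self, he, hep1]; simp
  have hvy : polar Q v y = 0 := by
    rw [hy', polar_add_right, polar_smul_right, hvp1, hve]; simp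
  exact le_of_full_pair hQ hn he hQy (by rw [hey]; exact one_ne_zero) hF
    (full_partner hQ hn hHK he hQy hey (by rw [polar_comm, hve]) (by rw [polar_comm, hvy]) hv
      (fun w hw => ⟨hperpv hve w hw, hperpv hvy w hw, hperpv hvv w hw⟩) hF)

section small

variable {W : Submodule F V} (hW : ∀ x ∈ W, (∀ y ∈ W, polar Q x y = 0) → x = 0)
  (hKG : K ≤ Subgroup.closure (Sieg Q)) (hHK : St Q W ⊓ Subgroup.closure (Sieg Q) ≤ K)

include hW hHK

/-- A centre of the perpendicular with one more Eichler transformation gives all of `Ω`. -/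
theorem le_of_vector (hP4 : 4 ≤ finrank F (orth Q W))
    (hex : ¬ (Fintype.card F ≤ 3 ∧ finrank F W = 2 ∧ ∃ z ∈ W, z ≠ 0 ∧ Q z = 0))
    {e : V} (heP : e ∈ orth Q W) (he0 : e ≠ 0) (he : Q e = 0)
    (hv : ∃ v ∈ W, v ≠ 0 ∧ ∀ c : F, InA K e (c • v)) : Subgroup.closure (Sieg Q) ≤ K := by
  classical
  set P := orth Q W with hPdef
  have hdim : finrank F W + finrank F P = finrank F V := finrank_orth hQ W
  have hinf : ∀ x, x ∈ W → x ∈ P → x = 0 := fun x hx hx' =>
    hW x hx fun y hy => orth_comm hx' hy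
  have hsup : ∀ x, ∃ a ∈ W, ∃ b ∈ P, a + b = x := fun x => by
    have h1 := Submodule.finrank_sup_add_finrank_inf_eq W P
    have h2 : W ⊓ P = ⊥ := eq_bot_iff.2 fun x hx => (Submodule.mem_bot F).2 (hinf x hx.1 hx.2)
    rw [h2, finrank_bot] at h1
    have h3 : W ⊔ P = ⊤ := Submodule.eq_top_of_finrank_eq (by omega)
    exact Submodule.mem_sup.1 (h3 ▸ Submodule.mem_top : x ∈ W ⊔ P)
  have hPn : ∀ x ∈ P, (∀ y ∈ P, polar Q x y = 0) → x = 0 := fun x hx h => hQ.1 x fun z => by
    obtain ⟨a, ha, b, hb, rfl⟩ := hsup z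
    show polar Q x (a + b) = 0
    rw [polar_add_right, orth_comm hx ha, h b hb, add_zero]
  have hPA : ∀ {e a : V}, e ∈ P → a ∈ P → e ≠ 0 → Q e = 0 → polar Q e a = 0 → InA K e a :=
    fun he ha he0 hes hea => inA_of_maps hQ hn hHK he0 hes hea fun w hw => by
      rw [orth_comm he hw, orth_comm ha hw]; simpa using hw
  -- the invariant subspace
  let M : Submodule F V :=
    { carrier := {w | w ∈ W ∧ ∀ c : F, InA K e (c • w)}
      zero_mem' := ⟨W.zero_mem, fun c => by rw [smul_zero]; exact inA_zero e⟩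
      add_mem' := fun {x y} hx hy => ⟨W.add_mem hx.1 hy.1, fun c => by
        rw [smul_add]
        exact (hx.2 c).add he (orth_comm heP (W.smul_mem c hx.1))
          (orth_comm heP (W.smul_mem c hy.1)) (hy.2 c)⟩
      smul_mem' := fun d x hx => ⟨W.smul_mem d hx.1, fun c => by rw [smul_smul]; exact hx.2 _⟩ }
  have hMW : M ≤ W := fun x hx => hx.1
  have hM0 : M ≠ ⊥ := fun h => by
    obtain ⟨v, hv1, hv0, hv2⟩ := hv
    have hvM : v ∈ M := ⟨hv1, hv2⟩
    rw [h, Submodule.mem_bot] at hvM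
    exact hv0 hvM
  have hinv : ∀ k ∈ St Q W, k ∈ Subgroup.closure (Sieg Q) → k.1 e = e → ∀ m ∈ M, k.1 m ∈ M := by
    intro k hkW hkG hke m hm
    refine ⟨maps_of_mem hkW hm.1, fun c => ?_⟩
    have := (hm.2 c).conj (hHK ⟨hkW, hkG⟩)
    rwa [map_smul, hke] at this
  obtain ⟨f, hfP, hf, hef, huniv, -⟩ := pair_data_four hPn hP4 heP he0 he
  have hMeq : M = W := by
    refine invariant_eq hQ hW hMW hM0 ?_ ?_ hex
    · intro u hu hQu m hm
      obtain ⟨v, hv, -, hev, -, hQv⟩ := huniv (Q u) hQu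
      have hQv' : Q v ≠ 0 := by rw [hQv]; exact hQu
      obtain ⟨k, hk, hkv⟩ := OmegaSimple.transitive' Q hQ hn _
        (fun e w he0 he hew g hg => eich_mem Q hQ hn he0 he hew hg) hQu hQv.symm
      have e1 : refl Q hQv' = k * refl Q hQu * k⁻¹ := by
        rw [conj_refl Q k hQu (by rw [hkv]; exact hQv')]
        congr 1
        exact hkv.symm
      set r := refl Q hQu * refl Q hQv' with hr
      have hrG : r ∈ Subgroup.closure (Sieg Q) := by
        have e2 : r = (refl Q hQu * k * (refl Q hQu)⁻¹) * k⁻¹ := by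
          rw [hr, e1, refl_inv Q hQu]; group
        rw [e2]
        exact mul_mem (Subgroup.Normal.conj_mem inferInstance k hk _) (inv_mem hk)
      have hrw : ∀ w ∈ W, r.1 w = w + (-((Q u)⁻¹ * polar Q u w)) • u := fun w hw => by
        show (refl Q hQu).1 ((refl Q hQv').1 w) = _
        rw [refl_apply Q hQv', orth_comm hv hw, mul_zero, neg_zero, zero_smul, add_zero,
          refl_apply]
      have hre : r.1 e = e := by
        show (refl Q hQu).1 ((refl Q hQv').1 e) = _
        rw [refl_apply Q hQv', polar_comm, hev, mul_zero, neg_zero, zero_smul, add_zero,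
          refl_apply, show polar Q u e = 0 from heP u hu, mul_zero, neg_zero, zero_smul, add_zero]
      rw [← hrw m hm.1]
      exact hinv r (mem_St fun w hw => by
        rw [hrw w hw]; exact W.add_mem hw (W.smul_mem _ hu)) hrG hre m hm
    · intro s₁ hs₁ s₂ hs₂ hQ1 hQ2 h12 m hm
      by_cases hs0 : s₁ = 0
      · simp [hs0, hm]
      obtain ⟨k, hk⟩ := exists_eich Q hQ1 h12
      rw [← hk m]
      refine hinv k (mem_St fun w hw => by
        rw [hk w]
        exact W.add_mem hw (W.add_mem (W.smul_mem _ hs₂) (W.smul_mem _ hs₁)))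
        (eich_mem Q hQ hn hs0 hQ1 h12 hk) ?_ m hm
      rw [hk e, show polar Q s₁ e = 0 from heP s₁ hs₁, show polar Q s₂ e = 0 from heP s₂ hs₂]
      simp
  have hF : Full K e := fun z hz => by
    obtain ⟨w, hw, p, hp, rfl⟩ := hsup z
    have h1 : polar Q e w = 0 := orth_comm heP hw
    have h2 : polar Q e p = 0 := by rwa [polar_add_right, h1, zero_add] at hz
    refine InA.add he h1 h2 ?_ (hPA heP hp he0 he h2)
    have := ((hMeq.symm ▸ hw : w ∈ M)).2 1
    rwa [one_smul] at this
  obtain ⟨c, hcP, -, hec, hfc, hQc⟩ := huniv 1 one_ne_zero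
  exact le_of_full_pair hQ hn he hf (by rw [hef]; exact one_ne_zero) hF
    (full_partner hQ hn hHK he hf hef hec hfc (by rw [hQc]; exact one_ne_zero)
      (fun w hw => ⟨orth_comm heP hw, orth_comm hfP hw, orth_comm hcP hw⟩) hF)

/-- An element fixing a centre of the perpendicular and moving `W` gives one more Eichler
transformation. -/
theorem exists_vector (hKG : K ≤ Subgroup.closure (Sieg Q)) (hP4 : 4 ≤ finrank F (orth Q W))
    {s : quadIso Q} (hs : s ∈ K) (hsW : s ∉ St Q W)
    {e : V} (heP : e ∈ orth Q W) (he0 : e ≠ 0) (he : Q e = 0) (hse : s.1 e = e) :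
    ∃ v ∈ W, v ≠ 0 ∧ ∀ c : F, InA K e (c • v) := by
  classical
  set P := orth Q W with hPdef
  have hdim : finrank F W + finrank F P = finrank F V := finrank_orth hQ W
  have hinf : ∀ x, x ∈ W → x ∈ P → x = 0 := fun x hx hx' =>
    hW x hx fun y hy => orth_comm hx' hy
  have hsup : ∀ x, ∃ a ∈ W, ∃ b ∈ P, a + b = x := fun x => by
    have h1 := Submodule.finrank_sup_add_finrank_inf_eq W P
    have h2 : W ⊓ P = ⊥ := eq_bot_iff.2 fun x hx => (Submodule.mem_bot F).2 (hinf x hx.1 hx.2)
    rw [h2, finrank_bot] at h1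
    have h3 : W ⊔ P = ⊤ := Submodule.eq_top_of_finrank_eq (by omega)
    exact Submodule.mem_sup.1 (h3 ▸ Submodule.mem_top : x ∈ W ⊔ P)
  have hPn : ∀ x ∈ P, (∀ y ∈ P, polar Q x y = 0) → x = 0 := fun x hx h => hQ.1 x fun z => by
    obtain ⟨a, ha, b, hb, rfl⟩ := hsup z
    show polar Q x (a + b) = 0
    rw [polar_add_right, orth_comm hx ha, h b hb, add_zero]
  have hPA : ∀ {e a : V}, e ∈ P → a ∈ P → e ≠ 0 → Q e = 0 → polar Q e a = 0 → InA K e a :=
    fun he ha he0 hes hea => inA_of_maps hQ hn hHK he0 hes hea fun w hw => by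
      rw [orth_comm he hw, orth_comm ha hw]; simpa using hw
  by_cases hA : ∃ a ∈ P, polar Q e a = 0 ∧ s.1 a ∉ P
  · obtain ⟨a, haP, hea, hsa⟩ := hA
    obtain ⟨w, hw, p, hp, hwp⟩ := hsup (s.1 a)
    have hep : polar Q e p = 0 := by
      have h1 : polar Q e (s.1 a) = 0 := by
        conv_lhs => rw [← hse]
        rw [OrthOrder.polar_map s.2, hea]
      rwa [← hwp, polar_add_right, orth_comm heP hw, zero_add] at h1
    refine ⟨w, hw, fun h => hsa (by rw [← hwp, h, zero_add]; exact hp), fun c => ?_⟩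
    have h1 : polar Q e (c • a) = 0 := by rw [polar_smul_right, hea, smul_zero]
    have h2 : polar Q e ((-c) • p) = 0 := by rw [polar_smul_right, hep, smul_zero]
    have h3 : polar Q e (s.1 (c • a)) = 0 := by
      conv_lhs => rw [← hse]
      rw [OrthOrder.polar_map s.2, h1]
    have hAs : InA K e (s.1 (c • a)) := by
      have := (hPA heP (P.smul_mem c haP) he0 he h1).conj hs
      rwa [hse] at this
    have := hAs.add he h3 h2 (hPA heP (P.smul_mem _ hp) he0 he h2)
    rw [map_smul, ← hwp] at this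
    convert this using 1
    module
  push Not at hA
  obtain ⟨f, hfP, hf, hef, -, -⟩ := pair_data_four hPn hP4 heP he0 he
  have hmap : (P ⊓ LinearMap.ker (polarBilin Q e)).map (s.1 : V →ₗ[F] V) =
      P ⊓ LinearMap.ker (polarBilin Q e) := by
    refine Submodule.eq_of_le_of_finrank_eq ?_ (LinearEquiv.finrank_map_eq _ _)
    rintro _ ⟨a, ha, rfl⟩
    refine ⟨hA a ha.1 ha.2, ?_⟩
    show polar Q e (s.1 a) = 0
    conv_lhs => rw [← hse]
    rw [OrthOrder.polar_map s.2]
    exact ha.2
  -- the image of `W` lies in `W + F e`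
  have hsw : ∀ w ∈ W, ∃ w' ∈ W, ∃ l : F, s.1 w = w' + l • e := by
    intro w hw
    have hperp : ∀ b ∈ P, polar Q e b = 0 → polar Q b (s.1 w) = 0 := fun b hb heb => by
      obtain ⟨a, ha, hab⟩ := hmap.ge (show b ∈ P ⊓ LinearMap.ker (polarBilin Q e) from ⟨hb, heb⟩)
      rw [← hab]
      show polar Q (s.1 a) (s.1 w) = 0
      rw [OrthOrder.polar_map s.2]
      exact orth_comm ha.1 hw
    obtain ⟨w', hw', p, hp, hwp⟩ := hsup (s.1 w)
    refine ⟨w', hw', polar Q f p, ?_⟩
    rw [← hwp]
    congr 1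
    refine sub_eq_zero.1 (hPn _ (P.sub_mem hp (P.smul_mem _ heP)) fun b hb => ?_)
    have hb0 : polar Q e (b - polar Q e b • f) = 0 := by
      rw [polar_sub_right, polar_smul_right, hef, smul_eq_mul, mul_one, sub_self]
    have h1 := hperp _ (P.sub_mem hb (P.smul_mem _ hfP)) hb0
    rw [← hwp, polar_add_right, orth_comm (P.sub_mem hb (P.smul_mem _ hfP)) hw', zero_add,
      polar_sub_left, polar_smul_left, smul_eq_mul] at h1
    rw [polar_sub_left, polar_smul_left, polar_comm Q p b, smul_eq_mul]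
    linear_combination h1
  choose w' hw' l hl using hsw
  -- the vector of the functional
  let B : W →ₗ[F] Module.Dual F W := ((polarBilin Q).comp W.subtype).compl₂ W.subtype
  have hBe : ∀ u z : W, B u z = polar Q u.1 z.1 := fun u z => rfl
  have hlad : ∀ x y : W, w' x.1 x.2 + w' y.1 y.2 = w' (x + y).1 (x + y).2 ∧
      l x.1 x.2 + l y.1 y.2 = l (x + y).1 (x + y).2 := fun x y => by
    have h : s.1 (x.1 + y.1) = w' (x + y).1 (x + y).2 + l (x + y).1 (x + y).2 • e :=
      hl (x + y).1 (x + y).2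
    rw [map_add, hl x.1 x.2, hl y.1 y.2] at h
    have h' : (w' x.1 x.2 + w' y.1 y.2 - w' (x + y).1 (x + y).2) =
        (l (x + y).1 (x + y).2 - l x.1 x.2 - l y.1 y.2) • e := by
      rw [sub_smul, sub_smul]
      rw [← sub_eq_zero] at h ⊢
      rw [← h]; module
    have h0 : w' x.1 x.2 + w' y.1 y.2 - w' (x + y).1 (x + y).2 = 0 :=
      hinf _ (W.sub_mem (W.add_mem (hw' _ _) (hw' _ _)) (hw' _ _)) (h' ▸ P.smul_mem _ heP)
    refine ⟨sub_eq_zero.1 h0, ?_⟩
    rw [h0, eq_comm, smul_eq_zero] at h'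
    linear_combination -(h'.resolve_right he0)
  have hlsm : ∀ (c : F) (x : W), c • w' x.1 x.2 = w' (c • x).1 (c • x).2 ∧
      c * l x.1 x.2 = l (c • x).1 (c • x).2 := fun c x => by
    have h : s.1 (c • x.1) = w' (c • x).1 (c • x).2 + l (c • x).1 (c • x).2 • e :=
      hl (c • x).1 (c • x).2
    rw [map_smul, hl x.1 x.2] at h
    have h' : c • w' x.1 x.2 - w' (c • x).1 (c • x).2 =
        (l (c • x).1 (c • x).2 - c * l x.1 x.2) • e := by
      rw [sub_smul, mul_smul]
      rw [← sub_eq_zero] at h ⊢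
      rw [← h]; module
    have h0 : c • w' x.1 x.2 - w' (c • x).1 (c • x).2 = 0 :=
      hinf _ (W.sub_mem (W.smul_mem _ (hw' _ _)) (hw' _ _)) (h' ▸ P.smul_mem _ heP)
    refine ⟨sub_eq_zero.1 h0, ?_⟩
    rw [h0, eq_comm, smul_eq_zero] at h'
    linear_combination -(h'.resolve_right he0)
  let T : W →ₗ[F] W :=
    { toFun := fun x => ⟨w' x.1 x.2, hw' _ _⟩
      map_add' := fun x y => Subtype.ext (hlad x y).1.symm
      map_smul' := fun c x => Subtype.ext (hlsm c x).1.symm }
  let L : W →ₗ[F] F :=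
    { toFun := fun x => l x.1 x.2
      map_add' := fun x y => (hlad x y).2.symm
      map_smul' := fun c x => (hlsm c x).2.symm }
  have hTinj : Function.Injective T := (injective_iff_map_eq_zero T).2 fun x hx => by
    have h := hl x.1 x.2
    rw [show w' x.1 x.2 = 0 from congrArg Subtype.val hx, zero_add] at h
    refine Subtype.ext (hinf _ x.2 ?_)
    have he' : s.1 x.1 = s.1 (l x.1 x.2 • e) := by rw [h, map_smul, hse]
    rw [s.1.injective he']
    exact P.smul_mem _ heP
  let Te := LinearEquiv.ofBijective T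
    ⟨hTinj, LinearMap.injective_iff_surjective.1 hTinj⟩
  obtain ⟨v, hv⟩ := (LinearMap.injective_iff_surjective_of_finrank_eq_finrank
    (Subspace.dual_finrank_eq (K := F) (V := W)).symm).1 ((injective_iff_map_eq_zero B).2 fun x hx =>
      Subtype.ext (hW x.1 x.2 fun y hy => by
        rw [← hBe x ⟨y, hy⟩, hx, LinearMap.zero_apply])) (-(L ∘ₗ Te.symm.toLinearMap))
  have hev : polar Q e v.1 = 0 := orth_comm heP v.2
  obtain ⟨E, hE⟩ := exists_eich Q he hev
  have hEw : ∀ w (hw : w ∈ W), s.1 w = E.1 (w' w hw) := fun w hw => by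
    have h1 := LinearMap.congr_fun hv (Te ⟨w, hw⟩)
    rw [LinearMap.neg_apply, LinearMap.comp_apply, LinearEquiv.coe_coe,
      LinearEquiv.symm_apply_apply, hBe] at h1
    have h2 : polar Q v.1 (w' w hw) = -l w hw := h1
    rw [hl w hw, hE (w' w hw), orth_comm heP (hw' w hw), h2]
    simp
  have hEG : E ∈ Subgroup.closure (Sieg Q) := eich_mem Q hQ hn he0 he hev hE
  have hst : E⁻¹ * s ∈ St Q W := mem_St fun w hw => by
    show E.1.symm (s.1 w) ∈ W
    rw [hEw w hw, LinearEquiv.symm_apply_apply]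
    exact hw' w hw
  have hEK : E ∈ K := by
    have h0 : E⁻¹ * s ∈ K := hHK ⟨hst, Subgroup.mul_mem _ (Subgroup.inv_mem _ hEG) (hKG hs)⟩
    have h1 := K.mul_mem hs (K.inv_mem h0)
    rwa [mul_inv_rev, inv_inv, mul_inv_cancel_left] at h1
  have hv0 : v.1 ≠ 0 := fun h => hsW (by
    have : E = 1 := eich_unique Q hE (by rw [h]; exact eich_zero Q e)
    rwa [this, inv_one, one_mul] at hst)
  -- squares of scalars
  have hsq : ∀ μ : F, InA K e ((μ * μ) • v.1) := by
    intro μ
    by_cases hμ : μ = 0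
    · rw [hμ, mul_zero, zero_smul]; exact inA_zero e
    have hu : Q (e + f) ≠ 0 := by
      rw [QuadraticMap.map_add Q, he, hf, hef]; simp
    have hu' : Q (μ • e + μ⁻¹ • f) = 1 := by
      rw [QuadraticMap.map_add Q, QuadraticMap.map_smul, QuadraticMap.map_smul, polar_smul_left,
        polar_smul_right, he, hf, hef]
      simp [mul_inv_cancel₀ hμ]
    have hu'0 : Q (μ • e + μ⁻¹ • f) ≠ 0 := by rw [hu']; exact one_ne_zero
    obtain ⟨k, hk, hkv⟩ := OmegaSimple.transitive' Q hQ hn _
      (fun e w he0 he hew g hg => eich_mem Q hQ hn he0 he hew hg) hu'0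
      (show Q (μ • e + μ⁻¹ • f) = Q (e + f) by
        rw [hu', QuadraticMap.map_add Q, he, hf, hef]; simp)
    have e1 : refl Q hu = k * refl Q hu'0 * k⁻¹ := by
      rw [conj_refl Q k hu'0 (by rw [hkv]; exact hu)]
      congr 1
      exact hkv.symm
    set r := refl Q hu'0 * refl Q hu with hr
    have hrG : r ∈ Subgroup.closure (Sieg Q) := by
      have e2 : r = (refl Q hu'0 * k * (refl Q hu'0)⁻¹) * k⁻¹ := by
        rw [hr, e1, refl_inv Q hu'0]; group
      rw [e2]
      exact mul_mem (Subgroup.Normal.conj_mem inferInstance k hk _) (inv_mem hk)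
    have hrW : ∀ w ∈ W, r.1 w = w := fun w hw => by
      show (refl Q hu'0).1 ((refl Q hu).1 w) = w
      rw [refl_apply Q hu, polar_add_left, orth_comm heP hw, orth_comm hfP hw, add_zero, mul_zero,
        neg_zero, zero_smul, add_zero, refl_apply, polar_add_left, polar_smul_left, polar_smul_left,
        orth_comm heP hw, orth_comm hfP hw]
      simp
    have hre : r.1 e = (μ * μ) • e := by
      show (refl Q hu'0).1 ((refl Q hu).1 e) = _
      rw [refl_apply Q hu, polar_add_left, ReflectionGen.pol_self, he, polar_comm Q f e, hef,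
        QuadraticMap.map_add Q, he, hf, hef, refl_apply, hu']
      simp only [map_add, map_smul, polar_add_left, polar_add_right, polar_smul_left,
        polar_smul_right, ReflectionGen.pol_self, he, hf, hef, polar_comm Q f e, smul_eq_mul]
      match_scalars <;> field_simp <;> ring
    have h1 : InA K e v.1 := fun g hg => by rw [eich_unique Q hg hE]; exact hEK
    have h2 := h1.conj (hHK ⟨mem_St fun w hw => by rw [hrW w hw]; exact hw, hrG⟩)
    rw [hre, hrW _ v.2] at h2
    intro g hg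
    have hes : polar Q ((μ * μ) • e) v.1 = 0 := by rw [polar_smul_left, hev, smul_zero]
    obtain ⟨g', hg'⟩ := exists_eich Q (e := (μ * μ) • e) (w := v.1)
      (by rw [QuadraticMap.map_smul, he, smul_zero]) hes
    rw [eich_unique Q hg (eich_scale Q _ hg')]
    exact h2 _ hg'
  refine ⟨v.1, v.2, hv0, fun c => ?_⟩
  by_cases h2 : (2 : F) = 0
  · obtain ⟨t, rfl⟩ := FiniteForms.sqrt_charTwo h2 c
    exact hsq t
  · have hneg : ∀ d : F, InA K e (d • v.1) → InA K e (-d • v.1) := fun d hd g hg => by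
      obtain ⟨g', hg'⟩ := exists_eich Q he (show polar Q e (d • v.1) = 0 by
        rw [polar_smul_right, hev, smul_zero])
      have h := eich_add Q he (by rw [polar_smul_right, hev, smul_zero])
        (by rw [polar_smul_right, hev, smul_zero]) hg hg'
      rw [← add_smul, neg_add_cancel, zero_smul] at h
      have h1 := eich_unique Q h (eich_zero Q e)
      rw [eq_inv_of_mul_eq_one_left h1]
      exact inv_mem (hd _ hg')
    have := InA.add he (by rw [polar_smul_right, hev, smul_zero])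
      (by rw [polar_smul_right, hev, smul_zero]) (hsq ((c + 1) / 2)) (hneg _ (hsq ((c - 1) / 2)))
    rw [← add_smul] at this
    convert this using 2
    field_simp
    ring

omit hHK in
/-- A plane of the perpendicular gives singular decompositions. -/
theorem span_singular (hP : finrank F (orth Q W) = 4)
    (hS : ∃ S : Submodule F V, S ≤ orth Q W ∧ (∀ x ∈ S, Q x = 0) ∧ finrank F S = 2)
    {e a : V} (heP : e ∈ orth Q W) (he0 : e ≠ 0) (he : Q e = 0) (haP : a ∈ orth Q W)
    (hea : polar Q e a = 0) :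
    ∃ b c, b ∈ orth Q W ∧ c ∈ orth Q W ∧ Q b = 0 ∧ Q c = 0 ∧ polar Q e b = 0 ∧ polar Q e c = 0 ∧
      ∃ r : F, a = r • e + (b + c) := by
  classical
  set P := orth Q W with hPdef
  have hdim : finrank F W + finrank F P = finrank F V := finrank_orth hQ W
  have hinf : ∀ x, x ∈ W → x ∈ P → x = 0 := fun x hx hx' =>
    hW x hx fun y hy => orth_comm hx' hy
  have hsup : ∀ x, ∃ a ∈ W, ∃ b ∈ P, a + b = x := fun x => by
    have h1 := Submodule.finrank_sup_add_finrank_inf_eq W P
    have h2 : W ⊓ P = ⊥ := eq_bot_iff.2 fun x hx => (Submodule.mem_bot F).2 (hinf x hx.1 hx.2)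
    rw [h2, finrank_bot] at h1
    have h3 : W ⊔ P = ⊤ := Submodule.eq_top_of_finrank_eq (by omega)
    exact Submodule.mem_sup.1 (h3 ▸ Submodule.mem_top : x ∈ W ⊔ P)
  have hPn : ∀ x ∈ P, (∀ y ∈ P, polar Q x y = 0) → x = 0 := fun x hx h => hQ.1 x fun z => by
    obtain ⟨a, ha, b, hb, rfl⟩ := hsup z
    show polar Q x (a + b) = 0
    rw [polar_add_right, orth_comm hx ha, h b hb, add_zero]
  obtain ⟨S, hSP, hS, hS2⟩ := hS
  obtain ⟨f, hfP, hf, hef, -, -⟩ := pair_data_four hPn (by omega) heP he0 he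
  obtain ⟨s, hsS, hse⟩ : ∃ s ∈ S ⊓ LinearMap.ker (polarBilin Q e), s ∉ Submodule.span F ({e} : Set V) := by
    refine SetLike.not_le_iff_exists.1 fun h => ?_
    have h1 := finrank_inf_ker S (polarBilin Q e)
    by_cases heS : e ∈ S
    · have h2 : S ⊓ LinearMap.ker (polarBilin Q e) = S :=
        inf_eq_left.2 fun x hx => polar_eq_zero_of_sing hS heS hx
      have h3 := Submodule.finrank_mono (h2 ▸ h : S ≤ Submodule.span F ({e} : Set V))
      rw [finrank_span_singleton he0] at h3
      omega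
    · obtain ⟨x, hx, hx0⟩ := (Submodule.ne_bot_iff (S ⊓ LinearMap.ker (polarBilin Q e))).1
        fun h0 => by rw [h0, finrank_bot] at h1; omega
      obtain ⟨r, hr⟩ := Submodule.mem_span_singleton.1 (h hx)
      refine heS ((S.smul_mem_iff fun (h0 : r = 0) => hx0 (by rw [← hr, h0, zero_smul])).1 ?_)
      rw [hr]
      exact hx.1
  have hes : polar Q e s = 0 := hsS.2
  have hsP : s ∈ P := hSP hsS.1
  set u := s - polar Q f s • e with hu
  have huP : u ∈ P := P.sub_mem hsP (P.smul_mem _ heP)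
  have hQu : Q u = 0 := by
    rw [hu, sub_eq_add_neg, ← neg_smul, QuadraticMap.map_add Q, QuadraticMap.map_smul, he,
      polar_smul_right, polar_comm Q s e, hes, hS s hsS.1]
    simp
  have heu : polar Q e u = 0 := by
    rw [hu, polar_sub_right, polar_smul_right, hes, ReflectionGen.pol_self, he]; simp
  have hfu : polar Q f u = 0 := by
    rw [hu, polar_sub_right, polar_smul_right, polar_comm Q f e, hef]; simp
  have hu0 : u ≠ 0 := fun h => hse (by
    rw [hu, sub_eq_zero] at h
    rw [h]; exact Submodule.smul_mem _ _ (Submodule.mem_span_singleton_self e))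
  clear_value u
  obtain ⟨y, hy, huy⟩ : ∃ y ∈ P, polar Q u y ≠ 0 := by
    by_contra hc
    push Not at hc
    exact hu0 (hPn u huP hc)
  set y₁ := y - polar Q f y • e - polar Q e y • f with hy₁
  have hy₁P : y₁ ∈ P := P.sub_mem (P.sub_mem hy (P.smul_mem _ heP)) (P.smul_mem _ hfP)
  have hey : polar Q e y₁ = 0 := by
    simp [hy₁, polar_sub_right, polar_smul_right, ReflectionGen.pol_self, he, hef]
  have hfy : polar Q f y₁ = 0 := by
    simp [hy₁, polar_sub_right, polar_smul_right, ReflectionGen.pol_self, hf, polar_comm Q f e, hef]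
  have huy₁ : polar Q u y₁ ≠ 0 := by
    simpa [hy₁, polar_sub_right, polar_smul_right, polar_comm Q u e, heu, polar_comm Q u f, hfu]
      using huy
  clear_value y₁
  set v := y₁ + (-(Q y₁) / polar Q u y₁) • u with hv
  have hvP : v ∈ P := P.add_mem hy₁P (P.smul_mem _ huP)
  have hQv : Q v = 0 := by
    rw [hv, QuadraticMap.map_add Q, QuadraticMap.map_smul, hQu, polar_smul_right, polar_comm Q y₁ u]
    simp only [smul_eq_mul]
    field_simp
    ring
  have hev : polar Q e v = 0 := by rw [hv, polar_add_right, polar_smul_right, hey, heu]; simp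
  have hfv : polar Q f v = 0 := by rw [hv, polar_add_right, polar_smul_right, hfy, hfu]; simp
  have huv : polar Q u v ≠ 0 := by
    rw [hv, polar_add_right, polar_smul_right, ReflectionGen.pol_self, hQu]
    simpa using huy₁
  have hvu : polar Q v u = polar Q u v := polar_comm Q v u
  -- the four vectors span
  have hli : LinearIndependent F ![(⟨e, heP⟩ : P), ⟨f, hfP⟩, ⟨u, huP⟩, ⟨v, hvP⟩] := by
    refine Fintype.linearIndependent_iff.2 fun g hg => ?_
    have h := congrArg Subtype.val hg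
    simp only [Fin.sum_univ_four, Submodule.coe_add, Submodule.coe_smul, ZeroMemClass.coe_zero,
      Matrix.cons_val_zero, Matrix.cons_val_one, Matrix.cons_val, Submodule.coe_mk] at h
    have h1 := congrArg (polar Q e) h
    have h0 := congrArg (polar Q f) h
    have h3 := congrArg (polar Q u) h
    have h2 := congrArg (polar Q v) h
    simp only [polar_add_right, polar_smul_right, QuadraticMap.polar_zero_right,
      ReflectionGen.pol_self, he, hf, hQu, hQv, hef, heu, hev, hfu, hfv, polar_comm Q f e,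
      polar_comm Q u e, polar_comm Q u f, hvu, polar_comm Q v e, polar_comm Q v f, smul_eq_mul,
      mul_zero, add_zero, zero_add, mul_one] at h0 h1 h2 h3
    intro i
    fin_cases i
    · exact h0
    · exact h1
    · exact (mul_eq_zero.1 h2).resolve_right huv
    · exact (mul_eq_zero.1 h3).resolve_right huv
  have hspan := hli.span_eq_top_of_card_eq_finrank (by rw [Fintype.card_fin]; omega)
  obtain ⟨g, hg⟩ := (Submodule.mem_span_range_iff_exists_fun F).1
    (hspan ▸ Submodule.mem_top : (⟨a, haP⟩ : P) ∈ Submodule.span F (Set.range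
      ![(⟨e, heP⟩ : P), ⟨f, hfP⟩, ⟨u, huP⟩, ⟨v, hvP⟩]))
  have h := congrArg Subtype.val hg
  simp only [Fin.sum_univ_four, Submodule.coe_add, Submodule.coe_smul,
    Matrix.cons_val_zero, Matrix.cons_val_one, Matrix.cons_val, Submodule.coe_mk] at h
  have h1 := congrArg (polar Q e) h
  simp only [polar_add_right, polar_smul_right, ReflectionGen.pol_self, he, hef, heu, hev, hea,
    smul_eq_mul, mul_zero, add_zero, zero_add, mul_one] at h1
  refine ⟨g 2 • u, g 3 • v, P.smul_mem _ huP, P.smul_mem _ hvP, ?_, ?_, ?_, ?_, g 0, ?_⟩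
  · rw [QuadraticMap.map_smul, hQu, smul_zero]
  · rw [QuadraticMap.map_smul, hQv, smul_zero]
  · rw [polar_smul_right, heu, smul_zero]
  · rw [polar_smul_right, hev, smul_zero]
  · rw [← h, h1, zero_smul, add_zero, add_assoc]

end small

/-- Stabilisers of non-degenerate subspaces are maximal in `Ω`: the main step. -/
theorem maxStab_nondeg_step {W : Submodule F V} (h0 : W ≠ ⊥)
    (hW : ∀ x ∈ W, (∀ y ∈ W, polar Q x y = 0) → x = 0) (hle : 2 * finrank F W ≤ finrank F V)
    (hP4 : 4 ≤ finrank F (orth Q W))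
    (hiso : ∀ g : quadIso Q, ¬ (orth Q W).map (g.1 : V →ₗ[F] V) ≤ W)
    (hex : ¬ (Fintype.card F ≤ 3 ∧ finrank F W = 2 ∧ ∃ z ∈ W, z ≠ 0 ∧ Q z = 0))
    (hfour : finrank F (orth Q W) = 4 → finrank F W = 4 ∧
      (∀ S : Submodule F V, (∀ x ∈ S, Q x = 0) → finrank F S < 4) ∧
      ∃ S : Submodule F V, S ≤ orth Q W ∧ (∀ x ∈ S, Q x = 0) ∧ finrank F S = 2) :
    MaxStab Q W := by
  classical
  set P := orth Q W with hPdef
  have hdim : finrank F W + finrank F P = finrank F V := finrank_orth hQ W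
  have hinf : ∀ x, x ∈ W → x ∈ P → x = 0 := fun x hx hx' =>
    hW x hx fun y hy => orth_comm hx' hy
  have hsup : ∀ x, ∃ a ∈ W, ∃ b ∈ P, a + b = x := fun x => by
    have h1 := Submodule.finrank_sup_add_finrank_inf_eq W P
    have h2 : W ⊓ P = ⊥ := eq_bot_iff.2 fun x hx => (Submodule.mem_bot F).2 (hinf x hx.1 hx.2)
    rw [h2, finrank_bot] at h1
    have h3 : W ⊔ P = ⊤ := Submodule.eq_top_of_finrank_eq (by omega)
    exact Submodule.mem_sup.1 (h3 ▸ Submodule.mem_top : x ∈ W ⊔ P)
  have hPn : ∀ x ∈ P, (∀ y ∈ P, polar Q x y = 0) → x = 0 := fun x hx h => hQ.1 x fun z => by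
    obtain ⟨a, ha, b, hb, rfl⟩ := hsup z
    show polar Q x (a + b) = 0
    rw [polar_add_right, orth_comm hx ha, h b hb, add_zero]
  have h1 : W ≠ ⊤ := fun h => by rw [h, finrank_top] at hle; omega
  refine ⟨not_le_St hQ hn h0 h1, fun K hKG hHK g hg hgW => ?_⟩
  have hPA : ∀ {e a : V}, e ∈ P → a ∈ P → e ≠ 0 → Q e = 0 → polar Q e a = 0 → InA K e a :=
    fun he ha he0 hes hea => inA_of_maps hQ hn hHK he0 hes hea fun w hw => by
      rw [orth_comm he hw, orth_comm ha hw]; simpa using hw
  -- a conjugate Eichler transformation outside the stabiliser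
  obtain ⟨e₀, he₀P, he₀0, he₀, a₀, ha₀P, hea₀, t, ht, hs⟩ : ∃ e₀ ∈ P, e₀ ≠ 0 ∧ Q e₀ = 0 ∧
      ∃ a₀ ∈ P, polar Q e₀ a₀ = 0 ∧ ∃ t, IsEich Q e₀ a₀ t ∧ g * t * g⁻¹ ∉ St Q W := by
    by_contra hc
    push Not at hc
    have hside : ∀ e ∈ P, e ≠ 0 → Q e = 0 → (∀ a ∈ P, polar Q e a = 0 → g.1 a ∈ W) ∨
        (∀ a ∈ P, polar Q e a = 0 → g.1 a ∈ P) := by
      intro e heP he0 he
      obtain ⟨f, -, -, -, -, a₁, ha₁, a₂, ha₂, h1, h2, h12⟩ :=
        pair_data_four hPn hP4 heP he0 he
      set S := (P ⊓ LinearMap.ker (polarBilin Q e)).map (g.1 : V →ₗ[F] V) with hS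
      have hge : Q (g.1 e) = 0 := by rw [g.2, he]
      have key : ∀ X : Submodule F V, (∀ k ∈ St Q W, k ∈ St Q X) →
          (∃ x ∈ X, polar Q (g.1 e) x ≠ 0) → ∀ a ∈ P, polar Q e a = 0 → g.1 a ∈ X := by
        intro X hX ⟨x, hx, hex'⟩ a ha hea
        refine (eich_core (Q := Q) (W := X) (S := S) hge hx hex' ?_
          (Submodule.mem_map_of_mem ⟨ha₁, h1⟩) (Submodule.mem_map_of_mem ⟨ha₂, h2⟩) ?_ ?_).2
          (Submodule.mem_map_of_mem ⟨ha, hea⟩)
        · rintro _ ⟨b, hb, rfl⟩
          show polar Q (g.1 e) (g.1 b) = 0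
          rw [OrthOrder.polar_map g.2]
          exact hb.2
        · show polar Q (g.1 a₁) (g.1 a₂) ≠ 0
          rw [OrthOrder.polar_map g.2, h12]
          exact one_ne_zero
        · rintro _ ⟨b, hb, rfl⟩ g' hg' y hy
          obtain ⟨t, ht⟩ := exists_eich Q he (show polar Q e b = 0 from hb.2)
          rw [eich_unique Q hg' (eich_conj Q ht g)]
          exact maps_of_mem (hX _ (hc e heP he0 he b hb.1 hb.2 t ht)) hy
      obtain ⟨x, hx⟩ : ∃ x, polar Q (g.1 e) x ≠ 0 := by
        by_contra h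
        push Not at h
        exact he0 (g.1.injective ((hQ.1 _ h).trans g.1.map_zero.symm))
      obtain ⟨u, hu, v, hv, rfl⟩ := hsup x
      by_cases hxu : polar Q (g.1 e) u = 0
      · refine Or.inr (key P (fun k hk => St_orth hk) ⟨v, hv, fun h => hx ?_⟩)
        rw [polar_add_right, hxu, h, add_zero]
      · exact Or.inl (key W (fun k hk => hk) ⟨u, hu, hxu⟩)
    obtain ⟨e, heP, he0, he⟩ := exists_singular_in (Q := Q) (S := P) (by omega)
    obtain ⟨f, hfP, hf, hef, huniv, -⟩ := pair_data_four hPn hP4 heP he0 he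
    have hf0 : f ≠ 0 := fun h => by simp [h] at hef
    obtain ⟨a, haP, ha0, hea, hfa, -⟩ := huniv 1 one_ne_zero
    have hga : g.1 a ≠ 0 := fun h => ha0 (g.1.injective (h.trans g.1.map_zero.symm))
    have hall : ∀ X : Submodule F V, (∀ a ∈ P, polar Q e a = 0 → g.1 a ∈ X) →
        (∀ a ∈ P, polar Q f a = 0 → g.1 a ∈ X) → P.map (g.1 : V →ₗ[F] V) ≤ X := by
      rintro X h1 h2 _ ⟨z, hz, rfl⟩
      have e1 := h1 (z - polar Q e z • f) (P.sub_mem hz (P.smul_mem _ hfP)) (by
        rw [polar_sub_right, polar_smul_right, hef, smul_eq_mul, mul_one, sub_self])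
      have e2 := h2 f hfP (by rw [ReflectionGen.pol_self, hf, mul_zero])
      have e3 := X.add_mem e1 (X.smul_mem (polar Q e z) e2)
      rw [map_sub, map_smul, sub_add_cancel] at e3
      exact e3
    rcases hside e heP he0 he with h1 | h1 <;> rcases hside f hfP hf0 hf with h2 | h2
    · exact hiso g (hall W h1 h2)
    · exact hga (hinf _ (h1 a haP hea) (h2 a haP hfa))
    · exact hga (hinf _ (h2 a haP hfa) (h1 a haP hea))
    · refine hgW ((St_orth_eq hQ W) ▸ mem_St fun x hx => ?_)
      exact hall P h1 h2 ⟨x, hx, rfl⟩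
  -- the perpendicular plane of the conjugate
  obtain ⟨a₀, ha₀P, hea₀, t, ht, hs, ha₀s⟩ : ∃ a₀ ∈ P, polar Q e₀ a₀ = 0 ∧
      ∃ t, IsEich Q e₀ a₀ t ∧ g * t * g⁻¹ ∉ St Q W ∧ (finrank F P = 4 → Q a₀ = 0) := by
    by_cases h4 : finrank F P = 4
    swap
    · exact ⟨a₀, ha₀P, hea₀, t, ht, hs, fun h => absurd h h4⟩
    by_contra hc
    push Not at hc
    obtain ⟨b, c, hb, hc', hQb, hQc, heb, hec, r, rfl⟩ :=
      span_singular hQ hn hW h4 (hfour h4).2.2 he₀P he₀0 he₀ ha₀P hea₀
    obtain ⟨tb, htb⟩ := exists_eich Q he₀ heb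
    obtain ⟨tc, htc⟩ := exists_eich Q he₀ hec
    have hre : polar Q e₀ (r • e₀) = 0 := by
      rw [polar_smul_right, ReflectionGen.pol_self, he₀]; simp
    obtain ⟨tr, htr⟩ := exists_eich Q he₀ hre
    have hsb : g * tb * g⁻¹ ∈ St Q W := by
      by_contra h
      exact (hc b hb heb tb htb h).2 hQb
    have hsc : g * tc * g⁻¹ ∈ St Q W := by
      by_contra h
      exact (hc c hc' hec tc htc h).2 hQc
    have hsr : g * tr * g⁻¹ ∈ St Q W := by
      by_contra h
      exact (hc _ (P.smul_mem r he₀P) hre tr htr h).2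
        (by rw [QuadraticMap.map_smul, he₀, smul_zero])
    refine hs ?_
    rw [eich_unique Q ht (eich_add Q he₀ hre (by rw [polar_add_right, heb, hec, add_zero]) htr
      (eich_add Q he₀ heb hec htb htc)),
      show g * (tr * (tb * tc)) * g⁻¹ = g * tr * g⁻¹ * ((g * tb * g⁻¹) * (g * tc * g⁻¹)) by group]
    exact mul_mem hsr (mul_mem hsb hsc)
  set s := g * t * g⁻¹ with hsdef
  have hge₀ : Q (g.1 e₀) = 0 := by rw [g.2, he₀]
  have hsE : IsEich Q (g.1 e₀) (g.1 a₀) s := eich_conj Q ht g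
  have hsK : s ∈ K := mul_mem (mul_mem hg (hPA he₀P ha₀P he₀0 he₀ hea₀ t ht)) (inv_mem hg)
  set G₀ := g.1 e₀ with hG₀
  set A₀ := g.1 a₀ with hA₀
  have hfix : ∀ x, polar Q G₀ x = 0 → polar Q A₀ x = 0 → s.1 x = x := fun x h1 h2 => by
    rw [hsE x, h1, h2]; simp
  set T := P ⊓ LinearMap.ker (polarBilin Q G₀) ⊓ LinearMap.ker (polarBilin Q A₀) with hT
  have hTdim : finrank F P ≤ finrank F T + 2 := by
    have e1 := finrank_inf_ker P (polarBilin Q G₀)
    have e2 := finrank_inf_ker (P ⊓ LinearMap.ker (polarBilin Q G₀)) (polarBilin Q A₀)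
    rw [hT]
    omega
  by_cases hTs : ∃ e ∈ T, e ≠ 0 ∧ Q e = 0
  · obtain ⟨e, heT, he0, he⟩ := hTs
    exact le_of_vector hQ hn hW hHK hP4 hex heT.1.1 he0 he
      (exists_vector hQ hn hW hHK hKG hP4 hsK hs heT.1.1 he0 he (hfix e heT.1.2 heT.2))
  have hT2 : finrank F T ≤ 2 := by
    by_contra hlt
    obtain ⟨e, he1, he2, he3⟩ := exists_singular_in (Q := Q) (S := T) (by omega)
    exact hTs ⟨e, he1, he2, he3⟩
  push Not at hTs
  have h4 : finrank F P = 4 := by omega
  obtain ⟨hW4, hno, -⟩ := hfour h4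
  have hQA : Q A₀ = 0 := by rw [hA₀, g.2, ha₀s h4]
  have hGA : polar Q G₀ A₀ = 0 := by rw [hG₀, hA₀, OrthOrder.polar_map g.2, hea₀]
  set T' := W ⊓ LinearMap.ker (polarBilin Q G₀) ⊓ LinearMap.ker (polarBilin Q A₀) with hT'
  have hT'dim : finrank F W ≤ finrank F T' + 2 := by
    have e1 := finrank_inf_ker W (polarBilin Q G₀)
    have e2 := finrank_inf_ker (W ⊓ LinearMap.ker (polarBilin Q G₀)) (polarBilin Q A₀)
    rw [hT']
    omega
  have hPW : orth Q P = W := orth_orth hQ W
  by_cases hT's : ∃ e ∈ T', e ≠ 0 ∧ Q e = 0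
  · obtain ⟨e, heT, he0, he⟩ := hT's
    have hHK' : St Q P ⊓ Subgroup.closure (Sieg Q) ≤ K := by rwa [hPdef, St_orth_eq hQ]
    have heP' : e ∈ orth Q P := hPW.ge heT.1.1
    have hP4' : 4 ≤ finrank F (orth Q P) := by rw [hPW]; omega
    exact le_of_vector hQ hn hPn hHK' hP4' (fun h => by omega) heP' he0 he
      (exists_vector hQ hn hPn hHK' hKG hP4' hsK (by rwa [hPdef, St_orth_eq hQ]) heP' he0 he
        (hfix e heT.1.2 heT.2))
  exfalso
  have hT'2 : finrank F T' ≤ 2 := by
    by_contra hlt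
    obtain ⟨e, he1, he2, he3⟩ := exists_singular_in (Q := Q) (S := T') (by omega)
    exact hT's ⟨e, he1, he2, he3⟩
  push Not at hT's
  have haT : ∀ x ∈ T, Q x = 0 → x = 0 := fun x hx h => by
    by_contra h0
    exact hTs x hx h0 h
  have haT' : ∀ x ∈ T', Q x = 0 → x = 0 := fun x hx h => by
    by_contra h0
    exact hT's x hx h0 h
  obtain ⟨S, hST, hS, hS2⟩ := exists_singular_plane (N₁ := T) (N₂ := T') (by omega) (by omega) haT
    haT' (fun x hx y hy => orth_comm hx.1.1 hy.1.1)
    (eq_bot_iff.2 fun x hx => (Submodule.mem_bot F).2 (hinf x hx.2.1.1 hx.1.1.1))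
  set U := Submodule.span F ({G₀, A₀} : Set V) with hU
  have hU2 : finrank F U = 2 := by
    have hind : LinearIndependent F ![G₀, A₀] := by
      rw [LinearIndependent.pair_iff]
      intro x y hxy
      by_cases hy : y = 0
      · rw [hy, zero_smul, add_zero, smul_eq_zero] at hxy
        exact ⟨hxy.resolve_right fun h => he₀0 (g.1.injective (h.trans g.1.map_zero.symm)), hy⟩
      exfalso
      refine hs ?_
      have hA : A₀ = (-(y⁻¹ * x)) • G₀ := by
        have h := congrArg (fun z => y⁻¹ • z) (eq_neg_of_add_eq_zero_right hxy)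
        rw [smul_smul, inv_mul_cancel₀ hy, one_smul, smul_neg, smul_smul, ← neg_smul] at h
        exact h
      have : s = 1 := Subtype.ext (LinearEquiv.ext fun z => by
        rw [hsE z, hA, polar_smul_left, QuadraticMap.map_smul, hge₀]
        simp only [smul_eq_mul, mul_zero, sub_zero]
        show _ = z
        module)
      rw [this]
      exact one_mem _
    have h := finrank_span_eq_card hind
    rw [Fintype.card_fin, Matrix.range_cons, Matrix.range_cons, Matrix.range_empty,
      Set.union_empty, Set.singleton_union] at h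
    exact h
  have hUs : ∀ u ∈ U, Q u = 0 := fun u hu => by
    obtain ⟨x, y, rfl⟩ := Submodule.mem_span_pair.1 hu
    rw [QuadraticMap.map_add Q, QuadraticMap.map_smul, QuadraticMap.map_smul, polar_smul_left,
      polar_smul_right, hge₀, hQA, hGA]
    simp
  have hUperp : ∀ u ∈ U, ∀ x ∈ T ⊔ T', polar Q u x = 0 := fun u hu x hx => by
    obtain ⟨a, ha, b, hb, rfl⟩ := Submodule.mem_sup.1 hx
    obtain ⟨c, d, rfl⟩ := Submodule.mem_span_pair.1 hu
    have hG1 : polar Q G₀ a = 0 := ha.1.2
    have hG2 : polar Q G₀ b = 0 := hb.1.2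
    have hA1 : polar Q A₀ a = 0 := ha.2
    have hA2 : polar Q A₀ b = 0 := hb.2
    simp [polar_add_left, polar_add_right, polar_smul_left, hG1, hG2, hA1, hA2]
  have hUT : ∀ x ∈ U, x ∈ T ⊔ T' → x = 0 := fun x hxU hx => by
    obtain ⟨a, ha, b, hb, rfl⟩ := Submodule.mem_sup.1 hx
    have hnT := aniso_plane (Q := Q) (show finrank F T = 2 by omega) haT
    have hnT' := aniso_plane (Q := Q) (show finrank F T' = 2 by omega) haT'
    have e1 : a = 0 := hnT a ha fun y hy => by
      have h := hUperp _ hxU y (Submodule.mem_sup_left hy)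
      rwa [polar_add_left, polar_comm Q b y, orth_comm hy.1.1 hb.1.1, add_zero] at h
    have e2 : b = 0 := hnT' b hb fun y hy => by
      have h := hUperp _ hxU y (Submodule.mem_sup_right hy)
      rwa [polar_add_left, orth_comm ha.1.1 hy.1.1, zero_add] at h
    rw [e1, e2, add_zero]
  have h8 := hno (U ⊔ S) fun x hx => by
    obtain ⟨u, hu, v, hv, rfl⟩ := Submodule.mem_sup.1 hx
    rw [QuadraticMap.map_add Q, hUs u hu, hS v hv, hUperp u hu v (hST hv)]
    simp
  have h9 := Submodule.finrank_sup_add_finrank_inf_eq U S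
  rw [show U ⊓ S = ⊥ from eq_bot_iff.2 fun x hx => (Submodule.mem_bot F).2 (hUT x hx.1 (hST hx.2)),
    finrank_bot] at h9
  omega

omit hn in
/-- One of two complementary four-spaces contains a singular plane. -/
theorem exists_plane_side {W : Submodule F V}
    (hW : ∀ x ∈ W, (∀ y ∈ W, polar Q x y = 0) → x = 0) (hW4 : finrank F W = 4)
    (hP4 : finrank F (orth Q W) = 4)
    (hno : ∀ S : Submodule F V, (∀ x ∈ S, Q x = 0) → finrank F S < 4) :
    (∃ S : Submodule F V, S ≤ orth Q W ∧ (∀ x ∈ S, Q x = 0) ∧ finrank F S = 2) ∨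
      ∃ S : Submodule F V, S ≤ W ∧ (∀ x ∈ S, Q x = 0) ∧ finrank F S = 2 := by
  classical
  set P := orth Q W with hPdef
  have hdim : finrank F W + finrank F P = finrank F V := finrank_orth hQ W
  have hinf : ∀ x, x ∈ W → x ∈ P → x = 0 := fun x hx hx' =>
    hW x hx fun y hy => orth_comm hx' hy
  have hsup : ∀ x, ∃ a ∈ W, ∃ b ∈ P, a + b = x := fun x => by
    have h1 := Submodule.finrank_sup_add_finrank_inf_eq W P
    have h2 : W ⊓ P = ⊥ := eq_bot_iff.2 fun x hx => (Submodule.mem_bot F).2 (hinf x hx.1 hx.2)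
    rw [h2, finrank_bot] at h1
    have h3 : W ⊔ P = ⊤ := Submodule.eq_top_of_finrank_eq (by omega)
    exact Submodule.mem_sup.1 (h3 ▸ Submodule.mem_top : x ∈ W ⊔ P)
  have hPn : ∀ x ∈ P, (∀ y ∈ P, polar Q x y = 0) → x = 0 := fun x hx h => hQ.1 x fun z => by
    obtain ⟨a, ha, b, hb, rfl⟩ := hsup z
    show polar Q x (a + b) = 0
    rw [polar_add_right, orth_comm hx ha, h b hb, add_zero]
  by_contra hc
  rw [not_or] at hc
  have split : ∀ {X : Submodule F V}, (∀ x ∈ X, (∀ y ∈ X, polar Q x y = 0) → x = 0) →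
      finrank F X = 4 → (¬ ∃ S : Submodule F V, S ≤ X ∧ (∀ x ∈ S, Q x = 0) ∧ finrank F S = 2) →
      ∃ e, ∃ N : Submodule F V, e ∈ X ∧ e ≠ 0 ∧ Q e = 0 ∧ N ≤ X ∧ finrank F N = 2 ∧
        (∀ x ∈ N, polar Q e x = 0) ∧ (∀ x ∈ N, Q x = 0 → x = 0) ∧ e ∉ N := by
    intro X hX hX4 hno2
    obtain ⟨e, he, he0, hes⟩ := exists_singular_in (Q := Q) (S := X) (by omega)
    obtain ⟨f, hfX, hf, hef, -, -⟩ := pair_data_four hX (by omega) he he0 hes
    set N := X ⊓ LinearMap.ker (polarBilin Q e) ⊓ LinearMap.ker (polarBilin Q f) with hN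
    have heN : e ∉ N := fun h => one_ne_zero (α := F) (by
      rw [← hef, polar_comm]; exact h.2)
    have hN2 : 2 ≤ finrank F N := by
      have e1 := finrank_inf_ker X (polarBilin Q e)
      have e2 := finrank_inf_ker (X ⊓ LinearMap.ker (polarBilin Q e)) (polarBilin Q f)
      rw [hN]
      omega
    have haN : ∀ x ∈ N, Q x = 0 → x = 0 := fun x hx hxs => by
      by_contra hx0
      refine hno2 ⟨Submodule.span F {e, x}, ?_, fun u hu => ?_, ?_⟩
      · rw [Submodule.span_le]
        rintro u (rfl | rfl)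
        exacts [he, hx.1.1]
      · obtain ⟨c, d, rfl⟩ := Submodule.mem_span_pair.1 hu
        rw [QuadraticMap.map_add Q, QuadraticMap.map_smul, QuadraticMap.map_smul, polar_smul_left,
          polar_smul_right, hes, hxs, show polar Q e x = 0 from hx.1.2]
        simp
      · have hind : LinearIndependent F ![e, x] := by
          rw [LinearIndependent.pair_iff]
          intro c d h
          have h' := congrArg (polar Q f) h
          rw [polar_add_right, polar_smul_right, polar_smul_right, polar_comm Q f e, hef,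
            show polar Q f x = 0 from hx.2, smul_zero, add_zero, QuadraticMap.polar_zero_right,
            smul_eq_mul, mul_one] at h'
          rw [h', zero_smul, zero_add, smul_eq_zero] at h
          exact ⟨h', h.resolve_right hx0⟩
        have h := finrank_span_eq_card hind
        rw [Fintype.card_fin, Matrix.range_cons, Matrix.range_cons, Matrix.range_empty,
          Set.union_empty, Set.singleton_union] at h
        exact h
    refine ⟨e, N, he, he0, hes, fun x hx => hx.1.1, ?_, fun x hx => hx.1.2, haN, heN⟩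
    by_contra hne
    obtain ⟨x, hx, hx0, hxs⟩ := exists_singular_in (Q := Q) (S := N) (by omega)
    exact hx0 (haN x hx hxs)
  obtain ⟨e₁, N₁, he₁, he₁0, he₁s, hN₁, hN₁2, hp₁, ha₁, hout₁⟩ := split hPn hP4 hc.1
  obtain ⟨e₂, N₂, he₂, he₂0, he₂s, hN₂, hN₂2, hp₂, ha₂, hout₂⟩ := split hW hW4 hc.2
  obtain ⟨S, hSN, hS, hS2⟩ := exists_singular_plane hN₁2 hN₂2 ha₁ ha₂
    (fun x hx y hy => orth_comm (hN₁ hx) (hN₂ hy))
    (eq_bot_iff.2 fun x hx => (Submodule.mem_bot F).2 (hinf x (hN₂ hx.2) (hN₁ hx.1)))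
  set U := Submodule.span F ({e₁, e₂} : Set V) with hU
  have hperp : ∀ u ∈ U, ∀ x ∈ N₁ ⊔ N₂, polar Q u x = 0 := fun u hu x hx => by
    obtain ⟨a, ha, b, hb, rfl⟩ := Submodule.mem_sup.1 hx
    obtain ⟨c, d, rfl⟩ := Submodule.mem_span_pair.1 hu
    simp [polar_add_left, polar_add_right, polar_smul_left, hp₁ a ha, hp₂ b hb,
      orth_comm he₁ (hN₂ hb), show polar Q e₂ a = 0 from hN₁ ha e₂ he₂]
  have h8 := hno (U ⊔ S) fun x hx => by
    obtain ⟨u, hu, v, hv, rfl⟩ := Submodule.mem_sup.1 hx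
    rw [QuadraticMap.map_add Q, hS v hv, hperp u hu v (hSN hv)]
    obtain ⟨c, d, rfl⟩ := Submodule.mem_span_pair.1 hu
    rw [QuadraticMap.map_add Q, QuadraticMap.map_smul, QuadraticMap.map_smul, polar_smul_left,
      polar_smul_right, he₁s, he₂s, orth_comm he₁ he₂]
    simp
  have h9 := Submodule.finrank_sup_add_finrank_inf_eq U S
  have hU2 : finrank F U = 2 := by
    have hind : LinearIndependent F ![e₁, e₂] := by
      rw [LinearIndependent.pair_iff]
      intro c d h
      have h1 : c • e₁ = 0 := hinf _ (by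
        rw [eq_neg_of_add_eq_zero_left h]; exact W.neg_mem (W.smul_mem _ he₂)) (P.smul_mem _ he₁)
      rw [h1, zero_add, smul_eq_zero] at h
      exact ⟨(smul_eq_zero.1 h1).resolve_right he₁0, h.resolve_right he₂0⟩
    have h := finrank_span_eq_card hind
    rw [Fintype.card_fin, Matrix.range_cons, Matrix.range_cons, Matrix.range_empty,
      Set.union_empty, Set.singleton_union] at h
    exact h
  have hUS : U ⊓ S = ⊥ := eq_bot_iff.2 fun x hx => by
    obtain ⟨c, d, rfl⟩ := Submodule.mem_span_pair.1 hx.1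
    obtain ⟨a, ha, b, hb, hab⟩ := Submodule.mem_sup.1 (hSN hx.2)
    have h1 : a - c • e₁ = 0 := hinf _ (by
      rw [show a - c • e₁ = d • e₂ - b by
        rw [sub_eq_sub_iff_add_eq_add, hab]; abel]
      exact W.sub_mem (W.smul_mem _ he₂) (hN₂ hb)) (P.sub_mem (hN₁ ha) (P.smul_mem _ he₁))
    have h2 : b - d • e₂ = 0 := by
      rw [sub_eq_zero] at h1
      rw [h1, add_right_inj] at hab
      rw [hab, sub_self]
    have hc0 : c = 0 := by
      by_contra h
      exact hout₁ ((N₁.smul_mem_iff h).1 (sub_eq_zero.1 h1 ▸ ha))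
    have hd0 : d = 0 := by
      by_contra h
      exact hout₂ ((N₂.smul_mem_iff h).1 (sub_eq_zero.1 h2 ▸ hb))
    simp [hc0, hd0]
  rw [hUS, finrank_bot] at h9
  omega

/-- Stabilisers of non-degenerate subspaces are maximal in `Ω`. -/
theorem maxStab_nondeg (hn8 : 8 ≤ finrank F V) {W : Submodule F V} (h0 : W ≠ ⊥)
    (hW : ∀ x ∈ W, (∀ y ∈ W, polar Q x y = 0) → x = 0) (hle : 2 * finrank F W ≤ finrank F V)
    (hiso : ∀ g : quadIso Q, ¬ (orth Q W).map (g.1 : V →ₗ[F] V) ≤ W)
    (hex : ¬ (Fintype.card F ≤ 3 ∧ finrank F W = 2 ∧ ∃ z ∈ W, z ≠ 0 ∧ Q z = 0))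
    (hno : finrank F V = 8 → finrank F W = 4 →
      ∀ S : Submodule F V, (∀ x ∈ S, Q x = 0) → finrank F S < 4) :
    MaxStab Q W := by
  classical
  set P := orth Q W with hPdef
  have hdim : finrank F W + finrank F P = finrank F V := finrank_orth hQ W
  have hinf : ∀ x, x ∈ W → x ∈ P → x = 0 := fun x hx hx' =>
    hW x hx fun y hy => orth_comm hx' hy
  have hsup : ∀ x, ∃ a ∈ W, ∃ b ∈ P, a + b = x := fun x => by
    have h1 := Submodule.finrank_sup_add_finrank_inf_eq W P
    have h2 : W ⊓ P = ⊥ := eq_bot_iff.2 fun x hx => (Submodule.mem_bot F).2 (hinf x hx.1 hx.2)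
    rw [h2, finrank_bot] at h1
    have h3 : W ⊔ P = ⊤ := Submodule.eq_top_of_finrank_eq (by omega)
    exact Submodule.mem_sup.1 (h3 ▸ Submodule.mem_top : x ∈ W ⊔ P)
  have hPn : ∀ x ∈ P, (∀ y ∈ P, polar Q x y = 0) → x = 0 := fun x hx h => hQ.1 x fun z => by
    obtain ⟨a, ha, b, hb, rfl⟩ := hsup z
    show polar Q x (a + b) = 0
    rw [polar_add_right, orth_comm hx ha, h b hb, add_zero]
  by_cases h4 : finrank F P = 4
  swap
  · exact maxStab_nondeg_step hQ hn h0 hW hle (show 4 ≤ finrank F P by omega) hiso hex fun h => absurd h h4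
  have hW4 : finrank F W = 4 := by omega
  have hno' := hno (by omega) hW4
  rcases exists_plane_side hQ hW hW4 h4 hno' with hS | hS
  · exact maxStab_nondeg_step hQ hn h0 hW hle (show 4 ≤ finrank F P by omega) hiso hex fun _ => ⟨hW4, hno', hS⟩
  · have hPW : orth Q P = W := orth_orth hQ W
    have hP0 : P ≠ ⊥ := fun h => by rw [h, finrank_bot] at h4; omega
    have h := maxStab_nondeg_step hQ hn hP0 hPn (by omega) (by rw [hPW]; omega) (fun g hg => ?_)
      (fun h => by omega) fun _ => ⟨h4, hno', by rw [hPW]; exact hS⟩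
    · rwa [MaxStab, hPdef, St_orth_eq hQ] at h
    · rw [hPW] at hg
      have hmap : W.map (g.1 : V →ₗ[F] V) = P :=
        Submodule.eq_of_le_of_finrank_eq hg (by rw [LinearEquiv.finrank_map_eq]; omega)
      refine hiso g⁻¹ ?_
      rintro _ ⟨y, hy, rfl⟩
      obtain ⟨x, hx, rfl⟩ := hmap.ge hy
      show g.1.symm (g.1 x) ∈ W
      rw [g.1.symm_apply_apply]
      exact hx

omit hn in
/-- Isometric complementary halves of even dimension give plus type. -/
theorem exists_half_singular {W : Submodule F V}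
    (hW : ∀ x ∈ W, (∀ y ∈ W, polar Q x y = 0) → x = 0)
    (hle : 2 * finrank F W = finrank F V) (heven : Even (finrank F W)) {g : quadIso Q}
    (hg : (orth Q W).map (g.1 : V →ₗ[F] V) ≤ W) :
    ∃ S : Submodule F V, (∀ x ∈ S, Q x = 0) ∧ 2 * finrank F S = finrank F V := by
  obtain ⟨J, hJ, hQJ⟩ := exists_anti hW heven
  have h1 := finrank_orth hQ W
  have hinf : ∀ x, x ∈ W → x ∈ orth Q W → x = 0 := fun x hx hx' =>
    hW x hx fun y hy => orth_comm hx' hy
  have hgeq : (orth Q W).map (g.1 : V →ₗ[F] V) = W :=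
    Submodule.eq_of_le_of_finrank_eq hg (by rw [LinearEquiv.finrank_map_eq]; omega)
  have hback : ∀ x : W, g.1.symm x.1 ∈ orth Q W := fun x => by
    obtain ⟨p, hp, hpx⟩ := Submodule.mem_map.1 (hgeq.ge x.2)
    rw [← hpx]
    show g.1.symm (g.1 p) ∈ _
    rwa [LinearEquiv.symm_apply_apply]
  let L : W →ₗ[F] V := J + (g.1.symm : V →ₗ[F] V).comp W.subtype
  have hL : Function.Injective L := (injective_iff_map_eq_zero L).2 fun x hx => by
    have h2 : J x + g.1.symm x.1 = 0 := hx
    have h3 : g.1.symm x.1 = 0 := hinf _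
      (by rw [eq_neg_of_add_eq_zero_right h2]; exact W.neg_mem (hJ x)) (hback x)
    exact Subtype.ext (g.1.symm.injective (h3.trans g.1.symm.map_zero.symm))
  refine ⟨LinearMap.range L, ?_, by rw [LinearMap.finrank_range_of_inj hL]; exact hle⟩
  rintro _ ⟨x, rfl⟩
  show Q (J x + g.1.symm x.1) = 0
  have h2 : Q (g.1.symm x.1) = Q x.1 := by
    conv_rhs => rw [← g.1.apply_symm_apply x.1]
    exact (g.2 _).symm
  rw [QuadraticMap.map_add Q, hQJ, h2, show polar Q (J x) (g.1.symm x.1) = 0 from hback x (J x) (hJ x)]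
  ring

end CfsgLib.MaxSub.Orth
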