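/-
Maximality of subspace stabilisers in `Ω`, in matrix form.
-/
import Cfsg.Agent.Lib.MaxSub.SubspaceMaximalOrth
import Cfsg.Agent.Lib.MaxSub.SubspaceMaximal
import Cfsg.Agent.Lib.StdQuadForms

set_option autoImplicit false
set_option maxHeartbeats 400000

namespace CfsgLib.MaxSub.Orth

open Matrix Module Cfsg Cfsg.Geo
open CfsgLib.WittExtension (quadIso)
open CfsgLib.Eichler (Sieg)

variable {F : Type*} [Field F] [Fintype F] {ι : Type} [Fintype ι] [DecidableEq ι]

omit [Fintype F] in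
/-- A non-degenerate quadratic function is a quadratic form. -/
theorem exists_form {Q : (ι → F) → F} (hQ : IsNondegenerateQuadraticForm Q) :
    ∃ R : QuadraticForm F (ι → F), ⇑R = Q ∧ (QuadraticMap.polarBilin R).Nondegenerate := by
  refine ⟨QuadraticMap.ofPolar Q (fun a x => by rw [hQ.smul, smul_eq_mul, sq])
    (fun x x' y => hQ.polar_bilinear.add_left x x' y)
    (fun a x y => by rw [hQ.polar_bilinear.smul_left, smul_eq_mul]), rfl, ?_⟩
  refine ⟨fun x h => ?_, fun y h => ?_⟩ <;> by_contra h0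
  · obtain ⟨-, z, hz⟩ := hQ.nondegenerate x h0
    exact hz (h z)
  · obtain ⟨⟨z, hz⟩, -⟩ := hQ.nondegenerate y h0
    exact hz (h z)

/-- The isometries as matrices. -/
noncomputable def toMat (R : QuadraticForm F (ι → F)) : quadIso R →* GL ι F :=
  (isometryGroup F ⇑R).subtype.comp (SpinorMatrix.isoEquiv R).symm.toMonoidHom

omit [Fintype F] in
theorem toMat_mulVec (R : QuadraticForm F (ι → F)) (g : quadIso R) (v : ι → F) :
    (toMat R g : Matrix ι ι F) *ᵥ v = g.1 v := SpinorMatrix.isoEquiv_symm_apply R g v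

omit [Fintype F] in
theorem toMat_mem_stab {R : QuadraticForm F (ι → F)} {W : Submodule F (ι → F)} {g : quadIso R} :
    toMat R g ∈ subspaceStabilizer W ↔ g ∈ St R W := by
  refine ⟨fun h => mem_St fun x hx => ?_, fun h => mem_stab_of_maps fun x hx => ?_⟩
  · rw [← toMat_mulVec]
    exact (h x).1 hx
  · rw [toMat_mulVec]
    exact maps_of_mem h hx

theorem omegaGL_eq {R : QuadraticForm F (ι → F)} (hR : (QuadraticMap.polarBilin R).Nondegenerate)
    (hn : 5 ≤ Fintype.card ι) : omegaGL ⇑R = (Subgroup.closure (Sieg R)).map (toMat R) := by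
  rw [← OmegaSimple.commutator_eq R hR (by rw [Module.finrank_fintype_fun_eq_card]; exact hn),
    toMat, ← Subgroup.map_map]
  show (Omega F ⇑R).map _ = _
  congr 1
  rw [show Omega F ⇑R = commutator _ from rfl, _root_.commutator_def, _root_.commutator_def,
    Subgroup.map_commutator, Subgroup.map_top_of_surjective _ (MulEquiv.surjective _)]

/-- Maximality in matrix form. -/
theorem isMaximalIn_of_maxStab {R : QuadraticForm F (ι → F)}
    (hR : (QuadraticMap.polarBilin R).Nondegenerate) (hn : 5 ≤ Fintype.card ι)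
    {W : Submodule F (ι → F)} (h : MaxStab R W) :
    IsMaximalIn (omegaGL ⇑R) (subspaceStabilizer W ⊓ omegaGL ⇑R) := by
  rw [omegaGL_eq hR hn]
  refine isMaximalIn_of (fun hle => h.1 fun g hg =>
    toMat_mem_stab.1 (hle (Subgroup.mem_map_of_mem _ hg))) fun K hK hHK g hg hgW => ?_
  obtain ⟨g', hg', rfl⟩ := hK hg
  have := h.2 (K.comap (toMat R) ⊓ Subgroup.closure (Sieg R)) inf_le_right
    (le_inf (fun x hx => hHK ⟨toMat_mem_stab.2 hx.1, Subgroup.mem_map_of_mem _ hx.2⟩) inf_le_right)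
    g' ⟨hg, hg'⟩ fun h' => hgW (toMat_mem_stab.2 h')
  rintro _ ⟨x, hx, rfl⟩
  exact (this hx).1

omit [Fintype ι] [DecidableEq ι] [Fintype F] in
theorem nondeg_of {R : QuadraticForm F (ι → F)} {W : Submodule F (ι → F)}
    (h : IsNondegenerateOn (QuadraticMap.polar ⇑R) W) :
    ∀ x ∈ W, (∀ y ∈ W, QuadraticMap.polar R x y = 0) → x = 0 := fun x hx h' => by
  by_contra h0
  obtain ⟨-, y, hy, hxy⟩ := h x hx h0
  exact hxy (h' y hy)

omit [Fintype F] in
theorem plane_plus {R : QuadraticForm F (ι → F)} {W : Submodule F (ι → F)} (hd : finrank F W = 2)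
    {z : ι → F} (hz : z ∈ W) (hz0 : z ≠ 0) (hQz : R z = 0) : IsPlusTypeOn ⇑R W := by
  refine ⟨Submodule.span F {z}, (Submodule.span_singleton_le_iff_mem _ _).2 hz, fun w hw => ?_,
    by rw [finrank_span_singleton hz0, hd]⟩
  obtain ⟨c, rfl⟩ := Submodule.mem_span_singleton.1 hw
  rw [QuadraticMap.map_smul, hQz, smul_zero]

theorem singular_maximal {Q : (ι → F) → F} (hQ : IsNondegenerateQuadraticForm Q)
    (hn : 5 ≤ Fintype.card ι) {W : Submodule F (ι → F)} (h0 : W ≠ ⊥)
    (hW : IsTotallySingularQuad Q W)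
    (hdim : 2 * (finrank F W + 1) ≠ Fintype.card ι ∨ ¬ IsPlusTypeOn Q ⊤) :
    IsMaximalIn (omegaGL Q) (subspaceStabilizer W ⊓ omegaGL Q) := by
  obtain ⟨R, rfl, hR⟩ := exists_form hQ
  refine isMaximalIn_of_maxStab hR hn (maxStab_singular hR
    (by rw [Module.finrank_fintype_fun_eq_card]; exact hn) h0 hW ?_)
  rw [Module.finrank_fintype_fun_eq_card]
  refine hdim.imp id fun h S hS hd => h ⟨S, le_top, hS, ?_⟩
  rw [finrank_top, Module.finrank_fintype_fun_eq_card]
  exact hd

theorem point_maximal {Q : (ι → F) → F} (hQ : IsNondegenerateQuadraticForm Q)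
    (hn : 7 ≤ Fintype.card ι) (h2 : (2 : F) = 0) {v : ι → F} (hv : Q v ≠ 0) :
    IsMaximalIn (omegaGL Q) (subspaceStabilizer (Submodule.span F {v}) ⊓ omegaGL Q) := by
  obtain ⟨R, rfl, hR⟩ := exists_form hQ
  exact isMaximalIn_of_maxStab hR (by omega) (maxStab_point hR
    (by rw [Module.finrank_fintype_fun_eq_card]; omega) h2
    (by rw [Module.finrank_fintype_fun_eq_card]; exact hn) hv)

theorem nondegenerate_maximal {Q : (ι → F) → F} (hQ : IsNondegenerateQuadraticForm Q)
    (hn : 8 ≤ Fintype.card ι) {W : Submodule F (ι → F)} (h0 : W ≠ ⊥) (h1 : W ≠ ⊤)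
    (hW : IsNondegenerateOn (QuadraticMap.polar Q) W)
    (hhalf : 2 * finrank F W = Fintype.card ι → Even (finrank F W) ∧ ¬ IsPlusTypeOn Q ⊤)
    (hex : ¬ (Fintype.card F ≤ 3 ∧ ∃ U : Submodule F (ι → F), finrank F U = 2 ∧
      IsNondegenerateOn (QuadraticMap.polar Q) U ∧ IsPlusTypeOn Q U ∧
      (U = W ∨ (AreOrthogonalFor (QuadraticMap.polar Q) U W ∧
        finrank F U + finrank F W = Fintype.card ι)))) :
    IsMaximalIn (omegaGL Q) (subspaceStabilizer W ⊓ omegaGL Q) := by
  obtain ⟨R, rfl, hR⟩ := exists_form hQ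
  have hd : finrank F (ι → F) = Fintype.card ι := Module.finrank_fintype_fun_eq_card F
  have hWn := nondeg_of hW
  refine isMaximalIn_of_maxStab hR (by omega) ?_
  have hdim := finrank_orth hR W
  have hPn : ∀ x ∈ orth R W, (∀ y ∈ orth R W, QuadraticMap.polar R x y = 0) → x = 0 :=
    fun x hx h => hR.1 x fun z => by
      have h1 := Submodule.finrank_sup_add_finrank_inf_eq W (orth R W)
      have h2 : W ⊓ orth R W = ⊥ := eq_bot_iff.2 fun x hx =>
        (Submodule.mem_bot F).2 (hWn x hx.1 fun y hy => orth_comm hx.2 hy)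
      rw [h2, finrank_bot] at h1
      have h3 : W ⊔ orth R W = ⊤ := Submodule.eq_top_of_finrank_eq (by omega)
      obtain ⟨a, ha, b, hb, rfl⟩ := Submodule.mem_sup.1 (h3 ▸ Submodule.mem_top : z ∈ W ⊔ orth R W)
      show QuadraticMap.polar R x (a + b) = 0
      rw [QuadraticMap.polar_add_right, orth_comm hx ha, h b hb, add_zero]
  have hplane : ∀ U : Submodule F (ι → F),
      (∀ x ∈ U, (∀ y ∈ U, QuadraticMap.polar R x y = 0) → x = 0) →
      (U = W ∨ (AreOrthogonalFor (QuadraticMap.polar ⇑R) U W ∧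
        finrank F U + finrank F W = Fintype.card ι)) →
      ¬ (Fintype.card F ≤ 3 ∧ finrank F U = 2 ∧ ∃ z ∈ U, z ≠ 0 ∧ R z = 0) := by
    rintro U hU hrel ⟨hq, hU2, z, hz, hz0, hQz⟩
    refine hex ⟨hq, U, hU2, fun w hw hw0 => ?_, plane_plus hU2 hz hz0 hQz, hrel⟩
    obtain ⟨y, hy, hwy⟩ : ∃ y ∈ U, QuadraticMap.polar R w y ≠ 0 := by
      by_contra hc
      push Not at hc
      exact hw0 (hU w hw hc)
    exact ⟨⟨y, hy, by rwa [QuadraticMap.polar_comm]⟩, y, hy, hwy⟩
  by_cases hle : 2 * finrank F W ≤ Fintype.card ι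
  · refine maxStab_nondeg hR (by omega) (by omega) h0 hWn (by omega) (fun g hg => ?_)
      (hplane W hWn (Or.inl rfl)) (fun h8 h4 S hS => ?_)
    have hlt : finrank F (orth R W) ≤ finrank F W := by
      have := Submodule.finrank_mono hg
      rwa [LinearEquiv.finrank_map_eq] at this
    obtain ⟨heven, hplus⟩ := hhalf (by omega)
    obtain ⟨S, hS, hSd⟩ := exists_half_singular hR hWn (by omega) heven hg
    exact hplus ⟨S, le_top, hS, by rw [finrank_top]; exact hSd⟩
    obtain ⟨-, hplus⟩ := hhalf (by omega)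
    by_contra hc
    obtain ⟨f, hf⟩ := exists_linearIndependent_of_le_finrank (show 4 ≤ finrank F S by omega)
    refine hplus ⟨Submodule.span F (Set.range (S.subtype ∘ f)), le_top, fun x hx => hS x ?_, ?_⟩
    · exact Submodule.span_le.2 (by rintro _ ⟨i, rfl⟩; exact (f i).2) hx
    · rw [finrank_top, finrank_span_eq_card (hf.map' _ S.ker_subtype), Fintype.card_fin]
      omega
  · have hP0 : orth R W ≠ ⊥ := fun h => h1 (Submodule.eq_top_of_finrank_eq (by
      rw [h, finrank_bot] at hdim; omega))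
    have h := maxStab_nondeg hR (by omega) (by omega) hP0 hPn (by omega) (fun g hg => by
        have := Submodule.finrank_mono hg
        rw [LinearEquiv.finrank_map_eq, orth_orth hR] at this
        omega)
      (hplane _ hPn (Or.inr ⟨fun u hu w hw => orth_comm hu hw, by omega⟩))
      (fun _ h4 _ _ => by omega)
    rwa [MaxStab, St_orth_eq hR] at h

end CfsgLib.MaxSub.Orth
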