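/-
Subspace stabilisers in `Ω` which are not maximal.
-/
import Cfsg.Agent.Lib.MaxSub.SubspaceMaximalOrthGL

set_option autoImplicit false
set_option maxHeartbeats 400000

namespace CfsgLib.MaxSub.Orth

open QuadraticMap Module CfsgLib.WittExtension CfsgLib.SpinorNorm CfsgLib.Eichler
open CfsgLib.OmegaSimple (eich_mem)

section parity

variable {F V : Type*} [Field F] [Fintype F] [AddCommGroup V] [Module F V] [FiniteDimensional F V]
  {Q : QuadraticForm F V} (hQ : (polarBilin Q).Nondegenerate) {k : ℕ}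

include hQ

omit [Fintype F] in
theorem orth_eq_self (hk : finrank F V = 2 * k) {U : Submodule F V} (hU : ∀ x ∈ U, Q x = 0)
    (hUd : finrank F U = k) : orth Q U = U := by
  refine (Submodule.eq_of_le_of_finrank_eq
    (show U ≤ orth Q U from fun x hx y hy => polar_eq_zero_of_sing hU hy hx) ?_).symm
  have := finrank_orth hQ U
  omega

omit [Fintype F] in
theorem finrank_inf_orth (hk : finrank F V = 2 * k) {U H : Submodule F V}
    (hU : ∀ x ∈ U, Q x = 0) (hUd : finrank F U = k) (hHd : finrank F H + 1 = k) :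
    finrank F (U ⊓ orth Q H : Submodule F V) = finrank F (U ⊓ H : Submodule F V) + 1 := by
  have h1 := Submodule.finrank_sup_add_finrank_inf_eq U (orth Q H)
  have h2 := finrank_orth hQ H
  have h3 := finrank_orth hQ (U ⊔ orth Q H)
  have h4 : orth Q (U ⊔ orth Q H) = U ⊓ H := by
    ext x
    refine ⟨fun h => ⟨?_, ?_⟩, fun h y hy => ?_⟩
    · rw [← orth_eq_self hQ hk hU hUd]
      exact fun y hy => h y (Submodule.mem_sup_left hy)
    · rw [← orth_orth hQ H]
      exact fun y hy => h y (Submodule.mem_sup_right hy)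
    · obtain ⟨a, ha, b, hb, rfl⟩ := Submodule.mem_sup.1 hy
      show polar Q (a + b) x = 0
      rw [polar_add_left, polar_eq_zero_of_sing hU ha h.1, orth_comm hb h.2, add_zero]
  rw [h4] at h3
  omega

omit [Fintype F] in
/-- Of two adjacent maximal singular subspaces exactly one is closer to a third. -/
theorem finrank_inf_adjacent (hk : finrank F V = 2 * k) {U U₁ U₂ : Submodule F V}
    (hU : ∀ x ∈ U, Q x = 0) (hUd : finrank F U = k) (hU₁ : ∀ x ∈ U₁, Q x = 0)
    (hU₁d : finrank F U₁ = k) (hU₂ : ∀ x ∈ U₂, Q x = 0) (hU₂d : finrank F U₂ = k)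
    (h12 : finrank F (U₁ ⊓ U₂ : Submodule F V) + 1 = k) :
    finrank F (U ⊓ U₁ : Submodule F V) + 1 = finrank F (U ⊓ U₂ : Submodule F V) ∨
      finrank F (U ⊓ U₂ : Submodule F V) + 1 = finrank F (U ⊓ U₁ : Submodule F V) := by
  set H := U₁ ⊓ U₂ with hH
  set S := U ⊓ orth Q H with hS
  have hS1 := finrank_inf_orth hQ hk hU hUd h12
  rw [← hS] at hS1
  have hle1 : U ⊓ U₁ ≤ S := le_inf inf_le_left
    fun x hx y hy => polar_eq_zero_of_sing hU₁ hy.1 hx.2
  have hle2 : U ⊓ U₂ ≤ S := le_inf inf_le_left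
    fun x hx y hy => polar_eq_zero_of_sing hU₂ hy.2 hx.2
  have hge1 : U ⊓ H ≤ U ⊓ U₁ := inf_le_inf_left U inf_le_left
  have hge2 : U ⊓ H ≤ U ⊓ U₂ := inf_le_inf_left U inf_le_right
  have e1 := Submodule.finrank_mono hle1
  have e2 := Submodule.finrank_mono hle2
  have e3 := Submodule.finrank_mono hge1
  have e4 := Submodule.finrank_mono hge2
  by_contra hc
  have heq : finrank F (U ⊓ U₁ : Submodule F V) = finrank F (U ⊓ U₂ : Submodule F V) := by omega
  obtain ⟨u, hu, huH⟩ : ∃ u ∈ S, u ∉ U ⊓ H := by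
    by_contra h
    push Not at h
    have := Submodule.finrank_mono (show S ≤ U ⊓ H from h)
    omega
  rcases Nat.lt_or_ge (finrank F (U ⊓ H : Submodule F V))
    (finrank F (U ⊓ U₁ : Submodule F V)) with h | h
  · -- both are all of `S`
    have f1 := Submodule.eq_of_le_of_finrank_eq hle1 (by omega)
    have f2 := Submodule.eq_of_le_of_finrank_eq hle2 (by omega)
    exact huH ⟨hu.1, (f1.ge hu).2, (f2.ge hu).2⟩
  · have f1 := Submodule.eq_of_le_of_finrank_eq hge1 (by omega)
    have f2 := Submodule.eq_of_le_of_finrank_eq hge2 (by omega)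
    have hsup : U₁ ⊔ U₂ = orth Q H := by
      refine Submodule.eq_of_le_of_finrank_eq (sup_le
        (fun x hx y hy => polar_eq_zero_of_sing hU₁ hy.1 hx)
        fun x hx y hy => polar_eq_zero_of_sing hU₂ hy.2 hx) ?_
      have g1 := Submodule.finrank_sup_add_finrank_inf_eq U₁ U₂
      have g2 := finrank_orth hQ H
      rw [← hH] at g1
      omega
    obtain ⟨u₁, hu₁, u₂, hu₂, rfl⟩ := Submodule.mem_sup.1 (hsup.ge hu.2)
    by_cases hu₂H : u₂ ∈ H
    · exact huH (f1.ge ⟨hu.1, U₁.add_mem hu₁ hu₂H.1⟩)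
    · have hB : polar Q u₁ u₂ = 0 := by
        have := hU _ hu.1
        rwa [QuadraticMap.map_add Q, hU₁ u₁ hu₁, hU₂ u₂ hu₂, zero_add, zero_add] at this
      have hu₁' : u₁ ∈ orth Q U₂ := fun y hy => by
        have hspan : H ⊔ Submodule.span F {u₂} = U₂ := by
          refine Submodule.eq_of_le_of_finrank_le
            (sup_le inf_le_right ((Submodule.span_singleton_le_iff_mem _ _).2 hu₂)) ?_
          have hlt : H < H ⊔ Submodule.span F {u₂} := lt_of_le_of_ne le_sup_left fun e =>
            hu₂H (e ▸ Submodule.mem_sup_right (Submodule.mem_span_singleton_self u₂))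
          have := Submodule.finrank_lt_finrank_of_lt hlt
          omega
        obtain ⟨a, ha, b, hb, rfl⟩ := Submodule.mem_sup.1 (hspan.ge hy)
        obtain ⟨c, rfl⟩ := Submodule.mem_span_singleton.1 hb
        show polar Q (a + c • u₂) u₁ = 0
        rw [polar_add_left, polar_smul_left, polar_eq_zero_of_sing hU₁ ha.1 hu₁,
          polar_comm Q u₂ u₁, hB, smul_zero, add_zero]
      rw [orth_eq_self hQ hk hU₂ hU₂d] at hu₁'
      exact huH (f2.ge ⟨hu.1, U₂.add_mem hu₁' hu₂⟩)

/-- The Dickson invariant is the parity of the action on maximal singular subspaces. -/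
theorem dickson_parity (hn4 : finrank F V ≠ 4) (hk : finrank F V = 2 * k) {U : Submodule F V}
    (hU : ∀ x ∈ U, Q x = 0) (hUd : finrank F U = k) (g : quadIso Q) :
    dicksonHom Q hQ (closure_refl Q hQ (Or.inr hn4)) g =
      (-1) ^ (k + finrank F (U ⊓ U.map (g.1 : V →ₗ[F] V) : Submodule F V)) := by
  refine closure_induction_refl Q (closure_refl Q hQ (Or.inr hn4))
    (fun g => dicksonHom Q hQ (closure_refl Q hQ (Or.inr hn4)) g =
      (-1) ^ (k + finrank F (U ⊓ U.map (g.1 : V →ₗ[F] V) : Submodule F V))) ?_ ?_ g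
  · rw [map_one, show ((1 : quadIso Q).1 : V →ₗ[F] V) = LinearMap.id from rfl, Submodule.map_id,
      inf_idem, hUd, ← two_mul, pow_mul]
    simp
  · intro v hv a ha
    set U' := U.map (a.1 : V →ₗ[F] V) with hU'
    set r := refl Q hv with hr
    have hU's : ∀ x ∈ U', Q x = 0 := by
      rintro _ ⟨y, hy, rfl⟩
      show Q (a.1 y) = 0
      rw [a.2, hU y hy]
    have hU'd : finrank F U' = k := by rw [hU', LinearEquiv.finrank_map_eq]; exact hUd
    set U'' := U'.map (r.1 : V →ₗ[F] V) with hU''
    have hU''s : ∀ x ∈ U'', Q x = 0 := by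
      rintro _ ⟨y, hy, rfl⟩
      show Q (r.1 y) = 0
      rw [r.2, hU's y hy]
    have hU''d : finrank F U'' = k := by rw [hU'', LinearEquiv.finrank_map_eq]; exact hU'd
    have h12 : finrank F (U' ⊓ U'' : Submodule F V) + 1 = k := by
      have hle : U' ⊓ LinearMap.ker (polarBilin Q v) ≤ U' ⊓ U'' := fun x hx => ⟨hx.1, x, hx.1, by
        show r.1 x = x
        rw [hr, refl_apply, show polar Q v x = 0 from hx.2]
        simp⟩
      obtain ⟨u, hu, hvu⟩ : ∃ u ∈ U', polar Q v u ≠ 0 := by
        by_contra h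
        push Not at h
        have : v ∈ orth Q U' := fun y hy => by
          show polar Q y v = 0
          rw [polar_comm, h y hy]
        rw [orth_eq_self hQ hk hU's hU'd] at this
        exact hv (hU's v this)
      have hne : U' ⊓ U'' ≠ U' := fun e => by
        have h1 : U'' = U' := (Submodule.eq_of_le_of_finrank_eq
          (inf_eq_left.1 e) (by rw [hU''d, hU'd])).symm
        have h2 : r.1 u ∈ U' := h1 ▸ Submodule.mem_map_of_mem hu
        rw [hr, refl_apply] at h2
        have h3 := (Submodule.add_mem_iff_right _ hu).1 h2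
        exact hv (hU's v ((U'.smul_mem_iff
          (neg_ne_zero.2 (mul_ne_zero (inv_ne_zero hv) hvu))).1 h3))
      have e1 := Submodule.finrank_mono hle
      have e2 := finrank_inf_ker U' (polarBilin Q v)
      have e3 := Submodule.finrank_lt_finrank_of_lt (lt_of_le_of_ne inf_le_left hne)
      omega
    have hmap : U.map ((r * a).1 : V →ₗ[F] V) = U'' := by
      rw [hU'', hU', ← Submodule.map_comp]; rfl
    rw [map_mul, dicksonHom_refl, ha, hmap]
    rcases finrank_inf_adjacent hQ hk hU hUd hU's hU'd hU''s hU''d h12 with h | h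
    · rw [← h, ← add_assoc k, pow_succ, mul_comm]
    · rw [← h, ← add_assoc k, pow_succ]
      simp

/-- Elements of `Ω` keep the parity. -/
theorem even_parity (hn : 5 ≤ finrank F V) (hk : finrank F V = 2 * k) {U : Submodule F V}
    (hU : ∀ x ∈ U, Q x = 0) (hUd : finrank F U = k) {g : quadIso Q}
    (hg : g ∈ Subgroup.closure (Sieg Q)) :
    Even (k + finrank F (U ⊓ U.map (g.1 : V →ₗ[F] V) : Submodule F V)) := by
  have h := dickson_parity hQ (by omega) hk hU hUd g
  rw [← OmegaSimple.commutator_eq Q hQ hn] at hg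
  rw [MonoidHom.mem_ker.1 (Abelianization.commutator_subset_ker _ hg)] at h
  by_contra hc
  rw [(Nat.not_even_iff_odd.1 hc).neg_one_pow] at h
  exact absurd h (by decide)

end parity

open Matrix Cfsg Cfsg.Geo

variable {F : Type*} [Field F] [Fintype F] {ι : Type} [Fintype ι] [DecidableEq ι]

local notation "Mi" => Matrix ι ι F

/-- A strictly intermediate group. -/
theorem exists_between {R : QuadraticForm F (ι → F)} (hR : (polarBilin R).Nondegenerate)
    (hn : 5 ≤ Fintype.card ι) {H : Subgroup (GL ι F)} (K : Subgroup (quadIso R))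
    (hle : ∀ g ∈ Subgroup.closure (Sieg R), toMat R g ∈ H → g ∈ K)
    (hwit : ∃ g ∈ Subgroup.closure (Sieg R), g ∈ K ∧ toMat R g ∉ H)
    (hlt : ∃ g ∈ Subgroup.closure (Sieg R), g ∉ K) :
    ∃ K' : Subgroup (GL ι F), H ⊓ omegaGL ⇑R < K' ∧ K' < omegaGL ⇑R := by
  have hinj : Function.Injective (toMat R) :=
    Subtype.val_injective.comp (SpinorMatrix.isoEquiv R).symm.injective
  rw [omegaGL_eq hR hn]
  refine ⟨(K ⊓ Subgroup.closure (Sieg R)).map (toMat R),
    lt_of_le_of_ne ?_ ?_, lt_of_le_of_ne (Subgroup.map_mono inf_le_right) ?_⟩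
  · rintro _ ⟨hH, g, hg, rfl⟩
    exact Subgroup.mem_map_of_mem _ ⟨hle g hg hH, hg⟩
  · obtain ⟨g, hg, hgK, hgH⟩ := hwit
    exact fun e => hgH (e.ge (Subgroup.mem_map_of_mem _ ⟨hgK, hg⟩)).1
  · obtain ⟨g, hg, hgK⟩ := hlt
    intro e
    obtain ⟨g', hg', hgg⟩ := e.ge (Subgroup.mem_map_of_mem _ hg)
    exact hgK (hinj hgg ▸ hg'.1)

/-- A strictly intermediate subspace stabiliser. -/
theorem exists_between_St {R : QuadraticForm F (ι → F)} (hR : (polarBilin R).Nondegenerate)
    (hn : 5 ≤ Fintype.card ι) {H : Subgroup (GL ι F)} {W : Submodule F (ι → F)} (h0 : W ≠ ⊥)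
    (h1 : W ≠ ⊤) (hle : ∀ g ∈ Subgroup.closure (Sieg R), toMat R g ∈ H → g ∈ St R W)
    (hwit : ∃ g ∈ Subgroup.closure (Sieg R), g ∈ St R W ∧ toMat R g ∉ H) :
    ∃ K' : Subgroup (GL ι F), H ⊓ omegaGL ⇑R < K' ∧ K' < omegaGL ⇑R :=
  exists_between hR hn _ hle hwit (Set.not_subset.1
    (not_le_St hR (by rw [Module.finrank_fintype_fun_eq_card]; exact hn) h0 h1))

/-- Stabilisers of totally singular subspaces one short of maximal fix a maximal one. -/
theorem singular_not_maximal {Q : (ι → F) → F} (hQ : IsNondegenerateQuadraticForm Q)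
    (hn : 5 ≤ Fintype.card ι) (hplus : IsPlusTypeOn Q ⊤) {W : Submodule F (ι → F)}
    (hW : IsTotallySingularQuad Q W) (hdim : 2 * (finrank F W + 1) = Fintype.card ι) :
    ∃ K : Subgroup (GL ι F), subspaceStabilizer W ⊓ omegaGL Q < K ∧ K < omegaGL Q := by
  obtain ⟨R, rfl, hR⟩ := exists_form hQ
  obtain ⟨T, -, hT, hTd⟩ := hplus
  have hV : finrank F (ι → F) = Fintype.card ι := Module.finrank_fintype_fun_eq_card F
  rw [finrank_top] at hTd
  set k := finrank F W + 1 with hk
  have hk2 : finrank F (ι → F) = 2 * k := by omega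
  obtain ⟨t, htT, htW⟩ : ∃ t ∈ T ⊓ orth R W, t ∉ W := by
    by_contra h
    push Not at h
    have h1 := Submodule.finrank_mono (show T ⊓ orth R W ≤ T ⊓ W from fun x hx => ⟨hx.1, h x hx⟩)
    have h2 := finrank_inf_orth hR hk2 hT (by omega) (H := W) hk.symm
    omega
  have ht0 : t ≠ 0 := fun h => htW (h ▸ W.zero_mem)
  set U := W ⊔ Submodule.span F {t} with hUdef
  have htU : t ∈ U := Submodule.mem_sup_right (Submodule.mem_span_singleton_self t)
  have hUd : finrank F U = k := by
    have h1 := Submodule.finrank_sup_add_finrank_inf_eq W (Submodule.span F {t})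
    rw [disjoint_iff.1 ((Submodule.disjoint_span_singleton' ht0).2 htW), finrank_bot,
      finrank_span_singleton ht0] at h1
    rw [hUdef]; omega
  have hUs : ∀ x ∈ U, R x = 0 := fun x hx => by
    obtain ⟨a, ha, b, hb, rfl⟩ := Submodule.mem_sup.1 hx
    obtain ⟨c, rfl⟩ := Submodule.mem_span_singleton.1 hb
    rw [QuadraticMap.map_add R, QuadraticMap.map_smul, hW a ha, hT t htT.1, polar_smul_right,
      show polar R a t = 0 from htT.2 a ha]
    simp
  refine exists_between_St hR hn (W := U) (fun h => ht0 ((Submodule.mem_bot F).1 (h ▸ htU)))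
    (fun h => by rw [h, finrank_top] at hUd; omega) (fun g hg hgH => ?_) ?_
  · have hgW := toMat_mem_stab.1 hgH
    have hle : W ≤ U ⊓ U.map (g.1 : (ι → F) →ₗ[F] _) := fun x hx => by
      refine ⟨Submodule.mem_sup_left hx, g.1.symm x, Submodule.mem_sup_left ((hgW _).2 ?_), ?_⟩
      · rwa [LinearEquiv.apply_symm_apply]
      · exact g.1.apply_symm_apply x
    have h1 := Submodule.finrank_mono hle
    have h2 := even_parity hR (by omega) hk2 hUs hUd hg
    have h3 : finrank F (U ⊓ U.map (g.1 : (ι → F) →ₗ[F] _) : Submodule F (ι → F)) ≤ k := by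
      rw [← hUd]; exact Submodule.finrank_mono inf_le_left
    obtain ⟨j, hj⟩ := h2
    have h4 : finrank F (U ⊓ U.map (g.1 : (ι → F) →ₗ[F] _) : Submodule F (ι → F)) = k := by omega
    have h5 : U ≤ U.map (g.1 : (ι → F) →ₗ[F] _) := inf_eq_left.1
      (Submodule.eq_of_le_of_finrank_eq inf_le_left (by rw [h4, hUd]))
    refine mem_St fun x hx => ?_
    exact (Submodule.eq_of_le_of_finrank_eq h5
      (by rw [LinearEquiv.finrank_map_eq])).ge (Submodule.mem_map_of_mem hx)
  · obtain ⟨x, hx, hx0⟩ := Submodule.exists_mem_ne_zero_of_ne_bot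
      (show W ≠ ⊥ from fun h => by rw [h, finrank_bot] at hk; omega)
    obtain ⟨a, hta, hax⟩ : ∃ a, polar R t a = 0 ∧ polar R a x ≠ 0 := by
      by_contra h
      push Not at h
      have hmem : x ∈ orth R (orth R (Submodule.span F {t})) := fun a ha =>
        h a (ha t (Submodule.mem_span_singleton_self t))
      rw [orth_orth hR] at hmem
      obtain ⟨c, rfl⟩ := Submodule.mem_span_singleton.1 hmem
      exact htW ((W.smul_mem_iff (fun hc : c = 0 => hx0 (by rw [hc, zero_smul]))).1 hx)
    have hQt : R t = 0 := hT t htT.1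
    obtain ⟨g, hg⟩ := exists_eich R hQt hta
    have hfix : ∀ u ∈ U, polar R t u = 0 := fun u hu => polar_eq_zero_of_sing hUs htU hu
    refine ⟨g, eich_mem R hR (by omega) ht0 hQt hta hg, mem_St fun u hu => ?_, fun hgH => ?_⟩
    · rw [hg u, hfix u hu, zero_smul, zero_add]
      exact U.add_mem hu (U.smul_mem _ htU)
    · have h := maps_of_mem (toMat_mem_stab.1 hgH) hx
      rw [hg x, hfix x (Submodule.mem_sup_left hx), zero_smul, zero_add, mul_zero, sub_zero] at h
      exact htW ((W.smul_mem_iff (neg_ne_zero.2 hax)).1 ((Submodule.add_mem_iff_right _ hx).1 h))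

/-- In odd rank the two members of a singular pair are not interchanged. -/
theorem singular_pair_not_maximal {Q : (ι → F) → F} (hQ : IsNondegenerateQuadraticForm Q)
    (hn : 5 ≤ Fintype.card ι) {k : ℕ} (hk : 2 * k = Fintype.card ι) (hko : Odd k)
    {D : Fin 2 → Submodule F (ι → F)} (hD : IsMDecomposition k D)
    (hts : ∀ i, IsTotallySingularQuad Q (D i)) :
    ∃ K : Subgroup (GL ι F), decompositionStabilizer D ⊓ omegaGL Q < K ∧ K < omegaGL Q := by
  obtain ⟨R, rfl, hR⟩ := exists_form hQ
  have hk2 : finrank F (ι → F) = 2 * k := by rw [Module.finrank_fintype_fun_eq_card]; omega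
  have hd01 : D 0 ⊓ D 1 = ⊥ := disjoint_iff.1 (hD.indep.pairwiseDisjoint (by decide))
  have hd0 := hD.finrank_eq 0
  have h0 : D 0 ≠ ⊥ := fun h => by rw [h, finrank_bot] at hd0; omega
  have h1 : D 0 ≠ ⊤ := fun h => by rw [h, finrank_top] at hd0; omega
  refine exists_between_St hR hn h0 h1 (fun g hg hgH => ?_) ?_
  · obtain ⟨σ, hσ⟩ := hgH
    have hmap : (D 0).map (g.1 : (ι → F) →ₗ[F] _) = D (σ 0) := by
      rw [← hσ 0]
      congr 1
      refine LinearMap.ext fun v => ?_
      rw [Matrix.toLin'_apply, toMat_mulVec]; rfl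
    rcases (show σ 0 = 0 ∨ σ 0 = 1 by omega) with h | h
    · rw [h] at hmap
      exact mem_St fun x hx => hmap.le (Submodule.mem_map_of_mem hx)
    · have he := even_parity hR (by omega) hk2 (hts 0) hd0 hg
      rw [hmap, h, hd01, finrank_bot, add_zero] at he
      exact absurd he (Nat.not_even_iff_odd.2 hko)
  · obtain ⟨e, he, he0⟩ := Submodule.exists_mem_ne_zero_of_ne_bot h0
    obtain ⟨a, ha, hae⟩ : ∃ a ∈ D 0, a ∉ Submodule.span F {e} := by
      by_contra h
      push Not at h
      have := Submodule.finrank_mono (show D 0 ≤ Submodule.span F {e} from h)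
      rw [finrank_span_singleton he0, hd0] at this
      omega
    have hea : polar R e a = 0 := polar_eq_zero_of_sing (hts 0) he ha
    obtain ⟨x, hx, hex⟩ : ∃ x ∈ D 1, polar R e x ≠ 0 := by
      by_contra h
      push Not at h
      have hmem : e ∈ orth R (D 1) := fun y hy => (polar_comm R y e).trans (h y hy)
      rw [orth_eq_self hR hk2 (hts 1) (hD.finrank_eq 1)] at hmem
      exact he0 ((Submodule.mem_bot F).1 (hd01 ▸ ⟨he, hmem⟩))
    obtain ⟨g, hg⟩ := exists_eich R (hts 0 e he) hea
    refine ⟨g, eich_mem R hR (by omega) he0 (hts 0 e he) hea hg, mem_St fun u hu => ?_, ?_⟩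
    · rw [hg u]
      exact add_mem hu (add_mem (Submodule.smul_mem _ _ ha) (Submodule.smul_mem _ _ he))
    · rintro ⟨σ, hσ⟩
      have hu : g.1 e ∈ D (σ 0) := by
        rw [← hσ 0]; exact ⟨e, he, by rw [Matrix.toLin'_apply, toMat_mulVec]⟩
      have hge : g.1 e = e := by
        rw [hg e, ReflectionGen.pol_self, hts 0 e he, polar_comm R a e, hea]; simp
      rw [hge] at hu
      have hσ0 : σ 0 = 0 := by
        by_contra h
        exact he0 (Submodule.disjoint_def.1 (hD.indep.pairwiseDisjoint h) e hu he)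
      have hσ1 : σ 1 = 1 := by
        by_contra h
        have : σ 1 = σ 0 := by rw [hσ0]; omega
        exact absurd (σ.injective this) (by decide)
      have hy : g.1 x ∈ D 1 := by
        rw [← hσ1, ← hσ 1]; exact ⟨x, hx, by rw [Matrix.toLin'_apply, toMat_mulVec]⟩
      rw [hg x] at hy
      have hd := (Submodule.add_mem_iff_right _ hx).1 hy
      have hmem : polar R e x • a + (-(polar R a x) - R a * polar R e x) • e ∈ D 0 ⊓ D 1 :=
        ⟨add_mem (Submodule.smul_mem _ _ ha) (Submodule.smul_mem _ _ he), hd⟩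
      rw [hd01, Submodule.mem_bot] at hmem
      refine hae (((Submodule.span F {e}).smul_mem_iff hex).1 ?_)
      rw [eq_neg_of_add_eq_zero_left hmem]
      exact neg_mem (Submodule.smul_mem _ _ (Submodule.mem_span_singleton_self e))

/-- Stabilisers of plus planes over two or three elements fix a non-singular point. -/
theorem plus_plane_not_maximal {Q : (ι → F) → F} (hQ : IsNondegenerateQuadraticForm Q)
    (hn : 7 ≤ Fintype.card ι) (hq : Fintype.card F ≤ 3) {W : Submodule F (ι → F)}
    (hdim : finrank F W = 2) (hW : IsNondegenerateOn (QuadraticMap.polar Q) W)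
    (hplus : IsPlusTypeOn Q W) :
    ∃ K : Subgroup (GL ι F), subspaceStabilizer W ⊓ omegaGL Q < K ∧ K < omegaGL Q := by
  obtain ⟨R, rfl, hR⟩ := exists_form hQ
  have hV : finrank F (ι → F) = Fintype.card ι := Module.finrank_fintype_fun_eq_card F
  obtain ⟨U, hUW, hU, hUd⟩ := hplus
  obtain ⟨a, haU, ha0⟩ := Submodule.exists_mem_ne_zero_of_ne_bot
    (show U ≠ ⊥ from fun h => by rw [h, finrank_bot] at hUd; omega)
  have hWn := nondeg_of hW
  have hQa : R a = 0 := hU a haU
  have haW := hUW haU
  obtain ⟨b₀, hb₀, hab₀⟩ : ∃ b ∈ W, polar R a b ≠ 0 := by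
    by_contra h
    push Not at h
    exact ha0 (hWn a haW h)
  set b₁ := (polar R a b₀)⁻¹ • b₀ with hb1
  have hab1 : polar R a b₁ = 1 := by
    rw [hb1, polar_smul_right, smul_eq_mul, inv_mul_cancel₀ hab₀]
  have hb₁W : b₁ ∈ W := W.smul_mem _ hb₀
  clear_value b₁
  set b := b₁ + (-R b₁) • a with hb
  have hbW : b ∈ W := W.add_mem hb₁W (W.smul_mem _ haW)
  have hQb : R b = 0 := by
    rw [hb, QuadraticMap.map_add R, QuadraticMap.map_smul, hQa, polar_smul_right,
      polar_comm R b₁ a, hab1]
    simp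
  have hab : polar R a b = 1 := by
    rw [hb, polar_add_right, polar_smul_right, ReflectionGen.pol_self, hQa, hab1]; simp
  clear_value b
  have hcomb : ∀ α β : F, R (α • a + β • b) = α * β := fun α β => by
    rw [QuadraticMap.map_add R, QuadraticMap.map_smul, QuadraticMap.map_smul, hQa, hQb,
      polar_smul_left, polar_smul_right, hab]
    simp
  have hspanW : ∀ x ∈ W, ∃ α β : F, x = α • a + β • b := by
    have hle : Submodule.span F ({a, b} : Set (ι → F)) ≤ W := by
      rw [Submodule.span_le]; rintro _ (rfl | rfl) <;> assumption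
    have hli : LinearIndependent F ![a, b] := LinearIndependent.pair_iff.2 fun α β h => by
      have h1 := congrArg (polar R a) h
      have h2 := congrArg (polar R b) h
      simp [polar_add_right, polar_smul_right, ReflectionGen.pol_self, hQa, hab,
        QuadraticMap.polar_zero_right] at h1
      simp [polar_add_right, polar_smul_right, ReflectionGen.pol_self, hQb, polar_comm R b a, hab,
        QuadraticMap.polar_zero_right] at h2
      exact ⟨h2, h1⟩
    have heq := Submodule.eq_of_le_of_finrank_eq hle (by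
      rw [hdim]
      have := finrank_span_eq_card hli
      rwa [Matrix.range_cons, Matrix.range_cons, Matrix.range_empty, Set.union_empty,
        Set.singleton_union, Fintype.card_fin] at this)
    intro x hx
    obtain ⟨α, β, h⟩ := Submodule.mem_span_pair.1 (heq.ge hx)
    exact ⟨α, β, h.symm⟩
  set c := a + b with hc
  set w := a + (-1 : F) • b with hwdef
  have hQc : R c = 1 := by
    rw [hc, QuadraticMap.map_add R, hQa, hQb, hab, zero_add, zero_add]
  have hcW : c ∈ W := W.add_mem haW hbW
  have hc0 : c ≠ 0 := fun h => by simp [h] at hQc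
  refine exists_between_St hR (by omega) (W := Submodule.span F {c}) (by simpa using hc0)
    (fun h => ?_) (fun g _ hgH => ?_) ?_
  · have := finrank_span_singleton (K := F) hc0
    rw [h, finrank_top] at this
    omega
  · refine mem_St fun x hx => ?_
    obtain ⟨d, rfl⟩ := Submodule.mem_span_singleton.1 hx
    rw [map_smul]
    refine Submodule.smul_mem _ _ ?_
    obtain ⟨α, β, hαβ⟩ := hspanW _ (maps_of_mem (toMat_mem_stab.1 hgH) hcW)
    have h1 : α * β = 1 := by rw [← hcomb, ← hαβ, g.2, hQc]
    have hsq : α ^ 2 = 1 := by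
      have hα : α ≠ 0 := fun h => by rw [h, zero_mul] at h1; exact zero_ne_one h1
      have := FiniteField.pow_card_sub_one_eq_one α hα
      have h2 : 2 ≤ Fintype.card F := Fintype.one_lt_card
      rcases (show Fintype.card F = 2 ∨ Fintype.card F = 3 by omega) with h | h <;> rw [h] at this
      · rw [pow_one] at this; rw [this, one_pow]
      · exact this
    have hαeq : β = α := by linear_combination (-β) * hsq + α * h1
    rw [hαβ, hαeq, ← smul_add]
    exact Submodule.smul_mem _ _ (Submodule.mem_span_singleton_self _)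
  · have hPd := finrank_orth hR W
    obtain ⟨e, he, he0, hQe⟩ := exists_singular_in (Q := R) (S := orth R W) (by omega)
    have hew : polar R e w = 0 := orth_comm he (W.add_mem haW (W.smul_mem _ hbW))
    obtain ⟨g, hg⟩ := exists_eich R hQe hew
    have hwa : polar R w a = -1 := by
      rw [hwdef, polar_add_left, polar_smul_left, ReflectionGen.pol_self, hQa, polar_comm R b a,
        hab]
      simp
    have hwc : polar R w c = 0 := by
      rw [hc, polar_add_right, hwa, hwdef, polar_add_left, polar_smul_left,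
        ReflectionGen.pol_self, hQb, hab]
      simp
    refine ⟨g, eich_mem R hR (by omega) he0 hQe hew hg, mem_St fun x hx => ?_, fun hgH => ?_⟩
    · obtain ⟨d, rfl⟩ := Submodule.mem_span_singleton.1 hx
      rw [map_smul, hg c, orth_comm he hcW, hwc]
      simp [Submodule.smul_mem, Submodule.mem_span_singleton_self]
    · have h := maps_of_mem (toMat_mem_stab.1 hgH) haW
      rw [hg a, orth_comm he haW, hwa] at h
      simp only [zero_smul, zero_add, neg_neg, mul_zero, sub_zero, one_smul] at h
      exact he0 (hWn e ((Submodule.add_mem_iff_right _ haW).1 h) fun y hy => orth_comm he hy)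

end CfsgLib.MaxSub.Orth
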