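/-
Imprimitive stabilisers in `Ω` which are not maximal over very small fields.
-/
import Cfsg.Agent.Lib.MaxSub.NotMaximalOrth
import Cfsg.Agent.Lib.Aschbacher.PrimeDim

set_option autoImplicit false
set_option maxHeartbeats 400000

namespace CfsgLib.MaxSub.Orth

open QuadraticMap Module CfsgLib.WittExtension CfsgLib.SpinorNorm CfsgLib.Eichler Cfsg.Geo
open CfsgLib.OmegaSimple (eich_mem)

section basics

variable {F V : Type*} [Field F] [AddCommGroup V] [Module F V] {Q : QuadraticForm F V}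

theorem refl_of_perp {v x : V} (hv : Q v ≠ 0) (h : polar Q v x = 0) : (refl Q hv).1 x = x := by
  rw [refl_apply, h]; simp

theorem refl_of_diff {u w x : V} (h : Q (u + (-1 : F) • w) ≠ 0) (hQ : Q u = Q w)
    (huw : polar Q u w = 0) (hx : x = u) : (refl Q h).1 x = w := by
  subst hx
  have e1 : polar Q (x + (-1 : F) • w) x = 2 * Q x := by
    rw [polar_add_left, polar_smul_left, ReflectionGen.pol_self, polar_comm Q w x, huw]; simp
  have e2 : Q (x + (-1 : F) • w) = 2 * Q x := by
    rw [QuadraticMap.map_add Q, QuadraticMap.map_smul, polar_smul_right, huw, ← hQ]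
    simp only [smul_eq_mul]
    ring
  rw [refl_apply, e1, e2, inv_mul_cancel₀ (e2 ▸ h)]
  simp

variable [Fintype F] [FiniteDimensional F V]

/-- Products of two reflections in vectors of equal value lie in `Ω`. -/
theorem refl_mul_mem (hQ : (polarBilin Q).Nondegenerate) (hn : 5 ≤ finrank F V) {u v : V}
    (hu : Q u ≠ 0) (hv : Q v ≠ 0) (huv : Q u = Q v) :
    refl Q hu * refl Q hv ∈ Subgroup.closure (Sieg Q) := by
  obtain ⟨k, hk, hkv⟩ := OmegaSimple.transitive' Q hQ hn _
    (fun e w he0 he hew g hg => eich_mem Q hQ hn he0 he hew hg) hu huv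
  have e1 : refl Q hv = k * refl Q hu * k⁻¹ := by
    rw [conj_refl Q k hu (by rw [hkv]; exact hv)]
    congr 1
    exact hkv.symm
  have e2 : refl Q hu * refl Q hv = (refl Q hu * k * (refl Q hu)⁻¹) * k⁻¹ := by
    rw [e1, refl_inv Q hu]; group
  rw [e2]
  exact mul_mem (Subgroup.Normal.conj_mem inferInstance k hk _) (inv_mem hk)

/-- An orthogonal basis of a non-degenerate subspace. -/
theorem exists_orth_basis (h2 : (2 : F) ≠ 0) {P : Submodule F V}
    (hP : ∀ x ∈ P, (∀ y ∈ P, polar Q x y = 0) → x = 0) :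
    ∃ b : Module.Basis (Fin (finrank F P)) F P,
      (∀ a c, a ≠ c → polar Q (b a).1 (b c).1 = 0) ∧ ∀ a, Q (b a).1 ≠ 0 := by
  haveI : Invertible (2 : F) := invertibleOfNonzero h2
  set B : LinearMap.BilinForm F P := polarBilin (Q.comp P.subtype) with hB
  have hBe : ∀ x y : P, B x y = polar Q x.1 y.1 := fun x y => by simp [hB, polar]
  obtain ⟨b, hb⟩ := LinearMap.BilinForm.exists_orthogonal_basis (B := B)
    ⟨fun x y => by simp only [hBe, RingHom.id_apply, polar_comm Q x.1]⟩
  have horth : ∀ a c, a ≠ c → polar Q (b a).1 (b c).1 = 0 := fun a c h => by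
    rw [← hBe]; exact hb h
  refine ⟨b, horth, fun s h => b.ne_zero s (Subtype.ext (hP _ (b s).2 fun y hy => ?_))⟩
  have : B (b s) = 0 := b.ext fun t => by
    rw [hBe, LinearMap.zero_apply]
    by_cases hst : s = t
    · rw [← hst, ReflectionGen.pol_self, h, mul_zero]
    · exact horth s t hst
  have h' := LinearMap.congr_fun this ⟨y, hy⟩
  rwa [hBe] at h'

omit [Fintype F] [FiniteDimensional F V] in
/-- The value on a combination of orthogonal vectors. -/
theorem map_sum_orth {κ : Type*} [Fintype κ] [DecidableEq κ] {w : κ → V}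
    (h : ∀ a c, a ≠ c → polar Q (w a) (w c) = 0) (x : κ → F) (s : Finset κ) :
    Q (∑ a ∈ s, x a • w a) = ∑ a ∈ s, x a * x a * Q (w a) := by
  induction s using Finset.induction_on with
  | empty => simp
  | insert a s ha ih =>
    rw [Finset.sum_insert ha, Finset.sum_insert ha, QuadraticMap.map_add Q, ih,
      QuadraticMap.map_smul, smul_eq_mul]
    have : polar Q (x a • w a) (∑ c ∈ s, x c • w c) = 0 := by
      rw [← polarBilin_apply_apply, map_sum]
      refine Finset.sum_eq_zero fun c hc => ?_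
      rw [polarBilin_apply_apply, polar_smul_left, polar_smul_right, h a c fun e => ha (e ▸ hc)]
      simp
    rw [this, add_zero]

end basics

variable {F : Type*} [Field F] [Fintype F] {ι : Type} [Fintype ι] [DecidableEq ι]
  {R : QuadraticForm F (ι → F)} {t k : ℕ} {D : Fin t → Submodule F (ι → F)}

local notation "Vι" => (ι → F)

omit [Fintype F] in
/-- An element of a decomposition stabiliser permutes the parts. -/
theorem exists_perm {g : quadIso R} (h : toMat R g ∈ decompositionStabilizer D) :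
    ∃ σ : Equiv.Perm (Fin t), ∀ i, ∀ x ∈ D i, g.1 x ∈ D (σ i) := by
  obtain ⟨σ, hσ⟩ := h
  refine ⟨σ, fun i x hx => ?_⟩
  rw [← hσ i]
  exact ⟨x, hx, by rw [Matrix.toLin'_apply, toMat_mulVec]⟩

omit [Fintype F] in
/-- An element fixing part of a block and moving another part elsewhere is no permutation. -/
theorem not_mem_decompStab (hD : IsMDecomposition k D) {g : quadIso R} {i j : Fin t} (hij : i ≠ j)
    {x z : Vι} (hx : x ∈ D i) (hx0 : x ≠ 0) (hz : z ∈ D i) (hz0 : z ≠ 0) (hgx : g.1 x ∈ D j)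
    (hgz : g.1 z ∈ D i) : toMat R g ∉ decompositionStabilizer D := by
  intro h
  obtain ⟨σ, hσ⟩ := exists_perm h
  have e1 : σ i = j := by
    by_contra hne
    exact hx0 (g.1.injective ((Submodule.disjoint_def.1 (hD.indep.pairwiseDisjoint hne) _
      (hσ i x hx) hgx).trans g.1.map_zero.symm))
  have e2 : σ i = i := by
    by_contra hne
    exact hz0 (g.1.injective ((Submodule.disjoint_def.1 (hD.indep.pairwiseDisjoint hne) _
      (hσ i z hz) hgz).trans g.1.map_zero.symm))
  exact hij (e2.symm.trans e1)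

omit [Fintype F] in
theorem orth_blocks (hD : IsOrthogonalMDecomposition (⇑R) k D) {i j : Fin t} (hij : i ≠ j)
    {x y : Vι} (hx : x ∈ D i) (hy : y ∈ D j) : polar R x y = 0 :=
  hD.decomp.orthogonal i j hij x hx y hy

/-- The stabiliser of a set. -/
def setSt (R : QuadraticForm F Vι) (S : Set Vι) : Subgroup (quadIso R) where
  carrier := {g | ∀ x, x ∈ S ↔ g.1 x ∈ S}
  one_mem' _ := Iff.rfl
  mul_mem' {a b} ha hb x := (hb x).trans (ha (b.1 x))
  inv_mem' {a} ha x := by
    rw [ha (a⁻¹.1 x)]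
    show x ∈ S ↔ a.1 (a.1.symm x) ∈ S
    rw [LinearEquiv.apply_symm_apply]

omit [Fintype F] [Fintype ι] [DecidableEq ι] in
theorem mem_setSt {S : Set Vι} {g : quadIso R} (h : ∀ x ∈ S, g.1 x ∈ S)
    (h' : ∀ x ∈ S, g⁻¹.1 x ∈ S) : g ∈ setSt R S := by
  refine fun x => ⟨h x, fun hx => ?_⟩
  have h1 := h' _ hx
  rwa [show g⁻¹.1 (g.1 x) = x from g.1.symm_apply_apply x] at h1

/-- A frame preserved by the stabiliser of an orthogonal decomposition. -/
theorem frame_not_maximal (hR : (polarBilin R).Nondegenerate) (hn : 5 ≤ Fintype.card ι)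
    (h2 : (2 : F) ≠ 0) (hD : IsOrthogonalMDecomposition (⇑R) k D) (hk : 2 ≤ k) (ht : 4 ≤ t)
    {κ : Type*} [Fintype κ] [DecidableEq κ] [Nonempty κ] (hcard : Fintype.card F + 1 ≤ t * Fintype.card κ)
    {c : F} (hc : c ≠ 0) (b : Fin t → κ → Vι) (hbD : ∀ i a, b i a ∈ D i)
    (hbQ : ∀ i a, R (b i a) = c) (hborth : ∀ i a a', a ≠ a' → polar R (b i a) (b i a') = 0)
    (hkey : ∀ i, ∀ v ∈ D i, R v = c → ∃ a, v ∈ Submodule.span F {b i a}) :
    ∃ K : Subgroup (Matrix.GeneralLinearGroup ι F),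
      decompositionStabilizer D ⊓ omegaGL ⇑R < K ∧ K < omegaGL ⇑R := by
  classical
  have hV : 5 ≤ finrank F Vι := by rw [Module.finrank_fintype_fun_eq_card]; exact hn
  have horth : ∀ p p' : Fin t × κ, p ≠ p' → polar R (b p.1 p.2) (b p'.1 p'.2) = 0 := by
    rintro ⟨i, a⟩ ⟨j, a'⟩ hne
    by_cases hij : i = j
    · subst hij
      exact hborth i a a' fun e => hne (by rw [e])
    · exact orth_blocks hD hij (hbD i a) (hbD j a')
  have hb0 : ∀ i a, b i a ≠ 0 := fun i a h => hc (by rw [← hbQ i a, h, QuadraticMap.map_zero])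
  have hbb : ∀ i a, polar R (b i a) (b i a) ≠ 0 := fun i a => by
    rw [ReflectionGen.pol_self, hbQ]; exact mul_ne_zero h2 hc
  set S : Set Vι := {v | ∃ i a, v ∈ Submodule.span F {b i a}} with hS
  have hmaps : ∀ g : quadIso R, toMat R g ∈ decompositionStabilizer D → ∀ x ∈ S, g.1 x ∈ S := by
    rintro g hg x ⟨i, a, hx⟩
    obtain ⟨σ, hσ⟩ := exists_perm hg
    obtain ⟨a', ha'⟩ := hkey (σ i) _ (hσ i _ (hbD i a)) (by rw [g.2, hbQ])
    obtain ⟨d, rfl⟩ := Submodule.mem_span_singleton.1 hx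
    exact ⟨σ i, a', by rw [map_smul]; exact Submodule.smul_mem _ _ ha'⟩
  obtain ⟨a₀⟩ := ‹Nonempty κ›
  set i₀ : Fin t := ⟨0, by omega⟩
  set i₁ : Fin t := ⟨1, by omega⟩
  set i₂ : Fin t := ⟨2, by omega⟩
  set i₃ : Fin t := ⟨3, by omega⟩
  have h01 : i₀ ≠ i₁ := by simp [i₀, i₁]
  have h23 : i₂ ≠ i₃ := by simp [i₂, i₃]
  have h02 : i₀ ≠ i₂ := by simp [i₀, i₂]
  have h03 : i₀ ≠ i₃ := by simp [i₀, i₃]
  have hdiff : ∀ {i j : Fin t}, i ≠ j →
      R (b i a₀ + (-1 : F) • b j a₀) = 2 * c := fun hij => by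
    rw [QuadraticMap.map_add R, QuadraticMap.map_smul, hbQ, hbQ, polar_smul_right,
      horth (_, a₀) (_, a₀) (fun e => hij (congrArg Prod.fst e))]
    simp only [smul_eq_mul]
    ring
  have hne1 : R (b i₀ a₀ + (-1 : F) • b i₁ a₀) ≠ 0 := by rw [hdiff h01]; exact mul_ne_zero h2 hc
  have hne2 : R (b i₂ a₀ + (-1 : F) • b i₃ a₀) ≠ 0 := by rw [hdiff h23]; exact mul_ne_zero h2 hc
  have hreflS : ∀ {i j : Fin t}, i ≠ j → ∀ (h : R (b i a₀ + (-1 : F) • b j a₀) ≠ 0),
      ∀ x ∈ S, (refl R h).1 x ∈ S := by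
    rintro i j hij h x ⟨l, a, hx⟩
    obtain ⟨d, rfl⟩ := Submodule.mem_span_singleton.1 hx
    have hsw : ∃ l' a', (refl R h).1 (b l a) = b l' a' := by
      by_cases hi : (l, a) = (i, a₀)
      · simp only [Prod.mk.injEq] at hi
        rw [hi.1, hi.2]
        exact ⟨j, a₀, refl_of_diff h (by rw [hbQ, hbQ])
          (horth (i, a₀) (j, a₀) fun e => hij (congrArg Prod.fst e)) rfl⟩
      by_cases hj : (l, a) = (j, a₀)
      · simp only [Prod.mk.injEq] at hj
        rw [hj.1, hj.2]
        refine ⟨i, a₀, ?_⟩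
        have e1 := refl_of_diff h (by rw [hbQ, hbQ])
          (horth (i, a₀) (j, a₀) fun e => hij (congrArg Prod.fst e)) rfl
        refine (congrArg _ e1.symm).trans ?_
        exact congrArg (fun r : quadIso R => r.1 (b i a₀)) (refl_mul_self R h)
      · refine ⟨l, a, refl_of_perp h ?_⟩
        rw [polar_add_left, polar_smul_left, horth (i, a₀) (l, a) (Ne.symm hi),
          horth (j, a₀) (l, a) (Ne.symm hj)]
        simp
    obtain ⟨l', a', e⟩ := hsw
    exact ⟨l', a', by
      rw [map_smul, e]; exact Submodule.smul_mem _ _ (Submodule.mem_span_singleton_self _)⟩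
  refine exists_between hR hn (setSt R S) (fun g _ hgH => mem_setSt (hmaps g hgH)
    (hmaps g⁻¹ (by rw [map_inv]; exact inv_mem hgH))) ?_ ?_
  · refine ⟨refl R hne1 * refl R hne2, refl_mul_mem hR hV hne1 hne2 (by rw [hdiff h01, hdiff h23]),
      mul_mem (mem_setSt (hreflS h01 hne1) (by rw [refl_inv]; exact hreflS h01 hne1))
        (mem_setSt (hreflS h23 hne2) (by rw [refl_inv]; exact hreflS h23 hne2)), ?_⟩
    obtain ⟨z, hz, hz0, hzb⟩ : ∃ z ∈ D i₀, z ≠ 0 ∧ polar R (b i₀ a₀) z = 0 := by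
      have h1 := finrank_inf_ker (D i₀) (polarBilin R (b i₀ a₀))
      rw [hD.decomp.decomp.finrank_eq] at h1
      obtain ⟨z, hz, hz0⟩ := Submodule.exists_mem_ne_zero_of_ne_bot
        (show D i₀ ⊓ LinearMap.ker (polarBilin R (b i₀ a₀)) ≠ ⊥ from fun h => by
          rw [h, finrank_bot] at h1; omega)
      exact ⟨z, hz.1, hz0, hz.2⟩
    refine not_mem_decompStab hD.decomp.decomp h01 (hbD i₀ a₀) (hb0 i₀ a₀) hz hz0 ?_ ?_
    · show (refl R hne1).1 ((refl R hne2).1 (b i₀ a₀)) ∈ D i₁
      rw [refl_of_perp hne2 (by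
          rw [polar_add_left, polar_smul_left, orth_blocks hD h02.symm (hbD _ _) (hbD _ _),
            orth_blocks hD h03.symm (hbD _ _) (hbD _ _)]
          simp),
        refl_of_diff hne1 (by rw [hbQ, hbQ])
          (horth (i₀, a₀) (i₁, a₀) fun e => h01 (congrArg Prod.fst e)) rfl]
      exact hbD i₁ a₀
    · show (refl R hne1).1 ((refl R hne2).1 z) ∈ D i₀
      rw [refl_of_perp hne2 (by
          rw [polar_add_left, polar_smul_left, orth_blocks hD h02.symm (hbD _ _) hz,
            orth_blocks hD h03.symm (hbD _ _) hz]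
          simp),
        refl_of_perp hne1 (by
          rw [polar_add_left, polar_smul_left, hzb, orth_blocks hD h01.symm (hbD _ _) hz]
          simp)]
      exact hz
  · obtain ⟨s, -, hs⟩ := Finset.exists_subset_card_eq
      (show Fintype.card F + 1 ≤ (Finset.univ : Finset (Fin t × κ)).card by
        rw [Finset.card_univ, Fintype.card_prod, Fintype.card_fin]; exact hcard)
    set v := ∑ p ∈ s, (1 : F) • b p.1 p.2 with hv
    have hQv : R v = c := by
      rw [hv, map_sum_orth (Q := R) (w := fun p : Fin t × κ => b p.1 p.2) horth (fun _ => 1) s]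
      simp only [one_mul, hbQ]
      rw [Finset.sum_const, hs, nsmul_eq_mul, Nat.cast_add, FiniteField.cast_card_eq_zero]
      simp
    have hpv : ∀ p ∈ s, polar R (b p.1 p.2) v ≠ 0 := fun p hp => by
      rw [hv, ← polarBilin_apply_apply, map_sum, Finset.sum_eq_single p
        (fun q _ hq => by rw [polarBilin_apply_apply, polar_smul_right, horth p q hq.symm]; simp)
        (fun h => absurd hp h), polarBilin_apply_apply, polar_smul_right, one_smul]
      exact hbb _ _
    obtain ⟨g, hg, hgv⟩ := OmegaSimple.transitive' R hR hV _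
      (fun e w he0 he hew g hg => eich_mem R hR hV he0 he hew hg)
      (show R (b i₀ a₀) ≠ 0 by rw [hbQ]; exact hc) (show R (b i₀ a₀) = R v by rw [hbQ, hQv])
    refine ⟨g, hg, fun hgS => ?_⟩
    obtain ⟨j, a, hja⟩ := (hgS _).1 ⟨i₀, a₀, Submodule.mem_span_singleton_self _⟩
    rw [hgv] at hja
    obtain ⟨d, hd⟩ := Submodule.mem_span_singleton.1 hja
    obtain ⟨p, hp, hpj⟩ : ∃ p ∈ s, p ≠ (j, a) := by
      by_contra h
      push Not at h
      have h1 := Finset.card_le_card (show s ⊆ {(j, a)} from fun p hp => by simp [h p hp])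
      rw [hs, Finset.card_singleton] at h1
      have : 0 < Fintype.card F := Fintype.card_pos
      omega
    refine hpv p hp ?_
    rw [← hd, polar_smul_right, horth p (j, a) hpj, smul_zero]

/-- A generic element fixing a lattice and breaking a decomposition. -/
theorem exists_four_witness (hR : (polarBilin R).Nondegenerate) (hn : 5 ≤ Fintype.card ι)
    (h2 : (2 : F) = 0) (hD : IsOrthogonalMDecomposition (⇑R) k D) (ht : 4 ≤ t)
    (u : Fin t → Vι) (huD : ∀ i, u i ∈ D i) (huQ : ∀ i, R (u i) = 1)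
    (y : Fin t → Vι) (hyD : ∀ i, y i ∈ D i) (huy : ∀ i, polar R (u i) (y i) = 1) :
    ∃ (g : quadIso R) (e a : Vι), g ∈ Subgroup.closure (Sieg R) ∧
      (∃ i j, e = u i + u j) ∧ (∃ i j, a = u i + u j) ∧ IsEich R e a g ∧ R a = 0 ∧ g⁻¹ = g ∧
      toMat R g ∉ decompositionStabilizer D := by
  have hV : 5 ≤ finrank F Vι := by rw [Module.finrank_fintype_fun_eq_card]; exact hn
  set i₀ : Fin t := ⟨0, by omega⟩
  set i₁ : Fin t := ⟨1, by omega⟩
  set i₂ : Fin t := ⟨2, by omega⟩
  set i₃ : Fin t := ⟨3, by omega⟩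
  have h01 : i₀ ≠ i₁ := by simp [i₀, i₁]
  have h23 : i₂ ≠ i₃ := by simp [i₂, i₃]
  have h02 : i₀ ≠ i₂ := by simp [i₀, i₂]
  have h03 : i₀ ≠ i₃ := by simp [i₀, i₃]
  have h12 : i₁ ≠ i₂ := by simp [i₁, i₂]
  have h13 : i₁ ≠ i₃ := by simp [i₁, i₃]
  set e := u i₀ + u i₁ with he'
  set a := u i₂ + u i₃ with ha'
  have hsing : ∀ {i j : Fin t}, i ≠ j → R (u i + u j) = 0 := fun hij => by
    rw [QuadraticMap.map_add R, huQ, huQ, orth_blocks hD hij (huD _) (huD _)]
    linear_combination h2
  have hea : polar R e a = 0 := by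
    simp only [he', ha', polar_add_left, polar_add_right, orth_blocks hD h02 (huD _) (huD _),
      orth_blocks hD h03 (huD _) (huD _), orth_blocks hD h12 (huD _) (huD _),
      orth_blocks hD h13 (huD _) (huD _), add_zero]
  have hey : polar R e (y i₀) = 1 := by
    rw [he', polar_add_left, huy, orth_blocks hD h01.symm (huD _) (hyD _), add_zero]
  have he0 : e ≠ 0 := fun h => by
    rw [h, QuadraticMap.polar_zero_left] at hey
    exact zero_ne_one hey
  obtain ⟨g, hg⟩ := exists_eich R (hsing h01) hea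
  have hneg : ∀ x : Vι, -x = x := fun x => by
    rw [← neg_one_smul F x, show (-1 : F) = 1 by linear_combination -h2, one_smul]
  have hinv : g⁻¹ = g := by
    refine inv_eq_of_mul_eq_one_right (eich_unique R (eich_add R (hsing h01) hea hea hg hg) ?_)
    rw [show a + a = 0 by nth_rewrite 2 [← hneg a]; exact add_neg_cancel a]
    exact eich_zero R e
  refine ⟨g, e, a, eich_mem R hR hV he0 (hsing h01) hea hg, ⟨_, _, rfl⟩, ⟨_, _, rfl⟩, hg,
    hsing h23, hinv, fun hgH => ?_⟩
  obtain ⟨σ, hσ⟩ := exists_perm hgH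
  have hgy : g.1 (y i₀) = y i₀ + a := by
    rw [hg (y i₀), hey, ha', polar_add_left, orth_blocks hD h02.symm (huD _) (hyD _),
      orth_blocks hD h03.symm (huD _) (hyD _), hsing h23]
    simp
  have hmem := hσ i₀ _ (hyD i₀)
  rw [hgy] at hmem
  by_cases hσ0 : σ i₀ = i₂
  · rw [hσ0] at hmem
    have h := orth_blocks hD h02.symm hmem (huD i₀)
    rw [polar_add_left, ha', polar_add_left, orth_blocks hD h02.symm (huD _) (huD _),
      orth_blocks hD h03.symm (huD _) (huD _), polar_comm, huy] at h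
    simp at h
  · have h := orth_blocks hD hσ0 hmem (hyD i₂)
    rw [polar_add_left, ha', polar_add_left, orth_blocks hD h02 (hyD _) (hyD _), huy,
      orth_blocks hD h23.symm (huD _) (hyD _)] at h
    simp at h

/-- An additive lattice preserved by the stabiliser of an orthogonal decomposition. -/
theorem lattice_not_maximal (hR : (polarBilin R).Nondegenerate) (hn : 5 ≤ Fintype.card ι)
    (h2 : (2 : F) = 0) (hD : IsOrthogonalMDecomposition (⇑R) k D) (ht : 4 ≤ t)
    (u : Fin t → Vι) (huD : ∀ i, u i ∈ D i) (huQ : ∀ i, R (u i) = 1)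
    (y : Fin t → Vι) (hyD : ∀ i, y i ∈ D i) (huy : ∀ i, polar R (u i) (y i) = 1)
    (hS : ∀ i, ∀ v ∈ D i, R v = 1 → ∀ w ∈ D i, R w = 1 → polar R v w = 0 ∨ polar R v w = 1)
    (w : Vι) (hw1 : R w = 1)
    (hw : w ∉ AddSubgroup.closure {v : Vι | ∃ i, v ∈ D i ∧ R v = 1}) :
    ∃ K : Subgroup (Matrix.GeneralLinearGroup ι F),
      decompositionStabilizer D ⊓ omegaGL ⇑R < K ∧ K < omegaGL ⇑R := by
  set S : Set Vι := {v | ∃ i, v ∈ D i ∧ R v = 1} with hSdef
  set L := AddSubgroup.closure S with hL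
  have hV : 5 ≤ finrank F Vι := by rw [Module.finrank_fintype_fun_eq_card]; exact hn
  have hclos : ∀ g : quadIso R, (∀ x ∈ S, g.1 x ∈ L) → ∀ x ∈ (L : Set Vι), g.1 x ∈ (L : Set Vι) := by
    intro g h x hx
    have : L ≤ L.comap g.1.toAddEquiv.toAddMonoidHom := (AddSubgroup.closure_le _).2 h
    exact this hx
  have hbin : ∀ {x : Vι}, x ∈ S → ∀ i, polar R (u i) x = 0 ∨ polar R (u i) x = 1 := by
    rintro x ⟨j, hxj, hx1⟩ i
    by_cases hij : i = j
    · subst hij
      exact hS i _ (huD i) (huQ i) x hxj hx1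
    · exact Or.inl (orth_blocks hD hij (huD i) hxj)
  have hbin2 : ∀ {x : Vι}, x ∈ S → ∀ i j, polar R (u i + u j) x = 0 ∨ polar R (u i + u j) x = 1 := by
    intro x hx i j
    rw [polar_add_left]
    rcases hbin hx i with h | h <;> rcases hbin hx j with h' | h' <;> rw [h, h']
    · exact Or.inl (add_zero 0)
    · exact Or.inr (zero_add 1)
    · exact Or.inr (add_zero 1)
    · exact Or.inl (by linear_combination h2)
  have hmaps : ∀ g : quadIso R, toMat R g ∈ decompositionStabilizer D →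
      ∀ x ∈ S, g.1 x ∈ L := by
    rintro g hg x ⟨i, hxi, hx1⟩
    obtain ⟨σ, hσ⟩ := exists_perm hg
    exact AddSubgroup.subset_closure ⟨σ i, hσ i x hxi, by rw [g.2, hx1]⟩
  refine exists_between hR hn (setSt R (L : Set Vι)) (fun g _ hgH => mem_setSt (hclos g (hmaps g hgH))
    (hclos g⁻¹ (hmaps g⁻¹ (by rw [map_inv]; exact inv_mem hgH)))) ?_ ?_
  · obtain ⟨g, e, a, hgG, ⟨i, j, he⟩, ⟨i', j', ha⟩, hg, hQa, hinv, hgH⟩ :=
      exists_four_witness hR hn h2 hD ht u huD huQ y hyD huy
    have hu : ∀ i, u i ∈ L := fun i => AddSubgroup.subset_closure ⟨i, huD i, huQ i⟩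
    have hgS : ∀ x ∈ S, g.1 x ∈ L := fun x hx => by
      rw [hg x, hQa, zero_mul, sub_zero]
      have h0 : ∀ {d : F}, d = 0 ∨ d = 1 → ∀ {z : Vι}, z ∈ L → d • z ∈ L := by
        rintro d (rfl | rfl) z hz
        · rw [zero_smul]; exact zero_mem _
        · rwa [one_smul]
      refine add_mem (AddSubgroup.subset_closure hx) (add_mem (h0 (he ▸ hbin2 hx i j) ?_) ?_)
      · rw [ha]; exact add_mem (hu _) (hu _)
      · rw [neg_smul]
        exact neg_mem (h0 (ha ▸ hbin2 hx i' j') (he ▸ add_mem (hu _) (hu _)))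
    exact ⟨g, hgG, mem_setSt (hclos g hgS) (by rw [hinv]; exact hclos g hgS), hgH⟩
  · set i₀ : Fin t := ⟨0, by omega⟩
    obtain ⟨g, hg, hgw⟩ := OmegaSimple.transitive' R hR hV _
      (fun e w he0 he hew g hg => eich_mem R hR hV he0 he hew hg)
      (show R (u i₀) ≠ 0 by rw [huQ]; exact one_ne_zero) (show R (u i₀) = R w by rw [huQ, hw1])
    refine ⟨g, hg, fun hgS => hw ?_⟩
    have := (hgS (u i₀)).1 (AddSubgroup.subset_closure ⟨i₀, huD i₀, huQ i₀⟩)
    rwa [hgw] at this

/-- A finer decomposition preserved by the stabiliser of an orthogonal decomposition. -/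
theorem planes_not_maximal (hR : (polarBilin R).Nondegenerate) (hn : 5 ≤ Fintype.card ι)
    (hF : Fintype.card F = 2) (hD : IsOrthogonalMDecomposition (⇑R) k D) (ht : 3 ≤ t)
    (u v z : Fin t → Vι) (huD : ∀ i, u i ∈ D i) (hvD : ∀ i, v i ∈ D i) (hzD : ∀ i, z i ∈ D i)
    (huQ : ∀ i, R (u i) = 1) (hvQ : ∀ i, R (v i) = 1) (huv : ∀ i, polar R (u i) (v i) = 1)
    (hz0 : ∀ i, z i ≠ 0) (huz : ∀ i, polar R (u i) (z i) = 0) (hvz : ∀ i, polar R (v i) (z i) = 0)
    (hplanes : ∀ i, ∀ x ∈ D i, R x = 1 →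
      (polar R (u i) x = 0 ∧ polar R (v i) x = 0) ∨ x = u i ∨ x = v i ∨ x = u i + v i) :
    ∃ K : Subgroup (Matrix.GeneralLinearGroup ι F),
      decompositionStabilizer D ⊓ omegaGL ⇑R < K ∧ K < omegaGL ⇑R := by
  set S : Set Vι := {x | ∃ i, x ∈ D i ∧ R x = 1} with hSdef
  have hV : 5 ≤ finrank F Vι := by rw [Module.finrank_fintype_fun_eq_card]; exact hn
  have h2 : (2 : F) = 0 := by
    have h1 : (Fintype.card F : F) = 0 := FiniteField.cast_card_eq_zero F
    rwa [hF, Nat.cast_ofNat] at h1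
  have hmaps : ∀ g : quadIso R, toMat R g ∈ decompositionStabilizer D → ∀ x ∈ S, g.1 x ∈ S := by
    rintro g hg x ⟨i, hxi, hx1⟩
    obtain ⟨σ, hσ⟩ := exists_perm hg
    exact ⟨σ i, hσ i x hxi, by rw [g.2, hx1]⟩
  set i₀ : Fin t := ⟨0, by omega⟩
  set i₁ : Fin t := ⟨1, by omega⟩
  set i₂ : Fin t := ⟨2, by omega⟩
  have h01 : i₀ ≠ i₁ := by simp [i₀, i₁]
  have h02 : i₀ ≠ i₂ := by simp [i₀, i₂]
  have h12 : i₁ ≠ i₂ := by simp [i₁, i₂]
  have huu : ∀ i, polar R (u i) (u i) = 0 := fun i => by rw [ReflectionGen.pol_self, h2, zero_mul]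
  have hvv : ∀ i, polar R (v i) (v i) = 0 := fun i => by rw [ReflectionGen.pol_self, h2, zero_mul]
  refine exists_between hR hn (setSt R S) (fun g _ hgH => mem_setSt (hmaps g hgH)
    (hmaps g⁻¹ (by rw [map_inv]; exact inv_mem hgH))) ?_ ?_
  · set s₁ := u i₀ + u i₁ with hs1
    set s₂ := v i₀ + v i₁ with hs2
    have hQ1 : R s₁ = 0 := by
      rw [hs1, QuadraticMap.map_add R, huQ, huQ, orth_blocks hD h01 (huD _) (huD _)]
      linear_combination h2
    have hQ2 : R s₂ = 0 := by
      rw [hs2, QuadraticMap.map_add R, hvQ, hvQ, orth_blocks hD h01 (hvD _) (hvD _)]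
      linear_combination h2
    have hneg : ∀ x : Vι, -x = x := fun x => by
      rw [← neg_one_smul F x, show (-1 : F) = 1 by linear_combination -h2, one_smul]
    have hdbl : ∀ x : Vι, x + x = 0 := fun x => by
      nth_rewrite 2 [← hneg x]; exact add_neg_cancel x
    have h12' : polar R s₁ s₂ = 0 := by
      simp only [hs1, hs2, polar_add_left, polar_add_right, huv,
        orth_blocks hD h01 (huD _) (hvD _), orth_blocks hD h01.symm (huD _) (hvD _), add_zero,
        zero_add]
      linear_combination h2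
    have hs10 : s₁ ≠ 0 := fun h => by
      have h' := congrArg (fun x => polar R x (v i₀)) h
      simp [hs1, polar_add_left, huv, orth_blocks hD h01.symm (huD _) (hvD _)] at h'
    obtain ⟨g, hg⟩ := exists_eich R hQ1 h12'
    have hgx : ∀ x, g.1 x = x + (polar R s₁ x • s₂ + polar R s₂ x • s₁) := fun x => by
      rw [hg x, hQ2, zero_mul, sub_zero, show -polar R s₂ x = polar R s₂ x by
        linear_combination (-polar R s₂ x) * h2]
    have hfix : ∀ x, polar R s₁ x = 0 → polar R s₂ x = 0 → g.1 x = x := fun x h h' => by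
      rw [hgx, h, h', zero_smul, zero_smul, add_zero, add_zero]
    have e1 : polar R s₁ (u i₀) = 0 := by
      rw [hs1, polar_add_left, huu, orth_blocks hD h01.symm (huD _) (huD _), add_zero]
    have e2 : polar R s₂ (u i₀) = 1 := by
      rw [hs2, polar_add_left, orth_blocks hD h01.symm (hvD _) (huD _), add_zero, polar_comm, huv]
    have e3 : polar R s₁ (v i₀) = 1 := by
      rw [hs1, polar_add_left, orth_blocks hD h01.symm (huD _) (hvD _), add_zero, huv]
    have e4 : polar R s₂ (v i₀) = 0 := by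
      rw [hs2, polar_add_left, hvv, orth_blocks hD h01.symm (hvD _) (hvD _), add_zero]
    have hu0 : g.1 (u i₀) = u i₁ := by
      rw [hgx, e1, e2, zero_smul, one_smul, zero_add, hs1, ← add_assoc, hdbl, zero_add]
    have hv0 : g.1 (v i₀) = v i₁ := by
      rw [hgx, e3, e4, zero_smul, one_smul, add_zero, hs2, ← add_assoc, hdbl, zero_add]
    have hinv : g⁻¹ = g := by
      refine inv_eq_of_mul_eq_one_right (eich_unique R (eich_add R hQ1 h12' h12' hg hg) ?_)
      rw [hdbl]
      exact eich_zero R s₁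
    have hgg : ∀ x, g.1 (g.1 x) = x := fun x => by
      have h := congrArg (fun r : quadIso R => r.1 (g.1 x)) hinv
      exact h.symm.trans (g.1.symm_apply_apply x)
    have hu1 : g.1 (u i₁) = u i₀ := by rw [← hu0, hgg]
    have hv1 : g.1 (v i₁) = v i₀ := by rw [← hv0, hgg]
    have hgS : ∀ x ∈ S, g.1 x ∈ S := by
      rintro x ⟨i, hxi, hx1⟩
      by_cases hi : i = i₀ ∨ i = i₁
      · have hcase : (polar R (u i) x = 0 ∧ polar R (v i) x = 0) ∨
            x = u i ∨ x = v i ∨ x = u i + v i := hplanes i x hxi hx1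
        rcases hcase with ⟨hux, hvx⟩ | hx
        · refine ⟨i, ?_, by rw [g.2, hx1]⟩
          rw [hfix x ?_ ?_]
          · exact hxi
          all_goals
            rcases hi with rfl | rfl
          · rw [hs1, polar_add_left, hux, orth_blocks hD h01.symm (huD _) hxi, add_zero]
          · rw [hs1, polar_add_left, hux, orth_blocks hD h01 (huD _) hxi, add_zero]
          · rw [hs2, polar_add_left, hvx, orth_blocks hD h01.symm (hvD _) hxi, add_zero]
          · rw [hs2, polar_add_left, hvx, orth_blocks hD h01 (hvD _) hxi, add_zero]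
        · obtain ⟨j, hj⟩ : ∃ j, g.1 x ∈ D j := by
            rcases hi with rfl | rfl
            · refine ⟨i₁, ?_⟩
              rcases hx with rfl | rfl | rfl
              · rw [hu0]; exact huD _
              · rw [hv0]; exact hvD _
              · rw [map_add, hu0, hv0]; exact add_mem (huD _) (hvD _)
            · refine ⟨i₀, ?_⟩
              rcases hx with rfl | rfl | rfl
              · rw [hu1]; exact huD _
              · rw [hv1]; exact hvD _
              · rw [map_add, hu1, hv1]; exact add_mem (huD _) (hvD _)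
          exact ⟨j, hj, by rw [g.2, hx1]⟩
      · rw [not_or] at hi
        refine ⟨i, ?_, by rw [g.2, hx1]⟩
        rw [hfix x (by rw [hs1, polar_add_left, orth_blocks hD (Ne.symm hi.1) (huD _) hxi,
            orth_blocks hD (Ne.symm hi.2) (huD _) hxi, add_zero])
          (by rw [hs2, polar_add_left, orth_blocks hD (Ne.symm hi.1) (hvD _) hxi,
            orth_blocks hD (Ne.symm hi.2) (hvD _) hxi, add_zero])]
        exact hxi
    refine ⟨g, eich_mem R hR hV hs10 hQ1 h12' hg, mem_setSt hgS (by rw [hinv]; exact hgS), ?_⟩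
    refine not_mem_decompStab hD.decomp.decomp h01 (huD i₀)
      (fun h => by have := huQ i₀; rw [h, QuadraticMap.map_zero] at this; exact zero_ne_one this)
      (hzD i₀) (hz0 i₀) (by rw [hu0]; exact huD i₁) ?_
    rw [hfix _ (by rw [hs1, polar_add_left, huz, orth_blocks hD h01.symm (huD _) (hzD _), add_zero])
      (by rw [hs2, polar_add_left, hvz, orth_blocks hD h01.symm (hvD _) (hzD _), add_zero])]
    exact hzD i₀
  · set w := u i₀ + u i₁ + u i₂ with hw
    have hQw : R w = 1 := by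
      rw [hw, QuadraticMap.map_add R, QuadraticMap.map_add R, huQ, huQ, huQ, polar_add_left,
        orth_blocks hD h01 (huD _) (huD _), orth_blocks hD h02 (huD _) (huD _),
        orth_blocks hD h12 (huD _) (huD _)]
      linear_combination h2
    obtain ⟨g, hg, hgw⟩ := OmegaSimple.transitive' R hR hV _
      (fun e w he0 he hew g hg => eich_mem R hR hV he0 he hew hg)
      (show R (u i₀) ≠ 0 by rw [huQ]; exact one_ne_zero) (show R (u i₀) = R w by rw [huQ, hQw])
    refine ⟨g, hg, fun hgS => ?_⟩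
    obtain ⟨j, hj, -⟩ := (hgS (u i₀)).1 ⟨i₀, huD i₀, huQ i₀⟩
    rw [hgw] at hj
    have h1 : polar R w (v i₁) = 1 := by
      rw [hw, polar_add_left, polar_add_left, huv, orth_blocks hD h01 (huD _) (hvD _),
        orth_blocks hD h12.symm (huD _) (hvD _), zero_add, add_zero]
    have h1' : polar R w (v i₂) = 1 := by
      rw [hw, polar_add_left, polar_add_left, huv, orth_blocks hD h02 (huD _) (hvD _),
        orth_blocks hD h12 (huD _) (hvD _), zero_add, zero_add]
    by_cases hj1 : j = i₁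
    · subst hj1
      rw [orth_blocks hD h12 hj (hvD _)] at h1'
      exact zero_ne_one h1'
    · rw [orth_blocks hD hj1 hj (hvD _)] at h1
      exact zero_ne_one h1

end CfsgLib.MaxSub.Orth
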