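/-
The small imprimitive cases in `Ω` which are not maximal.
-/
import Cfsg.Agent.Lib.MaxSub.NotMaximalOrthFrame

set_option autoImplicit false
set_option maxHeartbeats 400000

namespace CfsgLib.MaxSub.Orth

open QuadraticMap Module CfsgLib.WittExtension Cfsg.Geo

section small

variable {F : Type*} [Field F] [Fintype F]

theorem field_three (h : Fintype.card F = 3) : (2 : F) ≠ 0 ∧ ∀ x : F, x ≠ 0 → x = 1 ∨ x = -1 := by
  refine ⟨fun h2 => ?_, fun x hx => ?_⟩
  · have h1 : (Fintype.card F : F) = 0 := FiniteField.cast_card_eq_zero F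
    rw [h] at h1
    push_cast at h1
    exact one_ne_zero (show (1 : F) = 0 by linear_combination h1 - h2)
  · have := FiniteField.pow_card_sub_one_eq_one x hx
    rw [h] at this
    exact sq_eq_one_iff.1 this

theorem field_three_sq (h : Fintype.card F = 3) (x : F) : x * x = 0 ∨ x * x = 1 := by
  by_cases hx : x = 0
  · left; rw [hx, mul_zero]
  · right; rcases (field_three h).2 x hx with e | e <;> rw [e] <;> ring

theorem three_eq_zero (h : Fintype.card F = 3) : (3 : F) = 0 := by
  have h1 : (Fintype.card F : F) = 0 := FiniteField.cast_card_eq_zero F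
  rwa [h, Nat.cast_ofNat] at h1

end small

section space

variable {F V : Type*} [Field F] [AddCommGroup V] [Module F V] [FiniteDimensional F V]
  {Q : QuadraticForm F V}

/-- Orthogonal vectors of equal non-zero value span. -/
theorem orth_span (h2 : (2 : F) ≠ 0) {W : Submodule F V} {d : ℕ} {b : Fin d → V}
    (hbW : ∀ a, b a ∈ W) {c : F} (hc : c ≠ 0) (hbQ : ∀ a, Q (b a) = c)
    (horth : ∀ a a', a ≠ a' → polar Q (b a) (b a') = 0) (hd : finrank F W = d) :
    ∀ v ∈ W, ∃ x : Fin d → F, v = ∑ a, x a • b a := by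
  have hli : LinearIndependent F b := Fintype.linearIndependent_iff.2 fun x hx j => by
    have h := congrArg (polarBilin Q (b j)) hx
    rw [map_sum, map_zero, Finset.sum_eq_single j
      (fun a _ ha => by rw [polarBilin_apply_apply, polar_smul_right, horth j a ha.symm]; simp)
      (fun h => absurd (Finset.mem_univ j) h), polarBilin_apply_apply, polar_smul_right,
      ReflectionGen.pol_self, hbQ, smul_eq_mul] at h
    exact (mul_eq_zero.1 h).resolve_right (mul_ne_zero h2 hc)
  have hspan : Submodule.span F (Set.range b) = W := by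
    refine Submodule.eq_of_le_of_finrank_eq (Submodule.span_le.2 ?_) ?_
    · rintro _ ⟨a, rfl⟩; exact hbW a
    · rw [finrank_span_eq_card hli, hd, Fintype.card_fin]
  intro v hv
  obtain ⟨x, hx⟩ := (Submodule.mem_span_range_iff_exists_fun F).1 (hspan.ge hv)
  exact ⟨x, hx.symm⟩

/-- A hyperbolic basis of a plus plane. -/
theorem hyp_basis {W : Submodule F V} (hW : ∀ x ∈ W, (∀ y ∈ W, polar Q x y = 0) → x = 0)
    (hd : finrank F W = 2) {e : V} (heW : e ∈ W) (he0 : e ≠ 0) (hQe : Q e = 0) :
    ∃ f ∈ W, Q f = 0 ∧ polar Q e f = 1 ∧ ∀ x ∈ W, ∃ α β : F, x = α • e + β • f := by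
  obtain ⟨y, hy, hey⟩ : ∃ y ∈ W, polar Q e y ≠ 0 := by
    by_contra h
    push Not at h
    exact he0 (hW e heW h)
  set y₁ := (polar Q e y)⁻¹ • y with hy1
  have hey1 : polar Q e y₁ = 1 := by rw [hy1, polar_smul_right, smul_eq_mul, inv_mul_cancel₀ hey]
  have hy1W : y₁ ∈ W := W.smul_mem _ hy
  clear_value y₁
  set f := y₁ + (-Q y₁) • e with hf
  have hfW : f ∈ W := W.add_mem hy1W (W.smul_mem _ heW)
  have hQf : Q f = 0 := by
    rw [hf, QuadraticMap.map_add Q, QuadraticMap.map_smul, hQe, polar_smul_right,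
      polar_comm Q y₁ e, hey1]
    simp
  have hef : polar Q e f = 1 := by
    rw [hf, polar_add_right, polar_smul_right, ReflectionGen.pol_self, hQe, hey1]; simp
  clear_value f
  refine ⟨f, hfW, hQf, hef, ?_⟩
  have hle : Submodule.span F ({e, f} : Set V) ≤ W := by
    rw [Submodule.span_le]; rintro _ (rfl | rfl) <;> assumption
  have hli : LinearIndependent F ![e, f] := LinearIndependent.pair_iff.2 fun α β h => by
    have h1 := congrArg (polar Q e) h
    have h2 := congrArg (polar Q f) h
    simp [polar_add_right, polar_smul_right, ReflectionGen.pol_self, hQe, hef,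
      QuadraticMap.polar_zero_right] at h1
    simp [polar_add_right, polar_smul_right, ReflectionGen.pol_self, hQf, polar_comm Q f e, hef,
      QuadraticMap.polar_zero_right] at h2
    exact ⟨h2, h1⟩
  have heq := Submodule.eq_of_le_of_finrank_eq hle (by
    rw [hd]
    have := finrank_span_eq_card hli
    rwa [Matrix.range_cons, Matrix.range_cons, Matrix.range_empty, Set.union_empty,
      Set.singleton_union, Fintype.card_fin] at this)
  intro x hx
  obtain ⟨α, β, h⟩ := Submodule.mem_span_pair.1 (heq.ge hx)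
  exact ⟨α, β, h.symm⟩

theorem map_comb {e f : V} (hQe : Q e = 0) (hQf : Q f = 0) (hef : polar Q e f = 1) (α β : F) :
    Q (α • e + β • f) = α * β := by
  rw [QuadraticMap.map_add Q, QuadraticMap.map_smul, QuadraticMap.map_smul, hQe, hQf,
    polar_smul_left, polar_smul_right, hef]
  simp

theorem polar_comb2 {e f : V} (hQe : Q e = 0) (hQf : Q f = 0) (hef : polar Q e f = 1)
    (α β γ δ : F) : polar Q (α • e + β • f) (γ • e + δ • f) = α * δ + β * γ := by
  simp only [polar_add_left, polar_add_right, polar_smul_left, polar_smul_right,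
    ReflectionGen.pol_self, hQe, hQf, hef, polar_comm Q f e, smul_eq_mul]
  ring

end space

open Matrix

variable {F : Type*} [Field F] [Fintype F] {ι : Type} [Fintype ι] [DecidableEq ι]
  {R : QuadraticForm F (ι → F)} {t k : ℕ} {D : Fin t → Submodule F (ι → F)}

local notation "Vι" => (ι → F)

/-- The conclusion: the decomposition stabiliser is not maximal. -/
def NotMax (R : QuadraticForm F Vι) (D : Fin t → Submodule F Vι) : Prop :=
  ∃ K : Subgroup (GL ι F), decompositionStabilizer D ⊓ omegaGL ⇑R < K ∧ K < omegaGL ⇑R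

/-- Frames transported from one block. -/
theorem frame_not_maximal_of_block (hR : (polarBilin R).Nondegenerate) (hn : 5 ≤ Fintype.card ι)
    (h2 : (2 : F) ≠ 0) (hD : IsOrthogonalMDecomposition (⇑R) k D) (hk : 2 ≤ k) (ht : 4 ≤ t)
    {d : ℕ} (hd : 0 < d) (hcard : Fintype.card F + 1 ≤ t * d) {c : F} (hc : c ≠ 0) (i₀ : Fin t)
    (b : Fin d → Vι) (hbD : ∀ a, b a ∈ D i₀) (hbQ : ∀ a, R (b a) = c)
    (hborth : ∀ a a', a ≠ a' → polar R (b a) (b a') = 0)
    (hkey : ∀ v ∈ D i₀, R v = c → ∃ a, v ∈ Submodule.span F {b a}) : NotMax R D := by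
  classical
  choose e he using fun i => hD.isometric i₀ i
  haveI : Nonempty (Fin d) := ⟨⟨0, hd⟩⟩
  refine frame_not_maximal hR hn h2 hD hk ht (κ := Fin d) (by rwa [Fintype.card_fin]) hc
    (fun i a => (e i ⟨b a, hbD a⟩).1) (fun i a => (e i _).2) (fun i a => ?_) (fun i a a' h => ?_)
    (fun i v hv hQv => ?_)
  · rw [he]; exact hbQ a
  · rw [← hborth a a' h]
    unfold QuadraticMap.polar
    rw [← Submodule.coe_add, ← map_add, he, he, he]
    rfl
  · set v' := (e i).symm ⟨v, hv⟩ with hv'
    have h1 : R v'.1 = c := by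
      rw [← he i v', hv', LinearEquiv.apply_symm_apply]
      exact hQv
    obtain ⟨a, ha⟩ := hkey v'.1 v'.2 h1
    obtain ⟨s, hs⟩ := Submodule.mem_span_singleton.1 ha
    refine ⟨a, Submodule.mem_span_singleton.2 ⟨s, ?_⟩⟩
    have h2 : s • (⟨b a, hbD a⟩ : D i₀) = v' := Subtype.ext hs
    rw [← Submodule.coe_smul, ← map_smul, h2, hv', LinearEquiv.apply_symm_apply]

omit [Fintype F] in
theorem t_mul (hD : IsOrthogonalMDecomposition (⇑R) k D) : t * k = Fintype.card ι :=
  CfsgLib.Aschbacher.mDecomposition_mul_eq hD.decomp.decomp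

omit [Fintype ι] [DecidableEq ι] in
/-- The frame of a non-degenerate space of dimension three over three elements. -/
theorem three_frame [Finite ι] (hq : Fintype.card F = 3) {W : Submodule F Vι}
    (hPn : ∀ x ∈ W, (∀ y ∈ W, polar R x y = 0) → x = 0) (hd3 : finrank F W = 3) :
    ∃ c : F, c ≠ 0 ∧ ∃ w : Fin 3 → Vι, (∀ a, w a ∈ W) ∧ (∀ a, R (w a) = c) ∧
      (∀ a a', a ≠ a' → polar R (w a) (w a') = 0) ∧
      ∀ v ∈ W, R v = c → ∃ a, v ∈ Submodule.span F {w a} := by
  obtain ⟨h2, hval⟩ := field_three hq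
  have h3 := three_eq_zero hq
  obtain ⟨b₀, horth₀, hne⟩ := exists_orth_basis h2 hPn
  let b : Fin 3 → Vι := fun a => (b₀ (Fin.cast hd3.symm a)).1
  have horth : ∀ a a', a ≠ a' → polar R (b a) (b a') = 0 := fun a a' h =>
    horth₀ _ _ fun e => h (Fin.cast_injective _ e)
  have hb : ∀ a, b a ∈ W := fun a => (b₀ _).2
  have hv : ∀ a, R (b a) = 1 ∨ R (b a) = -1 := fun a => hval _ (hne _)
  -- an orthogonal basis of equal values
  obtain ⟨c, hc, w, hwD, hwQ, hworth⟩ : ∃ c : F, c ≠ 0 ∧ ∃ w : Fin 3 → Vι, (∀ a, w a ∈ W) ∧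
      (∀ a, R (w a) = c) ∧ ∀ a a', a ≠ a' → polar R (w a) (w a') = 0 := by
    have key : ∀ i j l : Fin 3, i ≠ j → i ≠ l → j ≠ l → R (b i) = R (b j) →
        ∃ c : F, c ≠ 0 ∧ ∃ w : Fin 3 → Vι, (∀ a, w a ∈ W) ∧ (∀ a, R (w a) = c) ∧
          ∀ a a', a ≠ a' → polar R (w a) (w a') = 0 := by
      intro i j l hij hil hjl heq
      by_cases hl : R (b l) = R (b i)
      · refine ⟨R (b i), hne _, ![b i, b j, b l], ?_, ?_, ?_⟩
        · intro a; fin_cases a <;> exact hb _
        · intro a; fin_cases a <;> simp [heq, hl]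
        · intro a a' h
          fin_cases a <;> fin_cases a' <;>
            first
              | exact absurd rfl h
              | simp [horth _ _ hij, horth _ _ hil, horth _ _ hjl, horth _ _ hij.symm,
                  horth _ _ hil.symm, horth _ _ hjl.symm]
      · have hl' : R (b l) = 2 * R (b i) := by
          rcases hv l with e1 | e1 <;> rcases hv i with e2 | e2 <;> rw [e1, e2] at hl ⊢
          · exact absurd rfl hl
          · linear_combination h3
          · linear_combination -h3
          · exact absurd rfl hl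
        refine ⟨2 * R (b i), mul_ne_zero h2 (hne _),
          ![b i + b j, b i + (-1 : F) • b j, b l], ?_, ?_, ?_⟩
        · intro a; fin_cases a
          · exact add_mem (hb _) (hb _)
          · exact add_mem (hb _) (Submodule.smul_mem _ _ (hb _))
          · exact hb _
        · intro a; fin_cases a
          · show R (b i + b j) = 2 * R (b i)
            rw [QuadraticMap.map_add R, horth _ _ hij, ← heq]; ring
          · show R (b i + (-1 : F) • b j) = 2 * R (b i)
            rw [QuadraticMap.map_add R, QuadraticMap.map_smul, polar_smul_right, horth _ _ hij,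
              ← heq]
            simp only [smul_eq_mul]; ring
          · exact hl'
        · intro a a' h
          fin_cases a <;> fin_cases a' <;>
            first
              | exact absurd rfl h
              | simp [polar_add_left, polar_add_right, polar_smul_left, polar_smul_right,
                  ReflectionGen.pol_self, heq, horth _ _ hij, horth _ _ hil, horth _ _ hjl,
                  horth _ _ hij.symm, horth _ _ hil.symm, horth _ _ hjl.symm]
    rcases hv 0 with e0 | e0 <;> rcases hv 1 with e1 | e1 <;> rcases hv 2 with e2 | e2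
    all_goals first
      | exact key 0 1 2 (by decide) (by decide) (by decide) (e0.trans e1.symm)
      | exact key 0 2 1 (by decide) (by decide) (by decide) (e0.trans e2.symm)
      | exact key 1 2 0 (by decide) (by decide) (by decide) (e1.trans e2.symm)
  refine ⟨c, hc, w, hwD, hwQ, hworth, fun v hvD hQv => ?_⟩
  obtain ⟨x, rfl⟩ := orth_span h2 hwD hc hwQ hworth hd3 v hvD
  rw [map_sum_orth hworth x Finset.univ, Fin.sum_univ_three, hwQ, hwQ, hwQ] at hQv
  have hx : x 0 * x 0 + x 1 * x 1 + x 2 * x 2 = 1 :=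
    mul_right_cancel₀ hc (by linear_combination hQv)
  have hz : ∀ a : Fin 3, x a * x a = 0 → x a = 0 := fun a h => mul_self_eq_zero.1 h
  simp only [Fin.sum_univ_three]
  rcases field_three_sq hq (x 0) with s0 | s0 <;> rcases field_three_sq hq (x 1) with s1 | s1 <;>
    rcases field_three_sq hq (x 2) with s2 | s2 <;> rw [s0, s1, s2] at hx
  · exact absurd hx (by simp)
  · exact ⟨2, by rw [hz 0 s0, hz 1 s1]; simpa using Submodule.smul_mem _ _ (Submodule.mem_span_singleton_self (w 2))⟩
  · exact ⟨1, by rw [hz 0 s0, hz 2 s2]; simpa using Submodule.smul_mem _ _ (Submodule.mem_span_singleton_self (w 1))⟩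
  · exact absurd (show (1 : F) = 0 by linear_combination hx) one_ne_zero
  · exact ⟨0, by rw [hz 1 s1, hz 2 s2]; simpa using Submodule.smul_mem _ _ (Submodule.mem_span_singleton_self (w 0))⟩
  · exact absurd (show (1 : F) = 0 by linear_combination hx) one_ne_zero
  · exact absurd (show (1 : F) = 0 by linear_combination hx) one_ne_zero
  · exact absurd (show (1 : F) = 0 by linear_combination h3 - hx) one_ne_zero

/-- Type `O₃(3) wr S_t`. -/
theorem three_three (hR : (polarBilin R).Nondegenerate) (hn : 12 ≤ Fintype.card ι)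
    (hq : Fintype.card F = 3) (hD : IsOrthogonalMDecomposition (⇑R) 3 D) : NotMax R D := by
  have ht := t_mul hD
  obtain ⟨c, hc, w, hwD, hwQ, hworth, hkey⟩ := three_frame hq
    (nondeg_of (R := R) (hD.decomp.nondegenerate ⟨0, by omega⟩)) (hD.decomp.decomp.finrank_eq _)
  exact frame_not_maximal_of_block hR (by omega) (field_three hq).1 hD (by norm_num) (by omega)
    (d := 3) (by norm_num) (by omega) hc _ w hwD hwQ hworth hkey

/-- Types `O₂^±(3) wr S_t`. -/
theorem two_three (hR : (polarBilin R).Nondegenerate) (hn : 10 ≤ Fintype.card ι)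
    (hq : Fintype.card F = 3) (hD : IsOrthogonalMDecomposition (⇑R) 2 D) : NotMax R D := by
  obtain ⟨h2, hval⟩ := field_three hq
  have h3 := three_eq_zero hq
  have ht := t_mul hD
  set i₀ : Fin t := ⟨0, by omega⟩
  have hPn := nondeg_of (R := R) (hD.decomp.nondegenerate i₀)
  have hd2 := hD.decomp.decomp.finrank_eq i₀
  by_cases hsing : ∃ e ∈ D i₀, e ≠ 0 ∧ R e = 0
  · obtain ⟨e, heD, he0, hQe⟩ := hsing
    obtain ⟨f, hfD, hQf, hef, hsp⟩ := hyp_basis hPn hd2 heD he0 hQe
    refine frame_not_maximal_of_block hR (by omega) h2 hD le_rfl (by omega) (d := 1)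
      Nat.one_pos (by omega) one_ne_zero i₀ (fun _ => e + f) (fun _ => add_mem heD hfD)
      (fun _ => by rw [QuadraticMap.map_add R, hQe, hQf, hef, zero_add, zero_add])
      (fun a a' h => absurd (Subsingleton.elim a a') h) fun v hv hQv => ⟨0, ?_⟩
    obtain ⟨α, β, rfl⟩ := hsp v hv
    rw [map_comb hQe hQf hef] at hQv
    have hβ : β = α := by
      rcases hval α (fun h => by rw [h, zero_mul] at hQv; exact zero_ne_one hQv) with e1 | e1 <;>
        rw [e1] at hQv ⊢
      · linear_combination hQv
      · linear_combination -hQv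
    rw [hβ, ← smul_add]
    exact Submodule.smul_mem _ _ (Submodule.mem_span_singleton_self _)
  · push Not at hsing
    obtain ⟨b₀, horth₀, hne⟩ := exists_orth_basis h2 hPn
    let b : Fin 2 → Vι := fun a => (b₀ (Fin.cast hd2.symm a)).1
    have horth : ∀ a a', a ≠ a' → polar R (b a) (b a') = 0 := fun a a' h =>
      horth₀ _ _ fun e => h (Fin.cast_injective _ e)
    have hb : ∀ a, b a ∈ D i₀ := fun a => (b₀ _).2
    have hvals : R (b 1) = R (b 0) := by
      have h01 : R (b 0 + b 1) ≠ 0 := by
        intro h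
        by_cases hz : b 0 + b 1 = 0
        · have h' := congrArg (polar R (b 0)) hz
          rw [polar_add_right, horth 0 1 (by decide), add_zero, QuadraticMap.polar_zero_right,
            ReflectionGen.pol_self] at h'
          exact hne _ ((mul_eq_zero.1 h').resolve_left h2)
        · exact hsing _ (add_mem (hb 0) (hb 1)) hz h
      rw [QuadraticMap.map_add R, horth 0 1 (by decide), add_zero] at h01
      rcases hval _ (hne (Fin.cast hd2.symm 0)) with e0 | e0 <;>
        rcases hval _ (hne (Fin.cast hd2.symm 1)) with e1 | e1 <;>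
        simp only [b] at h01 ⊢ <;> rw [e0, e1] at h01 ⊢
      all_goals exact absurd (by ring) h01
    refine frame_not_maximal_of_block hR (by omega) h2 hD le_rfl (by omega) (d := 2)
      Nat.two_pos (by omega) (c := R (b 0)) (hne _) i₀ b hb
      (fun a => by fin_cases a <;> simp [hvals]) horth fun v hvD hQv => ?_
    obtain ⟨x, rfl⟩ := orth_span h2 hb (c := R (b 0)) (hne _)
      (fun a => by fin_cases a <;> simp [hvals]) horth hd2 v hvD
    rw [map_sum_orth horth x Finset.univ, Fin.sum_univ_two, hvals] at hQv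
    have hx : x 0 * x 0 + x 1 * x 1 = 1 :=
      mul_right_cancel₀ (show R (b 0) ≠ 0 from hne _) (by linear_combination hQv)
    simp only [Fin.sum_univ_two]
    rcases field_three_sq hq (x 0) with s0 | s0
    · exact ⟨1, by
        rw [mul_self_eq_zero.1 s0, zero_smul, zero_add]
        exact Submodule.smul_mem _ _ (Submodule.mem_span_singleton_self _)⟩
    · refine ⟨0, ?_⟩
      rw [mul_self_eq_zero.1 (show x 1 * x 1 = 0 by linear_combination hx - s0), zero_smul,
        add_zero]
      exact Submodule.smul_mem _ _ (Submodule.mem_span_singleton_self _)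

omit [Fintype F] in
theorem exists_singular_of_plus {W : Submodule F Vι} (hd : 0 < finrank F W)
    (hW : IsPlusTypeOn (⇑R) W) : ∃ e ∈ W, e ≠ 0 ∧ R e = 0 := by
  obtain ⟨U, hUW, hU, hUd⟩ := hW
  obtain ⟨e, he, he0⟩ := Submodule.exists_mem_ne_zero_of_ne_bot
    (show U ≠ ⊥ from fun h => by rw [h, finrank_bot] at hUd; omega)
  exact ⟨e, hUW he, he0, hU e he⟩

/-- Type `O₂⁺(5) wr S_t`. -/
theorem two_five (hR : (polarBilin R).Nondegenerate) (hn : 10 ≤ Fintype.card ι)
    (hq : Fintype.card F = 5) (hD : IsOrthogonalMDecomposition (⇑R) 2 D)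
    (hplus : ∀ i, IsPlusTypeOn (⇑R) (D i)) : NotMax R D := by
  have h5 : (5 : F) = 0 := by
    have h1 : (Fintype.card F : F) = 0 := FiniteField.cast_card_eq_zero F
    rwa [hq, Nat.cast_ofNat] at h1
  have h2 : (2 : F) ≠ 0 := fun h => one_ne_zero (show (1 : F) = 0 by linear_combination h5 - 2 * h)
  have ht := t_mul hD
  set i₀ : Fin t := ⟨0, by omega⟩
  have hPn := nondeg_of (R := R) (hD.decomp.nondegenerate i₀)
  have hd2 := hD.decomp.decomp.finrank_eq i₀
  obtain ⟨e, heD, he0, hQe⟩ := exists_singular_of_plus (by omega) (hplus i₀)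
  obtain ⟨f, hfD, hQf, hef, hsp⟩ := hyp_basis hPn hd2 heD he0 hQe
  refine frame_not_maximal_of_block hR (by omega) h2 hD le_rfl (by omega) (d := 2)
    Nat.two_pos (by omega) one_ne_zero i₀
    ![(1 : F) • e + (1 : F) • f, (2 : F) • e + (-2 : F) • f] ?_ ?_ ?_ fun v hv hQv => ?_
  · intro a; fin_cases a <;> exact add_mem (Submodule.smul_mem _ _ heD) (Submodule.smul_mem _ _ hfD)
  · intro a; fin_cases a
    · show R ((1 : F) • e + (1 : F) • f) = 1
      rw [map_comb hQe hQf hef, one_mul]
    · show R ((2 : F) • e + (-2 : F) • f) = 1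
      rw [map_comb hQe hQf hef]
      linear_combination -h5
  · intro a a' h
    fin_cases a <;> fin_cases a'
    · exact absurd rfl h
    · show polar R ((1 : F) • e + (1 : F) • f) ((2 : F) • e + (-2 : F) • f) = 0
      rw [polar_comb2 hQe hQf hef]; ring
    · show polar R ((2 : F) • e + (-2 : F) • f) ((1 : F) • e + (1 : F) • f) = 0
      rw [polar_comb2 hQe hQf hef]; ring
    · exact absurd rfl h
  · obtain ⟨α, β, rfl⟩ := hsp v hv
    rw [map_comb hQe hQf hef] at hQv
    have hα : α ≠ 0 := fun h => by rw [h, zero_mul] at hQv; exact zero_ne_one hQv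
    have h4 := FiniteField.pow_card_sub_one_eq_one α hα
    rw [hq] at h4
    have h4' : (α ^ 2 - 1) * (α ^ 2 + 1) = 0 := by
      norm_num at h4
      linear_combination h4
    rcases mul_eq_zero.1 h4' with h | h
    · refine ⟨0, Submodule.mem_span_singleton.2 ⟨α, ?_⟩⟩
      have hβ : β = α := by linear_combination (-β) * h + α * hQv
      show α • ((1 : F) • e + (1 : F) • f) = _
      rw [hβ, one_smul, one_smul, smul_add]
    · refine ⟨1, Submodule.mem_span_singleton.2 ⟨α / 2, ?_⟩⟩
      have hβ : β = -α := by linear_combination β * h - α * hQv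
      show (α / 2) • ((2 : F) • e + (-2 : F) • f) = _
      rw [hβ, smul_add, smul_smul, smul_smul, div_mul_cancel₀ _ h2, mul_neg,
        div_mul_cancel₀ _ h2]

omit [Fintype F] in
/-- A bound on the polar values of a generated lattice. -/
theorem polar_closure_mem {S : Set Vι} {y : Vι} (A : AddSubgroup F)
    (h : ∀ x ∈ S, polar R x y ∈ A) {x : Vι} (hx : x ∈ AddSubgroup.closure S) :
    polar R x y ∈ A := by
  refine AddSubgroup.closure_induction (p := fun x _ => polar R x y ∈ A) (fun x hx => h x hx) ?_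
    ?_ ?_ hx
  · rw [QuadraticMap.polar_zero_left]; exact zero_mem _
  · intro a b _ _ ha hb; rw [polar_add_left]; exact add_mem ha hb
  · intro a _ ha; rw [polar_neg_left]; exact neg_mem ha

/-- Types `O₂⁺(2)` and `O₂⁺(4) wr S_t`. -/
theorem two_even (hR : (polarBilin R).Nondegenerate) (hn : 10 ≤ Fintype.card ι)
    (hq : Fintype.card F = 2 ∨ Fintype.card F = 4) (hD : IsOrthogonalMDecomposition (⇑R) 2 D)
    (hplus : ∀ i, IsPlusTypeOn (⇑R) (D i)) : NotMax R D := by
  have h2 : (2 : F) = 0 := by
    have h1 : (Fintype.card F : F) = 0 := FiniteField.cast_card_eq_zero F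
    rcases hq with h | h <;> rw [h, Nat.cast_ofNat] at h1
    · exact h1
    · exact mul_self_eq_zero.1 (show (2 : F) * 2 = 0 by linear_combination h1)
  have hcube : ∀ r : F, r ≠ 0 → r ^ 3 = 1 := fun r hr => by
    have := FiniteField.pow_card_sub_one_eq_one r hr
    rcases hq with h | h <;> rw [h] at this
    · rw [pow_one] at this; rw [this, one_pow]
    · exact this
  have ht := t_mul hD
  have hd2 := fun i => hD.decomp.decomp.finrank_eq i
  have hPn := fun i => nondeg_of (R := R) (hD.decomp.nondegenerate i)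
  choose e heD he0 hQe using fun i => exists_singular_of_plus (R := R)
    (show 0 < finrank F (D i) by rw [hd2]; omega) (hplus i)
  choose f hfD hQf hef hsp using fun i => hyp_basis (hPn i) (hd2 i) (heD i) (he0 i) (hQe i)
  have hee : ∀ i, polar R (e i) (e i) = 0 := fun i => by
    rw [ReflectionGen.pol_self, hQe, mul_zero]
  have hS : ∀ i, ∀ v ∈ D i, R v = 1 → ∀ w ∈ D i, R w = 1 →
      polar R v w = 0 ∨ polar R v w = 1 := by
    intro i v hv hv1 w hw hw1
    obtain ⟨α, β, rfl⟩ := hsp i v hv
    obtain ⟨γ, δ, rfl⟩ := hsp i w hw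
    rw [map_comb (hQe i) (hQf i) (hef i)] at hv1 hw1
    rw [polar_comb2 (hQe i) (hQf i) (hef i)]
    have hαδ : α * δ ≠ 0 := mul_ne_zero (fun h => by rw [h, zero_mul] at hv1; exact zero_ne_one hv1)
      (fun h => by rw [h, mul_zero] at hw1; exact zero_ne_one hw1)
    have hprod : (α * δ) * (β * γ) = 1 := by linear_combination δ * γ * hv1 + hw1
    have h3 := hcube _ hαδ
    have hinv : β * γ = (α * δ) ^ 2 := by
      linear_combination (-(β * γ)) * h3 + (α * δ) ^ 2 * hprod
    rw [hinv]
    by_cases h1 : α * δ = 1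
    · left; rw [h1]; linear_combination h2
    · right
      have : (α * δ - 1) * ((α * δ) ^ 2 + α * δ + 1) = 0 := by linear_combination h3
      have := (mul_eq_zero.1 this).resolve_left (sub_ne_zero.2 h1)
      linear_combination this - h2
  have huD : ∀ i, e i + f i ∈ D i := fun i => add_mem (heD i) (hfD i)
  have huQ : ∀ i, R (e i + f i) = 1 := fun i => by
    rw [QuadraticMap.map_add R, hQe, hQf, hef, zero_add, zero_add]
  have huy : ∀ i, polar R (e i + f i) (e i) = 1 := fun i => by
    rw [polar_add_left, hee, polar_comm, hef, zero_add]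
  have main : ∀ w : Vι, R w = 1 →
      w ∉ AddSubgroup.closure {v : Vι | ∃ i, v ∈ D i ∧ R v = 1} → NotMax R D :=
    fun w hw1 hw => lattice_not_maximal hR (by omega) h2 hD (by omega) (fun i => e i + f i) huD huQ
      e heD huy hS w hw1 hw
  set i₀ : Fin t := ⟨0, by omega⟩
  set i₁ : Fin t := ⟨1, by omega⟩
  set i₂ : Fin t := ⟨2, by omega⟩
  have h01 : i₀ ≠ i₁ := by simp [i₀, i₁]
  have h02 : i₀ ≠ i₂ := by simp [i₀, i₂]
  have h12 : i₁ ≠ i₂ := by simp [i₁, i₂]
  by_cases hex : ∃ l : F, l ≠ 0 ∧ l ≠ 1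
  · obtain ⟨l, hl0, hl1⟩ := hex
    refine main ((e i₀ + f i₀) + l • (e i₁ + f i₁) + l • (e i₂ + f i₂)) ?_ fun hmem => ?_
    · have key : ∀ A B C : Vι, R A = 1 → R B = 1 → R C = 1 → polar R A B = 0 → polar R A C = 0 →
          polar R B C = 0 → R (A + l • B + l • C) = 1 + l * l + l * l := by
        intro A B C hA hB hC hAB hAC hBC
        rw [QuadraticMap.map_add R, QuadraticMap.map_add R, QuadraticMap.map_smul,
          QuadraticMap.map_smul, hA, hB, hC]
        simp [polar_add_left, polar_smul_left, polar_smul_right, hAB, hAC, hBC]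
      rw [key _ _ _ (huQ _) (huQ _) (huQ _) (orth_blocks hD h01 (huD _) (huD _))
        (orth_blocks hD h02 (huD _) (huD _)) (orth_blocks hD h12 (huD _) (huD _))]
      linear_combination (l * l) * h2
    · set v₁ := l • e i₁ + (l ^ 2) • f i₁ with hv1
      have hv1D : v₁ ∈ D i₁ := add_mem (Submodule.smul_mem _ _ (heD _)) (Submodule.smul_mem _ _ (hfD _))
      have hv1Q : R v₁ = 1 := by
        rw [hv1, map_comb (hQe _) (hQf _) (hef _)]
        linear_combination hcube l hl0
      let A : AddSubgroup F :=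
        { carrier := {0, 1}
          zero_mem' := by simp
          add_mem' := by
            rintro a b (rfl | rfl) (rfl | rfl)
            · simp
            · simp
            · simp
            · left; linear_combination h2
          neg_mem' := by
            rintro a (rfl | rfl)
            · simp
            · right
              show (-1 : F) = 1
              linear_combination -h2 }
      have hA := polar_closure_mem (R := R) (y := v₁) A (fun x hx => by
        obtain ⟨j, hxj, hx1⟩ := hx
        by_cases hj : j = i₁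
        · subst hj; exact hS i₁ x hxj hx1 v₁ hv1D hv1Q
        · exact Or.inl (orth_blocks hD hj hxj hv1D)) hmem
      have h1 : polar R (e i₁ + f i₁) v₁ = 1 := by
        have := polar_comb2 (hQe i₁) (hQf i₁) (hef i₁) 1 1 l (l ^ 2)
        rw [one_smul, one_smul] at this
        rw [hv1, this]
        have h3 : (l - 1) * (l ^ 2 + l + 1) = 0 := by linear_combination hcube l hl0
        linear_combination (mul_eq_zero.1 h3).resolve_left (sub_ne_zero.2 hl1) - h2
      rw [polar_add_left, polar_add_left, orth_blocks hD h01 (huD _) hv1D, polar_smul_left, h1,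
        orth_blocks hD h12.symm (Submodule.smul_mem _ _ (huD _)) hv1D] at hA
      simp only [smul_eq_mul, mul_one, zero_add, add_zero] at hA
      rcases hA with h | h
      · exact hl0 h
      · exact hl1 h
  · push Not at hex
    refine main (e i₀ + f i₀ + e i₁) ?_ fun hmem => ?_
    · rw [QuadraticMap.map_add R, huQ, hQe, orth_blocks hD h01 (huD _) (heD _)]
      simp
    · have hA := polar_closure_mem (R := R) (y := e i₁ + f i₁) ⊥ (fun x hx => by
        obtain ⟨j, hxj, hx1⟩ := hx
        rw [AddSubgroup.mem_bot]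
        by_cases hj : j = i₁
        · subst hj
          obtain ⟨α, β, rfl⟩ := hsp i₁ x hxj
          rw [map_comb (hQe i₁) (hQf i₁) (hef i₁)] at hx1
          have hα := hex α (fun h => by rw [h, zero_mul] at hx1; exact zero_ne_one hx1)
          have := polar_comb2 (hQe i₁) (hQf i₁) (hef i₁) α β 1 1
          rw [one_smul, one_smul] at this
          rw [this, hα]
          rw [hα, one_mul] at hx1
          rw [hx1]
          linear_combination h2
        · exact orth_blocks hD hj hxj (huD i₁)) hmem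
      rw [AddSubgroup.mem_bot, polar_add_left, orth_blocks hD h01 (huD _) (huD _), polar_comm,
        huy, zero_add] at hA
      exact one_ne_zero hA

/-- Type `O₄⁺(2) wr S_t`. -/
theorem four_two (hR : (polarBilin R).Nondegenerate) (hn : 12 ≤ Fintype.card ι)
    (hq : Fintype.card F = 2) (hD : IsOrthogonalMDecomposition (⇑R) 4 D)
    (hplus : ∀ i, IsPlusTypeOn (⇑R) (D i)) : NotMax R D := by
  have ht := t_mul hD
  have h2 : (2 : F) = 0 := by
    have h1 : (Fintype.card F : F) = 0 := FiniteField.cast_card_eq_zero F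
    rwa [hq, Nat.cast_ofNat] at h1
  have hone : ∀ c : F, c ≠ 0 → c = 1 := fun c hc => by
    have := FiniteField.pow_card_sub_one_eq_one c hc
    rwa [hq, pow_one] at this
  have key : ∀ i, ∃ u v z : Vι, u ∈ D i ∧ v ∈ D i ∧ z ∈ D i ∧ R u = 1 ∧ R v = 1 ∧
      polar R u v = 1 ∧ z ≠ 0 ∧ polar R u z = 0 ∧ polar R v z = 0 ∧
      ∀ x ∈ D i, R x = 1 →
        (polar R u x = 0 ∧ polar R v x = 0) ∨ x = u ∨ x = v ∨ x = u + v := by
    intro i
    have hd4 := hD.decomp.decomp.finrank_eq i
    have hn4 := nondeg_of (R := R) (hD.decomp.nondegenerate i)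
    obtain ⟨U, hUW, hU, hUd⟩ := hplus i
    obtain ⟨a₁, ha₁, ha₁0⟩ := Submodule.exists_mem_ne_zero_of_ne_bot
      (show U ≠ ⊥ from fun h => by rw [h, finrank_bot] at hUd; omega)
    have mkpair : ∀ a ∈ D i, R a = 0 → ∀ y ∈ D i, polar R a y = 1 →
        R (y + (-R y) • a) = 0 ∧ polar R a (y + (-R y) • a) = 1 := fun a _ hQa y _ hay => by
      constructor
      · rw [QuadraticMap.map_add R, QuadraticMap.map_smul, hQa, polar_smul_right, polar_comm R y a,
          hay]
        simp
      · rw [polar_add_right, polar_smul_right, ReflectionGen.pol_self, hQa, hay]; simp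
    obtain ⟨y₁, hy₁, hay₁⟩ : ∃ y ∈ D i, polar R a₁ y = 1 := by
      by_contra h
      push Not at h
      refine ha₁0 (hn4 a₁ (hUW ha₁) fun y hy => ?_)
      by_contra h'
      exact h y hy (hone _ h')
    obtain ⟨hQb₁, hab₁⟩ := mkpair a₁ (hUW ha₁) (hU a₁ ha₁) y₁ hy₁ hay₁
    set b₁ := y₁ + (-R y₁) • a₁ with hb₁
    have hb₁D : b₁ ∈ D i := add_mem hy₁ (Submodule.smul_mem _ _ (hUW ha₁))
    clear_value b₁
    obtain ⟨a₂, ha₂, ha₂0⟩ := Submodule.exists_mem_ne_zero_of_ne_bot
      (show U ⊓ LinearMap.ker (polarBilin R b₁) ≠ ⊥ from fun h => by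
        have := finrank_inf_ker U (polarBilin R b₁)
        rw [h, finrank_bot] at this
        omega)
    have hba₂ : polar R b₁ a₂ = 0 := ha₂.2
    have haa : polar R a₁ a₂ = 0 := polar_eq_zero_of_sing hU ha₁ ha₂.1
    obtain ⟨y₂, hy₂, hay₂⟩ : ∃ y ∈ D i, polar R a₂ y = 1 := by
      by_contra h
      push Not at h
      refine ha₂0 (hn4 a₂ (hUW ha₂.1) fun y hy => ?_)
      by_contra h'
      exact h y hy (hone _ h')
    set y₃ := y₂ + (-(polar R b₁ y₂)) • a₁ + (-(polar R a₁ y₂)) • b₁ with hy₃
    have hy₃D : y₃ ∈ D i :=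
      add_mem (add_mem hy₂ (Submodule.smul_mem _ _ (hUW ha₁))) (Submodule.smul_mem _ _ hb₁D)
    have ha1y : polar R a₁ y₃ = 0 := by
      simp [hy₃, polar_add_right, polar_smul_right, ReflectionGen.pol_self, hU a₁ ha₁, hab₁]
    have hb1y : polar R b₁ y₃ = 0 := by
      simp [hy₃, polar_add_right, polar_smul_right, ReflectionGen.pol_self, hQb₁,
        polar_comm R b₁ a₁, hab₁]
    have hay₃ : polar R a₂ y₃ = 1 := by
      simp [hy₃, polar_add_right, polar_smul_right, polar_comm R a₂ a₁, haa, polar_comm R a₂ b₁,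
        hba₂, hay₂]
    clear_value y₃
    obtain ⟨hQb₂, hab₂⟩ := mkpair a₂ (hUW ha₂.1) (hU a₂ ha₂.1) y₃ hy₃D hay₃
    set b₂ := y₃ + (-R y₃) • a₂ with hb₂
    have hb₂D : b₂ ∈ D i := add_mem hy₃D (Submodule.smul_mem _ _ (hUW ha₂.1))
    have hab12 : polar R a₁ b₂ = 0 := by
      simp [hb₂, polar_add_right, polar_smul_right, ha1y, haa]
    have hbb : polar R b₁ b₂ = 0 := by
      simp [hb₂, polar_add_right, polar_smul_right, hb1y, hba₂]
    clear_value b₂
    have hfam : FiniteForms.HypFam R ![a₁, a₂] ![b₁, b₂] := by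
      refine ⟨?_, ?_, ?_, ?_, ?_⟩
      · intro j; fin_cases j <;> simp [hU a₁ ha₁, hU a₂ ha₂.1]
      · intro j; fin_cases j <;> simp [hQb₁, hQb₂]
      · intro j l; fin_cases j <;> fin_cases l <;>
          simp [hab₁, hab₂, hab12, polar_comm R a₂ b₁, hba₂]
      · intro j l; fin_cases j <;> fin_cases l <;>
          simp [ReflectionGen.pol_self, hU a₁ ha₁, hU a₂ ha₂.1, haa, polar_comm R a₂ a₁]
      · intro j l; fin_cases j <;> fin_cases l <;>
          simp [ReflectionGen.pol_self, hQb₁, hQb₂, hbb, polar_comm R b₂ b₁]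
    have hspan : Submodule.span F (Set.range (Sum.elim ![a₁, a₂] ![b₁, b₂])) = D i := by
      refine Submodule.eq_of_le_of_finrank_eq (Submodule.span_le.2 ?_) ?_
      · rintro _ ⟨j | j, rfl⟩ <;> fin_cases j <;>
          simp [hUW ha₁, hUW ha₂.1, hb₁D, hb₂D]
      · rw [finrank_span_eq_card hfam.linearIndependent, hd4]; simp
    refine ⟨a₁ + b₁, a₁ + (a₂ + b₂), a₂ + b₂, add_mem (hUW ha₁) hb₁D,
      add_mem (hUW ha₁) (add_mem (hUW ha₂.1) hb₂D), add_mem (hUW ha₂.1) hb₂D, ?_, ?_, ?_, ?_, ?_,
      ?_, ?_⟩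
    · simp [QuadraticMap.map_add R, hU a₁ ha₁, hQb₁, hab₁]
    · simp [QuadraticMap.map_add R, hU a₁ ha₁, hU a₂ ha₂.1, hQb₂, hab₂, polar_add_right, haa,
        hab12]
    · simp [polar_add_left, polar_add_right, ReflectionGen.pol_self, hU a₁ ha₁, haa, hab12,
        hba₂, hbb, polar_comm R b₁ a₁, hab₁]
    · intro h
      have h' := congrArg (polar R a₂) h
      simp [polar_add_right, ReflectionGen.pol_self, hU a₂ ha₂.1, hab₂] at h'
    · simp [polar_add_left, polar_add_right, haa, hab12, hba₂, hbb]
    · simp [polar_add_left, polar_add_right, haa, hab12, ReflectionGen.pol_self, hU a₂ ha₂.1,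
        hQb₂, polar_comm R b₂ a₂, hab₂]
      linear_combination h2
    · intro x hx hx1
      obtain ⟨cf, hcf⟩ := (Submodule.mem_span_range_iff_exists_fun F).1 (hspan.ge hx)
      simp [Fintype.sum_sum_type, Fin.sum_univ_two] at hcf
      subst hcf
      have h01 : ∀ c : F, c = 0 ∨ c = 1 := fun c =>
        (em (c = 0)).imp id fun h => hone c h
      have hQ : cf (Sum.inl 0) * cf (Sum.inr 0) + cf (Sum.inl 1) * cf (Sum.inr 1) = 1 := by
        rw [← hx1]
        simp [QuadraticMap.map_add R, QuadraticMap.map_smul, polar_add_left, polar_add_right,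
          polar_smul_left, polar_smul_right, hU a₁ ha₁, hU a₂ ha₂.1, hQb₁, hQb₂, hab₁, hab₂,
          haa, hab12, hbb, polar_comm R a₂ b₁, hba₂]
        ring
      have e11 : (1 : F) + 1 = 0 := by linear_combination h2
      rcases h01 (cf (Sum.inl 0)) with e1 | e1 <;> rcases h01 (cf (Sum.inr 0)) with e2 | e2 <;>
        rcases h01 (cf (Sum.inl 1)) with e3 | e3 <;> rcases h01 (cf (Sum.inr 1)) with e4 | e4 <;>
        simp [e1, e2, e3, e4, e11] at hQ ⊢ <;>
        simp [polar_add_left, polar_add_right, ReflectionGen.pol_self, hU a₁ ha₁, hU a₂ ha₂.1,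
          hQb₁, hQb₂, hab₁, hab₂, haa, hab12, hbb, polar_comm R a₂ b₁, hba₂, polar_comm R b₁ a₁,
          polar_comm R b₂ a₂, polar_comm R b₂ a₁, polar_comm R b₂ b₁, polar_comm R a₂ a₁, e11]
      all_goals first
        | exact Or.inr (Or.inr trivial)
        | (refine Or.inl ?_; abel1)
        | (refine Or.inr (Or.inl ?_); abel1)
        | exact Or.inr (Or.inr (by
            rw [show a₁ + b₁ + (a₁ + (a₂ + b₂)) = (2 : F) • a₁ + (b₁ + (a₂ + b₂)) by
              rw [two_smul]; abel, h2, zero_smul, zero_add]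
            abel))
  choose u v z hu hv hz huQ hvQ huv hz0 huz hvz hpl using key
  exact planes_not_maximal hR (by omega) hq hD (by omega) u v z hu hv hz huQ hvQ huv hz0 huz hvz
    hpl

end CfsgLib.MaxSub.Orth
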