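/-
Rational vectors for a subfield structure.
-/
import Mathlib
import Cfsg.Prelude.Def_GeometricClasses

set_option autoImplicit false

namespace CfsgLib.MaxSub.Rational

open Matrix Cfsg Cfsg.Geo

variable {F : Type*} [Field F] {ι : Type} [Fintype ι] [DecidableEq ι]

/-- All coordinates in the subfield. -/
def Rat (F₀ : Subfield F) (u : ι → F) : Prop := ∀ i, u i ∈ F₀

variable {F₀ : Subfield F}

omit [Fintype ι] in
theorem rat_single (i : ι) : Rat F₀ (Pi.single i (1 : F) : ι → F) := fun j => by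
  by_cases h : j = i
  · subst h; simp [F₀.one_mem]
  · simp [Pi.single_eq_of_ne h, F₀.zero_mem]

omit [Fintype ι] [DecidableEq ι] in
theorem rat_add {u v : ι → F} (hu : Rat F₀ u) (hv : Rat F₀ v) : Rat F₀ (u + v) :=
  fun i => F₀.add_mem (hu i) (hv i)

omit [Fintype ι] [DecidableEq ι] in
theorem rat_sub {u v : ι → F} (hu : Rat F₀ u) (hv : Rat F₀ v) : Rat F₀ (u - v) :=
  fun i => F₀.sub_mem (hu i) (hv i)

omit [Fintype ι] [DecidableEq ι] in
theorem rat_smul {c : F} {u : ι → F} (hc : c ∈ F₀) (hu : Rat F₀ u) : Rat F₀ (c • u) :=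
  fun i => F₀.mul_mem hc (hu i)

omit [Fintype ι] [DecidableEq ι] in
theorem rat_zero : Rat F₀ (0 : ι → F) := fun _ => F₀.zero_mem

/-- An element which is a scalar times a rational matrix in the given basis is in the subfield
subgroup. -/
theorem mem_of_entries {P g : GL ι F} {c : F} (hc : c ≠ 0) {N : Matrix ι ι F}
    (hN : ∀ i j, N i j ∈ F₀) (h : ((P⁻¹ * g * P : GL ι F) : Matrix ι ι F) = c • N) :
    g ∈ subfieldSubgroup F₀ P := by
  let N₀ : Matrix ι ι F₀ := fun i j => ⟨N i j, hN i j⟩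
  have hmap : N₀.map (F₀.subtype : F₀ →+* F) = N := Matrix.ext fun i j => rfl
  have hdetF : ((P⁻¹ * g * P : GL ι F) : Matrix ι ι F).det ≠ 0 :=
    ((Matrix.isUnit_iff_isUnit_det _).1 (Units.isUnit _)).ne_zero
  have hd : N₀.det ≠ 0 := fun h0 => by
    refine hdetF ?_
    rw [h, Matrix.det_smul, ← hmap, ← RingHom.mapMatrix_apply, ← RingHom.map_det, h0, map_zero,
      mul_zero]
  let N₁ : GL ι F₀ := Matrix.GeneralLinearGroup.mkOfDetNeZero N₀ hd
  let s : GL ι F := Units.map (Matrix.scalar ι : F →+* Matrix ι ι F).toMonoidHom (Units.mk0 c hc)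
  refine ⟨P⁻¹ * g * P, ?_, by simp [mul_assoc]⟩
  have hs : s ∈ scalars ι F := ⟨Units.mk0 c hc, rfl⟩
  have hN₁ : Matrix.GeneralLinearGroup.map (F₀.subtype : F₀ →+* F) N₁ ∈
      (Matrix.GeneralLinearGroup.map (n := ι) (F₀.subtype : F₀ →+* F)).range := ⟨N₁, rfl⟩
  have e : P⁻¹ * g * P = s * Matrix.GeneralLinearGroup.map (F₀.subtype : F₀ →+* F) N₁ := Units.ext (by
    rw [h, Units.val_mul]
    show _ = Matrix.scalar ι c * N₀.map (F₀.subtype : F₀ →+* F)
    rw [hmap, Matrix.scalar_apply, ← Matrix.smul_one_eq_diagonal, Matrix.smul_mul, Matrix.one_mul])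
  rw [e]
  exact mul_mem (Subgroup.mem_sup_right hs) (Subgroup.mem_sup_left hN₁)

/-- An element mapping rational vectors to rational ones is in the subfield subgroup. -/
theorem mem_of_maps {P g : GL ι F}
    (h : ∀ u, Rat F₀ u → ∃ w, Rat F₀ w ∧
      (g : Matrix ι ι F) *ᵥ ((P : Matrix ι ι F) *ᵥ u) = (P : Matrix ι ι F) *ᵥ w) :
    g ∈ subfieldSubgroup F₀ P := by
  refine mem_of_entries (c := 1) one_ne_zero (N := ((P⁻¹ * g * P : GL ι F) : Matrix ι ι F))
    (fun i j => ?_) (one_smul F _).symm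
  obtain ⟨w, hw, e⟩ := h _ (rat_single (F₀ := F₀) j)
  have : (((P⁻¹ * g * P : GL ι F) : Matrix ι ι F)) *ᵥ Pi.single j 1 = w := by
    rw [Units.val_mul, Units.val_mul, ← Matrix.mulVec_mulVec, ← Matrix.mulVec_mulVec, e,
      Matrix.mulVec_mulVec, Units.inv_mul, Matrix.one_mulVec]
  rw [Matrix.mulVec_single_one] at this
  have h' := congrFun this i
  rw [Matrix.col_apply] at h'
  rw [h']
  exact hw i

/-- Outside the subfield subgroup some rational vector is not mapped to a multiple of a rational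
vector. -/
theorem exists_moved [Nonempty ι] {P g : GL ι F} (h : g ∉ subfieldSubgroup F₀ P) :
    ∃ u, Rat F₀ u ∧ ∀ (c : F) (w : ι → F), Rat F₀ w →
      (g : Matrix ι ι F) *ᵥ ((P : Matrix ι ι F) *ᵥ u) ≠ (P : Matrix ι ι F) *ᵥ (c • w) := by
  by_contra hc
  push Not at hc
  set M : Matrix ι ι F := ((P⁻¹ * g * P : GL ι F) : Matrix ι ι F) with hM
  have hMi : Function.Injective fun x => M *ᵥ x := Matrix.mulVec_injective_iff_isUnit.2 (Units.isUnit _)
  have hMu : ∀ u, Rat F₀ u → ∃ c w, Rat F₀ w ∧ M *ᵥ u = c • w := fun u hu => by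
    obtain ⟨c, w, hw, e⟩ := hc u hu
    refine ⟨c, w, hw, ?_⟩
    rw [hM, Units.val_mul, Units.val_mul, ← Matrix.mulVec_mulVec, ← Matrix.mulVec_mulVec, e,
      Matrix.mulVec_mulVec, Units.inv_mul, Matrix.one_mulVec]
  choose c w hw hcw using fun i => hMu _ (rat_single (F₀ := F₀) i)
  have hc0 : ∀ i, c i ≠ 0 := fun i h0 => by
    have := hMi (show M *ᵥ Pi.single i (1 : F) = M *ᵥ 0 by rw [hcw, h0, zero_smul, Matrix.mulVec_zero])
    simpa using congrFun this i
  obtain ⟨i0⟩ := ‹Nonempty ι›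
  have hratio : ∀ i, c i / c i0 ∈ F₀ := fun i => by
    by_cases hi : i = i0
    · subst hi; rw [div_self (hc0 i)]; exact F₀.one_mem
    obtain ⟨d, x, hx, e⟩ := hMu _ (rat_add (rat_single (F₀ := F₀) i) (rat_single (F₀ := F₀) i0))
    rw [Matrix.mulVec_add, hcw, hcw] at e
    -- independence of the two columns
    have hind : ∀ a b : F, a • w i + b • w i0 = 0 → a = 0 ∧ b = 0 := fun a b hab => by
      have := hMi (show M *ᵥ ((a / c i) • Pi.single i (1 : F) + (b / c i0) • Pi.single i0 1) = M *ᵥ 0 by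
        rw [Matrix.mulVec_add, Matrix.mulVec_smul, Matrix.mulVec_smul, hcw, hcw, smul_smul, smul_smul,
          div_mul_cancel₀ _ (hc0 i), div_mul_cancel₀ _ (hc0 i0), hab, Matrix.mulVec_zero])
      have h1 := congrFun this i
      have h2 := congrFun this i0
      simp [hi, Ne.symm hi, hc0] at h1 h2
      exact ⟨h1, h2⟩
    obtain ⟨j, l, hjl⟩ : ∃ j l, w i j * w i0 l - w i l * w i0 j ≠ 0 := by
      by_contra hz
      push Not at hz
      obtain ⟨j, hj⟩ : ∃ j, w i j ≠ 0 := by
        by_contra hh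
        push Not at hh
        have := (hind 1 0 (by rw [one_smul, zero_smul, add_zero]; exact funext hh)).1
        exact one_ne_zero this
      have := (hind (w i0 j) (-(w i j)) (funext fun l => by
        simp only [Pi.add_apply, Pi.smul_apply, smul_eq_mul, Pi.zero_apply]
        linear_combination -(hz j l))).2
      exact hj (neg_eq_zero.1 this)
    have ej := congrFun e j
    have el := congrFun e l
    simp only [Pi.add_apply, Pi.smul_apply, smul_eq_mul] at ej el
    have hd : d ≠ 0 := fun h0 => by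
      rw [h0, zero_mul] at ej el
      have : c i * (w i j * w i0 l - w i l * w i0 j) = 0 := by
        linear_combination (w i0 l) * ej - (w i0 j) * el
      exact mul_ne_zero (hc0 i) hjl this
    have key : ∀ p q r s : F, p ∈ F₀ → q ∈ F₀ → r ∈ F₀ → s ∈ F₀ → ∀ y : F, r * s ≠ 0 →
        y * (r * s) = p * q → y ∈ F₀ := fun p q r s hp hq hr hs y hne he => by
      rw [eq_div_of_mul_eq hne he]
      exact F₀.div_mem (F₀.mul_mem hp hq) (F₀.mul_mem hr hs)
    set Δ := w i j * w i0 l - w i l * w i0 j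
    have hΔ : Δ ∈ F₀ := F₀.sub_mem (F₀.mul_mem (hw i j) (hw i0 l)) (F₀.mul_mem (hw i l) (hw i0 j))
    have h1 : c i / d ∈ F₀ := by
      refine key (x j * w i0 l - x l * w i0 j) 1 Δ 1 (F₀.sub_mem (F₀.mul_mem (hx j) (hw i0 l))
        (F₀.mul_mem (hx l) (hw i0 j))) F₀.one_mem hΔ F₀.one_mem _ (by simpa using hjl) ?_
      field_simp
      linear_combination (w i0 l) * ej - (w i0 j) * el
    have h2 : c i0 / d ∈ F₀ := by
      refine key (x l * w i j - x j * w i l) 1 Δ 1 (F₀.sub_mem (F₀.mul_mem (hx l) (hw i j))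
        (F₀.mul_mem (hx j) (hw i l))) F₀.one_mem hΔ F₀.one_mem _ (by simpa using hjl) ?_
      field_simp
      linear_combination (w i j) * el - (w i l) * ej
    rw [← div_div_div_cancel_right₀ hd]
    exact F₀.div_mem h1 h2
  refine h (mem_of_entries (P := P) (hc0 i0) (N := Matrix.of fun k i => (c i / c i0) * w i k)
    (fun k i => F₀.mul_mem (hratio i) (hw i k)) (Matrix.ext fun k i => ?_))
  have := congrFun (hcw i) k
  rw [Matrix.mulVec_single_one] at this
  rw [← hM, show M k i = c i * w i k from this]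
  simp [← mul_assoc, mul_div_cancel₀ _ (hc0 i0)]

end CfsgLib.MaxSub.Rational
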