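/-
Stabilisers of tensor decompositions with a factor `O₃(3)` are not maximal in `Ω`.
-/
import Cfsg.Agent.Lib.MaxSub.NotMaximalOrthBlocks
import Cfsg.Agent.Lib.Aschbacher.HermFrame

set_option autoImplicit false
set_option maxHeartbeats 400000

namespace CfsgLib.MaxSub.Orth

open QuadraticMap Module CfsgLib.WittExtension CfsgLib.Eichler Cfsg.Geo Matrix
open CfsgLib.OmegaSimple (eich_mem)
open scoped Kronecker

section forms

variable {F : Type*} [Field F]

theorem bilin_expand {κ : Type} [Fintype κ] [DecidableEq κ] {f : (κ → F) → (κ → F) → F}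
    (hf : IsBilinearForm f) (x y : κ → F) :
    f x y = ∑ a, ∑ b, x a * gramMatrix f a b * y b := by
  let B := LinearMap.mk₂ F f hf.add_left (fun c x y => by rw [hf.smul_left]; rfl)
    hf.add_right (fun c x y => by rw [hf.smul_right]; rfl)
  show B x y = _
  conv_lhs => rw [pi_eq_sum_univ' x, pi_eq_sum_univ' y]
  simp only [map_sum, map_smul, LinearMap.sum_apply, LinearMap.smul_apply, smul_eq_mul,
    Finset.mul_sum]
  rw [Finset.sum_comm]
  refine Finset.sum_congr rfl fun a _ => Finset.sum_congr rfl fun b _ => ?_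
  show _ * (_ * f (Pi.single a 1) (Pi.single b 1)) = _ * f (Pi.single a 1) (Pi.single b 1) * _
  ring

theorem formOfGram_pure {a b : ℕ} {f₁ : (Fin a → F) → (Fin a → F) → F}
    {f₂ : (Fin b → F) → (Fin b → F) → F} (h₁ : IsBilinearForm f₁) (h₂ : IsBilinearForm f₂)
    (x x' : Fin a → F) (y y' : Fin b → F) :
    formOfGram id (gramMatrix f₁ ⊗ₖ gramMatrix f₂) (fun p => x p.1 * y p.2)
      (fun p => x' p.1 * y' p.2) = f₁ x x' * f₂ y y' := by
  rw [bilin_expand h₁, bilin_expand h₂, formOfGram, Fintype.sum_prod_type, Finset.sum_mul]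
  refine Finset.sum_congr rfl fun i _ => ?_
  rw [Finset.sum_mul]
  simp only [Fintype.sum_prod_type, Finset.mul_sum, kroneckerMap_apply, id_eq]
  rw [Finset.sum_comm]
  refine Finset.sum_congr rfl fun j _ => Finset.sum_congr rfl fun k _ =>
    Finset.sum_congr rfl fun l _ => ?_
  ring

end forms

variable {F : Type*} [Field F] [Fintype F] {ι : Type} [Fintype ι] [DecidableEq ι]
  {n₂ : ℕ}

local notation "Vι" => (ι → F)

/-- A pure tensor in the space. -/
def ptens (e : ι ≃ Fin 3 × Fin n₂) (P : GL ι F) :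
    (Fin 3 → F) →ₗ[F] (Fin n₂ → F) →ₗ[F] (ι → F) :=
  LinearMap.mk₂ F (fun x y => (P : Matrix ι ι F) *ᵥ ((fun p => x p.1 * y p.2) ∘ e))
    (fun x x' y => by
      rw [← Matrix.mulVec_add]; congr 1; funext i; simp [add_mul])
    (fun c x y => by
      rw [← Matrix.mulVec_smul]; congr 1; funext i; simp [mul_assoc])
    (fun x y y' => by
      rw [← Matrix.mulVec_add]; congr 1; funext i; simp [mul_add])
    (fun c x y => by
      rw [← Matrix.mulVec_smul]; congr 1; funext i; simp [mul_left_comm])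

/-- Stabilisers of `O₃(3) ⊗ O_{n₂}(3)` preserve a decomposition. -/
theorem tensor_three_not_maximal {Q : Vι → F} (hQ : IsNondegenerateQuadraticForm Q)
    (hn : 7 ≤ Fintype.card ι) (hq : Fintype.card F = 3) (h2d : 5 ≤ n₂)
    (e : ι ≃ Fin 3 × Fin n₂) (P : GL ι F) (f₁ : (Fin 3 → F) → (Fin 3 → F) → F)
    (f₂ : (Fin n₂ → F) → (Fin n₂ → F) → F) (hf₁ : IsSymmetricForm f₁) (hf₂ : IsSymmetricForm f₂)
    (hT : IsTensorFormStructure id (QuadraticMap.polar Q) f₁ f₂ e P) :
    ∃ K : Subgroup (GL ι F), tensorProductSubgroup 3 n₂ e P ⊓ omegaGL Q < K ∧ K < omegaGL Q := by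
  classical
  obtain ⟨R, rfl, hR⟩ := exists_form hQ
  obtain ⟨c, hc, hT⟩ := hT
  obtain ⟨h2, hval⟩ := field_three hq
  have hV : 5 ≤ finrank F Vι := by rw [Module.finrank_fintype_fun_eq_card]; omega
  set ψ := ptens e P
  have hB : ∀ x x' y y', polar R (ψ x y) (ψ x' y') = c * (f₁ x x' * f₂ y y') := fun x x' y y' => by
    rw [← formOfGram_pure hf₁.bilinear hf₂.bilinear]
    exact hT _ _
  have hnd₁ : ∀ x, (∀ x', f₁ x x' = 0) → x = 0 := fun x h => by
    by_contra h0
    obtain ⟨-, z, hz⟩ := hf₁.nondegenerate x h0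
    exact hz (h z)
  have hnd₂ : ∀ y, (∀ y', f₂ y y' = 0) → y = 0 := fun y h => by
    by_contra h0
    obtain ⟨-, z, hz⟩ := hf₂.nondegenerate y h0
    exact hz (h z)
  -- a vector of non-zero value in the second factor
  obtain ⟨y₁, hy₁⟩ : ∃ y, f₂ y y ≠ 0 := by
    by_contra h
    push Not at h
    obtain ⟨y, hy⟩ : ∃ y : Fin n₂ → F, y ≠ 0 :=
      ⟨Pi.single ⟨0, by omega⟩ 1, by simp [Pi.single_eq_zero_iff]⟩
    refine hy (hnd₂ y fun y' => ?_)
    have e1 := h (y + y')
    rw [hf₂.bilinear.add_left, hf₂.bilinear.add_right, hf₂.bilinear.add_right, h y, h y',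
      hf₂.symm y' y] at e1
    exact (mul_eq_zero.1 (show (2 : F) * f₂ y y' = 0 by linear_combination e1)).resolve_left h2
  have hinj1 : ∀ {y}, y ≠ 0 → Function.Injective (ψ.flip y) := fun {y} hy =>
    (injective_iff_map_eq_zero _).2 fun x hx => hnd₁ x fun x' => by
      obtain ⟨y', hy'⟩ : ∃ y', f₂ y y' ≠ 0 := by
        by_contra h
        push Not at h
        exact hy (hnd₂ y h)
      have := hB x x' y y'
      rw [show ψ x y = 0 from hx, QuadraticMap.polar_zero_left] at this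
      simpa [hc, hy'] using this.symm
  have hinj2 : ∀ {x}, x ≠ 0 → Function.Injective (ψ x) := fun {x} hx =>
    (injective_iff_map_eq_zero _).2 fun y hy => hnd₂ y fun y' => by
      obtain ⟨x', hx'⟩ : ∃ x', f₁ x x' ≠ 0 := by
        by_contra h
        push Not at h
        exact hx (hnd₁ x h)
      have := hB x x' y y'
      rw [hy, QuadraticMap.polar_zero_left] at this
      simpa [hc, hx'] using this.symm
  have hy₁0 : y₁ ≠ 0 := fun h => hy₁ (by
    have h' := hf₂.bilinear.smul_left 0 y₁ y₁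
    rw [zero_smul, zero_mul] at h'
    nth_rewrite 1 [h]
    exact h')
  set W₀ := LinearMap.range (ψ.flip y₁) with hW₀
  have hW₀n : ∀ v ∈ W₀, (∀ u ∈ W₀, polar R v u = 0) → v = 0 := by
    rintro _ ⟨x, rfl⟩ h
    rw [hnd₁ x fun x' => ?_, map_zero]
    have := h _ ⟨x', rfl⟩
    rw [LinearMap.flip_apply, LinearMap.flip_apply, hB] at this
    simpa [hc, hy₁] using this
  obtain ⟨d, hd, w, hwW, hwQ, hworth, hkey⟩ := three_frame (R := R) hq hW₀n (by
    rw [LinearMap.finrank_range_of_inj (hinj1 hy₁0), Module.finrank_fin_fun])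
  choose x hx using hwW
  have hx' : ∀ j, ψ (x j) y₁ = w j := hx
  have hx0 : ∀ j, x j ≠ 0 := fun j h => hd (by
    rw [← hwQ j, ← hx' j, h, map_zero, LinearMap.zero_apply, QuadraticMap.map_zero])
  set δ := 2 * d / (c * f₂ y₁ y₁) with hδ
  have hδ0 : δ ≠ 0 := div_ne_zero (mul_ne_zero h2 hd) (mul_ne_zero hc hy₁)
  have hxx : ∀ i j, f₁ (x i) (x j) = if i = j then δ else 0 := fun i j => by
    have h1 := hB (x i) (x j) y₁ y₁
    rw [hx', hx'] at h1
    split_ifs with h
    · subst h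
      rw [ReflectionGen.pol_self, hwQ] at h1
      rw [hδ, eq_div_iff (mul_ne_zero hc hy₁)]
      linear_combination -h1
    · rw [hworth i j h] at h1
      simpa [hc, hy₁] using h1.symm
  set S : Set Vι := {v | ∃ j y, v = ψ (x j) y} with hS
  -- tensors permute the three parts
  have hmaps : ∀ g : quadIso R, toMat R g ∈ tensorProductSubgroup 3 n₂ e P →
      ∃ (a : GL (Fin 3) F) (b : GL (Fin n₂) F), ∀ u v, g.1 (ψ u v) =
        ψ ((a : Matrix (Fin 3) (Fin 3) F) *ᵥ u) ((b : Matrix (Fin n₂) (Fin n₂) F) *ᵥ v) := by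
    intro g hg
    rw [Cfsg.Geo.tensorProductSubgroup, Aschbacher.map_glReindex_conj] at hg
    obtain ⟨X, ⟨a, b, hX⟩, hXe⟩ := hg
    refine ⟨a, b, fun u v => ?_⟩
    rw [← toMat_mulVec, ← hXe]
    show ((Aschbacher.frU e P X : GL ι F) : Matrix ι ι F) *ᵥ
      ((P : Matrix ι ι F) *ᵥ ((fun p => u p.1 * v p.2) ∘ e)) = _
    rw [Aschbacher.frU_val, Aschbacher.frAlg_mulVec, hX]
    refine congrArg (fun z : Fin 3 × Fin n₂ → F => (P : Matrix ι ι F) *ᵥ (z ∘ e)) ?_
    funext p
    simp only [Matrix.mulVec, dotProduct, Matrix.kroneckerMap_apply, Fintype.sum_prod_type,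
      Finset.sum_mul, Finset.mul_sum]
    conv_rhs => rw [Finset.sum_comm]
    refine Finset.sum_congr rfl fun i _ => Finset.sum_congr rfl fun j _ => ?_
    ring
  have hfwd : ∀ g : quadIso R, toMat R g ∈ tensorProductSubgroup 3 n₂ e P →
      ∀ v ∈ S, g.1 v ∈ S := by
    rintro g hg v ⟨j, y, rfl⟩
    obtain ⟨a, b, hab⟩ := hmaps g hg
    set A := (a : Matrix (Fin 3) (Fin 3) F)
    set B := (b : Matrix (Fin n₂) (Fin n₂) F)
    have hiso : ∀ u u' v v', f₁ (A *ᵥ u) (A *ᵥ u') * f₂ (B *ᵥ v) (B *ᵥ v') =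
        f₁ u u' * f₂ v v' := fun u u' v v' => by
      refine mul_left_cancel₀ hc ?_
      rw [← hB, ← hB, ← hab, ← hab, OrthOrder.polar_map g.2]
    set μ := f₂ (B *ᵥ y₁) (B *ᵥ y₁) / f₂ y₁ y₁ with hμ
    have hAiso : ∀ u u', μ * f₁ (A *ᵥ u) (A *ᵥ u') = f₁ u u' := fun u u' => by
      rw [hμ, div_mul_eq_mul_div, div_eq_iff hy₁]
      linear_combination hiso u u' y₁ y₁
    have hμ0 : μ ≠ 0 := fun h => by
      have := hAiso (x 0) (x 0)
      rw [h, zero_mul, hxx, if_pos rfl] at this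
      exact hδ0 this.symm
    have hμ1 : μ = 1 := by
      refine (hval μ hμ0).resolve_right fun hm => ?_
      have hcoord : ∀ i, ∃ C : Fin 3 → F, A *ᵥ x i = ∑ k, C k • x k := fun i => by
        obtain ⟨C, hC⟩ := orth_span (Q := R) h2 (W := W₀) (b := w) (fun a => ⟨x a, hx a⟩) hd hwQ hworth
          (show finrank F W₀ = 3 by
            rw [LinearMap.finrank_range_of_inj (hinj1 hy₁0), Module.finrank_fin_fun])
          (ψ (A *ᵥ x i) y₁) ⟨A *ᵥ x i, rfl⟩
        refine ⟨C, hinj1 hy₁0 ?_⟩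
        rw [LinearMap.flip_apply, hC, map_sum]
        refine Finset.sum_congr rfl fun k _ => ?_
        rw [map_smul, LinearMap.flip_apply, hx']
      choose C hC using hcoord
      let X : Matrix (Fin 3) (Fin 3) F := Matrix.of fun k i => C i k
      have hX : Xᵀ * X = -1 := by
        ext i j
        have h1 := hAiso (x i) (x j)
        let B₁ := LinearMap.mk₂ F f₁ hf₁.bilinear.add_left
          (fun c x y => by rw [hf₁.bilinear.smul_left]; rfl) hf₁.bilinear.add_right
          (fun c x y => by rw [hf₁.bilinear.smul_right]; rfl)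
        have h3 : f₁ (A *ᵥ x i) (A *ᵥ x j) = δ * (Xᵀ * X) i j := by
          show B₁ (A *ᵥ x i) (A *ᵥ x j) = _
          rw [hC, hC]
          simp only [map_sum, map_smul, LinearMap.sum_apply, LinearMap.smul_apply, smul_eq_mul,
            show ∀ k l, B₁ (x k) (x l) = f₁ (x k) (x l) from fun k l => rfl, hxx, mul_ite,
            mul_zero, Finset.sum_ite_eq', Finset.mem_univ, if_true]
          rw [show (Xᵀ * X) i j = ∑ k, C i k * C j k from by
            simp [Matrix.mul_apply, X], Finset.mul_sum]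
          refine Finset.sum_congr rfl fun k _ => ?_
          ring
        rw [h3, hxx, hm] at h1
        rw [Matrix.neg_apply, Matrix.one_apply]
        refine mul_left_cancel₀ hδ0 ?_
        split_ifs at h1 ⊢ <;> linear_combination -h1
      have hdet := congrArg Matrix.det hX
      rw [Matrix.det_mul, Matrix.det_transpose, Matrix.det_neg, Matrix.det_one,
        Fintype.card_fin] at hdet
      rcases field_three_sq hq X.det with h | h <;> rw [h] at hdet
      · exact one_ne_zero (show (1 : F) = 0 by linear_combination hdet)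
      · exact h2 (by linear_combination hdet)
    have hQa : R (ψ (A *ᵥ x j) y₁) = d := by
      have h1 := hB (A *ᵥ x j) (A *ᵥ x j) y₁ y₁
      have h3 := hAiso (x j) (x j)
      rw [hμ1, one_mul] at h3
      rw [h3, ← hB (x j) (x j) y₁ y₁, hx', ReflectionGen.pol_self, ReflectionGen.pol_self, hwQ]
        at h1
      exact mul_left_cancel₀ h2 h1
    obtain ⟨l, hl⟩ := hkey _ ⟨A *ᵥ x j, rfl⟩ hQa
    obtain ⟨s, hs⟩ := Submodule.mem_span_singleton.1 hl
    refine ⟨l, s • B *ᵥ y, ?_⟩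
    rw [hab, show A *ᵥ x j = s • x l from hinj1 hy₁0 (by
      rw [map_smul, LinearMap.flip_apply, LinearMap.flip_apply, hx', hs]; rfl), map_smul,
      LinearMap.smul_apply, map_smul]
  -- the first part
  set B₀ := LinearMap.range (ψ (x 0)) with hB₀
  have hB₀n : ∀ v ∈ B₀, (∀ u ∈ B₀, polar R v u = 0) → v = 0 := by
    rintro _ ⟨y, rfl⟩ h
    rw [hnd₂ y fun y' => ?_, map_zero]
    have := h _ ⟨y', rfl⟩
    rw [hB, hxx, if_pos rfl] at this
    simpa [hc, hδ0] using this
  have hB₀d : 5 ≤ finrank F B₀ := by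
    rw [LinearMap.finrank_range_of_inj (hinj2 (hx0 0)), Module.finrank_fin_fun]; exact h2d
  obtain ⟨_, ⟨y, rfl⟩, he0, hQe⟩ := exists_singular_in (Q := R) (S := B₀) (by omega)
  obtain ⟨_, ⟨f, rfl⟩, -, hef, huniv, -⟩ := pair_data hB₀n hB₀d ⟨y, rfl⟩ he0 hQe
  obtain ⟨_, ⟨y', rfl⟩, -, hea, hfa, hQa⟩ := huniv 1
  have hperp : ∀ (j : Fin 3), j ≠ 0 → ∀ u z, polar R (ψ (x 0) u) (ψ (x j) z) = 0 := fun j hj u z => by
    rw [hB, hxx, if_neg hj.symm, zero_mul, mul_zero]
  refine exists_between hR (by omega) (setSt R S) (fun g _ hgH => mem_setSt (hfwd g hgH)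
    (hfwd g⁻¹ (by rw [map_inv]; exact inv_mem hgH))) ?_ ?_
  · have hmem : ∀ (g : quadIso R) (z : Fin n₂ → F), IsEich R (ψ (x 0) y) (ψ (x 0) z) g →
        ∀ v ∈ S, g.1 v ∈ S := by
      rintro g z hg v ⟨j, u, rfl⟩
      by_cases hj : j = 0
      · subst hj
        rw [hg]
        exact ⟨0, _, by simp only [← map_smul, ← map_add]; rfl⟩
      · refine ⟨j, u, ?_⟩
        rw [hg, hperp j hj, hperp j hj]
        simp
    obtain ⟨g, hg⟩ := exists_eich R hQe hea
    have hna : polar R (ψ (x 0) y) (ψ (x 0) (-y')) = 0 := by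
      rw [map_neg, polar_neg_right, hea, neg_zero]
    obtain ⟨g', hg'⟩ := exists_eich R hQe hna
    have hinv : g⁻¹ = g' := by
      refine inv_eq_of_mul_eq_one_right (eich_unique R (eich_add R hQe hea hna hg hg') ?_)
      rw [map_neg, add_neg_cancel]
      exact eich_zero R _
    refine ⟨g, eich_mem R hR hV he0 hQe hea hg,
      mem_setSt (hmem g y' hg) (by rw [hinv]; exact hmem g' _ hg'), fun hgT => ?_⟩
    obtain ⟨a, b, hab⟩ := hmaps g hgT
    set A := (a : Matrix (Fin 3) (Fin 3) F)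
    set B := (b : Matrix (Fin n₂) (Fin n₂) F)
    have hfix : ∀ z, ψ (A *ᵥ x 1) (B *ᵥ z) = ψ (x 1) z := fun z => by
      rw [← hab, hg, hperp 1 (by decide), hperp 1 (by decide)]
      simp
    set α := f₁ (A *ᵥ x 1) (x 1) with hα
    have hbz : ∀ z z', α * f₂ (B *ᵥ z) z' = δ * f₂ z z' := fun z z' => by
      refine mul_left_cancel₀ hc ?_
      rw [hα, ← hB, hfix, hB, hxx, if_pos rfl]
    obtain ⟨f', hf'⟩ : ∃ z', f₂ y₁ z' ≠ 0 := ⟨y₁, hy₁⟩
    have hα0 : α ≠ 0 := fun h => by
      have := hbz y₁ f'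
      rw [h, zero_mul] at this
      exact mul_ne_zero hδ0 hf' this.symm
    have hBz : ∀ z, B *ᵥ z = (δ / α) • z := fun z => by
      refine sub_eq_zero.1 (hnd₂ _ fun z' => ?_)
      rw [sub_eq_add_neg, ← neg_smul, hf₂.bilinear.add_left, hf₂.bilinear.smul_left]
      field_simp
      linear_combination hbz z z'
    set ν := (δ / α) • (A *ᵥ x 0) with hν
    have hgν : ∀ z, g.1 (ψ (x 0) z) = ψ ν z := fun z => by
      rw [hab, hBz, map_smul, hν, map_smul, LinearMap.smul_apply]
    have hge : g.1 (ψ (x 0) y) = ψ (x 0) y := by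
      rw [hg, ReflectionGen.pol_self, hQe, polar_comm R (ψ (x 0) y') (ψ (x 0) y), hea]
      simp
    rw [hgν] at hge
    have hy0 : y ≠ 0 := fun h => he0 (by rw [h, map_zero])
    have hν1 : ν = x 0 := hinj1 hy0 hge
    have hgf := hgν f
    rw [hν1, hg, hef] at hgf
    have h1 := congrArg (polar R (ψ (x 0) y')) hgf
    rw [polar_add_right, polar_add_right, polar_smul_right, polar_smul_right,
      ReflectionGen.pol_self, hQa, polar_comm R (ψ (x 0) y') (ψ (x 0) y), hea] at h1
    simp only [smul_eq_mul, one_mul, mul_one, mul_zero, add_zero] at h1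
    exact h2 (by linear_combination h1)
  · obtain ⟨_, ⟨z, rfl⟩, -, -, -, hQz⟩ := huniv d
    set v := ψ (x 0) z + ψ (x 1) y with hv
    have hQy1 : R (ψ (x 1) y) = 0 := by
      have h1 := hB (x 1) (x 1) y y
      have h3 := hB (x 0) (x 0) y y
      rw [hxx, if_pos rfl] at h1 h3
      rw [ReflectionGen.pol_self, hQe, mul_zero] at h3
      rw [ReflectionGen.pol_self, ← h3] at h1
      exact (mul_eq_zero.1 h1).resolve_left h2
    have hQv : R v = d := by
      rw [hv, QuadraticMap.map_add R, hQz, hQy1, hperp 1 (by decide), add_zero, add_zero]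
    obtain ⟨g, hg, hgv⟩ := OmegaSimple.transitive' R hR hV _
      (fun e w he0 he hew g hg => eich_mem R hR hV he0 he hew hg)
      (show R (ψ (x 0) z) ≠ 0 by rw [hQz]; exact hd) (show R (ψ (x 0) z) = R v by rw [hQz, hQv])
    refine ⟨g, hg, fun hgS => ?_⟩
    obtain ⟨j, u, hju⟩ := (hgS _).1 ⟨0, z, rfl⟩
    rw [hgv, hv] at hju
    have h0 := congrArg (fun v => polar R v (ψ (x 0) z)) hju
    have h1 := congrArg (fun v => polar R v (ψ (x 1) f)) hju
    simp only [polar_add_left, ReflectionGen.pol_self, hQz] at h0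
    simp only [polar_add_left, hperp 1 (by decide)] at h1
    rw [polar_comm R (ψ (x 1) y) (ψ (x 0) z), hperp 1 (by decide), add_zero, hB] at h0
    rw [hB, hB (x j), zero_add, hxx, if_pos rfl] at h1
    by_cases hj : j = 0
    · subst hj
      rw [hxx, if_neg (by decide : ¬ (0 : Fin 3) = 1), zero_mul, mul_zero] at h1
      have h3 := hB (x 0) (x 0) y f
      rw [hef, hxx, if_pos rfl] at h3
      exact one_ne_zero (h3.trans h1)
    · rw [hxx, if_neg hj, zero_mul, mul_zero] at h0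
      exact mul_ne_zero h2 hd h0

end CfsgLib.MaxSub.Orth
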