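/-
Elements of prime order of linear groups and the dimensions of their invariant subspaces.
-/
import Mathlib
import Cfsg.Agent.Lib.GLClassNumber.OrderR

set_option autoImplicit false
set_option linter.unusedSectionVars false

namespace CfsgLib.MaxSub.Elusive

open Polynomial Module

universe u v

variable {F : Type u} [Field F]

/-! ### Invariant subspaces below a polynomial -/

theorem exists_cyclic {V : Type v} [AddCommGroup V] [Module F V] [FiniteDimensional F V] [Nontrivial V]
    (T : Module.End F V) {P : F[X]} (hP : aeval T P = 0) :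
    ∃ g : F[X], Irreducible g ∧ g.Monic ∧ g ∣ P ∧ ∃ W : Submodule F V, finrank F W = g.natDegree ∧
      (∀ v ∈ W, T v ∈ W) ∧ ∀ v ∈ W, aeval T g v = 0 := by
  classical
  have hμ : minpoly F T ≠ 0 := minpoly.ne_zero (Algebra.IsIntegral.isIntegral T)
  obtain ⟨g, hgm, hgi, hgd⟩ := Polynomial.exists_monic_irreducible_factor (minpoly F T) (minpoly.not_isUnit F T)
  obtain ⟨h, hh⟩ := hgd
  have hh0 : h ≠ 0 := fun e => hμ (by rw [hh, e, mul_zero])
  have hne : aeval T h ≠ 0 := fun e => by
    have h1 := minpoly.degree_le_of_ne_zero F T hh0 e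
    rw [Polynomial.degree_eq_natDegree hμ, Polynomial.degree_eq_natDegree hh0, Nat.cast_le] at h1
    have := hgi.natDegree_pos
    rw [hh, Polynomial.natDegree_mul hgm.ne_zero hh0] at h1
    omega
  obtain ⟨u, hu⟩ : ∃ u, aeval T h u ≠ 0 := by
    by_contra hc
    push Not at hc
    exact hne (LinearMap.ext hc)
  set w := aeval T h u
  have hgw : aeval T g w = 0 := by
    show aeval T g (aeval T h u) = 0
    rw [← Module.End.mul_apply, ← map_mul, ← hh, minpoly.aeval, LinearMap.zero_apply]
  refine ⟨g, hgi, hgm, (dvd_mul_right g h).trans (hh ▸ minpoly.dvd F T hP), ?_⟩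
  let φ : ↥(Polynomial.degreeLT F g.natDegree) →ₗ[F] V :=
    { toFun := fun p => aeval T (p : F[X]) w
      map_add' := fun p p' => by simp
      map_smul' := fun c p => by simp }
  have hinj : Function.Injective φ := by
    rw [← LinearMap.ker_eq_bot, LinearMap.ker_eq_bot']
    rintro ⟨p, hp⟩ hpw
    change aeval T p w = 0 at hpw
    refine Subtype.ext (by_contra fun hp0 => hu ?_)
    have hp0' : p ≠ 0 := hp0
    have hndvd : ¬ g ∣ p := by
      refine Polynomial.not_dvd_of_degree_lt hp0' ?_
      rw [Polynomial.degree_eq_natDegree hgm.ne_zero]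
      exact Polynomial.mem_degreeLT.mp hp
    obtain ⟨a, b, hab⟩ := hgi.coprime_iff_not_dvd.mpr hndvd
    have := congrArg (fun Q => aeval T Q w) hab
    simp only [map_add, map_mul, map_one, LinearMap.add_apply, Module.End.mul_apply, hgw, hpw, map_zero,
      add_zero, Module.End.one_apply] at this
    exact this.symm
  refine ⟨LinearMap.range φ, ?_, ?_, ?_⟩
  · rw [LinearMap.finrank_range_of_inj hinj, (Polynomial.degreeLTEquiv F g.natDegree).finrank_eq,
      Module.finrank_fin_fun]
  · rintro _ ⟨⟨p, hp⟩, rfl⟩
    refine ⟨⟨(X * p) %ₘ g, Polynomial.mem_degreeLT.mpr ?_⟩, ?_⟩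
    · rw [← Polynomial.degree_eq_natDegree hgm.ne_zero]
      exact Polynomial.degree_modByMonic_lt _ hgm
    · show aeval T ((X * p) %ₘ g) w = T (aeval T p w)
      rw [Polynomial.modByMonic_eq_sub_mul_div _ g, map_sub, LinearMap.sub_apply, mul_comm g, map_mul _ _ g,
        Module.End.mul_apply, hgw, map_zero, sub_zero, map_mul, aeval_X, Module.End.mul_apply]
  · rintro _ ⟨⟨p, hp⟩, rfl⟩
    show aeval T g (aeval T p w) = 0
    rw [← Module.End.mul_apply, ← map_mul, mul_comm, map_mul, Module.End.mul_apply, hgw, map_zero]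

theorem aeval_mkQ {V : Type v} [AddCommGroup V] [Module F V] (T : Module.End F V) (W : Submodule F V)
    (hW : W ≤ W.comap T) (P : F[X]) (x : V) :
    aeval (W.mapQ W T hW) P (W.mkQ x) = W.mkQ (aeval T P x) := by
  induction P using Polynomial.induction_on generalizing x with
  | C a => simp
  | add a b ha hb => rw [map_add, map_add, LinearMap.add_apply, LinearMap.add_apply, map_add, ha, hb]
  | monomial n a ih =>
    rw [show (Polynomial.C a * X ^ (n + 1) : F[X]) = Polynomial.C a * X ^ n * X by ring,
      map_mul _ _ X, map_mul _ _ X, Module.End.mul_apply, Module.End.mul_apply, aeval_X, aeval_X]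
    exact ih (T x)

theorem aeval_quotient {V : Type v} [AddCommGroup V] [Module F V] (T : Module.End F V) (W : Submodule F V)
    (hW : W ≤ W.comap T) {P : F[X]} (hP : aeval T P = 0) : aeval (W.mapQ W T hW) P = 0 := by
  refine LinearMap.ext fun x => ?_
  obtain ⟨x, rfl⟩ := Submodule.mkQ_surjective W x
  rw [aeval_mkQ, hP, LinearMap.zero_apply, map_zero, LinearMap.zero_apply]

/-- If every irreducible factor of an annihilating polynomial has degree `d`, the dimension is a multiple of
`d` and every smaller multiple is the dimension of an invariant subspace. -/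
theorem invariant_dims {P : F[X]} {d : ℕ}
    (hd : ∀ g : F[X], Irreducible g → g.Monic → g ∣ P → g.natDegree = d) :
    ∀ {V : Type v} [AddCommGroup V] [Module F V] [FiniteDimensional F V] (T : Module.End F V),
      aeval T P = 0 → d ∣ finrank F V ∧
        ∀ k, k * d ≤ finrank F V → ∃ W : Submodule F V, finrank F W = k * d ∧ ∀ v ∈ W, T v ∈ W := by
  intro V _ _ _ T hT
  induction hN : finrank F V using Nat.strong_induction_on generalizing V with
  | _ N ih =>
    subst hN
    rcases Nat.eq_zero_or_pos (finrank F V) with h0 | h0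
    · refine ⟨h0 ▸ dvd_zero d, fun k hk => ⟨⊥, ?_, fun v hv => ?_⟩⟩
      · rw [finrank_bot]; omega
      · rw [Submodule.mem_bot] at hv ⊢
        rw [hv, map_zero]
    haveI : Nontrivial V := Module.nontrivial_of_finrank_pos h0
    obtain ⟨g, hgi, hgm, hgP, W, hWd, hWT, -⟩ := exists_cyclic T hT
    rw [hd g hgi hgm hgP] at hWd
    have hpos : 0 < d := hd g hgi hgm hgP ▸ hgi.natDegree_pos
    have hW' : W ≤ W.comap T := hWT
    have hq := W.finrank_quotient_add_finrank
    obtain ⟨hdvd, hex⟩ := ih (finrank F (V ⧸ W)) (by omega) (W.mapQ W T hW') (aeval_quotient T W hW' hT) rfl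
    refine ⟨?_, fun k hk => ?_⟩
    · rw [← hq, hWd]
      exact dvd_add hdvd dvd_rfl
    rcases Nat.eq_zero_or_pos k with rfl | hk0
    · exact ⟨⊥, by rw [finrank_bot, zero_mul], fun v hv => by
        rw [Submodule.mem_bot] at hv ⊢
        rw [hv, map_zero]⟩
    obtain ⟨k, rfl⟩ : ∃ j, k = j + 1 := ⟨k - 1, by omega⟩
    rw [add_mul, one_mul] at hk ⊢
    obtain ⟨W', hW'd, hW'T⟩ := hex k (by omega)
    refine ⟨W'.comap W.mkQ, ?_, fun v hv => ?_⟩
    · have hker : LinearMap.ker (W'.mkQ.comp W.mkQ) = W'.comap W.mkQ := by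
        rw [LinearMap.ker_comp, Submodule.ker_mkQ]
      have hrange : LinearMap.range (W'.mkQ.comp W.mkQ) = ⊤ :=
        LinearMap.range_eq_top.mpr ((Submodule.mkQ_surjective W').comp (Submodule.mkQ_surjective W))
      have h1 := LinearMap.finrank_range_add_finrank_ker (W'.mkQ.comp W.mkQ)
      rw [hker, hrange, finrank_top] at h1
      have h2 := W'.finrank_quotient_add_finrank
      omega
    · show W.mkQ (T v) ∈ W'
      exact hW'T _ hv

theorem det_of_irreducible {g : F[X]} (hgi : Irreducible g) (hgm : g.Monic) :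
    ∀ {V : Type v} [AddCommGroup V] [Module F V] [FiniteDimensional F V] (T : Module.End F V),
      aeval T g = 0 → LinearMap.det T = ((-1) ^ g.natDegree * g.coeff 0) ^ (finrank F V / g.natDegree) := by
  intro V _ _ _ T hT
  induction hN : finrank F V using Nat.strong_induction_on generalizing V with
  | _ N ih =>
    subst hN
    rcases Nat.eq_zero_or_pos (finrank F V) with h0 | h0
    · rw [h0, Nat.zero_div, pow_zero]
      exact LinearMap.det_eq_one_of_finrank_eq_zero h0 T
    haveI : Nontrivial V := Module.nontrivial_of_finrank_pos h0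
    obtain ⟨g', hgi', hgm', hg', W, hWd, hWT, -⟩ := exists_cyclic T hT
    rw [eq_of_monic_of_associated hgm' hgm (hgi'.associated_of_dvd hgi hg')] at hWd
    have hW' : W ≤ W.comap T := hWT
    have hq := W.finrank_quotient_add_finrank
    have hpos := hgi.natDegree_pos
    rw [LinearMap.det_eq_det_mul_det W T hW',
      ih (finrank F (V ⧸ W)) (by omega) (W.mapQ W T hW') (aeval_quotient T W hW' hT) rfl]
    have hres : aeval (T.restrict hW') g = 0 := by
      refine LinearMap.ext fun x => Subtype.ext ?_
      have key : ∀ (Q : F[X]) (y : W), ((aeval (T.restrict hW') Q y : W) : V) = aeval T Q (y : V) := by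
        intro Q
        induction Q using Polynomial.induction_on with
        | C a => intro y; simp
        | add a b ha hb => intro y; simp [ha, hb]
        | monomial n a ih =>
          intro y
          rw [show (Polynomial.C a * X ^ (n + 1) : F[X]) = Polynomial.C a * X ^ n * X by ring,
            map_mul _ _ X, map_mul _ _ X, Module.End.mul_apply, Module.End.mul_apply, aeval_X, aeval_X, ih]
          rfl
      rw [key, hT]
      rfl
    haveI : Nontrivial W := Module.nontrivial_of_finrank_pos (R := F) (by omega)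
    have hmin : minpoly F (T.restrict hW') = g := eq_of_monic_of_associated
      (minpoly.monic (Algebra.IsIntegral.isIntegral _)) hgm
      ((hgi.dvd_iff.mp (minpoly.dvd F _ hres)).resolve_left (minpoly.not_isUnit F _)).symm
    have hchar : (T.restrict hW').charpoly = g := by
      refine (Polynomial.eq_of_monic_of_dvd_of_natDegree_le hgm (LinearMap.charpoly_monic _) ?_ ?_)
      · rw [← hmin]; exact LinearMap.minpoly_dvd_charpoly _
      · rw [LinearMap.charpoly_natDegree, hWd]
    rw [LinearMap.det_eq_sign_charpoly_coeff, hchar, hWd,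
      show finrank F V = finrank F (V ⧸ W) + g.natDegree by omega, Nat.add_div_right _ hpos, pow_succ']

/-! ### Elements whose `r`-th power is the identity -/

variable [Fintype F] {V : Type v} [AddCommGroup V] [Module F V] [FiniteDimensional F V]

/-- The sum of the powers below `r`. -/
noncomputable def geom (F : Type u) [Field F] (r : ℕ) : F[X] := ∑ j ∈ Finset.range r, X ^ j

theorem geom_degree {p r : ℕ} [Fact p.Prime] [CharP F p] (hr : r.Prime) (hrp : r ≠ p) {g : F[X]}
    (hgi : Irreducible g) (hgm : g.Monic) (hg : g ∣ geom F r) :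
    g.natDegree = orderOf (Fintype.card F : ZMod r) := by
  refine CfsgLib.GLClassNumber.natDegree_factor (p := p) hr hrp hgi hgm ?_ ?_
  · rw [Polynomial.C_1, ← geom_sum_mul]
    exact dvd_mul_of_dvd_left hg _
  · rintro rfl
    obtain ⟨h, hh⟩ := hg
    have := congrArg (Polynomial.eval (1 : F)) hh
    simp [geom, Polynomial.eval_finset_sum, CfsgLib.GLClassNumber.natCast_ne_zero_of_prime_ne (F := F) (p := p) hr hrp] at this

variable {p r : ℕ} [Fact p.Prime] [CharP F p] (T : Module.End F V)

theorem ker_inf_range (hr : r.Prime) (hrp : r ≠ p) (hT : T ^ r = 1) :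
    LinearMap.ker (T - 1) ⊓ LinearMap.range (T - 1) = ⊥ := by
  rw [Submodule.eq_bot_iff]
  rintro _ ⟨hz, w, rfl⟩
  set z := (T - 1) w with hzdef
  have hTz : T z = z := sub_eq_zero.mp hz
  have hTw : T w = w + z := by rw [hzdef]; simp
  have hj : ∀ j : ℕ, (T ^ j) w = w + (j : F) • z := by
    intro j
    induction j with
    | zero => simp
    | succ j ih => rw [pow_succ', Module.End.mul_apply, ih, map_add, map_smul, hTw, hTz]; push_cast; rw [add_smul, one_smul]; abel
  have h := hj r
  rw [hT, Module.End.one_apply, left_eq_add] at h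
  exact (smul_eq_zero.mp h).resolve_left (CfsgLib.GLClassNumber.natCast_ne_zero_of_prime_ne (F := F) (p := p) hr hrp)

theorem geom_range (hT : T ^ r = 1) (v : V) (hv : v ∈ LinearMap.range (T - 1)) : aeval T (geom F r) v = 0 := by
  obtain ⟨w, rfl⟩ := hv
  rw [← Module.End.mul_apply, geom, map_sum]
  simp only [map_pow, aeval_X]
  rw [geom_sum_mul, hT, sub_self, LinearMap.zero_apply]

theorem aeval_restrict (W : Submodule F V) (hW : ∀ v ∈ W, T v ∈ W) (Q : F[X]) (y : W) :
    ((aeval (T.restrict hW) Q y : W) : V) = aeval T Q (y : V) := by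
  induction Q using Polynomial.induction_on generalizing y with
  | C a => simp
  | add a b ha hb => simp [ha, hb]
  | monomial n a ih =>
    rw [show (Polynomial.C a * X ^ (n + 1) : F[X]) = Polynomial.C a * X ^ n * X by ring,
      map_mul _ _ X, map_mul _ _ X, Module.End.mul_apply, Module.End.mul_apply, aeval_X, aeval_X, ih]
    rfl

/-- Invariant subspaces inside the image of `T - 1`. -/
theorem dims_in_range (hr : r.Prime) (hrp : r ≠ p) (hT : T ^ r = 1) (R : Submodule F V)
    (hR : R ≤ LinearMap.range (T - 1)) (hRT : ∀ v ∈ R, T v ∈ R) :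
    orderOf (Fintype.card F : ZMod r) ∣ finrank F R ∧
      ∀ k, k * orderOf (Fintype.card F : ZMod r) ≤ finrank F R →
        ∃ W : Submodule F V, W ≤ R ∧ finrank F W = k * orderOf (Fintype.card F : ZMod r) ∧ ∀ v ∈ W, T v ∈ W := by
  have h0 : aeval (T.restrict hRT) (geom F r) = 0 := LinearMap.ext fun x => Subtype.ext (by
    rw [aeval_restrict, geom_range T hT _ (hR x.2)]
    rfl)
  obtain ⟨h1, h2⟩ := invariant_dims (fun g => geom_degree (p := p) hr hrp) (T.restrict hRT) h0
  refine ⟨h1, fun k hk => ?_⟩
  obtain ⟨W, hWd, hWT⟩ := h2 k hk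
  refine ⟨W.map R.subtype, Submodule.map_subtype_le R W, ?_, ?_⟩
  · rw [Submodule.finrank_map_subtype_eq, hWd]
  · rintro _ ⟨y, hy, rfl⟩
    exact ⟨_, hWT y hy, rfl⟩

/-- The invariant dimensions of an element whose `r`-th power is the identity. -/
theorem exists_iff (hr : r.Prime) (hrp : r ≠ p) (hT : T ^ r = 1) (m : ℕ) :
    (∃ W : Submodule F V, finrank F W = m ∧ ∀ v ∈ W, T v ∈ W) ↔
      ∃ k, k * orderOf (Fintype.card F : ZMod r) ≤ m ∧
        k * orderOf (Fintype.card F : ZMod r) + finrank F (LinearMap.ker (T - 1)) ≤ finrank F V ∧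
        m ≤ k * orderOf (Fintype.card F : ZMod r) + finrank F (LinearMap.ker (T - 1)) := by
  classical
  have hrn := LinearMap.finrank_range_add_finrank_ker (T - 1)
  have hcomm : ∀ x, (T - 1) (T x) = T ((T - 1) x) := fun x => by simp
  constructor
  · rintro ⟨W, rfl, hW⟩
    let f := (T - 1).comp W.subtype
    have hle : LinearMap.range f ≤ LinearMap.range (T - 1) := LinearMap.range_comp_le_range _ _
    have hT' : ∀ v ∈ LinearMap.range f, T v ∈ LinearMap.range f := by
      rintro _ ⟨y, rfl⟩
      exact ⟨⟨T y, hW _ y.2⟩, hcomm _⟩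
    obtain ⟨⟨k, hk⟩, -⟩ := dims_in_range T hr hrp hT _ hle hT'
    have h := LinearMap.finrank_range_add_finrank_ker f
    have hker : finrank F (LinearMap.ker f) ≤ finrank F (LinearMap.ker (T - 1)) := by
      refine LinearMap.finrank_le_finrank_of_injective
        (f := (W.subtype.comp (LinearMap.ker f).subtype).codRestrict (LinearMap.ker (T - 1)) fun x => x.2) ?_
      intro x y e
      exact Subtype.ext (Subtype.ext (congrArg (fun z : LinearMap.ker (T - 1) => (z : V)) e))
    have hr' := Submodule.finrank_mono hle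
    exact ⟨k, by rw [mul_comm]; omega, by rw [mul_comm]; omega, by rw [mul_comm]; omega⟩
  · rintro ⟨k, h1, h2, h3⟩
    obtain ⟨-, hex⟩ := dims_in_range T hr hrp hT _ le_rfl (fun v hv => by
      obtain ⟨w, rfl⟩ := hv
      exact ⟨T w, hcomm w⟩)
    obtain ⟨U, hUR, hUd, hUT⟩ := hex k (by omega)
    let b := Module.finBasis F (LinearMap.ker (T - 1))
    have hle : m - k * orderOf (Fintype.card F : ZMod r) ≤ finrank F (LinearMap.ker (T - 1)) := by omega
    let E' : Submodule F V := Submodule.span F
      (Set.range fun i : Fin (m - k * orderOf (Fintype.card F : ZMod r)) => (b (Fin.castLE hle i) : V))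
    have hE' : E' ≤ LinearMap.ker (T - 1) := by
      rw [Submodule.span_le]; rintro _ ⟨i, rfl⟩; exact (b _).2
    have hdis : E' ⊓ U = ⊥ :=
      le_bot_iff.mp ((inf_le_inf hE' hUR).trans (ker_inf_range T hr hrp hT).le)
    refine ⟨E' ⊔ U, ?_, fun v hv => ?_⟩
    · have h := Submodule.finrank_sup_add_finrank_inf_eq E' U
      have hEd : finrank F E' = m - k * orderOf (Fintype.card F : ZMod r) := by
        refine (finrank_span_eq_card ?_).trans (Fintype.card_fin _)
        exact (b.linearIndependent.map' (LinearMap.ker (T - 1)).subtype (Submodule.ker_subtype _)).comp _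
          (Fin.castLE_injective hle)
      rw [hdis, finrank_bot, add_zero, hUd, hEd] at h
      omega
    · obtain ⟨a, ha, c, hc, rfl⟩ := Submodule.mem_sup.mp hv
      have hfix : T a = a := sub_eq_zero.mp (hE' ha)
      rw [map_add, hfix]
      exact add_mem (Submodule.mem_sup_left ha) (Submodule.mem_sup_right (hUT c hc))

end CfsgLib.MaxSub.Elusive
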