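/-
Elements of prime order of `SL n` on the subspaces of a given dimension.
-/
import Cfsg.Agent.Lib.MaxSub.Elusive

set_option autoImplicit false
set_option linter.unusedSectionVars false

namespace CfsgLib.MaxSub.Elusive

open Polynomial Module

universe u

variable {F : Type u} [Field F] [Fintype F]

/-! ### Counting subspaces -/

/-- The number of subspaces times the order of the frame group. -/
theorem card_subspaces_mul (n m : ℕ) (hmn : m ≤ n) :
    Nat.card {W : Submodule F (Fin n → F) // finrank F ↥W = m} *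
        ∏ j : Fin m, (Fintype.card F ^ m - Fintype.card F ^ (j : ℕ)) =
      ∏ j : Fin m, (Fintype.card F ^ n - Fintype.card F ^ (j : ℕ)) := by
  classical
  have h0 := card_linearIndependent (K := F) (V := Fin n → F) (k := m) (by rwa [Module.finrank_fin_fun])
  rw [Module.finrank_fin_fun] at h0
  rw [← h0]
  let e : (Σ W : {W : Submodule F (Fin n → F) // finrank F ↥W = m}, {s : Fin m → W.1 // LinearIndependent F s}) ≃
      {s : Fin m → (Fin n → F) // LinearIndependent F s} :=
    { toFun := fun x => ⟨fun i => (x.2.1 i : Fin n → F), x.2.2.map' x.1.1.subtype (Submodule.ker_subtype _)⟩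
      invFun := fun s => ⟨⟨Submodule.span F (Set.range s.1), by rw [finrank_span_eq_card s.2, Fintype.card_fin]⟩,
        ⟨fun i => ⟨s.1 i, Submodule.subset_span ⟨i, rfl⟩⟩, LinearIndependent.of_comp (Submodule.subtype _) s.2⟩⟩
      left_inv := by
        rintro ⟨⟨W, hW⟩, s, hs⟩
        have hspan : Submodule.span F (Set.range fun i => (s i : Fin n → F)) = W := by
          refine Submodule.eq_of_le_of_finrank_eq (Submodule.span_le.mpr (by rintro _ ⟨i, rfl⟩; exact (s i).2)) ?_
          rw [finrank_span_eq_card (b := fun i => (s i : Fin n → F)) (hs.map' W.subtype (Submodule.ker_subtype _)),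
            Fintype.card_fin, hW]
        have key : ∀ (W' : {W : Submodule F (Fin n → F) // finrank F ↥W = m})
            (s' : {t : Fin m → W'.1 // LinearIndependent F t}), W'.1 = W → (∀ i, (s'.1 i : Fin n → F) = s i) →
            (⟨W', s'⟩ : Σ W : {W : Submodule F (Fin n → F) // finrank F ↥W = m},
              {t : Fin m → W.1 // LinearIndependent F t}) = ⟨⟨W, hW⟩, ⟨s, hs⟩⟩ := by
          rintro ⟨W', hW'⟩ ⟨s', hs'⟩ rfl h
          obtain rfl : s' = s := funext fun i => Subtype.ext (h i)
          rfl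
        exact key _ _ hspan fun i => rfl
      right_inv := fun s => rfl }
  rw [← Nat.card_congr e, Nat.card_sigma, Finset.sum_congr rfl fun W _ => ?_, Finset.sum_const, Finset.card_univ,
    smul_eq_mul, Nat.card_eq_fintype_card]
  have := card_linearIndependent (K := F) (V := W.1) (k := m) W.2.ge
  rw [W.2] at this
  exact this

variable {p r : ℕ} [Fact p.Prime] [CharP F p]

theorem dvd_q_iff (hr : r.Prime) : r ∣ Fintype.card F ↔ r = p := by
  obtain ⟨k, hp, hk⟩ := FiniteField.card F p
  rw [hk]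
  exact ⟨fun h => (Nat.prime_dvd_prime_iff_eq hr hp).mp (hr.dvd_of_dvd_pow h), fun h => h ▸ dvd_pow_self _ k.ne_zero⟩

theorem q_pow_factor {n j : ℕ} (hj : j ≤ n) (q : ℕ) : q ^ n - q ^ j = q ^ j * (q ^ (n - j) - 1) := by
  rw [Nat.mul_sub, mul_one, ← pow_add, Nat.add_sub_cancel' hj]

/-- The characteristic does not divide the number of subspaces. -/
theorem ne_char {n m : ℕ} (hmn : m ≤ n) (hr : r.Prime)
    (hΩ : r ∣ Nat.card {W : Submodule F (Fin n → F) // finrank F ↥W = m}) : r ≠ p := by
  intro hrp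
  have hq := (dvd_q_iff (F := F) (p := p) hr).mpr hrp
  have h := card_subspaces_mul (F := F) n m hmn
  rw [Finset.prod_congr rfl fun (j : Fin m) _ => q_pow_factor (n := m) j.2.le _,
    Finset.prod_congr rfl fun (j : Fin m) _ => q_pow_factor (n := n) (j.2.le.trans hmn) _,
    Finset.prod_mul_distrib, Finset.prod_mul_distrib, mul_left_comm] at h
  have h' := Nat.eq_of_mul_eq_mul_left (Finset.prod_pos fun (j : Fin m) _ => pow_pos Fintype.card_pos _) h
  have hd : r ∣ ∏ j : Fin m, (Fintype.card F ^ (n - (j : ℕ)) - 1) := h' ▸ dvd_mul_of_dvd_left hΩ _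
  obtain ⟨j, -, hj⟩ := (Prime.dvd_finset_prod_iff hr.prime _).mp hd
  have h2 : r ∣ Fintype.card F ^ (n - (j : ℕ)) := dvd_trans hq (dvd_pow_self _ (by omega))
  have h3 := Nat.dvd_sub h2 hj
  rw [Nat.sub_sub_self (Nat.one_le_pow _ _ Fintype.card_pos)] at h3
  exact hr.not_dvd_one h3

theorem mod_lt_of_dvd {n m : ℕ} (hmn : m ≤ n) (hr : r.Prime) (hrp : r ≠ p)
    (hΩ : r ∣ Nat.card {W : Submodule F (Fin n → F) // finrank F ↥W = m})
    (hi : m < orderOf (Fintype.card F : ZMod r)) : n % orderOf (Fintype.card F : ZMod r) < m := by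
  haveI := Fact.mk hr
  have h : r ∣ ∏ j : Fin m, (Fintype.card F ^ n - Fintype.card F ^ (j : ℕ)) :=
    card_subspaces_mul (F := F) n m hmn ▸ dvd_mul_of_dvd_left hΩ _
  obtain ⟨j, -, hj⟩ := (Prime.dvd_finset_prod_iff hr.prime _).mp h
  rw [q_pow_factor (j.2.le.trans hmn)] at hj
  have hj' : r ∣ Fintype.card F ^ (n - (j : ℕ)) - 1 :=
    (hr.dvd_mul.mp hj).resolve_left fun h => hrp ((dvd_q_iff (F := F) hr).mp (hr.dvd_of_dvd_pow h))
  have hz : (Fintype.card F : ZMod r) ^ (n - (j : ℕ)) = 1 := by
    have := (ZMod.natCast_eq_zero_iff _ _).mpr hj'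
    rw [Nat.cast_sub (Nat.one_le_pow _ _ Fintype.card_pos), sub_eq_zero] at this
    push_cast at this
    exact this
  have hmod : n % orderOf (Fintype.card F : ZMod r) = (j : ℕ) := by
    have hd := orderOf_dvd_of_pow_eq_one hz
    obtain ⟨c, hc⟩ := hd
    rw [show n = (j : ℕ) + orderOf (Fintype.card F : ZMod r) * c by omega, Nat.add_mul_mod_self_left,
      Nat.mod_eq_of_lt (by omega)]
  omega

/-! ### Transport to matrices -/

theorem map_le_iff {n : ℕ} (T : Module.End F (Fin n → F)) (W : Submodule F (Fin n → F)) :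
    W.map T ≤ W ↔ ∀ v ∈ W, T v ∈ W :=
  ⟨fun h v hv => h ⟨v, hv, rfl⟩, fun h => by rintro _ ⟨v, hv, rfl⟩; exact h v hv⟩

/-- A determinant one matrix modelled on a given map. -/
theorem exists_sl {n : ℕ} {U : Type*} [AddCommGroup U] [Module F U] [FiniteDimensional F U]
    (hU : finrank F U = n) (T : Module.End F U) (hdet : LinearMap.det T = 1) :
    ∃ (x : Matrix.SpecialLinearGroup (Fin n) F) (φ : U ≃ₗ[F] (Fin n → F)),
      Matrix.toLinAlgEquiv' (x : Matrix (Fin n) (Fin n) F) = φ.conjAlgEquiv F T := by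
  let φ : U ≃ₗ[F] (Fin n → F) := LinearEquiv.ofFinrankEq _ _ (by rw [hU, Module.finrank_fin_fun])
  refine ⟨⟨LinearMap.toMatrix' (φ.conjAlgEquiv F T), ?_⟩, φ, ?_⟩
  · rw [LinearMap.det_toMatrix', LinearEquiv.conjAlgEquiv_apply]
    exact (LinearMap.det_conj T φ).trans hdet
  · show Matrix.toLin' (LinearMap.toMatrix' _) = _
    rw [Matrix.toLin'_toMatrix']

theorem conj_invariant {n : ℕ} {U : Type*} [AddCommGroup U] [Module F U] (φ : U ≃ₗ[F] (Fin n → F))
    (T : Module.End F U) (W : Submodule F (Fin n → F)) (h : ∀ v ∈ W, φ.conjAlgEquiv F T v ∈ W) :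
    ∀ u ∈ W.map φ.symm.toLinearMap, T u ∈ W.map φ.symm.toLinearMap := by
  rintro _ ⟨v, hv, rfl⟩
  refine ⟨_, h v hv, ?_⟩
  simp [LinearEquiv.conjAlgEquiv_apply]

/-- The `r`-th power of an element of the projective group. -/
theorem pow_scalar {n : ℕ} {x : Matrix.SpecialLinearGroup (Fin n) F} {c : F} (r : ℕ)
    (hc : ((x ^ r : Matrix.SpecialLinearGroup (Fin n) F) : Matrix (Fin n) (Fin n) F) = c • 1) :
    (Matrix.toLinAlgEquiv' (x : Matrix (Fin n) (Fin n) F)) ^ r = c • (1 : Module.End F (Fin n → F)) := by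
  rw [← map_pow, ← Matrix.SpecialLinearGroup.coe_pow, hc, map_smul, map_one]

/-! ### Arithmetic in the multiplicative group -/

theorem factor_le_of_not_pow {u : F} (hu0 : u ≠ 0) (hu : ∀ b : F, b ^ r ≠ u) (hr : r.Prime) {k : ℕ} (hk : k ≠ 0)
    (h : u ^ k = 1) : padicValNat r (Fintype.card F - 1) ≤ padicValNat r k := by
  classical
  haveI := Fact.mk hr
  by_contra hlt
  push Not at hlt
  have hM0 : Fintype.card F - 1 ≠ 0 := by have := Fintype.one_lt_card (α := F); omega
  have hgcd : u ^ Nat.gcd k (Fintype.card F - 1) = 1 :=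
    pow_gcd_eq_one.mpr ⟨h, FiniteField.pow_card_sub_one_eq_one u hu0⟩
  have hrM : r ∣ Fintype.card F - 1 := dvd_of_one_le_padicValNat (by omega)
  have hdvd : Nat.gcd k (Fintype.card F - 1) ∣ (Fintype.card F - 1) / r := by
    rw [← Nat.factorization_le_iff_dvd (Nat.gcd_ne_zero_left hk)
      ((Nat.div_ne_zero_iff_of_dvd hrM).mpr ⟨hM0, hr.ne_zero⟩), Finsupp.le_def]
    intro l
    rw [Nat.factorization_gcd hk hM0, Nat.factorization_div hrM, Finsupp.inf_apply, Finsupp.tsub_apply,
      hr.factorization, Finsupp.single_apply]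
    split_ifs with e
    · subst e
      rw [Nat.factorization_def _ hr, Nat.factorization_def _ hr]
      omega
    · omega
  obtain ⟨ζ, hζ⟩ := IsCyclic.exists_generator (α := Fˣ)
  obtain ⟨a, ha⟩ := (mem_powers_iff_mem_zpowers (x := ζ)).mpr (hζ (Units.mk0 u hu0))
  have hord : orderOf ζ = Fintype.card F - 1 := by
    rw [orderOf_eq_card_of_forall_mem_zpowers hζ, Nat.card_units, Nat.card_eq_fintype_card]
  obtain ⟨e, he⟩ := hdvd
  have h1 : ζ ^ (a * ((Fintype.card F - 1) / r)) = 1 := by
    rw [pow_mul]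
    refine Units.ext ?_
    have hau : ((ζ ^ a : Fˣ) : F) = u := congrArg Units.val ha
    rw [Units.val_pow_eq_pow_val, hau, he, pow_mul, hgcd, one_pow, Units.val_one]
  have h2 := orderOf_dvd_of_pow_eq_one h1
  rw [hord] at h2
  have h3 : r ∣ a := by
    rcases hrM with ⟨M', hM'⟩
    rw [hM', Nat.mul_div_cancel_left _ hr.pos] at h2
    exact Nat.dvd_of_mul_dvd_mul_right (Nat.pos_of_ne_zero fun z => hM0 (by rw [hM', z, mul_zero])) h2
  obtain ⟨b, rfl⟩ := h3
  refine hu ((ζ ^ b : Fˣ) : F) ?_
  have hau : ((ζ ^ (r * b) : Fˣ) : F) = u := congrArg Units.val ha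
  rw [← hau, ← Units.val_pow_eq_pow_val, ← pow_mul, mul_comm]

theorem exists_not_pow (hr : r.Prime) (hrM : r ∣ Fintype.card F - 1) {k : ℕ}
    (hv : padicValNat r (Fintype.card F - 1) ≤ padicValNat r k) :
    ∃ u : F, u ≠ 0 ∧ u ^ k = 1 ∧ ∀ b : F, b ^ r ≠ u := by
  classical
  haveI := Fact.mk hr
  set M := Fintype.card F - 1 with hM
  have hM0 : M ≠ 0 := by have := Fintype.one_lt_card (α := F); omega
  obtain ⟨ζ, hζ⟩ := IsCyclic.exists_ofOrder_eq_natCard (α := Fˣ)
  rw [Nat.card_units, Nat.card_eq_fintype_card, ← hM] at hζ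
  set v := padicValNat r M with hv0
  have hvd : r ^ v ∣ M := pow_padicValNat_dvd
  have hu : orderOf (ζ ^ (M / r ^ v)) = r ^ v := by
    rw [← hζ] at hvd hM0 ⊢
    rw [orderOf_pow_of_dvd ((Nat.div_ne_zero_iff_of_dvd hvd).mpr ⟨hM0, pow_ne_zero _ hr.ne_zero⟩)
      (Nat.div_dvd_of_dvd hvd), Nat.div_div_self hvd hM0]
  refine ⟨((ζ ^ (M / r ^ v) : Fˣ) : F), Units.ne_zero _, ?_, fun b hb => ?_⟩
  · have : (ζ ^ (M / r ^ v)) ^ k = 1 := by
      rw [← orderOf_dvd_iff_pow_eq_one, hu]
      exact (pow_dvd_pow r hv).trans pow_padicValNat_dvd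
    rw [← Units.val_pow_eq_pow_val, this, Units.val_one]
  · have hb0 : b ≠ 0 := by
      rintro rfl
      rw [zero_pow hr.ne_zero] at hb
      exact Units.ne_zero _ hb.symm
    have h1 : (ζ ^ (M / r ^ v)) ^ (M / r) = 1 := by
      refine Units.ext ?_
      rw [Units.val_pow_eq_pow_val, ← hb, ← pow_mul, Nat.mul_div_cancel' hrM,
        FiniteField.pow_card_sub_one_eq_one b hb0, Units.val_one]
    have h2 := orderOf_dvd_of_pow_eq_one h1
    rw [hu, padicValNat_dvd_iff_le ((Nat.div_ne_zero_iff_of_dvd hrM).mpr ⟨hM0, hr.ne_zero⟩)] at h2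
    rw [padicValNat.div hrM] at h2
    have := one_le_padicValNat_of_dvd hM0 hrM
    omega

/-! ### Two families of elements -/

/-- An element with small fixed space and all other invariant blocks of one size. -/
theorem exists_small_fix (hr : r.Prime) (hrp : r ≠ p) {n : ℕ}
    (hi : 2 ≤ orderOf (Fintype.card F : ZMod r)) (hin : orderOf (Fintype.card F : ZMod r) ≤ n) :
    ∃ x : Matrix.SpecialLinearGroup (Fin n) F,
      ((x ^ r : Matrix.SpecialLinearGroup (Fin n) F) : Matrix (Fin n) (Fin n) F) = (1 : F) • 1 ∧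
      (∀ c : F, (x : Matrix (Fin n) (Fin n) F) ≠ c • 1) ∧
      finrank F (LinearMap.ker (Matrix.toLinAlgEquiv' (x : Matrix (Fin n) (Fin n) F) - 1)) ≤
        n % orderOf (Fintype.card F : ZMod r) := by
  classical
  haveI := Fact.mk hr
  haveI : Finite F := Finite.of_fintype F
  set i := orderOf (Fintype.card F : ZMod r) with hidef
  haveI : NeZero i := ⟨by omega⟩
  let L := FiniteField.Extension F p i
  have hLc : Nat.card L = Fintype.card F ^ i := by rw [FiniteField.natCard_extension, Nat.card_eq_fintype_card]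
  obtain ⟨z, hz⟩ : ∃ z : Lˣ, orderOf z = r := by
    refine exists_prime_orderOf_dvd_card' r ?_
    rw [Nat.card_units, hLc, ← ZMod.natCast_eq_zero_iff, Nat.cast_sub (Nat.one_le_pow _ _ Fintype.card_pos)]
    push_cast
    rw [pow_orderOf_eq_one, sub_self]
  have hz1 : (z : L) ≠ 1 := fun e => by
    rw [Units.ext (e.trans Units.val_one.symm), orderOf_one] at hz
    exact hr.ne_one hz.symm
  have hzr : (z : L) ^ r = 1 := by
    rw [← Units.val_pow_eq_pow_val, ← hz, pow_orderOf_eq_one, Units.val_one]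
  let A : Module.End F (Fin (n / i) → L) :=
    { toFun := fun a j => (z : L) * a j
      map_add' := fun a b => funext fun j => mul_add _ _ _
      map_smul' := fun c a => funext fun j => by simp }
  let T : Module.End F ((Fin (n / i) → L) × (Fin (n % i) → F)) := A.prodMap LinearMap.id
  have hTp : ∀ (k : ℕ) a b, (T ^ k) (a, b) = (fun j => (z : L) ^ k * a j, b) := by
    intro k
    induction k with
    | zero => intro a b; simp
    | succ k ih =>
      intro a b
      rw [pow_succ', Module.End.mul_apply, ih]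
      exact Prod.ext (funext fun j => by simp [T, A, pow_succ', mul_assoc]) rfl
  have hTr : T ^ r = 1 := LinearMap.ext fun ⟨a, b⟩ => by
    rw [hTp, hzr]
    simp
  have hdim : finrank F ((Fin (n / i) → L) × (Fin (n % i) → F)) = n := by
    rw [Module.finrank_prod, Module.finrank_pi_fintype, Module.finrank_fin_fun]
    simp [FiniteField.finrank_extension, L, mul_comm, Nat.mod_add_div]
    exact Nat.div_add_mod n i
  have hdet : LinearMap.det T = 1 := by
    have h1 : LinearMap.det T ^ r = 1 := by rw [← map_pow, hTr, map_one]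
    have h0 : LinearMap.det T ≠ 0 := fun e => by rw [e, zero_pow hr.ne_zero] at h1; exact zero_ne_one h1
    have h2 := pow_gcd_eq_one.mpr ⟨h1, FiniteField.pow_card_sub_one_eq_one _ h0⟩
    rwa [(hr.coprime_iff_not_dvd.mpr ?_).gcd_eq_one, pow_one] at h2
    intro hd
    have h3 : (Fintype.card F : ZMod r) = 1 := by
      have := (ZMod.natCast_eq_zero_iff _ _).mpr hd
      rwa [Nat.cast_sub Fintype.card_pos, Nat.cast_one, sub_eq_zero] at this
    rw [hidef, h3, orderOf_one] at hi
    omega
  obtain ⟨x, φ, hx⟩ := exists_sl hdim T hdet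
  have hker : finrank F (LinearMap.ker (Matrix.toLinAlgEquiv' (x : Matrix (Fin n) (Fin n) F) - 1)) ≤ n % i := by
    let f : ↥(LinearMap.ker (Matrix.toLinAlgEquiv' (x : Matrix (Fin n) (Fin n) F) - 1)) →ₗ[F] (Fin (n % i) → F) :=
      (LinearMap.snd F _ _).comp (φ.symm.toLinearMap.comp (Submodule.subtype _))
    refine (LinearMap.finrank_le_finrank_of_injective (f := f) ?_).trans (Module.finrank_fin_fun F).le
    rw [← LinearMap.ker_eq_bot, LinearMap.ker_eq_bot']
    rintro ⟨v, hv⟩ hfv
    have hfix : φ (T (φ.symm v)) = v := by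
      have h := sub_eq_zero.mp hv
      rw [hx] at h
      simpa [LinearEquiv.conjAlgEquiv_apply] using h
    have h1 : T (φ.symm v) = φ.symm v := φ.injective (hfix.trans (φ.apply_symm_apply v).symm)
    refine Subtype.ext (φ.symm.injective ?_)
    show φ.symm v = φ.symm 0
    rw [map_zero]
    refine Prod.ext (funext fun j => ?_) hfv
    have h2 := congrArg (fun w => w.1 j) h1
    by_contra hne
    exact hz1 (mul_right_cancel₀ hne (h2.trans (one_mul _).symm))
  refine ⟨x, ?_, fun c hc => ?_, hker⟩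
  · apply Matrix.toLinAlgEquiv'.injective
    rw [Matrix.SpecialLinearGroup.coe_pow, map_pow, hx, ← map_pow, hTr, map_one, map_smul, map_one, one_smul]
  · haveI : NeZero n := ⟨by omega⟩
    have hc1 : c = 1 := by
      have h := hTr
      apply_fun φ.conjAlgEquiv F at h
      rw [map_pow, ← hx, hc, map_one, map_smul, map_one, _root_.smul_pow, one_pow] at h
      have h' := congrFun (LinearMap.congr_fun h (Pi.single (0 : Fin n) 1)) 0
      simp at h'
      by_contra hne
      have h2 := pow_gcd_eq_one.mpr ⟨h', FiniteField.pow_card_sub_one_eq_one c (fun e => by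
        rw [e, zero_pow hr.ne_zero] at h'; exact zero_ne_one h')⟩
      rw [(hr.coprime_iff_not_dvd.mpr ?_).gcd_eq_one, pow_one] at h2
      · exact hne h2
      intro hd
      have h3 : (Fintype.card F : ZMod r) = 1 := by
        have := (ZMod.natCast_eq_zero_iff _ _).mpr hd
        rwa [Nat.cast_sub Fintype.card_pos, Nat.cast_one, sub_eq_zero] at this
      rw [hidef, h3, orderOf_one] at hi
      omega
    rw [hc, hc1, one_smul, map_one, sub_self, LinearMap.ker_zero, finrank_top, Module.finrank_fin_fun] at hker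
    have := Nat.mod_lt n (show i > 0 by omega)
    omega

/-- An element whose invariant subspaces have dimensions divisible by `r`. -/
theorem exists_twisted (hr : r.Prime) {n : ℕ} {c : F} (hc : ∀ b : F, b ^ r ≠ c) (hrn : r ∣ n) (hn : 0 < n)
    (hdet : ((-1) ^ r * -c) ^ (n / r) = 1) :
    ∃ x : Matrix.SpecialLinearGroup (Fin n) F,
      ((x ^ r : Matrix.SpecialLinearGroup (Fin n) F) : Matrix (Fin n) (Fin n) F) = c • 1 ∧
      (∀ z : F, (x : Matrix (Fin n) (Fin n) F) ≠ z • 1) ∧
      ∀ W : Submodule F (Fin n → F), (∀ v ∈ W, Matrix.toLinAlgEquiv' (x : Matrix (Fin n) (Fin n) F) v ∈ W) →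
        r ∣ finrank F W := by
  classical
  set g : F[X] := X ^ r - Polynomial.C c with hg
  have hgi : Irreducible g := X_pow_sub_C_irreducible_of_prime hr hc
  have hgm : g.Monic := monic_X_pow_sub_C c hr.ne_zero
  have hgd : g.natDegree = r := natDegree_X_pow_sub_C
  haveI := Fact.mk hgi
  haveI : Module.Finite F (AdjoinRoot g) := hgm.finite_adjoinRoot
  have hL : finrank F (AdjoinRoot g) = r := by
    rw [(AdjoinRoot.powerBasis hgi.ne_zero).finrank, AdjoinRoot.powerBasis_dim, hgd]
  have hroot : AdjoinRoot.root g ^ r = algebraMap F (AdjoinRoot g) c := by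
    have := AdjoinRoot.mk_self (f := g)
    rwa [hg, map_sub, map_pow, AdjoinRoot.mk_X, AdjoinRoot.mk_C, sub_eq_zero] at this
  let T : Module.End F (Fin (n / r) → AdjoinRoot g) :=
    { toFun := fun a j => AdjoinRoot.root g * a j
      map_add' := fun a b => funext fun j => mul_add _ _ _
      map_smul' := fun s a => funext fun j => by simp }
  have hTp : ∀ (k : ℕ) a j, (T ^ k) a j = AdjoinRoot.root g ^ k * a j := by
    intro k
    induction k with
    | zero => intro a j; simp
    | succ k ih =>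
      intro a j
      rw [pow_succ', Module.End.mul_apply]
      show AdjoinRoot.root g * (T ^ k) a j = _
      rw [ih, pow_succ', mul_assoc]
  have hTr : T ^ r = c • 1 := LinearMap.ext fun a => funext fun j => by
    rw [hTp, hroot]
    simp [Algebra.smul_def]
  have hgT : aeval T g = 0 := by
    show aeval T (X ^ r - Polynomial.C c) = 0
    rw [map_sub, map_pow, aeval_X, aeval_C, hTr, Algebra.algebraMap_eq_smul_one, sub_self]
  have hdim : finrank F (Fin (n / r) → AdjoinRoot g) = n := by
    rw [Module.finrank_pi_fintype]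
    simp [hL, Nat.div_mul_cancel hrn]
  have hdet' : LinearMap.det T = 1 := by
    rw [det_of_irreducible hgi hgm T hgT, hdim, hgd, hg, coeff_sub, coeff_X_pow, if_neg hr.ne_zero.symm,
      coeff_C_zero, zero_sub, hdet]
  obtain ⟨x, φ, hx⟩ := exists_sl hdim T hdet'
  have hpow : ((x ^ r : Matrix.SpecialLinearGroup (Fin n) F) : Matrix (Fin n) (Fin n) F) = c • 1 := by
    apply Matrix.toLinAlgEquiv'.injective
    rw [Matrix.SpecialLinearGroup.coe_pow, map_pow, hx, ← map_pow, hTr, map_smul, map_one, map_smul, map_one]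
  refine ⟨x, hpow, fun z hz => ?_, fun W hW => ?_⟩
  · haveI : NeZero n := ⟨by omega⟩
    rw [Matrix.SpecialLinearGroup.coe_pow, hz, _root_.smul_pow, one_pow] at hpow
    have := congrFun (congrFun hpow 0) 0
    simp at this
    exact hc z this
  · rw [hx] at hW
    have hW' := conj_invariant φ T W hW
    have := (invariant_dims (P := g) (d := r) (fun h h1 h2 h3 => by
      rw [eq_of_monic_of_associated h2 hgm (h1.associated_of_dvd hgi h3), hgd])
      (T.restrict hW') (LinearMap.ext fun y => Subtype.ext (by rw [aeval_restrict, hgT]; rfl))).1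
    rwa [LinearEquiv.finrank_map_eq] at this

/-- A map whose `r`-th power is an irrational scalar. -/
theorem twisted_dims (hr : r.Prime) {n : ℕ} (T : Module.End F (Fin n → F)) {c : F} (hc : ∀ b : F, b ^ r ≠ c)
    (hT : T ^ r = c • 1) :
    r ∣ n ∧ LinearMap.det T = ((-1) ^ r * -c) ^ (n / r) ∧
      ∀ m, m ≤ n → r ∣ m → ∃ W : Submodule F (Fin n → F), finrank F W = m ∧ ∀ v ∈ W, T v ∈ W := by
  set g : F[X] := X ^ r - Polynomial.C c with hg
  have hgi : Irreducible g := X_pow_sub_C_irreducible_of_prime hr hc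
  have hgm : g.Monic := monic_X_pow_sub_C c hr.ne_zero
  have hgd : g.natDegree = r := natDegree_X_pow_sub_C
  have hgT : aeval T g = 0 := by
    rw [hg, map_sub, map_pow, aeval_X, aeval_C, hT, Algebra.algebraMap_eq_smul_one, sub_self]
  have hn : finrank F (Fin n → F) = n := Module.finrank_fin_fun F
  obtain ⟨h1, h2⟩ := invariant_dims (P := g) (d := r) (fun h h1 h2 h3 => by
    rw [eq_of_monic_of_associated h2 hgm (h1.associated_of_dvd hgi h3), hgd]) T hgT
  rw [hn] at h1 h2
  refine ⟨h1, ?_, fun m hm hrm => ?_⟩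
  · rw [det_of_irreducible hgi hgm T hgT, hn, hgd, hg, coeff_sub, coeff_X_pow, coeff_C_zero, if_neg hr.ne_zero.symm, zero_sub]
  · obtain ⟨k, rfl⟩ := hrm
    obtain ⟨W, hW⟩ := h2 k (by rw [mul_comm]; exact hm)
    exact ⟨W, by rw [mul_comm]; exact hW⟩

/-! ### The criterion -/

theorem elusive_iff {n m : ℕ} (hn : 2 ≤ n) (hm : 1 ≤ m) (hmn : m ≤ n) (hr : r.Prime)
    (hΩ : r ∣ Nat.card {W : Submodule F (Fin n → F) // finrank F ↥W = m}) :
    (∀ x : Matrix.SpecialLinearGroup (Fin n) F,
      (∃ c : F, ((x ^ r : Matrix.SpecialLinearGroup (Fin n) F) : Matrix (Fin n) (Fin n) F) = c • (1 : Matrix (Fin n) (Fin n) F)) →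
      (∀ c : F, (x : Matrix (Fin n) (Fin n) F) ≠ c • (1 : Matrix (Fin n) (Fin n) F)) →
      ∃ W : Submodule F (Fin n → F), Module.finrank F ↥W = m ∧ W.map (Matrix.toLin' (x : Matrix (Fin n) (Fin n) F)) ≤ W) ↔
    (r ≠ p ∧
      ((orderOf (Fintype.card F : ZMod r) = 1 ∧ (r ∣ m ∨ (padicValNat r n ≤ padicValNat r (Fintype.card F - 1) ∧
        (r = 2 → Even n → Fintype.card F % 4 = 1)))) ∨
       (2 ≤ orderOf (Fintype.card F : ZMod r) ∧ orderOf (Fintype.card F : ZMod r) ≤ m ∧
        m % orderOf (Fintype.card F : ZMod r) ≤ n % orderOf (Fintype.card F : ZMod r)))) := by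
  classical
  haveI := Fact.mk hr
  have hrp : r ≠ p := ne_char (F := F) hmn hr hΩ
  have hq : ¬ r ∣ Fintype.card F := fun h => hrp ((dvd_q_iff (F := F) hr).mp h)
  have hi0 : 0 < orderOf (Fintype.card F : ZMod r) := by
    refine (isOfFinOrder_iff_pow_eq_one.mpr ⟨r - 1, by have := hr.two_le; omega, ?_⟩).orderOf_pos
    exact ZMod.pow_card_sub_one_eq_one fun e => hq ((ZMod.natCast_eq_zero_iff _ _).mp e)
  have hrM : orderOf (Fintype.card F : ZMod r) = 1 ↔ r ∣ Fintype.card F - 1 := by
    rw [orderOf_eq_one_iff, ← ZMod.natCast_eq_zero_iff, Nat.cast_sub Fintype.card_pos, Nat.cast_one, sub_eq_zero]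
  have hqodd : r = 2 → Fintype.card F % 4 = 1 ∨ Fintype.card F % 4 = 3 := by
    rintro rfl
    have : Fintype.card F % 2 = 1 := by
      rcases Nat.mod_two_eq_zero_or_one (Fintype.card F) with h | h
      · exact absurd (Nat.dvd_of_mod_eq_zero h) hq
      · exact h
    omega
  have hneg : r = 2 → Fintype.card F % 4 = 1 → ∀ c : F, (∀ b : F, b ^ 2 ≠ c) → ∀ b : F, b ^ 2 ≠ -c := by
    intro _ h4 c hc b hb
    obtain ⟨s, hs⟩ := FiniteField.isSquare_neg_one_iff.mpr (by omega : Fintype.card F % 4 ≠ 3)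
    exact hc (s * b) (by rw [mul_pow, sq s, ← hs, hb]; ring)
  constructor
  · intro H
    refine ⟨hrp, ?_⟩
    rcases Nat.lt_or_ge (orderOf (Fintype.card F : ZMod r)) 2 with hi | hi
    · left
      have hi1 : orderOf (Fintype.card F : ZMod r) = 1 := by omega
      refine ⟨hi1, or_iff_not_imp_left.mpr fun hrm => ?_⟩
      by_contra hbad
      have hrn : r ∣ n := by
        by_contra h
        apply hbad
        refine ⟨by rw [padicValNat.eq_zero_of_not_dvd h]; exact Nat.zero_le _, ?_⟩
        rintro rfl he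
        exact absurd he.two_dvd h
      have hex : ∃ c : F, (∀ b : F, b ^ r ≠ c) ∧ ((-1) ^ r * -c) ^ (n / r) = 1 := by
        have hv : padicValNat r (n / r) = padicValNat r n - 1 := padicValNat.div hrn
        by_cases h2 : r = 2 ∧ Fintype.card F % 4 = 3
        · obtain ⟨rfl, h4⟩ := h2
          refine ⟨-1, fun b hb => ?_, by simp⟩
          exact (FiniteField.isSquare_neg_one_iff.mp ⟨b, by rw [← hb]; ring⟩) h4
        · have hlt : padicValNat r (Fintype.card F - 1) < padicValNat r n := by
            by_contra hle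
            exact hbad ⟨by omega, fun e he => (hqodd e).resolve_right fun h => h2 ⟨e, h⟩⟩
          obtain ⟨u, -, hu, hun⟩ := exists_not_pow (F := F) hr (hrM.mp hi1) (k := n / r) (by omega)
          rcases hr.eq_two_or_odd' with rfl | hodd
          · refine ⟨-u, hneg rfl ((hqodd rfl).resolve_right fun h => h2 ⟨rfl, h⟩) u hun, ?_⟩
            rw [neg_neg, neg_one_sq, one_mul, hu]
          · exact ⟨u, hun, by rw [hodd.neg_one_pow]; simpa using hu⟩
      obtain ⟨c, hc, hdet⟩ := hex
      obtain ⟨x, hx1, hx2, hx3⟩ := exists_twisted hr hc hrn (by omega) hdet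
      obtain ⟨W, hW, hWx⟩ := H x ⟨c, hx1⟩ hx2
      exact hrm (hW ▸ hx3 W ((map_le_iff _ W).mp hWx))
    · right
      refine ⟨hi, ?_⟩
      set i := orderOf (Fintype.card F : ZMod r) with hidef
      have hmod := mod_lt_of_dvd (F := F) (p := p) hmn hr hrp hΩ
      rw [← hidef] at hmod
      have hin : i ≤ n := by
        by_contra h
        push Not at h
        have := hmod (by omega)
        rw [Nat.mod_eq_of_lt h] at this
        omega
      obtain ⟨x, hx1, hx2, hx3⟩ := exists_small_fix (F := F) (p := p) hr hrp hi hin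
      obtain ⟨W, hW, hWx⟩ := H x ⟨1, hx1⟩ hx2
      have hT : (Matrix.toLinAlgEquiv' (x : Matrix (Fin n) (Fin n) F)) ^ r = 1 := by
        rw [pow_scalar r hx1, one_smul]
      obtain ⟨k, hk1, -, hk3⟩ := (exists_iff (p := p) _ hr hrp hT m).mp ⟨W, hW, (map_le_iff _ W).mp hWx⟩
      rw [← hidef] at hk1 hk3 hx3
      have him : i ≤ m := by
        by_contra h
        push Not at h
        rcases Nat.eq_zero_or_pos k with rfl | hk0
        · have := hmod h
          omega
        · have := Nat.le_mul_of_pos_left i hk0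
          omega
      refine ⟨him, ?_⟩
      have hkm : k ≤ m / i := (Nat.le_div_iff_mul_le hi0).mpr hk1
      have := Nat.mul_le_mul_right i hkm
      have := Nat.div_add_mod m i
      rw [mul_comm] at this
      omega
  · rintro ⟨-, hcase⟩ x ⟨c, hc⟩ -
    set T := Matrix.toLinAlgEquiv' (x : Matrix (Fin n) (Fin n) F) with hTdef
    have hT : T ^ r = c • 1 := pow_scalar r hc
    suffices ∃ W : Submodule F (Fin n → F), finrank F W = m ∧ ∀ v ∈ W, T v ∈ W by
      obtain ⟨W, hW, hWT⟩ := this
      exact ⟨W, hW, (map_le_iff _ W).mpr hWT⟩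
    by_cases hpow : ∃ b : F, b ^ r = c
    · obtain ⟨b, rfl⟩ := hpow
      have hdetT : LinearMap.det T = 1 := by
        show LinearMap.det (Matrix.toLin' (x : Matrix (Fin n) (Fin n) F)) = 1
        rw [LinearMap.det_toLin', x.2]
      have hb : b ≠ 0 := fun e => by
        have := congrArg LinearMap.det hT
        rw [map_pow, hdetT, one_pow, e, zero_pow hr.ne_zero, LinearMap.det_smul, Module.finrank_fin_fun,
          zero_pow (by omega : n ≠ 0), zero_mul] at this
        exact one_ne_zero this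
      have hT1 : (b⁻¹ • T) ^ r = 1 := by
        rw [_root_.smul_pow, hT, smul_smul, ← mul_pow, inv_mul_cancel₀ hb, one_pow, one_smul]
      suffices ∃ W : Submodule F (Fin n → F), finrank F W = m ∧ ∀ v ∈ W, (b⁻¹ • T) v ∈ W by
        obtain ⟨W, hW, hWT⟩ := this
        refine ⟨W, hW, fun v hv => ?_⟩
        have := W.smul_mem b (hWT v hv)
        rwa [LinearMap.smul_apply, smul_smul, mul_inv_cancel₀ hb, one_smul] at this
      refine (exists_iff (p := p) _ hr hrp hT1 m).mpr ?_
      set e := finrank F (LinearMap.ker (b⁻¹ • T - 1))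
      have hen : e ≤ n := (Submodule.finrank_le _).trans (Module.finrank_fin_fun F).le
      rw [Module.finrank_fin_fun]
      rcases hcase with ⟨h1, -⟩ | ⟨h2, him, hmod⟩
      · exact ⟨min m (n - e), by rw [h1, mul_one]; omega, by rw [h1, mul_one]; omega, by rw [h1, mul_one]; omega⟩
      · set i := orderOf (Fintype.card F : ZMod r) with hidef
        obtain ⟨hdvd, -⟩ := dims_in_range (p := p) (b⁻¹ • T) hr hrp hT1 _ le_rfl (fun v hv => by
          obtain ⟨w, rfl⟩ := hv
          exact ⟨(b⁻¹ • T) w, by simp⟩)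
        obtain ⟨s, hs⟩ := hdvd
        rw [← hidef] at hs
        have hrn := LinearMap.finrank_range_add_finrank_ker (b⁻¹ • T - 1)
        rw [Module.finrank_fin_fun, hs, mul_comm] at hrn
        have he : n % i ≤ e := by
          rw [← hrn, add_comm, Nat.add_mul_mod_self_right]
          exact Nat.mod_le _ _
        rcases Nat.le_total (m / i) s with hms | hms
        · have := Nat.mul_le_mul_right i hms
          have hdm := Nat.div_add_mod m i
          rw [mul_comm] at hdm
          exact ⟨m / i, by omega, by omega, by omega⟩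
        · have := Nat.mul_le_mul_right i hms
          have hdm := Nat.div_add_mod m i
          rw [mul_comm] at hdm
          exact ⟨s, by omega, by omega, by omega⟩
    · push Not at hpow
      obtain ⟨hrn, hdet, hex⟩ := twisted_dims hr T hpow hT
      rcases hcase with ⟨h1, hrm | ⟨hv, h4⟩⟩ | ⟨h2, -, -⟩
      · exact hex m hmn hrm
      · exfalso
        have hdetT : LinearMap.det T = 1 := by
          show LinearMap.det (Matrix.toLin' (x : Matrix (Fin n) (Fin n) F)) = 1
          rw [LinearMap.det_toLin', x.2]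
        rw [hdetT] at hdet
        have hc0 : c ≠ 0 := fun e => hpow 0 (by rw [e, zero_pow hr.ne_zero])
        have hk : n / r ≠ 0 := (Nat.div_ne_zero_iff_of_dvd hrn).mpr ⟨by omega, hr.ne_zero⟩
        have hvk : padicValNat r (n / r) = padicValNat r n - 1 := padicValNat.div hrn
        have hv1 := one_le_padicValNat_of_dvd (p := r) (by omega : n ≠ 0) hrn
        have := hrM.mp h1
        rcases hr.eq_two_or_odd' with rfl | hodd
        · have h41 := h4 rfl (even_iff_two_dvd.mpr hrn)
          rw [neg_one_sq, one_mul] at hdet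
          have := factor_le_of_not_pow (neg_ne_zero.mpr hc0) (hneg rfl h41 c hpow) hr hk hdet.symm
          omega
        · rw [hodd.neg_one_pow, neg_one_mul, neg_neg] at hdet
          have := factor_le_of_not_pow hc0 hpow hr hk hdet.symm
          omega
      · exfalso
        apply (show ¬ r ∣ Fintype.card F - 1 from fun h => by rw [hrM.mpr h] at h2; omega)
        by_contra hnd
        obtain ⟨u, v, huv⟩ : ∃ u v : ℤ, (r : ℤ) * u + ((Fintype.card F - 1 : ℕ) : ℤ) * v = 1 := by
          refine ⟨Nat.gcdA r (Fintype.card F - 1), Nat.gcdB r (Fintype.card F - 1), ?_⟩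
          rw [← Nat.gcd_eq_gcd_ab, (hr.coprime_iff_not_dvd.mpr hnd).gcd_eq_one]
          rfl
        have hc0 : c ≠ 0 := fun e => hpow 0 (by rw [e, zero_pow hr.ne_zero])
        refine hpow (c ^ u) ?_
        rw [← zpow_natCast, ← zpow_mul, mul_comm u]
        have h1 : c ^ (((Fintype.card F - 1 : ℕ) : ℤ)) = 1 := by
          rw [zpow_natCast]; exact FiniteField.pow_card_sub_one_eq_one c hc0
        conv_rhs => rw [← zpow_one c, ← huv, zpow_add₀ hc0, zpow_mul c _ v, h1, one_zpow, mul_one]

end CfsgLib.MaxSub.Elusive
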