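/-
Blocks permuted by a linear map of prime order: construction and necessary conditions.
-/
import Cfsg.Agent.Lib.MaxSub.ElusiveGL
import Cfsg.Prelude.Def_GeometricClasses

set_option autoImplicit false
set_option linter.unusedSectionVars false

namespace CfsgLib.MaxSub.Elusive

open Polynomial Module

universe u v

variable {F : Type u} [Field F]

/-! ### Bases adapted to an annihilating polynomial -/

theorem orbit_basis {V : Type v} [AddCommGroup V] [Module F V] [FiniteDimensional F V] (T : Module.End F V) {g : F[X]}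
    (hgi : Irreducible g) (hT : aeval T g = 0) :
    ∃ (N : ℕ) (w : Fin N → V) (B : Basis (Fin g.natDegree × Fin N) F V),
      g.natDegree * N = finrank F V ∧ ∀ i k, B (i, k) = (T ^ (i : ℕ)) (w k) := by
  classical
  haveI := Fact.mk hgi
  let φ : AdjoinRoot g →+* Module.End F V := Ideal.Quotient.lift (Ideal.span {g}) (aeval T).toRingHom (by
    intro a ha
    obtain ⟨b, rfl⟩ := Ideal.mem_span_singleton.mp ha
    show aeval T (g * b) = 0
    rw [map_mul, hT, zero_mul])
  letI : Module (AdjoinRoot g) V := Module.compHom V φ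
  have hsmul : ∀ (P : F[X]) (v : V), AdjoinRoot.mk g P • v = aeval T P v := fun P v => rfl
  haveI : IsScalarTower F (AdjoinRoot g) V := ⟨fun c z v => by
    obtain ⟨P, rfl⟩ := AdjoinRoot.mk_surjective z
    rw [AdjoinRoot.smul_mk, hsmul, hsmul, map_smul, LinearMap.smul_apply]⟩
  haveI : Module.Finite (AdjoinRoot g) V := Module.Finite.of_restrictScalars_finite F (AdjoinRoot g) V
  let b := Module.finBasis (AdjoinRoot g) V
  let pb := AdjoinRoot.powerBasis hgi.ne_zero
  have hdim : pb.dim = g.natDegree := AdjoinRoot.powerBasis_dim hgi.ne_zero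
  let B := (pb.basis.smulTower b).reindex ((finCongr hdim).prodCongr (Equiv.refl _))
  refine ⟨finrank (AdjoinRoot g) V, b, B, ?_, fun i k => ?_⟩
  · rw [Module.finrank_eq_card_basis B, Fintype.card_prod, Fintype.card_fin, Fintype.card_fin]
  · simp only [B, Basis.reindex_apply, Equiv.prodCongr_symm, Equiv.prodCongr_apply, Basis.smulTower_apply,
      Prod.map_fst, Prod.map_snd, Equiv.refl_symm, Equiv.refl_apply, PowerBasis.coe_basis]
    rw [AdjoinRoot.powerBasis_gen, ← AdjoinRoot.mk_X, ← map_pow, hsmul, map_pow, aeval_X]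
    simp

/-! ### Decompositions -/

theorem indep_of_dim {V : Type v} [AddCommGroup V] [Module F V] [FiniteDimensional F V] {t a : ℕ}
    (D : Fin t → Submodule F V) (hd : ∀ j, finrank F (D j) = a) (hn : finrank F V = a * t) (htop : iSup D = ⊤) :
    iSupIndep D := by
  classical
  intro j
  have hle : ∀ s : Finset (Fin t), finrank F ↥(s.sup D) ≤ s.card * a := by
    intro s
    induction s using Finset.induction_on with
    | empty => simp
    | insert i s hi ih =>
      rw [Finset.sup_insert, Finset.card_insert_of_notMem hi]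
      have := Submodule.finrank_sup_add_finrank_inf_eq (D i) (s.sup D)
      rw [hd] at this
      rw [add_mul, one_mul]
      omega
  have hrest : (⨆ (i : Fin t) (_ : i ≠ j), D i) ≤ (Finset.univ.erase j).sup D :=
    iSup₂_le fun i hi => Finset.le_sup (Finset.mem_erase.mpr ⟨hi, Finset.mem_univ i⟩)
  refine Disjoint.mono_right hrest (disjoint_iff.mpr ?_)
  have hall : D j ⊔ (Finset.univ.erase j).sup D = ⊤ := by
    rw [eq_top_iff, ← htop]
    refine iSup_le fun i => ?_
    by_cases h : i = j
    · rw [h]; exact le_sup_left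
    · exact le_sup_of_le_right (Finset.le_sup (Finset.mem_erase.mpr ⟨h, Finset.mem_univ i⟩))
  have h := Submodule.finrank_sup_add_finrank_inf_eq (D j) ((Finset.univ.erase j).sup D)
  rw [hall, finrank_top, hd, hn] at h
  have h2 := hle (Finset.univ.erase j)
  rw [Finset.card_erase_of_mem (Finset.mem_univ j), Finset.card_univ, Fintype.card_fin, Nat.sub_mul, one_mul, mul_comm] at h2
  have hat : a ≤ a * t := Nat.le_mul_of_pos_right a j.pos
  exact Submodule.finrank_eq_zero.mp (by omega)

/-- Blocks read off a basis. -/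
theorem stable_of_basis {n t a : ℕ} {κ : Type*} [Fintype κ] (ht : 2 ≤ t) (ha : 1 ≤ a)
    (T : Module.End F (Fin n → F)) (hinj : Function.Injective T) (B : Basis κ F (Fin n → F))
    (e : κ ≃ Fin t × Fin a) (σ : Fin t → Fin t) (hσ : Function.Injective σ)
    (h : ∀ x, T (B x) ∈ Submodule.span F (Set.range fun k : Fin a => B (e.symm (σ (e x).1, k)))) :
    ∃ D : Fin t → Submodule F (Fin n → F), Cfsg.Geo.IsMDecomposition a D ∧
      ∃ τ : Equiv.Perm (Fin t), ∀ j, (D j).map T = D (τ j) := by
  let D : Fin t → Submodule F (Fin n → F) := fun j =>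
    Submodule.span F (Set.range fun k : Fin a => B (e.symm (j, k)))
  have hdim : ∀ j, finrank F (D j) = a := by
    intro j
    refine (finrank_span_eq_card ?_).trans (Fintype.card_fin a)
    exact B.linearIndependent.comp _ fun k k' hk => (Prod.ext_iff.mp (e.symm.injective hk)).2
  have htop : iSup D = ⊤ := by
    rw [eq_top_iff, ← B.span_eq, Submodule.span_le]
    rintro _ ⟨x, rfl⟩
    refine Submodule.mem_iSup_of_mem (e x).1 (Submodule.subset_span ⟨(e x).2, ?_⟩)
    show B (e.symm ((e x).1, (e x).2)) = B x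
    rw [Prod.mk.eta, Equiv.symm_apply_apply]
  have hn : finrank F (Fin n → F) = a * t := by
    rw [Module.finrank_eq_card_basis B, Fintype.card_congr e, Fintype.card_prod, Fintype.card_fin, Fintype.card_fin,
      mul_comm]
  refine ⟨D, ⟨ht, ha, hdim, indep_of_dim D hdim hn htop, htop⟩,
    Equiv.ofBijective σ (Finite.injective_iff_bijective.mp hσ), fun j => ?_⟩
  refine Submodule.eq_of_le_of_finrank_eq ?_ ?_
  · rw [Submodule.map_span, Submodule.span_le]
    rintro _ ⟨_, ⟨k, rfl⟩, rfl⟩
    have := h (e.symm (j, k))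
    rw [Equiv.apply_symm_apply] at this
    exact this
  · rw [hdim, ← (Submodule.equivMapOfInjective T hinj (D j)).finrank_eq, hdim]

theorem card_perm_dvd {n t a : ℕ} [Fintype F] :
    t.factorial ∣ Nat.card {D : Fin t → Submodule F (Fin n → F) // Cfsg.Geo.IsMDecomposition a D} := by
  classical
  let α := {D : Fin t → Submodule F (Fin n → F) // Cfsg.Geo.IsMDecomposition a D}
  letI : SMul (Equiv.Perm (Fin t)) α := ⟨fun σ D => ⟨fun i => D.1 (σ.symm i), ⟨D.2.two_le, D.2.pos,
    fun i => D.2.finrank_eq _, D.2.indep.comp σ.symm.injective,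
    (Equiv.iSup_comp σ.symm (g := D.1)).trans D.2.iSup_eq_top⟩⟩⟩
  letI : MulAction (Equiv.Perm (Fin t)) α :=
    { one_smul := fun D => rfl
      mul_smul := fun σ τ D => rfl }
  have hfree : ∀ D : α, MulAction.stabilizer (Equiv.Perm (Fin t)) D = ⊥ := by
    intro D
    rw [Subgroup.eq_bot_iff_forall]
    intro σ hσ
    refine Equiv.ext fun i => ?_
    by_contra hi
    have h : D.1 (σ.symm (σ i)) = D.1 (σ i) := congrFun (congrArg Subtype.val hσ) (σ i)
    rw [Equiv.symm_apply_apply] at h
    have hd := D.2.indep.pairwiseDisjoint (Ne.symm hi)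
    have hd' : Disjoint (D.1 i) (D.1 (σ i)) := hd
    rw [← h] at hd'
    have := D.2.finrank_eq i
    rw [disjoint_self.mp hd', finrank_bot] at this
    have := D.2.pos
    omega
  rw [Nat.card_congr (MulAction.selfEquivOrbitsQuotientProd hfree), Nat.card_prod, Nat.card_perm, Nat.card_fin]
  exact dvd_mul_left _ _

theorem card_decomp_dvd {n t a : ℕ} [Fintype F] (hat : n = a * t) (ha : 1 ≤ a) (ht : 2 ≤ t) :
    Nat.card {D : Fin t → Submodule F (Fin n → F) // Cfsg.Geo.IsMDecomposition a D} ∣ Nat.card (GL (Fin n) F) := by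
  classical
  let G := (Fin n → F) ≃ₗ[F] (Fin n → F)
  let α := {D : Fin t → Submodule F (Fin n → F) // Cfsg.Geo.IsMDecomposition a D}
  have hG : Nat.card G = Nat.card (GL (Fin n) F) :=
    Nat.card_congr ((LinearMap.GeneralLinearGroup.generalLinearEquiv F (Fin n → F)).symm.trans
      Matrix.GeneralLinearGroup.toLin.symm).toEquiv
  obtain ⟨D₀, hD₀, -⟩ := stable_of_basis (F := F) ht ha 1 (fun x y h => h) (Pi.basisFun F (Fin n))
    ((finCongr (hat.trans (mul_comm a t))).trans finProdFinEquiv.symm) id Function.injective_id fun x => by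
    refine Submodule.subset_span ⟨((((finCongr (hat.trans (mul_comm a t))).trans finProdFinEquiv.symm) x)).2, ?_⟩
    show Pi.basisFun F (Fin n) (Equiv.symm _ ((_, _) : Fin t × Fin a)) = _
    rw [id_eq, Prod.mk.eta, Equiv.symm_apply_apply, Module.End.one_apply]
  let D₀ : α := ⟨D₀, hD₀⟩
  letI : SMul G α := ⟨fun φ D => ⟨fun i => (D.1 i).map φ.toLinearMap, ⟨D.2.two_le, D.2.pos,
    fun i => (LinearEquiv.finrank_map_eq φ (D.1 i)).trans (D.2.finrank_eq i),
    ((iSupIndep_map_orderIso_iff (Submodule.orderIsoMapComap φ)).mpr D.2.indep),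
    by rw [← Submodule.map_iSup, D.2.iSup_eq_top, Submodule.map_top, LinearEquiv.range]⟩⟩⟩
  letI : MulAction G α :=
    { one_smul := fun D => Subtype.ext (funext fun i => Submodule.map_id _)
      mul_smul := fun φ ψ D => Subtype.ext (funext fun i => Submodule.map_comp ψ.toLinearMap φ.toLinearMap (D.1 i)) }
  have htrans : MulAction.orbit G D₀ = Set.univ := by
    refine Set.eq_univ_of_forall fun D => ?_
    let b : ∀ (E : α) (i : Fin t), Basis (Fin a) F (E.1 i) := fun E i => Module.finBasisOfFinrankEq F _ (E.2.finrank_eq i)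
    have hint : ∀ E : α, DirectSum.IsInternal E.1 := fun E =>
      DirectSum.isInternal_submodule_of_iSupIndep_of_iSup_eq_top E.2.indep E.2.iSup_eq_top
    let B : ∀ E : α, Basis (Σ _ : Fin t, Fin a) F (Fin n → F) := fun E => (hint E).collectedBasis (b E)
    let φ : G := (B D₀).equiv (B D) (Equiv.refl _)
    refine ⟨φ, Subtype.ext (funext fun i => ?_)⟩
    show (D₀.1 i).map φ.toLinearMap = D.1 i
    refine Submodule.eq_of_le_of_finrank_eq ?_ (by
      rw [LinearEquiv.finrank_map_eq, D₀.2.finrank_eq, D.2.finrank_eq])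
    rintro _ ⟨v, hv, rfl⟩
    have hkey : φ.toLinearMap.comp (D₀.1 i).subtype =
        (D.1 i).subtype.comp ((b D₀ i).equiv (b D i) (Equiv.refl _)).toLinearMap := by
      refine (b D₀ i).ext fun k => ?_
      have h1 : (B D₀) ⟨i, k⟩ = ((b D₀ i k : D₀.1 i) : Fin n → F) := congrFun ((hint D₀).collectedBasis_coe (b D₀)) ⟨i, k⟩
      have h2 : (B D) ⟨i, k⟩ = ((b D i k : D.1 i) : Fin n → F) := congrFun ((hint D).collectedBasis_coe (b D)) ⟨i, k⟩
      simp only [LinearMap.comp_apply, LinearEquiv.coe_coe, Submodule.subtype_apply, Basis.equiv_apply, Equiv.refl_apply]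
      rw [← h1, ← h2]
      exact Basis.equiv_apply ..
    have := LinearMap.congr_fun hkey ⟨v, hv⟩
    simp only [LinearMap.comp_apply, Submodule.subtype_apply] at this
    rw [this]
    exact Subtype.coe_prop _
  have h := MulAction.orbitEquivQuotientStabilizer G D₀
  rw [← Nat.card_univ, ← htrans, Nat.card_congr h, ← hG]
  exact Subgroup.card_quotient_dvd_card _

/-! ### Consequences of a permuted decomposition -/

variable {n t a r : ℕ} {T : Module.End F (Fin n → F)} {D : Fin t → Submodule F (Fin n → F)} {σ : Equiv.Perm (Fin t)}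

theorem iter_mem (hσ : ∀ j, (D j).map T = D (σ j)) : ∀ (i : ℕ) j u, u ∈ D j → (T ^ i) u ∈ D ((σ ^ i) j) := by
  intro i
  induction i with
  | zero => intro j u hu; simpa using hu
  | succ i ih =>
    intro j u hu
    rw [pow_succ', pow_succ', Module.End.mul_apply, Equiv.Perm.mul_apply, ← hσ]
    exact ⟨_, ih j u hu, rfl⟩

theorem sigma_pow (hD : Cfsg.Geo.IsMDecomposition a D) (hσ : ∀ j, (D j).map T = D (σ j)) (hT : T ^ r = 1) (j : Fin t) :
    (σ ^ r) j = j := by
  by_contra hj
  have hbot : D j = ⊥ := by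
    rw [Submodule.eq_bot_iff]
    intro u hu
    have h1 := iter_mem hσ r j u hu
    rw [hT, Module.End.one_apply] at h1
    exact Submodule.disjoint_def.mp (hD.indep.pairwiseDisjoint (Ne.symm hj)) u hu h1
  have := hD.finrank_eq j
  rw [hbot, finrank_bot] at this
  have := hD.pos
  omega

theorem orbit_distinct (hr : r.Prime) {j : Fin t} (hj : σ j ≠ j) (hp : (σ ^ r) j = j) {i k : ℕ} (hi : i < r) (hk : k < r)
    (h : (σ ^ i) j = (σ ^ k) j) : i = k := by
  wlog hik : i ≤ k generalizing i k
  · exact (this hk hi h.symm (by omega)).symm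
  by_contra hne
  apply hj
  have h1 : Function.IsPeriodicPt σ (k - i) j := by
    show (⇑σ)^[k - i] j = j
    rw [← Equiv.Perm.coe_pow]
    apply (σ ^ i).injective
    rw [← Equiv.Perm.mul_apply, ← pow_add, Nat.add_sub_cancel' hik, h]
  have h2 : Function.IsPeriodicPt σ r j := by
    show (⇑σ)^[r] j = j
    rw [← Equiv.Perm.coe_pow]
    exact hp
  have h3 := h1.gcd h2
  rw [Nat.Coprime.gcd_eq_one] at h3
  · exact h3
  · exact (hr.coprime_iff_not_dvd.mpr fun hd => by
      have := Nat.le_of_dvd (by omega) hd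
      omega).symm

theorem eq_zero_of_orbit_sum (hD : Cfsg.Geo.IsMDecomposition a D) (hr : r.Prime) {j : Fin t} (hj : σ j ≠ j)
    (hp : (σ ^ r) j = j) (v : ℕ → (Fin n → F)) (hv : ∀ i < r, v i ∈ D ((σ ^ i) j))
    (h : ∑ i ∈ Finset.range r, v i = 0) : ∀ i < r, v i = 0 := by
  intro i hi
  rw [← Finset.add_sum_erase _ _ (Finset.mem_range.mpr hi), add_eq_zero_iff_eq_neg] at h
  refine Submodule.disjoint_def.mp (hD.indep ((σ ^ i) j)) _ (hv i hi) ?_
  rw [h]
  refine neg_mem (sum_mem fun k hk => ?_)
  obtain ⟨hki, hkr⟩ := Finset.mem_erase.mp hk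
  have hkr' := Finset.mem_range.mp hkr
  exact Submodule.mem_iSup_of_mem ((σ ^ k) j)
    (Submodule.mem_iSup_of_mem (fun e => hki (orbit_distinct hr hj hp hkr' hi e)) (hv k hkr'))

/-- A moved block forces a minimal polynomial of degree at least `r`. -/
theorem degree_ge_of_moved (hD : Cfsg.Geo.IsMDecomposition a D) (hσ : ∀ j, (D j).map T = D (σ j)) (hr : r.Prime)
    (hT : T ^ r = 1) (hinj : Function.Injective T) {j : Fin t} (hj : σ j ≠ j) {P : F[X]} (hP0 : P ≠ 0)
    (hP : aeval T P = 0) : r ≤ P.natDegree := by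
  by_contra hlt
  push Not at hlt
  obtain ⟨u, hu, hu0⟩ := Submodule.exists_mem_ne_zero_of_ne_bot (p := D j) fun e => by
    have := hD.finrank_eq j
    rw [e, finrank_bot] at this
    have := hD.pos
    omega
  have hpow : ∀ i, (T ^ i) u ≠ 0 := by
    intro i
    induction i with
    | zero => simpa using hu0
    | succ i ih =>
      rw [pow_succ', Module.End.mul_apply]
      exact fun e => ih (hinj (e.trans (map_zero T).symm))
  have h := congrArg (fun S : Module.End F (Fin n → F) => S u) hP
  rw [aeval_eq_sum_range' hlt, LinearMap.sum_apply, LinearMap.zero_apply] at h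
  have hz := eq_zero_of_orbit_sum hD hr hj (sigma_pow hD hσ hT j) (fun i => (P.coeff i • T ^ i) u)
    (fun i _ => (D _).smul_mem _ (iter_mem hσ i j u hu)) h P.natDegree hlt
  simp only [LinearMap.smul_apply, smul_eq_zero, hpow, or_false] at hz
  exact hP0 (Polynomial.leadingCoeff_eq_zero.mp hz)

/-- A moved block forces fixed vectors. -/
theorem fixed_ge_of_moved (hD : Cfsg.Geo.IsMDecomposition a D) (hσ : ∀ j, (D j).map T = D (σ j)) (hr : r.Prime)
    (hT : T ^ r = 1) {j : Fin t} (hj : σ j ≠ j) : a ≤ finrank F (LinearMap.ker (T - 1)) := by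
  let f : ↥(D j) →ₗ[F] (Fin n → F) := (∑ i ∈ Finset.range r, T ^ i).comp (D j).subtype
  have hinj : Function.Injective f := (injective_iff_map_eq_zero f).mpr fun u hu => by
    refine Subtype.ext ?_
    have h : (∑ i ∈ Finset.range r, (T ^ i) u.1) = 0 := by
      rw [← LinearMap.sum_apply]; exact hu
    have := eq_zero_of_orbit_sum hD hr hj (sigma_pow hD hσ hT j) (fun i => (T ^ i) u.1)
      (fun i _ => iter_mem hσ i j u.1 u.2) h 0 hr.pos
    simpa using this
  have hker : LinearMap.range f ≤ LinearMap.ker (T - 1) := by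
    rintro _ ⟨u, rfl⟩
    show ((T - 1) * ∑ i ∈ Finset.range r, T ^ i) u.1 = 0
    rw [mul_geom_sum, hT, sub_self, LinearMap.zero_apply]
  have := Submodule.finrank_mono hker
  rwa [LinearMap.finrank_range_of_inj hinj, hD.finrank_eq] at this

/-- A moved block forces a large image of `T - 1`. -/
theorem range_ge_of_moved (hD : Cfsg.Geo.IsMDecomposition a D) (hσ : ∀ j, (D j).map T = D (σ j)) (hr : r.Prime)
    (hT : T ^ r = 1) (hinj : Function.Injective T) {j : Fin t} (hj : σ j ≠ j) :
    a * (r - 1) ≤ finrank F (LinearMap.range (T - 1)) := by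
  classical
  let f : (Fin (r - 1) → D j) →ₗ[F] (Fin n → F) :=
    { toFun := fun u => ∑ i : Fin (r - 1), ((T ^ ((i : ℕ) + 1)) (u i).1 - (u i).1)
      map_add' := fun u w => by
        simp only [Pi.add_apply, Submodule.coe_add, map_add, ← Finset.sum_add_distrib]
        exact Finset.sum_congr rfl fun i _ => by abel
      map_smul' := fun c u => by
        simp only [Pi.smul_apply, Submodule.coe_smul, map_smul, Finset.smul_sum, smul_sub, RingHom.id_apply] }
  have hrange : LinearMap.range f ≤ LinearMap.range (T - 1) := by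
    rintro _ ⟨u, rfl⟩
    show (∑ i : Fin (r - 1), ((T ^ ((i : ℕ) + 1)) (u i).1 - (u i).1)) ∈ LinearMap.range (T - 1)
    refine sum_mem fun i _ => LinearMap.mem_range.mpr ⟨(∑ k ∈ Finset.range ((i : ℕ) + 1), T ^ k) (u i).1, ?_⟩
    rw [← Module.End.mul_apply, mul_geom_sum, LinearMap.sub_apply, Module.End.one_apply]
  have hTi : ∀ i, Function.Injective (T ^ i : Module.End F (Fin n → F)) := by
    intro i
    induction i with
    | zero => exact fun x y h => h
    | succ i ih =>
      intro x y h
      rw [pow_succ', Module.End.mul_apply, Module.End.mul_apply] at h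
      exact ih (hinj h)
  have hf : Function.Injective f := (injective_iff_map_eq_zero f).mpr fun u hu => by
    have hsum : (∑ i ∈ Finset.range r, (T ^ i) (if h : 0 < i ∧ i - 1 < r - 1 then (u ⟨i - 1, h.2⟩).1
        else -∑ k : Fin (r - 1), (u k).1)) = 0 := by
      obtain ⟨r', rfl⟩ : ∃ r', r = r' + 1 := ⟨r - 1, (Nat.sub_add_cancel hr.one_le).symm⟩
      rw [Finset.sum_range_succ', ← Fin.sum_univ_eq_sum_range, pow_zero, Module.End.one_apply, dif_neg (by omega)]
      simp only [Nat.add_sub_cancel] at *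
      rw [← hu]
      show _ = ∑ i : Fin r', ((T ^ ((i : ℕ) + 1)) (u i).1 - (u i).1)
      rw [Finset.sum_sub_distrib, sub_eq_add_neg]
      congr 1
      refine Finset.sum_congr rfl fun i _ => ?_
      rw [dif_pos ⟨Nat.succ_pos _, i.2⟩]
      rfl
    have hz := eq_zero_of_orbit_sum hD hr hj (sigma_pow hD hσ hT j) _ (fun i _ => ?_) hsum
    · funext i
      refine Subtype.ext (hTi ((i : ℕ) + 1) ?_)
      have h := hz ((i : ℕ) + 1) (by have := i.2; omega)
      simp only [Nat.add_sub_cancel, Nat.succ_pos, i.2, and_self, dite_true] at h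
      rw [Pi.zero_apply, Submodule.coe_zero, map_zero]
      exact h
    · refine iter_mem hσ i j _ ?_
      split_ifs
      · exact Subtype.coe_prop _
      · exact neg_mem (sum_mem fun k _ => Subtype.coe_prop _)
  have := Submodule.finrank_mono hrange
  rw [LinearMap.finrank_range_of_inj hf, Module.finrank_pi_fintype] at this
  simp only [hD.finrank_eq, Finset.sum_const, Finset.card_univ, Fintype.card_fin, smul_eq_mul] at this
  rwa [mul_comm]

theorem lines_bound (hD : Cfsg.Geo.IsMDecomposition 1 D) (hσ : ∀ j, (D j).map T = D (σ j)) (hr : r.Prime)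
    (hT : T ^ r = 1) (hr0 : (r : F) ≠ 0) (hroot : ∀ s : F, s ^ r = 1 → s = 1) : t ≤ r * finrank F (LinearMap.ker (T - 1)) := by
  classical
  have hcyc := fun j => sigma_pow hD hσ hT j
  let R := {j : Fin t // ∀ i < r, j ≤ (σ ^ i) j}
  have hcover : ∀ j, ∃ (k : R) (i : Fin r), (σ ^ (i : ℕ)) k.1 = j := by
    intro j
    obtain ⟨i0, hi0, hmin⟩ := (Finset.range r).exists_min_image (fun i => (σ ^ i) j) ⟨0, Finset.mem_range.mpr hr.pos⟩
    have hir := Finset.mem_range.mp hi0
    have hper : ∀ i, (σ ^ i) j = (σ ^ (i % r)) j := by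
      intro i
      have hq : ∀ q, ((σ ^ r) ^ q) j = j := by
        intro q
        induction q with
        | zero => rfl
        | succ q ih => rw [pow_succ', Equiv.Perm.mul_apply, ih, hcyc]
      conv_lhs => rw [← Nat.mod_add_div i r, pow_add, pow_mul, Equiv.Perm.mul_apply, hq]
    refine ⟨⟨(σ ^ i0) j, fun i hi => ?_⟩, ⟨(r - i0) % r, Nat.mod_lt _ hr.pos⟩, ?_⟩
    · rw [← Equiv.Perm.mul_apply, ← pow_add, hper (i + i0)]
      exact hmin _ (Finset.mem_range.mpr (Nat.mod_lt _ hr.pos))
    · show (σ ^ ((r - i0) % r)) ((σ ^ i0) j) = j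
      rw [← Equiv.Perm.mul_apply, ← pow_add, hper, Nat.mod_add_mod, Nat.sub_add_cancel hir.le, Nat.mod_self]
      rfl
  have hcard : t ≤ Fintype.card R * r := by
    have h := Fintype.card_le_of_surjective (fun x : R × Fin r => (σ ^ (x.2 : ℕ)) x.1.1) fun j => by
      obtain ⟨k, i, h⟩ := hcover j
      exact ⟨(k, i), h⟩
    rwa [Fintype.card_fin, Fintype.card_prod, Fintype.card_fin] at h
  have hv : ∀ j, ∃ v ∈ D j, v ≠ 0 := fun j => Submodule.exists_mem_ne_zero_of_ne_bot fun e => by
    have := hD.finrank_eq j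
    rw [e, finrank_bot] at this
    omega
  choose v hv hv0 using hv
  let w : R → LinearMap.ker (T - 1) := fun k => ⟨(∑ i ∈ Finset.range r, T ^ i) (v k.1), by
    rw [LinearMap.mem_ker, ← Module.End.mul_apply, mul_geom_sum, hT, sub_self, LinearMap.zero_apply]⟩
  have hw : LinearIndependent F w := by
    rw [Fintype.linearIndependent_iff]
    intro g hg k
    by_contra hgk
    have h0 : ∑ x : R, g x • (w x : Fin n → F) = 0 := by
      have := congrArg Subtype.val hg
      simpa using this
    rw [← Finset.add_sum_erase _ _ (Finset.mem_univ k)] at h0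
    have hsplit : (w k : Fin n → F) - (if σ k.1 = k.1 then (∑ i ∈ Finset.range r, T ^ i) (v k.1) else v k.1) ∈
        ⨆ (j : Fin t) (_ : j ≠ k.1), D j := by
      show (∑ i ∈ Finset.range r, T ^ i) (v k.1) - _ ∈ _
      split_ifs with hk
      · rw [sub_self]; exact zero_mem _
      · rw [LinearMap.sum_apply, ← Finset.add_sum_erase _ _ (Finset.mem_range.mpr hr.pos), pow_zero,
          Module.End.one_apply, add_sub_cancel_left]
        refine sum_mem fun i hi => ?_
        obtain ⟨hi0, hir⟩ := Finset.mem_erase.mp hi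
        refine Submodule.mem_iSup_of_mem ((σ ^ i) k.1) (Submodule.mem_iSup_of_mem (fun e => hi0 ?_) (iter_mem hσ i _ _ (hv _)))
        exact orbit_distinct hr hk (hcyc _) (Finset.mem_range.mp hir) hr.pos (by rw [e, pow_zero]; rfl)
    have hrest : ∑ x ∈ Finset.univ.erase k, g x • (w x : Fin n → F) ∈ ⨆ (j : Fin t) (_ : j ≠ k.1), D j := by
      refine sum_mem fun x hx => Submodule.smul_mem _ _ ?_
      show (∑ i ∈ Finset.range r, T ^ i) (v x.1) ∈ _
      rw [LinearMap.sum_apply]
      refine sum_mem fun i hi => Submodule.mem_iSup_of_mem ((σ ^ i) x.1)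
        (Submodule.mem_iSup_of_mem (fun e => (Finset.mem_erase.mp hx).1 (Subtype.ext ?_)) (iter_mem hσ i _ _ (hv _)))
      have hir := Finset.mem_range.mp hi
      refine le_antisymm (e ▸ x.2 i hir) ?_
      have h2 := k.2 ((r - i) % r) (Nat.mod_lt _ hr.pos)
      rw [← e, ← Equiv.Perm.mul_apply, ← pow_add] at h2
      have : ((r - i) % r + i) = r ∨ ((r - i) % r + i) = 0 := by
        rcases Nat.eq_zero_or_pos i with rfl | h
        · right; simp
        · left; rw [Nat.mod_eq_of_lt (by omega)]; omega
      rcases this with h | h <;> rw [h] at h2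
      · rw [hcyc] at h2; rw [← e]; exact h2
      · simp only [pow_zero, Equiv.Perm.one_apply] at h2; rw [← e]; exact h2
    set u := (if σ k.1 = k.1 then (∑ i ∈ Finset.range r, T ^ i) (v k.1) else v k.1) with hu
    have huD : u ∈ D k.1 := by
      rw [hu]; split_ifs with hk
      · have hfix : ∀ i : ℕ, (σ ^ i) k.1 = k.1 := by
          intro i
          induction i with
          | zero => rfl
          | succ i ih => rw [pow_succ', Equiv.Perm.mul_apply, ih, hk]
        rw [LinearMap.sum_apply]
        refine sum_mem fun i _ => ?_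
        have := iter_mem hσ i k.1 _ (hv k.1)
        rwa [hfix i] at this
      · exact hv _
    have hu0 : u ≠ 0 := by
      rw [hu]; split_ifs with hk
      · intro hsum
        obtain ⟨s, hs⟩ : ∃ s : F, T (v k.1) = s • v k.1 := by
          have hmem : T (v k.1) ∈ D k.1 := by
            have h := hσ k.1
            rw [hk] at h
            rw [← h]
            exact ⟨_, hv _, rfl⟩
          obtain ⟨s, hs⟩ := (finrank_eq_one_iff_of_nonzero' ⟨v k.1, hv _⟩ (fun e => hv0 k.1 (congrArg Subtype.val e))).mp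
            (hD.finrank_eq k.1) ⟨_, hmem⟩
          exact ⟨s, (congrArg Subtype.val hs).symm⟩
        have hpow : ∀ i : ℕ, (T ^ i) (v k.1) = s ^ i • v k.1 := by
          intro i
          induction i with
          | zero => simp
          | succ i ih => rw [pow_succ', Module.End.mul_apply, ih, map_smul, hs, smul_smul, pow_succ]
        rw [LinearMap.sum_apply] at hsum
        simp only [hpow, ← Finset.sum_smul, smul_eq_zero, hv0, or_false] at hsum
        have hsr : s ^ r = 1 := by
          have h := hpow r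
          rw [hT, Module.End.one_apply] at h
          exact smul_left_injective F (hv0 k.1) (by simp only [one_smul]; exact h.symm)
        have hs1 : s = 1 := hroot s hsr
        rw [hs1] at hsum
        simp at hsum
        exact hr0 hsum
      · exact hv0 _
    refine hu0 (Submodule.disjoint_def.mp (hD.indep k.1) u huD ?_)
    have hwk : (w k : Fin n → F) ∈ ⨆ (j : Fin t) (_ : j ≠ k.1), D j := by
      rw [← Submodule.smul_mem_iff _ hgk, eq_neg_of_add_eq_zero_left h0]
      exact neg_mem hrest
    have := sub_mem hwk hsplit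
    rwa [sub_sub_cancel] at this
  have := hw.fintype_card_le_finrank
  calc t ≤ Fintype.card R * r := hcard
    _ ≤ r * finrank F (LinearMap.ker (T - 1)) := by rw [mul_comm]; exact Nat.mul_le_mul_left r this

end CfsgLib.MaxSub.Elusive
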