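/-
Elements of prime order of `SL n` on decompositions into two subspaces.
-/
import Cfsg.Agent.Lib.MaxSub.ElusiveGL
import Cfsg.Agent.Lib.GLClassNumber.OrderP

set_option autoImplicit false
set_option linter.unusedSectionVars false

namespace CfsgLib.MaxSub.Elusive

open Polynomial Module CfsgLib.GLClassNumber

universe u

variable {F : Type u} [Field F]

/-! ### Multisets of parts -/

theorem exists_subset_sum {ι : Type*} [DecidableEq ι] (e : ι → ℕ) (s : Finset ι) (ν : Multiset ℕ) (h : ν ≤ s.val.map e) :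
    ∃ S ⊆ s, ∑ i ∈ S, e i = ν.sum := by
  induction s using Finset.induction_on generalizing ν with
  | empty =>
    refine ⟨∅, Finset.Subset.refl _, ?_⟩
    rw [Finset.empty_val, Multiset.map_zero, Multiset.le_zero] at h
    rw [h, Finset.sum_empty, Multiset.sum_zero]
  | insert a s ha ih =>
    rw [Finset.insert_val_of_notMem ha, Multiset.map_cons] at h
    by_cases hm : e a ∈ ν
    · obtain ⟨S, hS, hsum⟩ := ih (ν.erase (e a)) (Multiset.erase_le_iff_le_cons.mpr h)
      refine ⟨insert a S, Finset.insert_subset_insert a hS, ?_⟩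
      rw [Finset.sum_insert (fun h => ha (hS h)), hsum, ← Multiset.sum_cons, Multiset.cons_erase hm]
    · obtain ⟨S, hS, hsum⟩ := ih ν ((Multiset.le_cons_of_notMem hm).mp h)
      exact ⟨S, hS.trans (Finset.subset_insert a s), hsum⟩

/-- For parts at most two the condition is a parity condition. -/
theorem parts_two_iff {n m : ℕ} (hmn : 2 * m < n) :
    (∀ μ : Multiset ℕ, (∀ a ∈ μ, 0 < a ∧ a ≤ 2) → μ.sum = n → ∃ ν : Multiset ℕ, ν ≤ μ ∧ ν.sum = m) ↔
      (Odd n ∨ Even m) := by
  constructor
  · intro H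
    by_contra hc
    rw [not_or, Nat.not_odd_iff_even] at hc
    obtain ⟨⟨k, hk⟩, hm⟩ := hc
    obtain ⟨ν, hν, hsum⟩ := H (Multiset.replicate k 2) (fun a ha => by
      rw [Multiset.eq_of_mem_replicate ha]; omega) (by rw [Multiset.sum_replicate, smul_eq_mul]; omega)
    obtain ⟨j, -, rfl⟩ := Multiset.le_replicate_iff.mp hν
    apply hm
    rw [← hsum, Multiset.sum_replicate, smul_eq_mul]
    exact ⟨j, by ring⟩
  · intro h μ hμ hsum
    have hdec : μ = Multiset.replicate (μ.count 1) 1 + Multiset.replicate (μ.count 2) 2 := by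
      refine Multiset.ext.mpr fun a => ?_
      rw [Multiset.count_add, Multiset.count_replicate, Multiset.count_replicate]
      by_cases ha : a ∈ μ
      · have := hμ a ha
        obtain rfl | rfl : a = 1 ∨ a = 2 := by omega
        · simp
        · simp
      · rw [Multiset.count_eq_zero.mpr ha]
        split_ifs with h1 h2 h3 <;> subst_vars <;> simp_all
    have hn : μ.count 1 + 2 * μ.count 2 = n := by
      rw [← hsum]
      conv_rhs => rw [hdec]
      rw [Multiset.sum_add, Multiset.sum_replicate, Multiset.sum_replicate, smul_eq_mul, smul_eq_mul]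
      ring
    refine ⟨Multiset.replicate (m - 2 * min (μ.count 2) (m / 2)) 1 + Multiset.replicate (min (μ.count 2) (m / 2)) 2, ?_, ?_⟩
    · have h1 : m - 2 * min (μ.count 2) (m / 2) ≤ μ.count 1 := by
        rcases h with ⟨k, hk⟩ | ⟨k, hk⟩ <;> omega
      conv_rhs => rw [hdec]
      exact add_le_add (Multiset.replicate_le_replicate 1 |>.mpr h1)
        (Multiset.replicate_le_replicate 2 |>.mpr (min_le_left _ _))
    · rw [Multiset.sum_add, Multiset.sum_replicate, Multiset.sum_replicate, smul_eq_mul, smul_eq_mul]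
      omega

/-! ### Unipotent maps -/

theorem of_smul_zero_iff {n : ℕ} (g : GL (Fin n) F) (P : F[X]) (v : Fin n → F) :
    P • Module.AEval'.of (toEnd g) v = 0 ↔ aeval (toEnd g) P v = 0 := by
  constructor
  · intro h
    have := congrArg (Module.AEval'.of (toEnd g)).symm h
    rw [Module.AEval.of_symm_smul, map_zero, LinearEquiv.symm_apply_apply] at this
    exact this
  · intro h
    apply (Module.AEval'.of (toEnd g)).symm.injective
    rw [Module.AEval.of_symm_smul, map_zero, LinearEquiv.symm_apply_apply]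
    exact h

theorem exists_gl_conj {U : Type*} [AddCommGroup U] [Module F U] [FiniteDimensional F U] (T : Module.End F U) {p : ℕ}
    (hp : p ≠ 0) (hT : T ^ p = 1) :
    ∃ (g : GL (Fin (finrank F U)) F) (ψ : U ≃ₗ[F] (Fin (finrank F U) → F)),
      g ^ p = 1 ∧ toEnd g = ψ.conjAlgEquiv F T := by
  let ψ : U ≃ₗ[F] (Fin (finrank F U) → F) := LinearEquiv.ofFinrankEq _ _ (Module.finrank_fin_fun F).symm
  have h : (LinearMap.toMatrixAlgEquiv' (ψ.conjAlgEquiv F T)) ^ p = 1 := by
    rw [← map_pow, ← map_pow, hT, map_one, map_one]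
  refine ⟨Units.ofPowEqOne _ p h hp, ψ, Units.pow_ofPowEqOne h hp, ?_⟩
  exact Matrix.toLinAlgEquiv'_toMatrixAlgEquiv' (ψ.conjAlgEquiv F T)

variable [Fintype F] {p : ℕ} [Fact p.Prime] [CharP F p]

/-- The parts of a unipotent map of order dividing `p`. -/
theorem exists_parts {U : Type*} [AddCommGroup U] [Module F U] [FiniteDimensional F U] (T : Module.End F U)
    (hT : T ^ p = 1) :
    ∃ μ : Multiset ℕ, (∀ a ∈ μ, 1 ≤ a) ∧ μ.sum = finrank F U ∧
      ∀ j, Nat.card {u : U // aeval T ((rho F) ^ j) u = 0} = Fintype.card F ^ (μ.map (min j)).sum := by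
  obtain ⟨g, ψ, hg, hgT⟩ := exists_gl_conj T (Fact.out : p.Prime).ne_zero hT
  obtain ⟨ι, fι, e, he, hd⟩ := exists_unipotent_decomp p g (k := 1) (by rwa [pow_one])
  refine ⟨expMultiset e, fun a ha => ?_, ?_, fun j => ?_⟩
  · obtain ⟨i, -, rfl⟩ := Multiset.mem_map.mp ha
    exact he i
  · have := finrank_decomp (fun i => X_sub_C_ne_zero (1 : F)) hd
    simp only [natDegree_rho, mul_one] at this
    simpa [expMultiset] using this
  · have hc := card_ker_of_decomp hd j
    rw [show (Multiset.map (min j) (expMultiset e)).sum = ∑ i, min j (e i) by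
      rw [expMultiset, Multiset.map_map]; rfl, ← hc]
    refine Nat.card_congr ((ψ.trans (Module.AEval'.of (toEnd g))).toEquiv.subtypeEquiv fun u => ?_)
    show _ ↔ (rho F) ^ j • Module.AEval'.of (toEnd g) (ψ u) = 0
    rw [of_smul_zero_iff, hgT, Polynomial.aeval_algHom_apply (ψ.conjAlgEquiv F) T,
      LinearEquiv.conjAlgEquiv_apply]
    simp

theorem card_ker_split {V : Type*} [AddCommGroup V] [Module F V] [FiniteDimensional F V] (T : Module.End F V)
    {U W : Submodule F V} (h : IsCompl U W) (hU : ∀ v ∈ U, T v ∈ U) (hW : ∀ v ∈ W, T v ∈ W) (P : F[X]) :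
    Nat.card {v : V // aeval T P v = 0} =
      Nat.card {u : U // aeval (T.restrict hU) P u = 0} * Nat.card {w : W // aeval (T.restrict hW) P w = 0} := by
  rw [← Nat.card_prod]
  refine Nat.card_congr (((Submodule.prodEquivOfIsCompl U W h).symm.toEquiv.subtypeEquiv
    (q := fun x => aeval (T.restrict hU) P x.1 = 0 ∧ aeval (T.restrict hW) P x.2 = 0) fun v => ?_).trans
      { toFun := fun x => (⟨x.1.1, x.2.1⟩, ⟨x.1.2, x.2.2⟩)
        invFun := fun x => ⟨(x.1.1, x.2.1), x.1.2, x.2.2⟩
        left_inv := fun _ => rfl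
        right_inv := fun _ => rfl })
  obtain ⟨⟨a, b⟩, rfl⟩ := (Submodule.prodEquivOfIsCompl U W h).surjective v
  have key : aeval T P (Submodule.prodEquivOfIsCompl U W h (a, b)) =
      Submodule.prodEquivOfIsCompl U W h (aeval (T.restrict hU) P a, aeval (T.restrict hW) P b) := by
    simp [aeval_restrict]
  rw [LinearEquiv.coe_toEquiv, LinearEquiv.symm_apply_apply, key, map_eq_zero_iff _
    (Submodule.prodEquivOfIsCompl U W h).injective, Prod.mk_eq_zero]

/-- An invariant decomposition splits the parts. -/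
theorem parts_le {n : ℕ} {g : GL (Fin n) F} {ι : Type*} [Fintype ι] {e : ι → ℕ} (hg : g ^ p = 1)
    (he : ∀ i, 1 ≤ e i) (hd : HasDecomp g (fun _ : ι => rho F) e) {U W : Submodule F (Fin n → F)}
    (h : IsCompl U W) (hU : ∀ v ∈ U, toEnd g v ∈ U) (hW : ∀ v ∈ W, toEnd g v ∈ W) :
    ∃ ν : Multiset ℕ, ν ≤ expMultiset e ∧ ν.sum = finrank F U := by
  have hT : toEnd g ^ p = 1 := by
    rw [show toEnd g = Matrix.toLinAlgEquiv' g.val from rfl, ← map_pow, ← Units.val_pow_eq_pow_val, hg,
      Units.val_one, map_one]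
  have hres : ∀ (S : Submodule F (Fin n → F)) (hS : ∀ v ∈ S, toEnd g v ∈ S), (toEnd g).restrict hS ^ p = 1 := by
    intro S hS
    refine LinearMap.ext fun x => Subtype.ext ?_
    have := aeval_restrict (toEnd g) S hS (X ^ p) x
    rw [map_pow, map_pow, aeval_X, aeval_X, hT] at this
    exact this
  obtain ⟨μU, hU1, hUs, hUj⟩ := exists_parts ((toEnd g).restrict hU) (hres U hU)
  obtain ⟨μW, hW1, -, hWj⟩ := exists_parts ((toEnd g).restrict hW) (hres W hW)
  refine ⟨μU, ?_, hUs⟩
  have heq : μU + μW = expMultiset e := by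
    refine multiset_eq_of_min_sums (fun a ha => ?_) (by simp [expMultiset]; exact he) fun j => ?_
    · rcases Multiset.mem_add.mp ha with h | h
      exacts [hU1 a h, hW1 a h]
    refine Nat.pow_right_injective (Fintype.one_lt_card (α := F)) ?_
    show Fintype.card F ^ _ = Fintype.card F ^ _
    rw [Multiset.map_add, Multiset.sum_add, pow_add, ← hUj j, ← hWj j, ← card_ker_split (toEnd g) h hU hW,
      show (Multiset.map (min j) (expMultiset e)).sum = ∑ i, min j (e i) by
        rw [expMultiset, Multiset.map_map]; rfl, ← card_ker_of_decomp hd j]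
    exact Nat.card_congr ((Module.AEval'.of (toEnd g)).toEquiv.subtypeEquiv fun v => (of_smul_zero_iff g _ v).symm)
  exact heq ▸ Multiset.le_add_right μU μW

/-- A set of parts gives an invariant decomposition. -/
theorem exists_decomposition {n : ℕ} {g : GL (Fin n) F} {ι : Type*} [Fintype ι] [DecidableEq ι] {e : ι → ℕ}
    (hd : HasDecomp g (fun _ : ι => rho F) e) (S : Finset ι) :
    ∃ U W : Submodule F (Fin n → F), IsCompl U W ∧ finrank F U = ∑ i ∈ S, e i ∧
      (∀ v ∈ U, toEnd g v ∈ U) ∧ ∀ v ∈ W, toEnd g v ∈ W := by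
  obtain ⟨E⟩ := hd
  let L : (Fin n → F) ≃ₗ[F] ((i : ι) → Qmod ((rho F) ^ e i)) :=
    (Module.AEval'.of (toEnd g)).trans (E.restrictScalars F)
  have hLT : ∀ v i, L (toEnd g v) i = (X : F[X]) • L v i := by
    intro v i
    show E (Module.AEval'.of (toEnd g) (toEnd g v)) i = _
    rw [← Module.AEval'.X_smul_of, map_smul]
    rfl
  let part : Finset ι → Submodule F (Fin n → F) := fun R =>
    { carrier := {v | ∀ i, i ∉ R → L v i = 0}
      add_mem' := fun ha hb i hi => by rw [map_add, Pi.add_apply, ha i hi, hb i hi, add_zero]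
      zero_mem' := fun i _ => by rw [map_zero]; rfl
      smul_mem' := fun c v hv i hi => by rw [map_smul, Pi.smul_apply, hv i hi, smul_zero] }
  have hinv : ∀ R, ∀ v ∈ part R, toEnd g v ∈ part R := fun R v hv i hi => by rw [hLT, hv i hi, smul_zero]
  refine ⟨part S, part Sᶜ, ⟨?_, ?_⟩, ?_, hinv _, hinv _⟩
  · rw [disjoint_iff, Submodule.eq_bot_iff]
    rintro v ⟨h1, h2⟩
    refine L.injective (funext fun i => ?_)
    rw [map_zero, Pi.zero_apply]
    by_cases hi : i ∈ S
    · exact h2 i (by simpa using hi)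
    · exact h1 i hi
  · rw [codisjoint_iff, eq_top_iff]
    intro v _
    refine Submodule.mem_sup.mpr ⟨L.symm fun i => if i ∈ S then L v i else 0, fun i hi => ?_,
      L.symm fun i => if i ∈ S then 0 else L v i, fun i hi => ?_, ?_⟩
    · rw [L.apply_symm_apply, if_neg hi]
    · rw [L.apply_symm_apply, if_pos (by simpa using hi)]
    · refine L.injective ?_
      rw [map_add, L.apply_symm_apply, L.apply_symm_apply]
      funext i
      rw [Pi.add_apply]
      split_ifs <;> simp
  · haveI : ∀ i, Module.Finite F (Qmod ((rho F) ^ e i)) := fun i => finite_qmod (pow_ne_zero _ (X_sub_C_ne_zero 1))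
    let f : ↥(part S) →ₗ[F] ((i : S) → Qmod ((rho F) ^ e i)) :=
      { toFun := fun v i => L v.1 i
        map_add' := fun a b => funext fun i => by simp
        map_smul' := fun c a => funext fun i => by simp }
    have hb : Function.Bijective f := by
      refine ⟨(injective_iff_map_eq_zero f).mpr fun v hv => Subtype.ext (L.injective (funext fun i => ?_)), fun y => ?_⟩
      · rw [Submodule.coe_zero, map_zero, Pi.zero_apply]
        by_cases hi : i ∈ S
        · exact congrFun hv ⟨i, hi⟩
        · exact v.2 i hi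
      · refine ⟨⟨L.symm fun i => if h : i ∈ S then y ⟨i, h⟩ else 0, fun i hi => ?_⟩, funext fun i => ?_⟩
        · rw [L.apply_symm_apply, dif_neg hi]
        · show L (L.symm _) i.1 = _
          rw [L.apply_symm_apply, dif_pos i.2]
    rw [(LinearEquiv.ofBijective f hb).finrank_eq, Module.finrank_pi_fintype]
    simp only [finrank_qmod, natDegree_rho_pow]
    exact Finset.sum_coe_sort S e

/-! ### The criterion -/

/-- The number of complements is a power of the field size. -/
theorem card_complements {V : Type*} [AddCommGroup V] [Module F V] [FiniteDimensional F V] (U : Submodule F V) :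
    ∃ k, Nat.card {W : Submodule F V // IsCompl U W} = Fintype.card F ^ k := by
  obtain ⟨W₀, hW₀⟩ := U.exists_isCompl
  let K : Submodule F (V →ₗ[F] U) :=
    { carrier := {f | ∀ x : U, f x = 0}
      add_mem' := fun ha hb x => by rw [LinearMap.add_apply, ha x, hb x, add_zero]
      zero_mem' := fun x => rfl
      smul_mem' := fun c f hf x => by rw [LinearMap.smul_apply, hf x, smul_zero] }
  let f₀ := Submodule.projectionOnto U W₀ hW₀
  have h₀ : ∀ x : U, f₀ x = x := Submodule.projectionOnto_apply_left hW₀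
  refine ⟨finrank F K, ?_⟩
  rw [Nat.card_congr (Submodule.isComplEquivProj U), ← Nat.card_eq_fintype_card (α := F),
    ← Module.natCard_eq_pow_finrank (K := F) (V := ↥K)]
  exact Nat.card_congr
    { toFun := fun f => ⟨f.1 - f₀, fun x => by rw [LinearMap.sub_apply, f.2 x, h₀ x, sub_self]⟩
      invFun := fun f => ⟨f.1 + f₀, fun x => by rw [LinearMap.add_apply, f.2 x, h₀ x, zero_add]⟩
      left_inv := fun f => Subtype.ext (sub_add_cancel f.1 f₀)
      right_inv := fun f => Subtype.ext (add_sub_cancel_right f.1 f₀) }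

theorem dvd_subspaces {n m r : ℕ} (hr : r.Prime) (hrp : r ≠ p)
    (hΩ : r ∣ Nat.card {P : Submodule F (Fin n → F) × Submodule F (Fin n → F) //
      IsCompl P.1 P.2 ∧ finrank F ↥P.1 = m}) :
    r ∣ Nat.card {W : Submodule F (Fin n → F) // finrank F ↥W = m} := by
  classical
  let e : {P : Submodule F (Fin n → F) × Submodule F (Fin n → F) // IsCompl P.1 P.2 ∧ finrank F ↥P.1 = m} ≃
      Σ U : {W : Submodule F (Fin n → F) // finrank F ↥W = m}, {W : Submodule F (Fin n → F) // IsCompl U.1 W} :=
    { toFun := fun P => ⟨⟨P.1.1, P.2.2⟩, ⟨P.1.2, P.2.1⟩⟩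
      invFun := fun x => ⟨(x.1.1, x.2.1), x.2.2, x.1.2⟩
      left_inv := fun _ => rfl
      right_inv := fun _ => rfl }
  rw [Nat.card_congr e, Nat.card_sigma] at hΩ
  have hk : ∀ U : {W : Submodule F (Fin n → F) // finrank F ↥W = m}, ∀ U' : {W : Submodule F (Fin n → F) // finrank F ↥W = m},
      Nat.card {W : Submodule F (Fin n → F) // IsCompl U.1 W} = Nat.card {W : Submodule F (Fin n → F) // IsCompl U'.1 W} := by
    intro U U'
    obtain ⟨W, hW⟩ := U.1.exists_isCompl
    obtain ⟨W', hW'⟩ := U'.1.exists_isCompl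
    have hd : finrank F W = finrank F W' := by
      have := Submodule.finrank_add_eq_of_isCompl hW
      have := Submodule.finrank_add_eq_of_isCompl hW'
      have := U.2
      have := U'.2
      omega
    let φ : (Fin n → F) ≃ₗ[F] (Fin n → F) := ((Submodule.prodEquivOfIsCompl _ _ hW).symm.trans
      ((LinearEquiv.ofFinrankEq _ _ (U.2.trans U'.2.symm)).prodCongr (LinearEquiv.ofFinrankEq _ _ hd))).trans
      (Submodule.prodEquivOfIsCompl _ _ hW')
    have hφ : U.1.map φ.toLinearMap = U'.1 := by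
      refine Submodule.eq_of_le_of_finrank_eq ?_ (by rw [LinearEquiv.finrank_map_eq, U.2, U'.2])
      rintro _ ⟨u, hu, rfl⟩
      have h1 : (Submodule.prodEquivOfIsCompl _ _ hW).symm u = (⟨u, hu⟩, 0) := by
        rw [LinearEquiv.symm_apply_eq]
        simp
      simp [φ, h1]
    exact Nat.card_congr ((Submodule.orderIsoMapComap φ).toEquiv.subtypeEquiv fun X => by
      show _ ↔ IsCompl U'.1 (X.map φ.toLinearMap)
      rw [← hφ]
      exact ((Submodule.orderIsoMapComap φ).isCompl_iff))
  rcases isEmpty_or_nonempty {W : Submodule F (Fin n → F) // finrank F ↥W = m} with hE | ⟨⟨U₀⟩⟩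
  · rw [Nat.card_of_isEmpty]; exact dvd_zero r
  rw [Finset.sum_congr rfl fun U _ => hk U U₀, Finset.sum_const, smul_eq_mul, Finset.card_univ,
    ← Nat.card_eq_fintype_card] at hΩ
  obtain ⟨k, hk'⟩ := card_complements U₀.1
  rw [hk'] at hΩ
  exact (hr.dvd_mul.mp hΩ).resolve_right fun h => hrp ((dvd_q_iff (F := F) hr).mp (hr.dvd_of_dvd_pow h))

theorem decomp_iff_char {n m : ℕ} (hn : 0 < n) (hmn : m ≤ n) :
    (∀ x : Matrix.SpecialLinearGroup (Fin n) F,
      (∃ c : F, ((x ^ p : Matrix.SpecialLinearGroup (Fin n) F) : Matrix (Fin n) (Fin n) F) = c • (1 : Matrix (Fin n) (Fin n) F)) →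
      (∀ c : F, (x : Matrix (Fin n) (Fin n) F) ≠ c • (1 : Matrix (Fin n) (Fin n) F)) →
      ∃ U W : Submodule F (Fin n → F), IsCompl U W ∧ Module.finrank F ↥U = m ∧
        U.map (Matrix.toLin' (x : Matrix (Fin n) (Fin n) F)) ≤ U ∧ W.map (Matrix.toLin' (x : Matrix (Fin n) (Fin n) F)) ≤ W) ↔
    (∀ μ : Multiset ℕ, (∀ a ∈ μ, 0 < a ∧ a ≤ p) → μ.sum = n → ∃ ν : Multiset ℕ, ν ≤ μ ∧ ν.sum = m) := by
  classical
  constructor
  · intro H μ hμ hsum
    by_cases hone : ∀ a ∈ μ, a = 1
    · have hμ1 : μ = Multiset.replicate μ.card 1 := Multiset.eq_replicate_card.mpr hone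
      refine ⟨Multiset.replicate m 1, ?_, by simp⟩
      have : μ.sum = μ.card := by conv_lhs => rw [hμ1]; simp
      rw [hμ1]
      exact (Multiset.replicate_le_replicate 1).mpr (by omega)
    obtain ⟨g, hd⟩ := exists_gl_of_parts (F := F) μ hsum
    have hmem : ∀ i : Fin μ.toList.length, μ.toList.get i ∈ μ := fun i =>
      Multiset.mem_toList.mp (List.get_mem _ _)
    have hg : g ^ p = 1 := by
      have := pow_eq_one_of_exp_le (p := p) (k := 1) hd fun i => by rw [pow_one]; exact (hμ _ (hmem i)).2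
      rwa [pow_one] at this
    have hdet : g.val.det = 1 := by
      have h := congrArg Matrix.det (congrArg Units.val hg)
      rw [Units.val_pow_eq_pow_val, Matrix.det_pow, Units.val_one, Matrix.det_one] at h
      exact frobenius_inj F p (by rw [frobenius_def, frobenius_def, h, one_pow])
    let x : Matrix.SpecialLinearGroup (Fin n) F := ⟨g.val, hdet⟩
    obtain ⟨U, W, hUW, hU, hUx, hWx⟩ := H x ⟨1, by
      rw [Matrix.SpecialLinearGroup.coe_pow, one_smul]
      exact (Units.val_pow_eq_pow_val g p).symm.trans (congrArg Units.val hg)⟩ (fun c hc => hone fun a ha => by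
        have hc1 : c = 1 := by
          have h := congrArg Units.val hg
          rw [Units.val_pow_eq_pow_val, show g.val = c • 1 from hc, _root_.smul_pow, one_pow, Units.val_one] at h
          haveI : NeZero n := ⟨by omega⟩
          have h' := congrFun (congrFun h 0) 0
          simp at h'
          exact frobenius_inj F p (by rw [frobenius_def, frobenius_def, h', one_pow])
        have hg1 : g ^ p ^ 0 = 1 := by
          rw [pow_zero, pow_one]
          exact Units.ext (by rw [show g.val = c • 1 from hc, hc1, one_smul, Units.val_one])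
        obtain ⟨i, hi, rfl⟩ := List.getElem_of_mem (Multiset.mem_toList.mpr ha)
        have := exp_le_of_pow_eq_one (p := p) hg1 hd ⟨i, hi⟩
        rw [pow_zero] at this
        have := (hμ _ (hmem ⟨i, hi⟩)).1
        simp only [List.get_eq_getElem] at *
        omega)
    have he : ∀ i : Fin μ.toList.length, 1 ≤ μ.toList.get i := fun i => (hμ _ (hmem i)).1
    obtain ⟨ν, hν, hνs⟩ := parts_le hg he hd hUW
      (fun v hv => (map_le_iff _ U).mp hUx v hv) (fun v hv => (map_le_iff _ W).mp hWx v hv)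
    refine ⟨ν, ?_, hνs.trans hU⟩
    rwa [expMultiset, Fin.univ_val_map, List.ofFn_get, Multiset.coe_toList] at hν
  · intro H x ⟨c, hc⟩ _
    obtain ⟨b, hb⟩ := (PerfectRing.bijective_frobenius (R := F) (p := p)).2 c
    change b ^ p = c at hb
    have hdx : (x : Matrix (Fin n) (Fin n) F).det = 1 := x.2
    have hb0 : b ≠ 0 := by
      rintro rfl
      rw [zero_pow (Fact.out : p.Prime).ne_zero] at hb
      rw [← hb, zero_smul] at hc
      have h := congrArg Matrix.det hc
      rw [Matrix.SpecialLinearGroup.coe_pow, Matrix.det_pow, hdx, one_pow, @Matrix.det_zero (Fin n) _ _ F _ ⟨⟨0, hn⟩⟩] at h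
      exact one_ne_zero h
    have hpow : (b⁻¹ • (x : Matrix (Fin n) (Fin n) F)) ^ p = 1 := by
      rw [_root_.smul_pow, ← Matrix.SpecialLinearGroup.coe_pow, hc, smul_smul, ← hb, ← mul_pow,
        inv_mul_cancel₀ hb0, one_pow, one_smul]
    let g : GL (Fin n) F := Units.ofPowEqOne _ p hpow (Fact.out : p.Prime).ne_zero
    have hg : g ^ p = 1 := Units.pow_ofPowEqOne hpow (Fact.out : p.Prime).ne_zero
    obtain ⟨ι, fι, e, he, hd⟩ := exists_unipotent_decomp p g (k := 1) (by rwa [pow_one])
    obtain ⟨ν, hν, hνs⟩ := H (expMultiset e) (fun a ha => by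
      obtain ⟨i, -, rfl⟩ := Multiset.mem_map.mp ha
      refine ⟨he i, ?_⟩
      have := exp_le_of_pow_eq_one (p := p) (k := 1) (by rwa [pow_one]) hd i
      rwa [pow_one] at this) (by
        have h := finrank_decomp (fun i => X_sub_C_ne_zero (1 : F)) hd
        simp only [natDegree_rho, mul_one] at h
        simpa [expMultiset] using h)
    obtain ⟨S, -, hS⟩ := exists_subset_sum e Finset.univ ν hν
    obtain ⟨U, W, hUW, hUd, hUg, hWg⟩ := exists_decomposition hd S
    have key : ∀ R : Submodule F (Fin n → F), (∀ v ∈ R, toEnd g v ∈ R) →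
        R.map (Matrix.toLin' (x : Matrix (Fin n) (Fin n) F)) ≤ R := by
      intro R hR
      refine (map_le_iff _ R).mpr fun v hv => ?_
      have h := R.smul_mem b (hR v hv)
      rw [toEnd, show g.val = b⁻¹ • (x : Matrix (Fin n) (Fin n) F) from rfl, map_smul, LinearMap.smul_apply,
        smul_smul, mul_inv_cancel₀ hb0, one_smul] at h
      exact h
    exact ⟨U, W, hUW, hUd.trans (hS.trans hνs), key U hUg, key W hWg⟩

theorem decomp_iff {n m r : ℕ} (hn : 3 ≤ n) (hm : 1 ≤ m) (hmn : 2 * m < n) (hr : r.Prime)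
    (hΩ : r ∣ Nat.card {P : Submodule F (Fin n → F) × Submodule F (Fin n → F) //
      IsCompl P.1 P.2 ∧ finrank F ↥P.1 = m}) :
    (∀ x : Matrix.SpecialLinearGroup (Fin n) F,
      (∃ c : F, ((x ^ r : Matrix.SpecialLinearGroup (Fin n) F) : Matrix (Fin n) (Fin n) F) = c • (1 : Matrix (Fin n) (Fin n) F)) →
      (∀ c : F, (x : Matrix (Fin n) (Fin n) F) ≠ c • (1 : Matrix (Fin n) (Fin n) F)) →
      ∃ U W : Submodule F (Fin n → F), IsCompl U W ∧ Module.finrank F ↥U = m ∧
        U.map (Matrix.toLin' (x : Matrix (Fin n) (Fin n) F)) ≤ U ∧ W.map (Matrix.toLin' (x : Matrix (Fin n) (Fin n) F)) ≤ W) ↔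
    ((r = p ∧ 2 < p ∧ (∀ μ : Multiset ℕ, (∀ a ∈ μ, 0 < a ∧ a ≤ p) → μ.sum = n → ∃ ν : Multiset ℕ, ν ≤ μ ∧ ν.sum = m)) ∨
     (r = p ∧ p = 2 ∧ (Odd n ∨ Even m)) ∨
     (r ≠ p ∧
      ((orderOf (Fintype.card F : ZMod r) = 1 ∧ (r ∣ m ∨ (padicValNat r n ≤ padicValNat r (Fintype.card F - 1) ∧
        (r = 2 → Even n → Fintype.card F % 4 = 1)))) ∨
       (2 ≤ orderOf (Fintype.card F : ZMod r) ∧ orderOf (Fintype.card F : ZMod r) ≤ m ∧
        m % orderOf (Fintype.card F : ZMod r) ≤ n % orderOf (Fintype.card F : ZMod r))))) := by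
  classical
  by_cases hrp : r = p
  · subst hrp
    rw [decomp_iff_char (by omega) (by omega)]
    rcases (Fact.out : r.Prime).two_le.lt_or_eq with h2 | h2
    · simp [h2, show r ≠ 2 by omega]
    · subst h2
      rw [parts_two_iff hmn]
      simp
  have hΩ' := dvd_subspaces (p := p) hr hrp hΩ
  have h := elusive_iff (p := p) (n := n) (m := m) (by omega) hm (by omega) hr hΩ'
  simp only [hrp, false_and, false_or, ne_eq, not_false_eq_true, true_and] at h ⊢
  rw [← h]
  refine forall_congr' fun x => imp_congr_right fun hx => imp_congr_right fun _ =>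
    ⟨fun ⟨U, _, _, hU, hUx, _⟩ => ⟨U, hU, hUx⟩, fun ⟨U, hU, hUx⟩ => ?_⟩
  obtain ⟨c, hc⟩ := hx
  have hT := pow_scalar r hc
  have hc0 : c ≠ 0 := by
    rintro rfl
    rw [zero_smul] at hc
    have h' := congrArg Matrix.det hc
    rw [Matrix.SpecialLinearGroup.coe_pow, Matrix.det_pow, x.2, one_pow, @Matrix.det_zero (Fin n) _ _ F _ ⟨⟨0, by omega⟩⟩] at h'
    exact one_ne_zero h'
  have hss : Module.End.IsSemisimple (Matrix.toLinAlgEquiv' (x : Matrix (Fin n) (Fin n) F)) := by
    refine Module.End.isSemisimple_of_squarefree_aeval_eq_zero (p := X ^ r - Polynomial.C c)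
      (separable_X_pow_sub_C c (natCast_ne_zero_of_prime_ne (F := F) (p := p) hr hrp) hc0).squarefree ?_
    rw [map_sub, map_pow, aeval_X, aeval_C, hT, Algebra.algebraMap_eq_smul_one, sub_self]
  obtain ⟨W, hW, hUW⟩ := (Module.End.isSemisimple_iff.mp hss) U
    ((Module.End.mem_invtSubmodule _).mpr ((map_le_iff _ U).mp hUx))
  exact ⟨U, W, hUW, hU, hUx, (map_le_iff _ W).mpr ((Module.End.mem_invtSubmodule _).mp hW)⟩

end CfsgLib.MaxSub.Elusive
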