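/-
Elements of odd prime order on decompositions into blocks of equal dimension.
-/
import Cfsg.Agent.Lib.MaxSub.ElusiveImprimTools
import Cfsg.Agent.Lib.MaxSub.ElusiveDecomp

set_option autoImplicit false
set_option linter.unusedSectionVars false

namespace CfsgLib.MaxSub.Elusive

open Polynomial Module

universe u v

variable {F : Type u} [Field F] [Fintype F] {p r : ℕ} [Fact p.Prime] [CharP F p]

theorem root_unity_one (hr : r.Prime) (hc : ¬ r ∣ Fintype.card F - 1) {s : F} (h : s ^ r = 1) : s = 1 := by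
  have hs : s ≠ 0 := fun e => by rw [e, zero_pow hr.ne_zero] at h; exact zero_ne_one h
  have h2 := pow_gcd_eq_one.mpr ⟨h, FiniteField.pow_card_sub_one_eq_one s hs⟩
  rwa [(hr.coprime_iff_not_dvd.mpr hc).gcd_eq_one, pow_one] at h2

set_option maxHeartbeats 2000000 in
/-- An element with exactly `s` nontrivial blocks, all of one type. -/
theorem exists_blocks_element (hr : r.Prime) (hrp : r ≠ p) {n s : ℕ}
    (hi : 2 ≤ orderOf (Fintype.card F : ZMod r)) (hs : 1 ≤ s) (hsn : s * orderOf (Fintype.card F : ZMod r) ≤ n) :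
    ∃ x : Matrix.SpecialLinearGroup (Fin n) F,
      ((x ^ r : Matrix.SpecialLinearGroup (Fin n) F) : Matrix (Fin n) (Fin n) F) = (1 : F) • 1 ∧
      (∀ c : F, (x : Matrix (Fin n) (Fin n) F) ≠ c • 1) ∧
      (∃ P : F[X], P ≠ 0 ∧ P.natDegree ≤ orderOf (Fintype.card F : ZMod r) + 1 ∧
        aeval (Matrix.toLinAlgEquiv' (x : Matrix (Fin n) (Fin n) F)) P = 0) ∧
      finrank F (LinearMap.ker (Matrix.toLinAlgEquiv' (x : Matrix (Fin n) (Fin n) F) - 1)) =
        n - s * orderOf (Fintype.card F : ZMod r) := by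
  classical
  haveI := Fact.mk hr
  haveI : Finite F := Finite.of_fintype F
  set i := orderOf (Fintype.card F : ZMod r) with hidef
  have hndvd : ¬ r ∣ Fintype.card F - 1 := fun hd => by
    have h3 : (Fintype.card F : ZMod r) = 1 := by
      have := (ZMod.natCast_eq_zero_iff _ _).mpr hd
      rwa [Nat.cast_sub Fintype.card_pos, Nat.cast_one, sub_eq_zero] at this
    rw [hidef, h3, orderOf_one] at hi
    omega
  haveI : NeZero i := ⟨by omega⟩
  let L := FiniteField.Extension F p i
  have hLd : finrank F L = i := FiniteField.finrank_extension F p i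
  obtain ⟨z, hz⟩ : ∃ z : Lˣ, orderOf z = r := by
    refine exists_prime_orderOf_dvd_card' r ?_
    rw [Nat.card_units, FiniteField.natCard_extension, Nat.card_eq_fintype_card, ← ZMod.natCast_eq_zero_iff,
      Nat.cast_sub (Nat.one_le_pow _ _ Fintype.card_pos)]
    push_cast
    rw [pow_orderOf_eq_one, sub_self]
  have hz1 : (z : L) ≠ 1 := fun e => by
    rw [Units.ext (e.trans Units.val_one.symm), orderOf_one] at hz
    exact hr.ne_one hz.symm
  have hzr : (z : L) ^ r = 1 := by
    rw [← Units.val_pow_eq_pow_val, ← hz, pow_orderOf_eq_one, Units.val_one]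
  let A : Module.End F (Fin s → L) :=
    { toFun := fun a j => (z : L) * a j
      map_add' := fun a b => funext fun j => mul_add _ _ _
      map_smul' := fun c a => funext fun j => by simp }
  let T : Module.End F ((Fin s → L) × (Fin (n - s * i) → F)) := A.prodMap LinearMap.id
  have hTP : ∀ (P : F[X]) a b, aeval T P (a, b) = (fun j => aeval (z : L) P * a j, P.eval 1 • b) := by
    intro P
    induction P using Polynomial.induction_on with
    | C c => intro a b; simp [Algebra.smul_def]; rfl
    | add P Q hP hQ => intro a b; simp [hP, hQ, add_mul, add_smul]; rfl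
    | monomial k c ih =>
      intro a b
      rw [show (Polynomial.C c * X ^ (k + 1) : F[X]) = Polynomial.C c * X ^ k * X by ring,
        map_mul _ _ X, Module.End.mul_apply, aeval_X,
        show T (a, b) = (fun j => (z : L) * a j, b) from rfl, ih]
      refine Prod.ext (funext fun j => ?_) ?_
      · simp [mul_assoc]
      · simp
  have hTr : T ^ r = 1 := LinearMap.ext fun ⟨a, b⟩ => by
    have := hTP (X ^ r) a b
    rw [map_pow, aeval_X, map_pow, aeval_X, hzr] at this
    rw [this]
    simp
  have hdim : finrank F ((Fin s → L) × (Fin (n - s * i) → F)) = n := by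
    rw [Module.finrank_prod, Module.finrank_pi_fintype, Module.finrank_fin_fun, Finset.sum_const, Finset.card_univ,
      Fintype.card_fin, hLd, smul_eq_mul]
    omega
  have hdet : LinearMap.det T = 1 := by
    refine root_unity_one hr hndvd ?_
    rw [← map_pow, hTr, map_one]
  obtain ⟨x, φ, hx⟩ := exists_sl hdim T hdet
  set T' := Matrix.toLinAlgEquiv' (x : Matrix (Fin n) (Fin n) F) with hT'
  have hpow : T' ^ r = 1 := by rw [hx, ← map_pow, hTr, map_one]
  have hup : finrank F (LinearMap.ker (T' - 1)) ≤ n - s * i := by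
    let f : ↥(LinearMap.ker (T' - 1)) →ₗ[F] (Fin (n - s * i) → F) :=
      (LinearMap.snd F _ _).comp (φ.symm.toLinearMap.comp (Submodule.subtype _))
    refine (LinearMap.finrank_le_finrank_of_injective (f := f) ?_).trans (Module.finrank_fin_fun F).le
    rw [← LinearMap.ker_eq_bot, LinearMap.ker_eq_bot']
    rintro ⟨v, hv⟩ hfv
    have hfix : φ (T (φ.symm v)) = v := by
      have h := sub_eq_zero.mp hv
      rw [hx] at h
      simpa [LinearEquiv.conjAlgEquiv_apply] using h
    have h1 : T (φ.symm v) = φ.symm v := φ.injective (hfix.trans (φ.apply_symm_apply v).symm)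
    refine Subtype.ext (φ.symm.injective ?_)
    show φ.symm v = φ.symm 0
    rw [map_zero]
    refine Prod.ext (funext fun j => ?_) hfv
    have h2 := congrArg (fun w => w.1 j) h1
    by_contra hne
    exact hz1 (mul_right_cancel₀ hne (h2.trans (one_mul _).symm))
  have hlow : finrank F (LinearMap.range (T' - 1)) ≤ s * i := by
    let f : ↥(LinearMap.range (T' - 1)) →ₗ[F] (Fin s → L) :=
      (LinearMap.fst F _ _).comp (φ.symm.toLinearMap.comp (Submodule.subtype _))
    refine (LinearMap.finrank_le_finrank_of_injective (f := f) ?_).trans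
      (by rw [Module.finrank_pi_fintype, Finset.sum_const, Finset.card_univ, Fintype.card_fin, hLd, smul_eq_mul])
    rw [← LinearMap.ker_eq_bot, LinearMap.ker_eq_bot']
    rintro ⟨v, w, hw⟩ hfv
    refine Subtype.ext (φ.symm.injective ?_)
    show φ.symm v = φ.symm 0
    rw [map_zero]
    refine Prod.ext hfv ?_
    have e : φ.symm v = T (φ.symm w) - φ.symm w := by
      rw [← hw, hx, LinearMap.sub_apply, Module.End.one_apply, map_sub, LinearEquiv.conjAlgEquiv_apply]
      simp
    rw [e]
    exact sub_self _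
  have heq : finrank F (LinearMap.ker (T' - 1)) = n - s * i := by
    have h := LinearMap.finrank_range_add_finrank_ker (T' - 1)
    rw [Module.finrank_fin_fun] at h
    omega
  refine ⟨x, ?_, fun c hc => ?_, ⟨(X - 1) * minpoly F (z : L), ?_, ?_, ?_⟩, heq⟩
  · apply Matrix.toLinAlgEquiv'.injective
    rw [Matrix.SpecialLinearGroup.coe_pow, map_pow, ← hT', hpow, map_smul, map_one, one_smul]
  · haveI : NeZero n := ⟨by have := Nat.le_mul_of_pos_left i hs; omega⟩
    have hpos : 0 < s * i := Nat.mul_pos hs (by omega)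
    have hc1 : c = 1 := by
      refine root_unity_one hr hndvd ?_
      have h := hpow
      rw [hT', hc, map_smul, map_one, _root_.smul_pow, one_pow] at h
      have h' := congrFun (LinearMap.congr_fun h (Pi.single (0 : Fin n) 1)) 0
      simpa using h'
    rw [hT', hc, hc1, one_smul, map_one, sub_self, LinearMap.ker_zero, finrank_top, Module.finrank_fin_fun] at heq
    omega
  · exact mul_ne_zero (by simpa using X_sub_C_ne_zero (1 : F)) (minpoly.ne_zero (Algebra.IsIntegral.isIntegral _))
  · refine Polynomial.natDegree_mul_le.trans ?_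
    have h1 : (X - 1 : F[X]).natDegree = 1 := by simpa using natDegree_X_sub_C (1 : F)
    have h2 : (minpoly F (z : L)).natDegree ≤ i := (minpoly.natDegree_le (z : L)).trans hLd.le
    omega
  · have h0 : aeval T ((X - 1) * minpoly F (z : L)) = 0 := LinearMap.ext fun ⟨a, b⟩ => by
      rw [hTP, map_mul, minpoly.aeval, mul_zero, eval_mul, eval_sub, eval_X, eval_one, sub_self, zero_mul]
      simp
      rfl
    show aeval T' _ = 0
    rw [hx, Polynomial.aeval_algHom_apply (φ.conjAlgEquiv F) T, h0, map_zero]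

/-! ### Constructions -/

variable {n a t : ℕ}

/-- A map with irrational scalar power permutes some decomposition. -/
theorem twisted_blocks (hr : r.Prime) (hat : n = a * t) (ha : 1 ≤ a) (ht : 2 ≤ t) (T : Module.End F (Fin n → F))
    (hinj : Function.Injective T) {c : F} (hc : ∀ b : F, b ^ r ≠ c) (hT : T ^ r = c • 1) :
    ∃ D : Fin t → Submodule F (Fin n → F), Cfsg.Geo.IsMDecomposition a D ∧
      ∃ τ : Equiv.Perm (Fin t), ∀ j, (D j).map T = D (τ j) := by
  classical
  have hgi : Irreducible (X ^ r - Polynomial.C c) := X_pow_sub_C_irreducible_of_prime hr hc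
  obtain ⟨N, w, B, hN, hB⟩ := orbit_basis T hgi (by
    rw [map_sub, map_pow, aeval_X, aeval_C, hT, Algebra.algebraMap_eq_smul_one, sub_self])
  have hdeg : (X ^ r - Polynomial.C c).natDegree = r := natDegree_X_pow_sub_C
  rw [hdeg, Module.finrank_fin_fun] at hN
  let B' : Basis (Fin r × Fin N) F (Fin n → F) := B.reindex ((finCongr hdeg).prodCongr (Equiv.refl _))
  have hB' : ∀ i k, B' (i, k) = (T ^ (i : ℕ)) (w k) := fun i k => by
    simp [B', hB]
  haveI : NeZero r := ⟨hr.ne_zero⟩
  have hstep : ∀ i k, ∃ s : F, T (B' (i, k)) = s • B' (i + 1, k) := by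
    intro i k
    rw [hB', hB', ← Module.End.mul_apply, ← pow_succ']
    by_cases h : (i : ℕ) + 1 < r
    · refine ⟨1, ?_⟩
      rw [one_smul, Fin.val_add, Fin.val_one', Nat.mod_eq_of_lt (show 1 < r from hr.one_lt), Nat.mod_eq_of_lt h]
    · refine ⟨c, ?_⟩
      have := i.2
      rw [Fin.val_add, Fin.val_one', Nat.mod_eq_of_lt (show 1 < r from hr.one_lt), show (i : ℕ) + 1 = r by omega,
        Nat.mod_self, hT, pow_zero]
      simp
  have hrat : r ∣ a * t := ⟨N, by rw [← hat, hN]⟩
  rcases hr.dvd_mul.mp hrat with hra | hrt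
  · obtain ⟨a', rfl⟩ := hra
    have hN' : N = t * a' := by
      have : r * N = r * (t * a') := by rw [hN, hat]; ring
      exact Nat.eq_of_mul_eq_mul_left hr.pos this
    let e : Fin r × Fin N ≃ Fin t × Fin (r * a') :=
      (((Equiv.refl _).prodCongr ((finCongr hN').trans finProdFinEquiv.symm)).trans
        { toFun := fun x => (x.2.1, (x.1, x.2.2))
          invFun := fun x => (x.2.1, (x.1, x.2.2))
          left_inv := fun _ => rfl
          right_inv := fun _ => rfl }).trans ((Equiv.refl _).prodCongr finProdFinEquiv)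
    refine stable_of_basis ht ha T hinj B' e id Function.injective_id ?_
    rintro ⟨i, k⟩
    obtain ⟨s, hs⟩ := hstep i k
    rw [hs]
    refine Submodule.smul_mem _ s (Submodule.subset_span ⟨(e (i + 1, k)).2, ?_⟩)
    show B' (e.symm ((e (i, k)).1, (e (i + 1, k)).2)) = _
    rw [show (e (i, k)).1 = (e (i + 1, k)).1 from rfl, Prod.mk.eta, Equiv.symm_apply_apply]
  · obtain ⟨t', rfl⟩ := hrt
    have hN' : N = t' * a := by
      have : r * N = r * (t' * a) := by rw [hN, hat]; ring
      exact Nat.eq_of_mul_eq_mul_left hr.pos this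
    let e : Fin r × Fin N ≃ Fin (r * t') × Fin a :=
      (((Equiv.refl _).prodCongr ((finCongr hN').trans finProdFinEquiv.symm)).trans
        (Equiv.prodAssoc _ _ _).symm).trans (finProdFinEquiv.prodCongr (Equiv.refl _))
    let σ : Fin (r * t') → Fin (r * t') := fun j =>
      finProdFinEquiv ((finProdFinEquiv.symm j).1 + 1, (finProdFinEquiv.symm j).2)
    have hσ : Function.Injective σ := by
      intro x y h
      have h' := finProdFinEquiv.injective h
      rw [Prod.mk.injEq] at h'
      exact finProdFinEquiv.symm.injective (Prod.ext (add_right_cancel h'.1) h'.2)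
    refine stable_of_basis ht ha T hinj B' e σ hσ ?_
    rintro ⟨i, k⟩
    obtain ⟨s, hs⟩ := hstep i k
    rw [hs]
    refine Submodule.smul_mem _ s (Submodule.subset_span ⟨(e (i + 1, k)).2, ?_⟩)
    show B' (e.symm (σ (e (i, k)).1, (e (i + 1, k)).2)) = _
    have hstep' : σ (e (i, k)).1 = (e (i + 1, k)).1 := by
      show finProdFinEquiv ((finProdFinEquiv.symm (finProdFinEquiv (i, (finProdFinEquiv.symm (finCongr hN' k)).1))).1 + 1,
          (finProdFinEquiv.symm (finProdFinEquiv (i, (finProdFinEquiv.symm (finCongr hN' k)).1))).2) =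
        finProdFinEquiv (i + 1, (finProdFinEquiv.symm (finCongr hN' k)).1)
      rw [Equiv.symm_apply_apply]
    rw [hstep', Prod.mk.eta, Equiv.symm_apply_apply]

/-- Lines: an element with enough fixed vectors is a permutation up to scalars. -/
theorem line_blocks (hr : r.Prime) (hrp : r ≠ p) (hn : 2 ≤ n) (T : Module.End F (Fin n → F)) (hT : T ^ r = 1)
    (hc : orderOf (Fintype.card F : ZMod r) = r - 1)
    (hle : n ≤ r * finrank F (LinearMap.ker (T - 1))) :
    ∃ D : Fin n → Submodule F (Fin n → F), Cfsg.Geo.IsMDecomposition 1 D ∧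
      ∃ τ : Equiv.Perm (Fin n), ∀ j, (D j).map T = D (τ j) := by
  classical
  haveI : NeZero r := ⟨hr.ne_zero⟩
  have hr0 : (r : F) ≠ 0 := CfsgLib.GLClassNumber.natCast_ne_zero_of_prime_ne (F := F) (p := p) hr hrp
  set R := LinearMap.range (T - 1) with hRdef
  set E := LinearMap.ker (T - 1) with hEdef
  have hRT : ∀ v ∈ R, T v ∈ R := fun v hv => by
    obtain ⟨w, rfl⟩ := hv
    exact ⟨T w, by simp⟩
  have hgeomdeg : (geom F r).natDegree = r - 1 := by
    refine le_antisymm ?_ ?_
    · refine Polynomial.natDegree_sum_le_of_forall_le _ _ fun j hj => ?_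
      rw [natDegree_X_pow]
      have := Finset.mem_range.mp hj
      omega
    · refine le_natDegree_of_ne_zero ?_
      rw [geom, finset_sum_coeff, Finset.sum_eq_single (r - 1)]
      · simp
      · intro j _ hj
        rw [coeff_X_pow, if_neg (Ne.symm hj)]
      · intro h
        exact absurd (Finset.mem_range.mpr (by have := hr.pos; omega)) h
  have hgeom0 : geom F r ≠ 0 := fun e => by
    rw [e, natDegree_zero] at hgeomdeg
    have := hr.two_le
    omega
  obtain ⟨g, hgm, hgi, hgd⟩ := Polynomial.exists_monic_irreducible_factor (geom F r) (fun hu => by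
    have := natDegree_eq_zero_of_isUnit hu
    have := hr.two_le
    omega)
  have hgdeg : g.natDegree = r - 1 := (geom_degree (p := p) hr hrp hgi hgm hgd).trans hc
  have hgirr : Irreducible (geom F r) :=
    (Polynomial.associated_of_dvd_of_natDegree_le hgd hgeom0 (by omega)).irreducible hgi
  obtain ⟨s, w, B, hs, hB⟩ := orbit_basis (T.restrict hRT) hgirr (LinearMap.ext fun x => Subtype.ext (by
    rw [aeval_restrict, geom_range T hT _ x.2]; rfl))
  have hB' : ∀ (i : Fin (geom F r).natDegree) k, ((B (i, k) : R) : Fin n → F) = (T ^ (i : ℕ)) (w k).1 := by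
    intro i k
    rw [hB]
    have := aeval_restrict T R hRT (X ^ (i : ℕ)) (w k)
    rwa [map_pow, aeval_X, map_pow, aeval_X] at this
  rw [hgeomdeg] at hs
  have hrn := LinearMap.finrank_range_add_finrank_ker (T - 1)
  rw [Module.finrank_fin_fun, ← hRdef, ← hEdef, ← hs] at hrn
  set e := finrank F E with he
  have hse : s ≤ e := by
    have h1 : (r - 1) * s ≤ (r - 1) * e := by
      rw [Nat.sub_mul r 1 e, one_mul]
      omega
    exact Nat.le_of_mul_le_mul_left h1 (by have := hr.two_le; omega)
  let f : Basis (Fin e) F E := Module.finBasis F E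
  let fam : (Fin r × Fin s) ⊕ Fin (e - s) → (Fin n → F) :=
    Sum.elim (fun x => (T ^ (x.1 : ℕ)) ((w x.2).1 + (f (Fin.castLE hse x.2)).1)) fun j => (f ⟨s + j, by omega⟩).1
  have hfix : ∀ (i : ℕ) (k : Fin e), (T ^ i) (f k).1 = (f k).1 := by
    intro i k
    induction i with
    | zero => rfl
    | succ i ih => rw [pow_succ', Module.End.mul_apply, ih]; exact sub_eq_zero.mp (f k).2
  have hspan : ⊤ ≤ Submodule.span F (Set.range fam) := by
    have hf : ∀ k : Fin s, (f (Fin.castLE hse k)).1 ∈ Submodule.span F (Set.range fam) := by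
      intro k
      have hsum : (r : F) • (f (Fin.castLE hse k)).1 = ∑ i : Fin r, fam (Sum.inl (i, k)) := by
        simp only [fam, Sum.elim_inl, map_add, hfix, Finset.sum_add_distrib, Finset.sum_const, Finset.card_univ,
          Fintype.card_fin, Nat.cast_smul_eq_nsmul]
        have h0 := geom_range T hT (w k).1 (w k).2
        rw [geom, map_sum, LinearMap.sum_apply, ← Fin.sum_univ_eq_sum_range] at h0
        simp only [map_pow, aeval_X] at h0
        rw [h0, zero_add]
      rw [← Submodule.smul_mem_iff _ hr0, hsum]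
      exact sum_mem fun i _ => Submodule.subset_span ⟨_, rfl⟩
    have hE : E ≤ Submodule.span F (Set.range fam) := by
      intro v hv
      have : (⟨v, hv⟩ : E) ∈ Submodule.span F (Set.range f) := by rw [f.span_eq]; trivial
      refine (Submodule.span_le.mpr ?_ : Submodule.span F (Set.range f) ≤ (Submodule.span F (Set.range fam)).comap E.subtype) this
      rintro _ ⟨k, rfl⟩
      by_cases hk : (k : ℕ) < s
      · exact hf ⟨k, hk⟩
      · refine Submodule.subset_span ⟨Sum.inr ⟨k - s, by omega⟩, ?_⟩
        show (f ⟨s + (k - s), _⟩).1 = _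
        congr 2
        exact Fin.ext (Nat.add_sub_cancel' (not_lt.mp hk))
    have hR : R ≤ Submodule.span F (Set.range fam) := by
      intro v hv
      have : (⟨v, hv⟩ : R) ∈ Submodule.span F (Set.range B) := by rw [B.span_eq]; trivial
      refine (Submodule.span_le.mpr ?_ : Submodule.span F (Set.range B) ≤ (Submodule.span F (Set.range fam)).comap R.subtype) this
      rintro _ ⟨⟨i, k⟩, rfl⟩
      show (B (i, k) : R).1 ∈ Submodule.span F (Set.range fam)
      have hi : (i : ℕ) < r := by have := i.2; omega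
      rw [hB', show (T ^ (i : ℕ)) (w k).1 = fam (Sum.inl (⟨i, hi⟩, k)) - (f (Fin.castLE hse k)).1 by
        simp [fam, hfix]]
      exact sub_mem (Submodule.subset_span ⟨_, rfl⟩) (hf k)
    intro v _
    have htop : E ⊔ R = ⊤ := by
      refine Submodule.eq_top_of_finrank_eq ?_
      have h := Submodule.finrank_sup_add_finrank_inf_eq E R
      rw [hEdef, hRdef, ker_inf_range T hr hrp hT, finrank_bot, add_zero, ← hRdef, ← hEdef, ← he, ← hs] at h
      rw [Module.finrank_fin_fun]
      omega
    exact (sup_le hE hR : E ⊔ R ≤ _) (by rw [htop]; trivial)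
  have hcard : Fintype.card ((Fin r × Fin s) ⊕ Fin (e - s)) = n := by
    rw [Fintype.card_sum, Fintype.card_prod, Fintype.card_fin, Fintype.card_fin, Fintype.card_fin]
    have h1 : (r - 1) * s + s = r * s := by
      rw [Nat.sub_mul, one_mul, Nat.sub_add_cancel (Nat.le_mul_of_pos_left s hr.pos)]
    omega
  let Bf : Basis ((Fin r × Fin s) ⊕ Fin (e - s)) F (Fin n → F) :=
    basisOfTopLeSpanOfCardEqFinrank fam hspan (by rw [Module.finrank_fin_fun, hcard])
  have hBf : ∀ x, Bf x = fam x := fun x => by rw [coe_basisOfTopLeSpanOfCardEqFinrank]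
  let σ0 : (Fin r × Fin s) ⊕ Fin (e - s) → (Fin r × Fin s) ⊕ Fin (e - s) := Sum.map (Prod.map (· + 1) id) id
  have hσ0 : Function.Injective σ0 :=
    Function.Injective.sumMap (Function.Injective.prodMap (add_left_injective 1) Function.injective_id) Function.injective_id
  let u := (Fintype.equivFinOfCardEq hcard).trans (Equiv.prodUnique (Fin n) (Fin 1)).symm
  refine stable_of_basis hn le_rfl T ?_ Bf u (fun j => (u (σ0 (u.symm (j, 0)))).1) ?_ ?_
  · intro x y h
    have h2 := congrArg (T ^ (r - 1)) h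
    rw [← Module.End.mul_apply, ← Module.End.mul_apply, ← pow_succ, Nat.sub_add_cancel hr.one_le, hT] at h2
    exact h2
  · intro x y h
    have h' := u.symm.injective (hσ0 (u.injective (Prod.ext h (Subsingleton.elim _ _))))
    exact (Prod.mk.injEq _ _ _ _).mp h' |>.1
  · intro x
    have hx : T (Bf x) = Bf (σ0 x) := by
      rw [hBf, hBf]
      rcases x with ⟨i, k⟩ | j
      · simp only [fam, σ0, Sum.map_inl, Prod.map_apply, id_eq, Sum.elim_inl]
        rw [← Module.End.mul_apply, ← pow_succ', Fin.val_add, Fin.val_one', Nat.mod_eq_of_lt (show 1 < r from hr.one_lt)]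
        conv_lhs => rw [← Nat.mod_add_div ((i : ℕ) + 1) r, pow_add, pow_mul, hT, one_pow, mul_one]
      · simp only [fam, σ0, Sum.map_inr, id_eq, Sum.elim_inr]
        have := hfix 1 ⟨s + j, by omega⟩
        rwa [pow_one] at this
    rw [hx]
    refine Submodule.subset_span ⟨0, ?_⟩
    show Bf (u.symm ((u (σ0 (u.symm ((u x).1, 0)))).1, 0)) = _
    have e1 : ((u x).1, (0 : Fin 1)) = u x := Prod.ext rfl (Subsingleton.elim _ _)
    rw [e1, Equiv.symm_apply_apply]
    have e2 : ((u (σ0 x)).1, (0 : Fin 1)) = u (σ0 x) := Prod.ext rfl (Subsingleton.elim _ _)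
    rw [e2, Equiv.symm_apply_apply]

/-- Splitting an invariant subspace into invariant blocks of equal dimension. -/
theorem fixed_blocks_aux (hr : r.Prime) (hrp : r ≠ p) (T : Module.End F (Fin n → F)) (hT : T ^ r = 1) (a : ℕ) :
    ∀ (t : ℕ) (R : Submodule F (Fin n → F)), (∀ v ∈ R, T v ∈ R) → finrank F R = a * t →
      t * (a % orderOf (Fintype.card F : ZMod r)) ≤ finrank F ↥(R ⊓ LinearMap.ker (T - 1)) →
      ∃ D : Fin t → Submodule F (Fin n → F), (∀ j, finrank F (D j) = a) ∧ (∀ j, ∀ v ∈ D j, T v ∈ D j) ∧ iSup D = R := by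
  classical
  intro t
  induction t with
  | zero =>
    intro R _ hR _
    refine ⟨fun j => j.elim0, fun j => j.elim0, fun j => j.elim0, ?_⟩
    rw [mul_zero, Submodule.finrank_eq_zero] at hR
    rw [hR, iSup_of_empty]
  | succ t ih =>
    intro R hRT hR he
    set i := orderOf (Fintype.card F : ZMod r) with hi
    set E := LinearMap.ker (T - 1) with hE
    set e := finrank F ↥(R ⊓ E) with hedef
    let f := (T - 1).comp R.subtype
    have hfR : LinearMap.range f ≤ R ⊓ LinearMap.range (T - 1) := by
      rintro _ ⟨y, rfl⟩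
      exact ⟨sub_mem (hRT _ y.2) y.2, ⟨y.1, rfl⟩⟩
    have hfT : ∀ v ∈ LinearMap.range f, T v ∈ LinearMap.range f := by
      rintro _ ⟨y, rfl⟩
      exact ⟨⟨T y, hRT _ y.2⟩, by simp [f]⟩
    obtain ⟨⟨k, hk⟩, hex⟩ := dims_in_range T hr hrp hT _ (hfR.trans inf_le_right) hfT
    rw [← hi] at hk hex
    have hdim : finrank F R = i * k + e := by
      have h := LinearMap.finrank_range_add_finrank_ker f
      rw [← Submodule.finrank_map_subtype_eq R (LinearMap.ker f), LinearMap.ker_comp, Submodule.map_comap_subtype] at h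
      rw [← hk]
      exact h.symm
    set k0 := min (a / i) k with hk0
    obtain ⟨R0, hR0, hR0d, hR0T⟩ := hex k0 (by rw [hk, mul_comm]; exact Nat.mul_le_mul_left i (min_le_right _ _))
    have hdm := Nat.div_add_mod a i
    have hak : a ≤ a * (t + 1) := Nat.le_mul_of_pos_right a (Nat.succ_pos t)
    have hl0 : a % i ≤ (t + 1) * (a % i) := Nat.le_mul_of_pos_left _ (Nat.succ_pos t)
    have hk0a : k0 * i ≤ a := (Nat.mul_le_mul_right i (min_le_left _ _)).trans (Nat.div_mul_le_self a i)
    have ha0 : a - k0 * i ≤ e := by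
      rcases le_total (a / i) k with h | h
      · rw [hk0, min_eq_left h, mul_comm]
        omega
      · rw [hk0, min_eq_right h, mul_comm]
        omega
    obtain ⟨E0, hE0, hE0d⟩ : ∃ E' ≤ R ⊓ E, finrank F E' = a - k0 * i := by
      let b := Module.finBasis F ↥(R ⊓ E)
      refine ⟨Submodule.span F (Set.range fun j : Fin (a - k0 * i) => (b (Fin.castLE ha0 j) : Fin n → F)), ?_, ?_⟩
      · rw [Submodule.span_le]; rintro _ ⟨j, rfl⟩; exact (b _).2
      · refine (finrank_span_eq_card ?_).trans (Fintype.card_fin _)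
        exact (b.linearIndependent.map' (R ⊓ E).subtype (Submodule.ker_subtype _)).comp _ (Fin.castLE_injective ha0)
    have hR0r : R0 ≤ LinearMap.range (T - 1) := hR0.trans (hfR.trans inf_le_right)
    set U := E0 ⊔ R0 with hU
    have hUd : finrank F U = a := by
      have h := Submodule.finrank_sup_add_finrank_inf_eq E0 R0
      rw [le_bot_iff.mp ((inf_le_inf (hE0.trans inf_le_right) hR0r).trans (ker_inf_range T hr hrp hT).le),
        finrank_bot, add_zero, hE0d, hR0d] at h
      rw [hU, h]
      omega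
    have hUR : U ≤ R := sup_le (hE0.trans inf_le_left) (hR0.trans (hfR.trans inf_le_left))
    have hUT : ∀ v ∈ U, T v ∈ U := by
      intro v hv
      obtain ⟨x, hx, y, hy, rfl⟩ := Submodule.mem_sup.mp hv
      have hfix : T x = x := sub_eq_zero.mp (hE0 hx).2
      rw [map_add, hfix]
      exact add_mem (Submodule.mem_sup_left hx) (Submodule.mem_sup_right (hR0T y hy))
    have hUE : U ⊓ E = E0 := by
      refine le_antisymm (fun v hv => ?_) (le_inf le_sup_left (hE0.trans inf_le_right))
      obtain ⟨x, hx, y, hy, rfl⟩ := Submodule.mem_sup.mp hv.1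
      have hyE : y ∈ E := by
        have := sub_mem hv.2 (hE0 hx).2
        rwa [add_sub_cancel_left] at this
      have hy0 : y ∈ LinearMap.ker (T - 1) ⊓ LinearMap.range (T - 1) := ⟨hyE, hR0r hy⟩
      rw [ker_inf_range T hr hrp hT, Submodule.mem_bot] at hy0
      rw [hy0, add_zero]
      exact hx
    have hss : Module.End.IsSemisimple T := by
      refine Module.End.isSemisimple_of_squarefree_aeval_eq_zero (p := X ^ r - Polynomial.C (1 : F))
        (separable_X_pow_sub_C 1 (CfsgLib.GLClassNumber.natCast_ne_zero_of_prime_ne (F := F) (p := p) hr hrp) one_ne_zero).squarefree ?_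
      rw [map_sub, map_pow, aeval_X, aeval_C, hT, map_one, sub_self]
    obtain ⟨W, hW, hUW⟩ := (Module.End.isSemisimple_iff.mp hss) U ((Module.End.mem_invtSubmodule _).mpr hUT)
    have hWT : ∀ v ∈ W ⊓ R, T v ∈ W ⊓ R := fun v hv =>
      ⟨(Module.End.mem_invtSubmodule _).mp hW hv.1, hRT v hv.2⟩
    have hsup : U ⊔ (W ⊓ R) = R := by
      rw [← sup_inf_assoc_of_le W hUR, hUW.sup_eq_top, top_inf_eq]
    have hdis : U ⊓ (W ⊓ R) = ⊥ := le_bot_iff.mp ((inf_le_inf_left U inf_le_left).trans hUW.inf_eq_bot.le)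
    have hWd : finrank F ↥(W ⊓ R) = a * t := by
      have h := Submodule.finrank_sup_add_finrank_inf_eq U (W ⊓ R)
      rw [hsup, hdis, finrank_bot, add_zero, hUd, hR, mul_add, mul_one] at h
      omega
    have hsplit : R ⊓ E ≤ E0 ⊔ (W ⊓ R ⊓ E) := by
      intro v hv
      have hv1 : v ∈ U ⊔ (W ⊓ R) := by rw [hsup]; exact hv.1
      obtain ⟨x, hx, y, hy, rfl⟩ := Submodule.mem_sup.mp hv1
      have h0 : (T x - x) + (T y - y) = 0 := by
        have h1 : T (x + y) = x + y := sub_eq_zero.mp hv.2
        rw [map_add] at h1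
        rw [sub_add_sub_comm, h1, sub_self]
      have hx0 : T x - x ∈ U ⊓ (W ⊓ R) :=
        ⟨sub_mem (hUT x hx) hx, by rw [eq_neg_of_add_eq_zero_left h0]; exact neg_mem (sub_mem (hWT y hy) hy)⟩
      rw [hdis, Submodule.mem_bot] at hx0
      rw [hx0, zero_add] at h0
      exact Submodule.add_mem_sup (by rw [← hUE]; exact ⟨hx, hx0⟩) ⟨hy, h0⟩
    have he' : t * (a % i) ≤ finrank F ↥(W ⊓ R ⊓ E) := by
      have h1 := Submodule.finrank_mono hsplit
      have h2 := Submodule.finrank_sup_add_finrank_inf_eq E0 (W ⊓ R ⊓ E)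
      rw [← hedef] at h1
      have hle : t * (a % i) ≤ a * t := by rw [mul_comm a t]; exact Nat.mul_le_mul_left t (Nat.mod_le a i)
      have hsucc : (t + 1) * (a % i) = t * (a % i) + a % i := by ring
      rcases le_total (a / i) k with h | h
      · rw [hk0, min_eq_left h, mul_comm] at hE0d
        omega
      · rw [hk0, min_eq_right h, mul_comm] at hE0d hk0a
        rw [mul_add, mul_one] at hR
        omega
    obtain ⟨D, hD1, hD2, hD3⟩ := ih (W ⊓ R) hWT hWd he'
    refine ⟨Fin.cons U D, Fin.cases hUd hD1, Fin.cases hUT hD2, ?_⟩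
    rw [← hsup, ← hD3]
    refine le_antisymm (iSup_le (Fin.cases le_sup_left fun j => le_sup_of_le_right (le_iSup D j)))
      (sup_le (le_iSup_of_le 0 le_rfl) (iSup_le fun j => le_iSup_of_le j.succ le_rfl))

theorem fixed_blocks (hr : r.Prime) (hrp : r ≠ p) (hat : n = a * t) (ha : 1 ≤ a) (ht : 2 ≤ t)
    (T : Module.End F (Fin n → F)) (hT : T ^ r = 1)
    (hl : t * (a % orderOf (Fintype.card F : ZMod r)) ≤ finrank F (LinearMap.ker (T - 1))) :
    ∃ D : Fin t → Submodule F (Fin n → F), Cfsg.Geo.IsMDecomposition a D ∧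
      ∃ τ : Equiv.Perm (Fin t), ∀ j, (D j).map T = D (τ j) := by
  obtain ⟨D, hd, hDT, htop⟩ := fixed_blocks_aux (p := p) hr hrp T hT a t ⊤ (fun _ _ => Submodule.mem_top)
    (by rw [finrank_top, Module.finrank_fin_fun, hat]) (by rwa [top_inf_eq])
  refine ⟨D, ⟨ht, ha, hd, indep_of_dim D hd (by rw [Module.finrank_fin_fun, hat]) htop, htop⟩, 1, fun j => ?_⟩
  have hinj : Function.Injective T := by
    intro x y h
    have h2 := congrArg (T ^ (r - 1)) h
    rw [← Module.End.mul_apply, ← Module.End.mul_apply, ← pow_succ, Nat.sub_add_cancel hr.one_le, hT] at h2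
    exact h2
  refine Submodule.eq_of_le_of_finrank_eq ((map_le_iff T (D j)).mpr (hDT j)) ?_
  rw [← (Submodule.equivMapOfInjective T hinj (D j)).finrank_eq]
  rfl

theorem dim_decomp_imprim {V : Type v} [AddCommGroup V] [Module F V] [FiniteDimensional F V] (T : Module.End F V)
    (hr : r.Prime) (hrp : r ≠ p) (hT : T ^ r = 1) (W : Submodule F V) (hW : ∀ v ∈ W, T v ∈ W) :
    ∃ k, finrank F W = k * orderOf (Fintype.card F : ZMod r) + finrank F ↥(W ⊓ LinearMap.ker (T - 1)) := by
    let f := (T - 1).comp W.subtype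
    obtain ⟨⟨k, hk⟩, -⟩ := dims_in_range T hr hrp hT _ (LinearMap.range_comp_le_range W.subtype (T - 1)) (by
      rintro _ ⟨y, rfl⟩
      exact ⟨⟨T y, hW _ y.2⟩, by simp⟩)
    have h := LinearMap.finrank_range_add_finrank_ker f
    rw [← Submodule.finrank_map_subtype_eq W (LinearMap.ker f), LinearMap.ker_comp, Submodule.map_comap_subtype] at h
    refine ⟨k, ?_⟩
    rw [mul_comm, ← hk]
    exact h.symm

/-- Fixed blocks use up fixed vectors. -/
theorem fixed_sum_le (hr : r.Prime) (hrp : r ≠ p) (T : Module.End F (Fin n → F)) (hT : T ^ r = 1)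
    {D : Fin t → Submodule F (Fin n → F)} (hD : Cfsg.Geo.IsMDecomposition a D) (hinv : ∀ j, ∀ v ∈ D j, T v ∈ D j) :
    t * (a % orderOf (Fintype.card F : ZMod r)) ≤ finrank F (LinearMap.ker (T - 1)) ∧
      (a < orderOf (Fintype.card F : ZMod r) → finrank F (LinearMap.ker (T - 1)) = n) := by
  classical
  set i := orderOf (Fintype.card F : ZMod r)
  have hmod : ∀ j, a % i ≤ finrank F ↥(D j ⊓ LinearMap.ker (T - 1)) := by
    intro j
    obtain ⟨k, hk⟩ := dim_decomp_imprim (p := p) T hr hrp hT (D j) (hinv j)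
    rw [hD.finrank_eq] at hk
    rw [hk, add_comm, Nat.add_mul_mod_self_right]
    exact Nat.mod_le _ _
  have hfin : ∀ s : Finset (Fin t), s.card * (a % i) ≤ finrank F ↥(s.sup fun j => D j ⊓ LinearMap.ker (T - 1)) := by
    intro s
    induction s using Finset.induction_on with
    | empty => simp
    | insert j s hj ih =>
      rw [Finset.sup_insert, Finset.card_insert_of_notMem hj, add_mul, one_mul]
      have h := Submodule.finrank_sup_add_finrank_inf_eq (D j ⊓ LinearMap.ker (T - 1))
        (s.sup fun j => D j ⊓ LinearMap.ker (T - 1))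
      have hd : (D j ⊓ LinearMap.ker (T - 1)) ⊓ (s.sup fun j => D j ⊓ LinearMap.ker (T - 1)) = ⊥ := by
        refine le_bot_iff.mp ((inf_le_inf inf_le_left ?_).trans (disjoint_iff.mp (hD.indep j)).le)
        exact Finset.sup_le fun i hi => inf_le_left.trans (le_iSup₂_of_le i (fun e => hj (e ▸ hi)) le_rfl)
      rw [hd, finrank_bot, add_zero] at h
      have := hmod j
      omega
  refine ⟨?_, fun hai => ?_⟩
  · have h := (hfin Finset.univ).trans (Submodule.finrank_mono
      (Finset.sup_le fun j _ => (inf_le_right : D j ⊓ LinearMap.ker (T - 1) ≤ LinearMap.ker (T - 1))))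
    rwa [Finset.card_univ, Fintype.card_fin] at h
  · have hall : ∀ j, D j ≤ LinearMap.ker (T - 1) := by
      intro j
      refine inf_eq_left.mp (Submodule.eq_of_le_of_finrank_eq inf_le_left ?_)
      have h1 := hmod j
      rw [Nat.mod_eq_of_lt hai] at h1
      have h2 := Submodule.finrank_mono (inf_le_left : D j ⊓ LinearMap.ker (T - 1) ≤ D j)
      rw [hD.finrank_eq] at h2
      rw [hD.finrank_eq]
      omega
    have : LinearMap.ker (T - 1) = ⊤ := eq_top_iff.mpr (hD.iSup_eq_top ▸ iSup_le hall)
    rw [this, finrank_top, Module.finrank_fin_fun]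

/-! ### The criterion -/

theorem imprim_iff (hn : 2 ≤ n) (hat : n = a * t) (ha : 1 ≤ a) (ht : 2 ≤ t) (hr : r.Prime) (hrp : r ≠ p)
    (hΩ : r ∣ Nat.card {D : Fin t → Submodule F (Fin n → F) // Cfsg.Geo.IsMDecomposition a D} / Nat.factorial t) :
    (∀ x : Matrix.SpecialLinearGroup (Fin n) F,
      (∃ z : F, ((x ^ r : Matrix.SpecialLinearGroup (Fin n) F) : Matrix (Fin n) (Fin n) F) = z • (1 : Matrix (Fin n) (Fin n) F)) →
      (∀ z : F, (x : Matrix (Fin n) (Fin n) F) ≠ z • (1 : Matrix (Fin n) (Fin n) F)) →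
      ∃ D : Fin t → Submodule F (Fin n → F), Cfsg.Geo.IsMDecomposition a D ∧
        ∃ σ : Equiv.Perm (Fin t), ∀ j, (D j).map (Matrix.toLin' (x : Matrix (Fin n) (Fin n) F)) = D (σ j)) ↔
    ((a = 1 ∧ 1 < orderOf (Fintype.card F : ZMod r) ∧ orderOf (Fintype.card F : ZMod r) = r - 1 ∧
        n ≤ (n % orderOf (Fintype.card F : ZMod r)) * r) ∨
      (orderOf (Fintype.card F : ZMod r) ≤ a ∧
        n % orderOf (Fintype.card F : ZMod r) = t * (a % orderOf (Fintype.card F : ZMod r)))) := by
  classical
  haveI := Fact.mk hr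
  have hq : (Fintype.card F : ZMod r) ≠ 0 := fun e =>
    hrp ((dvd_q_iff (F := F) hr).mp ((ZMod.natCast_eq_zero_iff _ _).mp e))
  have hc0 : 0 < orderOf (Fintype.card F : ZMod r) :=
    (isOfFinOrder_iff_pow_eq_one.mpr ⟨r - 1, by have := hr.two_le; omega, ZMod.pow_card_sub_one_eq_one hq⟩).orderOf_pos
  have hcr : orderOf (Fintype.card F : ZMod r) ∣ r - 1 := orderOf_dvd_of_pow_eq_one (ZMod.pow_card_sub_one_eq_one hq)
  have hcle : orderOf (Fintype.card F : ZMod r) ≤ r - 1 := Nat.le_of_dvd (by have := hr.two_le; omega) hcr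
  have hndvd : 2 ≤ orderOf (Fintype.card F : ZMod r) → ¬ r ∣ Fintype.card F - 1 := fun h hd => by
    have h3 : (Fintype.card F : ZMod r) = 1 := by
      have := (ZMod.natCast_eq_zero_iff _ _).mpr hd
      rwa [Nat.cast_sub Fintype.card_pos, Nat.cast_one, sub_eq_zero] at this
    rw [h3, orderOf_one] at h
    omega
  have hcn : orderOf (Fintype.card F : ZMod r) ≤ n := by
    have h1 : r ∣ Nat.card (GL (Fin n) F) :=
      (dvd_trans hΩ (Nat.div_dvd_of_dvd card_perm_dvd)).trans (card_decomp_dvd hat ha ht)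
    rw [Matrix.card_GL_field] at h1
    obtain ⟨j, -, hj⟩ := (Prime.dvd_finset_prod_iff hr.prime _).mp h1
    rw [q_pow_factor j.2.le] at hj
    rcases hr.dvd_mul.mp hj with h | h
    · exact absurd ((ZMod.natCast_eq_zero_iff _ _).mpr (hr.dvd_of_dvd_pow h)) hq
    · have h' : (Fintype.card F : ZMod r) ^ (n - (j : ℕ)) = 1 := by
        have := (ZMod.natCast_eq_zero_iff _ _).mpr h
        rw [Nat.cast_sub (Nat.one_le_pow _ _ Fintype.card_pos), sub_eq_zero] at this
        push_cast at this
        exact this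
      have := Nat.le_of_dvd (by omega) (orderOf_dvd_of_pow_eq_one h')
      omega
  set c := orderOf (Fintype.card F : ZMod r) with hc
  have hdm := Nat.div_add_mod n c
  rw [mul_comm] at hdm
  have hnc : n % c < c := Nat.mod_lt n hc0
  constructor
  · intro H
    rcases Nat.lt_or_ge c 2 with h1 | h2
    · exact Or.inr ⟨by omega, by rw [show c = 1 by omega, Nat.mod_one, Nat.mod_one, mul_zero]⟩
    have key : ∀ s, 1 ≤ s → s * c ≤ n → ∃ (T : Module.End F (Fin n → F)) (D : Fin t → Submodule F (Fin n → F))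
        (σ : Equiv.Perm (Fin t)) (P : F[X]), T ^ r = 1 ∧ Function.Injective T ∧ Cfsg.Geo.IsMDecomposition a D ∧
          (∀ j, (D j).map T = D (σ j)) ∧ P ≠ 0 ∧ P.natDegree ≤ c + 1 ∧ aeval T P = 0 ∧
          finrank F (LinearMap.ker (T - 1)) = n - s * c := by
      intro s hs hsn
      obtain ⟨x, hx1, hx2, ⟨P, hP0, hPd, hP⟩, hx4⟩ :=
        exists_blocks_element (F := F) (p := p) hr hrp h2 hs hsn
      obtain ⟨D, hD, σ, hσ⟩ := H x ⟨1, hx1⟩ hx2
      have hT : (Matrix.toLinAlgEquiv' (x : Matrix (Fin n) (Fin n) F)) ^ r = 1 := by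
        rw [pow_scalar r hx1, one_smul]
      refine ⟨_, D, σ, P, hT, fun u v h => ?_, hD, hσ, hP0, hPd, hP, hx4⟩
      have h2 := congrArg ((Matrix.toLinAlgEquiv' (x : Matrix (Fin n) (Fin n) F)) ^ (r - 1)) h
      rw [← Module.End.mul_apply, ← Module.End.mul_apply, ← pow_succ, Nat.sub_add_cancel hr.one_le, hT] at h2
      exact h2
    have hinv : ∀ {T : Module.End F (Fin n → F)} {D : Fin t → Submodule F (Fin n → F)} {σ : Equiv.Perm (Fin t)},
        (∀ j, (D j).map T = D (σ j)) → (∀ j, σ j = j) → ∀ j, ∀ v ∈ D j, T v ∈ D j := by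
      intro T D σ hσ hall j v hv
      have h := hσ j
      rw [hall j] at h
      rw [← h]
      exact ⟨v, hv, rfl⟩
    rcases Nat.lt_or_ge a 2 with ha1 | ha2
    · obtain rfl : a = 1 := by omega
      left
      have hs1 : 1 ≤ n / c := Nat.div_pos hcn hc0
      obtain ⟨T, D, σ, P, hT, hinj, hD, hσ, hP0, hPd, hP, he⟩ := key (n / c) hs1 (Nat.div_mul_le_self n c)
      have hmov : ∃ j, σ j ≠ j := by
        by_contra hno
        push Not at hno
        have h := (fixed_sum_le (p := p) hr hrp T hT hD (hinv hσ hno)).2 (by rw [← hc]; omega)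
        have := Nat.mul_pos hs1 hc0
        omega
      obtain ⟨j, hj⟩ := hmov
      have hd := degree_ge_of_moved hD hσ hr hT hinj hj hP0 hP
      have hcr' : c = r - 1 := by omega
      refine ⟨rfl, by omega, hcr', ?_⟩
      have h := lines_bound hD hσ hr hT (CfsgLib.GLClassNumber.natCast_ne_zero_of_prime_ne (F := F) (p := p) hr hrp)
        (fun s hs => root_unity_one hr (hndvd h2) hs)
      rw [he, show n - n / c * c = n % c by omega] at h
      rw [mul_comm]
      have : t = n := by omega
      omega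
    · by_cases hca : c ≤ a
      · right
        refine ⟨hca, ?_⟩
        obtain ⟨T, D, σ, P, hT, hinj, hD, hσ, hP0, hPd, hP, he⟩ :=
          key (n / c) (Nat.div_pos hcn hc0) (Nat.div_mul_le_self n c)
        have hall : ∀ j, σ j = j := by
          by_contra hno
          push Not at hno
          obtain ⟨j, hj⟩ := hno
          have := fixed_ge_of_moved hD hσ hr hT hj
          omega
        have h := (fixed_sum_le (p := p) hr hrp T hT hD (hinv hσ hall)).1
        rw [← hc, he, show n - n / c * c = n % c by omega] at h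
        have hm : n % c = (t * (a % c)) % c := by
          rw [hat, mul_comm a t, Nat.mul_mod_mod]
        rw [hm] at h ⊢
        exact le_antisymm (Nat.mod_le _ _) h
      · exfalso
        obtain ⟨T, D, σ, P, hT, hinj, hD, hσ, hP0, hPd, hP, he⟩ := key 1 le_rfl (by omega)
        by_cases hall : ∀ j, σ j = j
        · have h := (fixed_sum_le (p := p) hr hrp T hT hD (hinv hσ hall)).2 (by rw [← hc]; omega)
          omega
        · push Not at hall
          obtain ⟨j, hj⟩ := hall
          have h := range_ge_of_moved hD hσ hr hT hinj hj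
          have hrn := LinearMap.finrank_range_add_finrank_ker (T - 1)
          rw [Module.finrank_fin_fun] at hrn
          have h' : 2 * (r - 1) ≤ a * (r - 1) := Nat.mul_le_mul_right _ ha2
          omega
  · rintro hcase x ⟨z, hz⟩ -
    set T := Matrix.toLinAlgEquiv' (x : Matrix (Fin n) (Fin n) F) with hTdef
    have hT : T ^ r = z • 1 := pow_scalar r hz
    have hdetT : LinearMap.det T = 1 := by
      show LinearMap.det (Matrix.toLin' (x : Matrix (Fin n) (Fin n) F)) = 1
      rw [LinearMap.det_toLin', x.2]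
    have hinj : Function.Injective T := by
      show Function.Injective (Matrix.toLin' (x : Matrix (Fin n) (Fin n) F))
      rw [Matrix.toLin'_apply']
      exact Matrix.mulVec_injective_iff_isUnit.mpr
        ((Matrix.isUnit_iff_isUnit_det _).mpr (by rw [x.2]; exact isUnit_one))
    by_cases hpow : ∃ b : F, b ^ r = z
    · obtain ⟨b, rfl⟩ := hpow
      have hb : b ≠ 0 := fun e => by
        have := congrArg LinearMap.det hT
        rw [map_pow, hdetT, one_pow, e, zero_pow hr.ne_zero, LinearMap.det_smul, Module.finrank_fin_fun,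
          zero_pow (by omega : n ≠ 0), zero_mul] at this
        exact one_ne_zero this
      have hT1 : (b⁻¹ • T) ^ r = 1 := by
        rw [_root_.smul_pow, hT, smul_smul, ← mul_pow, inv_mul_cancel₀ hb, one_pow, one_smul]
      suffices ∃ D : Fin t → Submodule F (Fin n → F), Cfsg.Geo.IsMDecomposition a D ∧
          ∃ σ : Equiv.Perm (Fin t), ∀ j, (D j).map (b⁻¹ • T) = D (σ j) by
        obtain ⟨D, hD, σ, hσ⟩ := this
        refine ⟨D, hD, σ, fun j => ?_⟩
        show (D j).map T = _
        rw [← hσ j, Submodule.map_smul _ _ _ (inv_ne_zero hb)]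
      set e := finrank F (LinearMap.ker (b⁻¹ • T - 1))
      have he : n % c ≤ e := by
        obtain ⟨hdvd, -⟩ := dims_in_range (p := p) (b⁻¹ • T) hr hrp hT1 _ le_rfl (fun v hv => by
          obtain ⟨w, rfl⟩ := hv
          exact ⟨(b⁻¹ • T) w, by simp⟩)
        obtain ⟨s, hs⟩ := hdvd
        rw [← hc] at hs
        have hrn := LinearMap.finrank_range_add_finrank_ker (b⁻¹ • T - 1)
        rw [Module.finrank_fin_fun, hs, mul_comm] at hrn
        rw [← hrn, add_comm, Nat.add_mul_mod_self_right]
        exact Nat.mod_le _ _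
      rcases hcase with ⟨ha1, -, hcr', hnr⟩ | ⟨-, hk⟩
      · subst ha1
        obtain rfl : t = n := by omega
        refine line_blocks (p := p) hr hrp hn _ hT1 hcr' ?_
        calc t ≤ t % c * r := hnr
          _ ≤ r * e := by rw [mul_comm]; exact Nat.mul_le_mul_left r he
      · refine fixed_blocks (p := p) hr hrp hat ha ht _ hT1 ?_
        rw [← hc, ← hk]
        exact he
    · push Not at hpow
      exact twisted_blocks hr hat ha ht T hinj hpow hT

end CfsgLib.MaxSub.Elusive
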