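/-
Elements of odd prime order of `SL n` without conjugates in the similarities of a symplectic form.
-/
import Cfsg.Agent.Lib.MaxSub.ElusiveGL
import Cfsg.Agent.Lib.MaxSub.ElusiveImprim
import Cfsg.Agent.Lib.Aschbacher.Forms
import Cfsg.Agent.Lib.SemisimpleIso.Symp
import Cfsg.Agent.Lib.SLCard
import Cfsg.Agent.Lib.IsotropicSymp
import Cfsg.Agent.S0245

set_option autoImplicit false
set_option linter.unusedSectionVars false

namespace CfsgLib.MaxSub.Elusive

open Polynomial Module

universe u

variable {F : Type u} [Field F] [Fintype F] {n : ℕ}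

/-- Every symplectic space of dimension `2 d` receives the standard symplectic group. -/
theorem card_symplectic_dvd {d : ℕ} (hd : n = 2 * d) {f : (Fin n → F) → (Fin n → F) → F}
    (hf : Cfsg.Geo.IsSymplecticForm f) :
    Nat.card (Matrix.symplecticGroup (Fin d) F) ∣ Nat.card ↥((Cfsg.Geo.similarityGroup f).comap
      (Matrix.SpecialLinearGroup.toGL : Matrix.SpecialLinearGroup (Fin n) F →* GL (Fin n) F)) := by
  classical
  have hbil := hf.bilinear
  set G := Cfsg.Geo.gramMatrix f
  have hdot : ∀ u v, f u v = u ⬝ᵥ (G.mulVec v) := fun u v =>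
    (CfsgLib.Aschbacher.isSesq_of_bilinear hbil).eq_dot u v
  let G' : Matrix (Fin n ⊕ (Fin d ⊕ Fin d)) (Fin n ⊕ (Fin d ⊕ Fin d)) F := Matrix.fromBlocks G 0 0 (Matrix.J (Fin d) F)
  have hsplit : ∀ u v u' v', CfsgLib.SemisimpleIso.bil G' (Sum.elim u u') (Sum.elim v v') =
      f u v + Cfsg.sympForm d F u' v' := by
    intro u v u' v'
    rw [CfsgLib.SemisimpleIso.bil, Matrix.fromBlocks_mulVec, hdot, Cfsg.sympForm]
    simp [dotProduct, Fintype.sum_sum_type]
  have halt' : ∀ w : Fin d ⊕ Fin d → F, Cfsg.sympForm d F w w = 0 := fun w => by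
    rw [← CfsgLib.IsotropicCount.sympB_apply]; exact CfsgLib.IsotropicCount.sympB_alt w
  have halt : ∀ x, CfsgLib.SemisimpleIso.bil G' x x = 0 := fun x => by
    rw [← Sum.elim_comp_inl_inr x, hsplit, hf.alternating, halt', add_zero]
  let inj2 : (Fin d ⊕ Fin d → F) →ₗ[F] (Fin n ⊕ (Fin d ⊕ Fin d) → F) :=
    { toFun := fun w => Sum.elim 0 w
      map_add' := fun a b => funext fun i => by cases i <;> simp
      map_smul' := fun c a => funext fun i => by cases i <;> simp }
  let inj1 : (Fin n → F) →ₗ[F] (Fin n ⊕ (Fin d ⊕ Fin d) → F) :=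
    { toFun := fun w => Sum.elim w 0
      map_add' := fun a b => funext fun i => by cases i <;> simp
      map_smul' := fun c a => funext fun i => by cases i <;> simp }
  have h1i : Function.Injective inj1 := fun a b h => funext fun i => congrFun h (Sum.inl i)
  have h2i : Function.Injective inj2 := fun a b h => funext fun i => congrFun h (Sum.inr i)
  have hzero1 : ∀ u, Cfsg.sympForm d F u 0 = 0 := fun u => by rw [Cfsg.sympForm]; simp
  have hzero2 : ∀ u, f u 0 = 0 := fun u => by rw [hdot]; simp
  have hsf : ∀ a b, CfsgLib.SemisimpleIso.bil G' (inj2 a) (inj2 b) = Cfsg.sympForm d F a b := fun a b => by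
    show CfsgLib.SemisimpleIso.bil G' (Sum.elim 0 a) (Sum.elim 0 b) = _
    rw [hsplit, hzero2, zero_add]
  have hff : ∀ a b, CfsgLib.SemisimpleIso.bil G' (inj1 a) (inj1 b) = f a b := fun a b => by
    show CfsgLib.SemisimpleIso.bil G' (Sum.elim a 0) (Sum.elim b 0) = _
    rw [hsplit, hzero1, add_zero]
  obtain ⟨φ, hφP, hφ⟩ := CfsgLib.SemisimpleIso.exists_iso_alt halt (2 * d) (LinearMap.range inj2) (LinearMap.range inj1)
    (by rw [LinearMap.finrank_range_of_inj h2i]; simp [two_mul])
    (by rw [LinearMap.finrank_range_of_inj h1i, Module.finrank_fin_fun, hd])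
    (by
      rintro _ ⟨a, rfl⟩ h
      by_contra h0
      have ha : a ≠ 0 := fun e => h0 (by rw [e, map_zero])
      refine ha (CfsgLib.IsotropicCount.sympB_nondeg.1 a fun b => ?_)
      rw [CfsgLib.IsotropicCount.sympB_apply, ← hsf]
      exact h _ ⟨b, rfl⟩)
    (by
      rintro _ ⟨a, rfl⟩ h
      by_contra h0
      have ha : a ≠ 0 := fun e => h0 (by rw [e, map_zero])
      obtain ⟨-, b, hb⟩ := hf.nondegenerate a ha
      exact hb (by rw [← hff]; exact h _ ⟨b, rfl⟩))
  let ψ : (Fin d ⊕ Fin d → F) →ₗ[F] (Fin n → F) :=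
    { toFun := fun w => fun i => φ ⟨inj2 w, w, rfl⟩ (Sum.inl i)
      map_add' := fun a b => funext fun i => by
        have : (⟨inj2 (a + b), a + b, rfl⟩ : LinearMap.range inj2) = ⟨inj2 a, a, rfl⟩ + ⟨inj2 b, b, rfl⟩ :=
          Subtype.ext (map_add inj2 a b)
        show φ ⟨inj2 (a + b), a + b, rfl⟩ (Sum.inl i) = _
        rw [this, map_add]
        rfl
      map_smul' := fun c a => funext fun i => by
        have : (⟨inj2 (c • a), c • a, rfl⟩ : LinearMap.range inj2) = c • ⟨inj2 a, a, rfl⟩ :=
          Subtype.ext (map_smul inj2 c a)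
        show φ ⟨inj2 (c • a), c • a, rfl⟩ (Sum.inl i) = _
        rw [this, map_smul]
        rfl }
  have hψ : ∀ a b, f (ψ a) (ψ b) = Cfsg.sympForm d F a b := by
    intro a b
    have hin : ∀ w, φ ⟨inj2 w, w, rfl⟩ = inj1 (ψ w) := by
      intro w
      obtain ⟨z, hz⟩ := hφP ⟨inj2 w, w, rfl⟩
      funext i
      rcases i with i | i
      · rfl
      · rw [← hz]; rfl
    rw [← hff, ← hin, ← hin, hφ, hsf]
  have hψi : Function.Injective ψ := (injective_iff_map_eq_zero ψ).mpr fun a ha => by
    refine CfsgLib.IsotropicCount.sympB_nondeg.1 a fun b => ?_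
    rw [CfsgLib.IsotropicCount.sympB_apply, ← hψ, ha, hdot]
    simp
  let e : (Fin d ⊕ Fin d → F) ≃ₗ[F] (Fin n → F) :=
    LinearEquiv.ofBijective ψ ⟨hψi, (LinearMap.injective_iff_surjective_of_finrank_eq_finrank
      (by rw [Module.finrank_fintype_fun_eq_card, Module.finrank_fintype_fun_eq_card]; simp [hd, two_mul])).mp hψi⟩
  let hom : ↥(Matrix.symplecticGroup (Fin d) F) →* Matrix.SpecialLinearGroup (Fin n) F :=
    { toFun := fun A => ⟨LinearMap.toMatrixAlgEquiv' (e.conjAlgEquiv F (Matrix.toLinAlgEquiv' A.1)), by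
        show (LinearMap.toMatrix' (e.conjAlgEquiv F (Matrix.toLinAlgEquiv' A.1))).det = 1
        rw [LinearMap.det_toMatrix', LinearEquiv.conjAlgEquiv_apply]
        refine (LinearMap.det_conj (Matrix.toLinAlgEquiv' A.1) e).trans ?_
        show LinearMap.det (Matrix.toLin' A.1) = 1
        rw [LinearMap.det_toLin', SymplecticGroup.det_eq_one A.2]⟩
      map_one' := Subtype.ext (by
        show LinearMap.toMatrixAlgEquiv' (e.conjAlgEquiv F (Matrix.toLinAlgEquiv' (1 : Matrix _ _ F))) = _
        rw [map_one, map_one, map_one]; rfl)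
      map_mul' := fun A B => Subtype.ext (by
        show LinearMap.toMatrixAlgEquiv' (e.conjAlgEquiv F (Matrix.toLinAlgEquiv' (A.1 * B.1))) = _
        rw [map_mul, map_mul, map_mul]; rfl) }
  have hmem : ∀ A, hom A ∈ (Cfsg.Geo.similarityGroup f).comap
      (Matrix.SpecialLinearGroup.toGL : Matrix.SpecialLinearGroup (Fin n) F →* GL (Fin n) F) := by
    intro A
    refine ⟨1, fun u v => ?_⟩
    have hv : ∀ u, (hom A : Matrix (Fin n) (Fin n) F).mulVec u = ψ (A.1.mulVec (e.symm u)) := fun u => by
      show (LinearMap.toMatrix' (e.conjAlgEquiv F (Matrix.toLinAlgEquiv' A.1))).mulVec u = _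
      rw [LinearMap.toMatrix'_mulVec, LinearEquiv.conjAlgEquiv_apply]
      rfl
    show f ((hom A : Matrix (Fin n) (Fin n) F).mulVec u) ((hom A : Matrix (Fin n) (Fin n) F).mulVec v) = _
    rw [Units.val_one, one_mul, hv, hv, hψ]
    refine (CfsgLib.IsotropicCount.symp_preserves A _ _).trans ?_
    rw [← hψ,
      show ψ (e.symm u) = u from e.apply_symm_apply u, show ψ (e.symm v) = v from e.apply_symm_apply v]
  refine Subgroup.card_dvd_of_injective (hom.codRestrict _ hmem) fun A B h => Subtype.ext ?_
  exact Matrix.toLinAlgEquiv'.injective ((e.conjAlgEquiv F).injective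
    (LinearMap.toMatrixAlgEquiv'.injective (congrArg Subtype.val (congrArg Subtype.val h))))

variable {p r : ℕ} [Fact p.Prime] [CharP F p]

theorem sum_even_terms (g : ℕ → ℕ) (hg : ∀ k, g (2 * k + 1) = 0) (d : ℕ) :
    ∑ k ∈ Finset.range (2 * d), g (k + 1) = ∑ k ∈ Finset.range d, g (2 * (k + 1)) := by
  induction d with
  | zero => simp
  | succ d ih =>
    rw [show 2 * (d + 1) = 2 * d + 1 + 1 by ring, Finset.sum_range_succ, Finset.sum_range_succ, ih, hg, add_zero,
      Finset.sum_range_succ, show 2 * d + 1 + 1 = 2 * (d + 1) by ring]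

theorem order_facts {d : ℕ} (hd : n = 2 * d) (hn : 4 ≤ n) {f : (Fin n → F) → (Fin n → F) → F}
    (hf : Cfsg.Geo.IsSymplecticForm f) (hr : r.Prime) (hrp : r ≠ p)
    (hΩ : r ∣ ((Cfsg.Geo.similarityGroup f).comap (Matrix.SpecialLinearGroup.toGL : Matrix.SpecialLinearGroup (Fin n) F →* GL (Fin n) F)).index) :
    orderOf (Fintype.card F : ZMod r) ≤ n ∧ ¬ Even (orderOf (Fintype.card F : ZMod r)) := by
  classical
  haveI := Fact.mk hr
  set H := (Cfsg.Geo.similarityGroup f).comap (Matrix.SpecialLinearGroup.toGL : Matrix.SpecialLinearGroup (Fin n) F →* GL (Fin n) F)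
  set q := Fintype.card F
  set i := orderOf (q : ZMod r)
  have hq1 : 1 < q := Fintype.one_lt_card
  have hdvd : ∀ k, r ∣ q ^ k - 1 → i ∣ k := fun k h => by
    refine orderOf_dvd_of_pow_eq_one ?_
    have := (ZMod.natCast_eq_zero_iff _ _).mpr h
    rw [Nat.cast_sub (Nat.one_le_pow _ _ (by omega)), sub_eq_zero] at this
    push_cast at this
    exact this
  have hqr : ¬ r ∣ q := fun h => hrp ((dvd_q_iff (F := F) hr).mp h)
  have hfq : ∀ k, (q ^ k).factorization r = 0 := fun k => by
    rw [Nat.factorization_pow, Finsupp.smul_apply, Nat.factorization_eq_zero_of_not_dvd hqr, smul_zero]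
  have hne : ∀ k, 1 ≤ k → q ^ k - 1 ≠ 0 := fun k hk =>
    (Nat.sub_pos_of_lt (Nat.one_lt_pow (by omega) hq1)).ne'
  have hGL : (Nat.card (GL (Fin n) F)).factorization r = ∑ k ∈ Finset.range n, (q ^ (k + 1) - 1).factorization r := by
    rw [Matrix.card_GL_field, Nat.factorization_prod_apply fun (j : Fin n) _ =>
      (Nat.sub_pos_of_lt (Nat.pow_lt_pow_right hq1 j.2)).ne',
      Fin.sum_univ_eq_sum_range (fun j => (q ^ n - q ^ j).factorization r), ← Finset.sum_range_reflect]
    refine Finset.sum_congr rfl fun k hk => ?_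
    have hkn := Finset.mem_range.mp hk
    rw [q_pow_factor (Nat.sub_le _ _ |>.trans (Nat.sub_le _ _)), Nat.factorization_mul (pow_ne_zero _ (by omega)) (hne _ (by omega)),
      Finsupp.add_apply, hfq, zero_add, show n - (n - 1 - k) = k + 1 by omega]
  have hSL := CfsgLib.SLCard.card_units_mul_card_SL (F := F) (n := n) (by omega)
  have hidx : H.index * Nat.card H = Nat.card (Matrix.SpecialLinearGroup (Fin n) F) := H.index_mul_card
  have hH0 : Nat.card H ≠ 0 := Nat.card_pos.ne'
  have hI0 : H.index ≠ 0 := Subgroup.index_ne_zero_of_finite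
  have hv : (H.index).factorization r + (Nat.card H).factorization r + (q - 1).factorization r =
      ∑ k ∈ Finset.range n, (q ^ (k + 1) - 1).factorization r := by
    rw [← hGL, ← hSL, Nat.factorization_mul (by omega) (by rw [← hidx]; exact mul_ne_zero hI0 hH0), ← hidx,
      Nat.factorization_mul hI0 hH0]
    simp only [Finsupp.add_apply]
    ring
  have hpos : 0 < (H.index).factorization r := hr.factorization_pos_of_dvd hI0 hΩ
  refine ⟨?_, fun hev => ?_⟩
  · by_contra hlt
    push Not at hlt
    have : ∑ k ∈ Finset.range n, (q ^ (k + 1) - 1).factorization r = 0 :=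
      Finset.sum_eq_zero fun k hk => Nat.factorization_eq_zero_of_not_dvd fun h => by
        have := Nat.le_of_dvd (Nat.succ_pos k) (hdvd _ h)
        have := Finset.mem_range.mp hk
        omega
    omega
  · have hodd : ∀ k, (q ^ (2 * k + 1) - 1).factorization r = 0 := fun k =>
      Nat.factorization_eq_zero_of_not_dvd fun h =>
        Nat.not_even_two_mul_add_one k (even_iff_two_dvd.mpr (hev.two_dvd.trans (hdvd _ h)))
    have hsp : (Nat.card (Matrix.symplecticGroup (Fin d) F)).factorization r =
        ∑ k ∈ Finset.range d, (q ^ (2 * (k + 1)) - 1).factorization r := by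
      rw [Cfsg.Agent.S0245.result (q := q) rfl, Nat.factorization_mul (pow_ne_zero _ (by omega))
        (Finset.prod_ne_zero_iff.mpr fun k _ => hne _ (by omega)), Finsupp.add_apply, hfq, zero_add,
        Nat.factorization_prod_apply fun k _ => hne _ (by omega)]
    have hle := (Nat.factorization_le_iff_dvd Nat.card_pos.ne' hH0).mpr (card_symplectic_dvd hd hf) r
    rw [show Finset.range n = Finset.range (2 * d) by rw [hd],
      sum_even_terms (fun k => (q ^ k - 1).factorization r) hodd, ← hsp] at hv
    omega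

/-! ### Maps that are no similarities -/

theorem no_conj {x : Matrix.SpecialLinearGroup (Fin n) F}
    (h : ∀ f' : (Fin n → F) → (Fin n → F) → F, Cfsg.Geo.IsSymplecticForm f' → ∀ c : F,
      ¬ ∀ u v, f' ((x : Matrix (Fin n) (Fin n) F).mulVec u) ((x : Matrix (Fin n) (Fin n) F).mulVec v) = c * f' u v)
    {f : (Fin n → F) → (Fin n → F) → F} (hf : Cfsg.Geo.IsSymplecticForm f) (P : Matrix.SpecialLinearGroup (Fin n) F) :
    P⁻¹ * x * P ∉ (Cfsg.Geo.similarityGroup f).comap (Matrix.SpecialLinearGroup.toGL : Matrix.SpecialLinearGroup (Fin n) F →* GL (Fin n) F) := by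
  rintro ⟨c, hc⟩
  set M : Matrix (Fin n) (Fin n) F := ((P⁻¹ : Matrix.SpecialLinearGroup (Fin n) F) : Matrix (Fin n) (Fin n) F)
  have hPM : (P : Matrix (Fin n) (Fin n) F) * M = 1 := by
    rw [← Matrix.SpecialLinearGroup.coe_mul, mul_inv_cancel, Matrix.SpecialLinearGroup.coe_one]
  have hMP : M * (P : Matrix (Fin n) (Fin n) F) = 1 := by
    rw [← Matrix.SpecialLinearGroup.coe_mul, inv_mul_cancel, Matrix.SpecialLinearGroup.coe_one]
  have hM0 : ∀ v : Fin n → F, v ≠ 0 → M.mulVec v ≠ 0 := fun v hv e => hv (by
    have := congrArg (P : Matrix (Fin n) (Fin n) F).mulVec e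
    rwa [Matrix.mulVec_mulVec, hPM, Matrix.one_mulVec, Matrix.mulVec_zero] at this)
  refine h (fun u v => f (M.mulVec u) (M.mulVec v))
    ⟨⟨fun a b v => by rw [Matrix.mulVec_add, hf.bilinear.add_left],
      fun s a v => by rw [Matrix.mulVec_smul, hf.bilinear.smul_left],
      fun v a b => by rw [Matrix.mulVec_add, hf.bilinear.add_right],
      fun s v a => by rw [Matrix.mulVec_smul, hf.bilinear.smul_right]⟩,
      fun v w => hf.skew _ _, fun v => hf.alternating _, fun v hv => ?_⟩ c fun u v => ?_
  · obtain ⟨⟨a, ha⟩, b, hb⟩ := hf.nondegenerate _ (hM0 v hv)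
    exact ⟨⟨(P : Matrix (Fin n) (Fin n) F).mulVec a, by rwa [Matrix.mulVec_mulVec a, hMP, Matrix.one_mulVec]⟩,
      (P : Matrix (Fin n) (Fin n) F).mulVec b, by rwa [Matrix.mulVec_mulVec b, hMP, Matrix.one_mulVec]⟩
  · have h1 : ((P⁻¹ * x * P : Matrix.SpecialLinearGroup (Fin n) F) : Matrix (Fin n) (Fin n) F) * M =
        M * (x : Matrix (Fin n) (Fin n) F) := by
      rw [Matrix.SpecialLinearGroup.coe_mul, Matrix.SpecialLinearGroup.coe_mul, mul_assoc, hPM, mul_one]
    have h2 := hc (M.mulVec u) (M.mulVec v)
    change f (((P⁻¹ * x * P : Matrix.SpecialLinearGroup (Fin n) F) : Matrix (Fin n) (Fin n) F).mulVec (M.mulVec u))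
      (((P⁻¹ * x * P : Matrix.SpecialLinearGroup (Fin n) F) : Matrix (Fin n) (Fin n) F).mulVec (M.mulVec v)) = _ at h2
    rw [Matrix.mulVec_mulVec, Matrix.mulVec_mulVec, h1, ← Matrix.mulVec_mulVec, ← Matrix.mulVec_mulVec] at h2
    exact h2

theorem multiplier_pow {f : (Fin n → F) → (Fin n → F) → F} (hf : Cfsg.Geo.IsSymplecticForm f) (hn : 0 < n)
    (T : Module.End F (Fin n → F)) {c : F} (h : ∀ u v, f (T u) (T v) = c * f u v) {k : ℕ} (hT : T ^ k = 1) :
    c ^ k = 1 := by
  have hk : ∀ (j : ℕ) u v, f ((T ^ j) u) ((T ^ j) v) = c ^ j * f u v := by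
    intro j
    induction j with
    | zero => intro u v; simp
    | succ j ih => intro u v; rw [pow_succ', Module.End.mul_apply, Module.End.mul_apply, h, ih, pow_succ']; ring
  obtain ⟨-, b, hb⟩ := hf.nondegenerate (Pi.single ⟨0, hn⟩ 1) (by simp)
  have h' := hk k (Pi.single ⟨0, hn⟩ 1) b
  rw [hT, Module.End.one_apply, Module.End.one_apply] at h'
  exact (mul_eq_right₀ hb).mp h'.symm

/-- The moved part of an isometry of order prime to the characteristic has even dimension. -/
theorem even_range {f : (Fin n → F) → (Fin n → F) → F} (hf : Cfsg.Geo.IsSymplecticForm f)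
    (T : Module.End F (Fin n → F)) (hr : r.Prime) (hrp : r ≠ p) (hT : T ^ r = 1) (h : ∀ u v, f (T u) (T v) = f u v) :
    Even (finrank F (LinearMap.range (T - 1))) := by
  refine CfsgLib.Aschbacher.even_finrank_of_alternating hf.bilinear hf.alternating _ _ rfl fun w hw hw0 => ?_
  by_contra hno
  push Not at hno
  obtain ⟨-, b, hb⟩ := hf.nondegenerate w hw0
  have htop : LinearMap.ker (T - 1) ⊔ LinearMap.range (T - 1) = ⊤ := by
    refine Submodule.eq_top_of_finrank_eq ?_
    have h1 := Submodule.finrank_sup_add_finrank_inf_eq (LinearMap.ker (T - 1)) (LinearMap.range (T - 1))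
    rw [ker_inf_range (p := p) T hr hrp hT, finrank_bot, add_zero] at h1
    have h2 := LinearMap.finrank_range_add_finrank_ker (T - 1)
    omega
  obtain ⟨e, he, w', hw', rfl⟩ := Submodule.mem_sup.mp (htop ▸ Submodule.mem_top : b ∈ _)
  refine hb ?_
  obtain ⟨z, rfl⟩ := hw
  have hfix : T e = e := sub_eq_zero.mp he
  have h0 : f ((T - 1) z) e = 0 := by
    have h1 := h z e
    rw [hfix] at h1
    rw [LinearMap.sub_apply, Module.End.one_apply, sub_eq_add_neg, hf.bilinear.add_left, h1,
      show f (-z) e = - f z e by rw [← neg_one_smul F z, hf.bilinear.smul_left, neg_one_mul], add_neg_cancel]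
  rw [hf.bilinear.add_right, h0, hno w' hw', add_zero]

/-- Diagonal similarities pair the eigenvalues. -/
theorem diag_counts {f : (Fin n → F) → (Fin n → F) → F} (hf : Cfsg.Geo.IsSymplecticForm f) {dd : Fin n → F} {c : F}
    (h : ∀ u v, f ((Matrix.diagonal dd).mulVec u) ((Matrix.diagonal dd).mulVec v) = c * f u v)
    (hd : ∀ a, dd a ≠ 0) [DecidableEq F] (x : F) :
    (Finset.univ.filter fun a => dd a = x).card ≤ (Finset.univ.filter fun a => dd a = c / x).card := by
  classical
  set S := Finset.univ.filter fun a => dd a = x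
  set S' := Finset.univ.filter fun a => dd a = c / x
  have hsupp : ∀ a ∈ S, ∀ b, b ∉ S' → f (Pi.single a 1) (Pi.single b 1) = 0 := by
    intro a ha b hb
    have h' := h (Pi.single a 1) (Pi.single b 1)
    rw [Matrix.diagonal_mulVec_single, Matrix.diagonal_mulVec_single, mul_one, mul_one,
      show Pi.single a (dd a) = dd a • (Pi.single a (1 : F) : Fin n → F) by rw [← Pi.single_smul, smul_eq_mul, mul_one],
      show Pi.single b (dd b) = dd b • (Pi.single b (1 : F) : Fin n → F) by rw [← Pi.single_smul, smul_eq_mul, mul_one],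
      hf.bilinear.smul_left, hf.bilinear.smul_right, ← mul_assoc] at h'
    by_contra h0
    have hax : dd a = x := (Finset.mem_filter.mp ha).2
    refine hb (Finset.mem_filter.mpr ⟨Finset.mem_univ b, ?_⟩)
    rw [eq_div_iff (hax ▸ hd a), mul_comm, ← hax]
    exact mul_right_cancel₀ h0 h'
  let L : (S → F) →ₗ[F] (S' → F) :=
    { toFun := fun v b => ∑ a : S, v a * f (Pi.single a.1 1) (Pi.single b.1 1)
      map_add' := fun v w => funext fun b => by simp [add_mul, Finset.sum_add_distrib]
      map_smul' := fun s v => funext fun b => by simp [Finset.mul_sum, mul_assoc] }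
  have hL : Function.Injective L := (injective_iff_map_eq_zero L).mpr fun v hv => by
    let w : Fin n → F := ∑ a : S, v a • Pi.single a.1 (1 : F)
    have hwb : ∀ b, f w (Pi.single b 1) = ∑ a : S, v a * f (Pi.single a.1 1) (Pi.single b 1) := by
      intro b
      let φ : (Fin n → F) →ₗ[F] F :=
        { toFun := fun u => f u (Pi.single b 1)
          map_add' := fun a a' => hf.bilinear.add_left a a' _
          map_smul' := fun s a => hf.bilinear.smul_left s a _ }
      show φ w = _
      rw [map_sum]
      exact Finset.sum_congr rfl fun a _ => map_smul φ _ _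
    have hw : w = 0 := by
      by_contra hw0
      obtain ⟨-, u, hu⟩ := hf.nondegenerate w hw0
      let φ : (Fin n → F) →ₗ[F] F :=
        { toFun := fun u => f w u
          map_add' := fun a a' => hf.bilinear.add_right _ a a'
          map_smul' := fun s a => hf.bilinear.smul_right s _ a }
      refine hu (show φ u = 0 from ?_)
      rw [show φ = 0 from (Pi.basisFun F (Fin n)).ext fun b => ?_]
      · rfl
      rw [Pi.basisFun_apply, LinearMap.zero_apply]
      show f w (Pi.single b 1) = 0
      rw [hwb]
      by_cases hb : b ∈ S'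
      · exact congrFun hv ⟨b, hb⟩
      · exact Finset.sum_eq_zero fun a _ => by rw [hsupp a.1 a.2 b hb, mul_zero]
    funext a
    have := congrFun hw a.1
    simp only [w, Finset.sum_apply, Pi.smul_apply, smul_eq_mul] at this
    rw [Finset.sum_eq_single a (fun b _ hb => by rw [Pi.single_eq_of_ne (fun e => hb (Subtype.ext e.symm)), mul_zero])
      (fun h => absurd (Finset.mem_univ a) h)] at this
    simpa using this
  have := LinearMap.finrank_le_finrank_of_injective hL
  simpa [Module.finrank_fintype_fun_eq_card] using this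

/-! ### The criterion -/

theorem counts_absurd {n r s : ℕ} (hn : 4 ≤ n) (he : Even n) (hr : r.Prime) (hr2 : r ≠ 2) (hgap : ¬ (n = 6 ∧ r = 3))
    (hs : s < r) (C : ℕ → ℕ)
    (hC : ∀ e, C e = (if e = 1 then 2 else 0) + (if e = r - 2 then 1 else 0) + (if e = 0 then n - 3 else 0))
    (e0 : C 0 = C s) (e1 : C 1 = C (if s = 0 then r - 1 else s - 1)) : False := by
  obtain ⟨d, hd⟩ := he
  have hr3 : 3 ≤ r := by have := hr.two_le; omega
  by_cases h3 : r = 3
  · subst h3
    interval_cases s <;> simp [hC] at e0 e1 <;> omega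
  have h5 : 5 ≤ r := by
    by_contra h
    interval_cases r
    · exact h3 rfl
    · norm_num at hr
  have z : ∀ e, e ≠ 1 → e ≠ r - 2 → e ≠ 0 → C e = 0 := fun e a b c => by
    rw [hC, if_neg a, if_neg b, if_neg c]
  have c1 : C 1 = 2 := by rw [hC, if_pos rfl, if_neg (by omega), if_neg one_ne_zero]
  have c0 : C 0 = n - 3 := by rw [hC, if_neg zero_ne_one, if_neg (by omega), if_pos rfl, zero_add, zero_add]
  have c2 : C (r - 2) = 1 := by rw [hC, if_neg (by omega), if_pos rfl, if_neg (by omega)]
  rcases Nat.eq_zero_or_pos s with h0 | h0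
  · rw [if_pos h0, c1, z _ (by omega) (by omega) (by omega)] at e1
    omega
  · rw [if_neg (by omega)] at e1
    by_cases h1 : s = 1
    · rw [h1, c0, c1] at e0
      omega
    by_cases h2 : s = r - 2
    · rw [h2, c1, z _ (by omega) (by omega) (by omega)] at e1
      omega
    rw [c0, z s h1 h2 (by omega)] at e0
    omega

set_option maxHeartbeats 1600000 in
theorem sp_derangement (p : ℕ) [Fact p.Prime] [CharP F p] (hn : 4 ≤ n) (he : Even n) {f : (Fin n → F) → (Fin n → F) → F} (hf : Cfsg.Geo.IsSymplecticForm f)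
    (hr : r.Prime) (hr2 : r ≠ 2) (hgap : ¬ (n = 6 ∧ r = 3))
    (hΩ : r ∣ ((Cfsg.Geo.similarityGroup f).comap (Matrix.SpecialLinearGroup.toGL : Matrix.SpecialLinearGroup (Fin n) F →* GL (Fin n) F)).index) :
    ∃ x : Matrix.SpecialLinearGroup (Fin n) F,
      (∃ z : F, ((x ^ r : Matrix.SpecialLinearGroup (Fin n) F) : Matrix (Fin n) (Fin n) F) = z • (1 : Matrix (Fin n) (Fin n) F)) ∧
      (∀ z : F, (x : Matrix (Fin n) (Fin n) F) ≠ z • (1 : Matrix (Fin n) (Fin n) F)) ∧
      ∀ P : Matrix.SpecialLinearGroup (Fin n) F, P⁻¹ * x * P ∉ ((Cfsg.Geo.similarityGroup f).comap (Matrix.SpecialLinearGroup.toGL : Matrix.SpecialLinearGroup (Fin n) F →* GL (Fin n) F)) := by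
  classical
  haveI := Fact.mk hr
  have hr3 : 3 ≤ r := by have := hr.two_le; omega
  obtain ⟨d, hd⟩ := he
  have hd' : n = 2 * d := by omega
  by_cases hrp : r = p
  · -- a unipotent element with one block of size three
    haveI : CharP F r := hrp ▸ ‹CharP F p›
    let e : Fin n → Fin n → Matrix (Fin n) (Fin n) F := fun a b => Matrix.single a b 1
    set a : Fin n := ⟨0, by omega⟩
    set b : Fin n := ⟨1, by omega⟩
    set c : Fin n := ⟨2, by omega⟩
    have hab : a ≠ b := by simp [a, b]
    have hac : a ≠ c := by simp [a, c]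
    have hbc : b ≠ c := by simp [b, c]
    set N := e a b + e b c with hN
    have hN2 : N * N = e a c := by
      simp [hN, e, add_mul, mul_add, Matrix.single_mul_single_same, Matrix.single_mul_single_of_ne, hab.symm, hbc.symm, hac.symm]
    have hN3 : N ^ 3 = 0 := by
      rw [show N ^ 3 = N * N * N by rw [pow_succ, pow_two], hN2]
      simp [hN, e, mul_add, Matrix.single_mul_single_of_ne, hac.symm, hbc.symm]
    have hdet : (1 + N).det = 1 := by
      rw [Matrix.det_of_isUpperTriangular]
      · refine Finset.prod_eq_one fun i _ => ?_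
        simp [hN, e, Matrix.single_apply]
        split_ifs with h1 h2 <;> simp_all
      · intro i j hij
        simp [hN, e, Matrix.single_apply, Matrix.one_apply]
        have hij' : (j : ℕ) < i := hij
        split_ifs <;> simp_all [a, b, c, Fin.ext_iff] <;> omega
    haveI : CharP (Matrix (Fin n) (Fin n) F) r := by
      haveI : Nonempty (Fin n) := ⟨a⟩
      exact charP_of_injective_algebraMap (algebraMap F _).injective r
    let x : Matrix.SpecialLinearGroup (Fin n) F := ⟨1 + N, hdet⟩
    have hpow : (1 + N) ^ r = 1 := by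
      rw [add_pow_char_of_commute (p := r) (h := Commute.one_left N), one_pow, pow_eq_zero_of_le hr3 hN3, add_zero]
    refine ⟨x, ⟨1, by rw [Matrix.SpecialLinearGroup.coe_pow, one_smul]; exact hpow⟩, fun z hz => ?_, no_conj ?_ hf⟩
    · have := congrFun (congrFun hz a) b
      simp [x, hN, e, Matrix.single_apply, Matrix.one_apply, hab, hab.symm, hbc.symm] at this
    · intro f' hf' c' hc'
      have hT : (Matrix.toLinAlgEquiv' (1 + N)) ^ r = 1 := by rw [← map_pow, hpow, map_one]
      have hc1 : c' = 1 := frobenius_inj F r (by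
        rw [frobenius_def, frobenius_def, multiplier_pow hf' (by omega) (Matrix.toLinAlgEquiv' (1 + N)) (fun u v => hc' u v) hT,
          one_pow])
      subst hc1
      set M := 1 - N + N * N with hM
      have hMi : (1 + N) * M = 1 := by
        rw [hM, show (1 + N) * (1 - N + N * N) = 1 + N ^ 3 by noncomm_ring, hN3, add_zero]
      have hadj : ∀ u v, f' ((1 + N).mulVec u) v = f' u (M.mulVec v) := fun u v => by
        have := hc' u (M.mulVec v)
        rw [one_mul, show (x : Matrix (Fin n) (Fin n) F) = 1 + N from rfl, Matrix.mulVec_mulVec, hMi, Matrix.one_mulVec] at this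
        exact this
      have hS : ∀ u v, f' ((1 + N - M).mulVec u) v = - f' u ((1 + N - M).mulVec v) := by
        intro u v
        have h2 : f' (M.mulVec u) v = f' u ((1 + N).mulVec v) := by
          rw [hf'.skew (M.mulVec u) v, hf'.skew u, ← hadj v u]
        have key : ∀ A B : Matrix (Fin n) (Fin n) F, ∀ u v, f' ((A - B).mulVec u) v = f' (A.mulVec u) v - f' (B.mulVec u) v ∧
            f' v ((A - B).mulVec u) = f' v (A.mulVec u) - f' v (B.mulVec u) := fun A B u v => by
          rw [Matrix.sub_mulVec, sub_eq_add_neg, ← neg_one_smul F (B.mulVec u), hf'.bilinear.add_left,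
            hf'.bilinear.add_right, hf'.bilinear.smul_left, hf'.bilinear.smul_right]
          constructor <;> ring
        rw [(key _ _ u v).1, (key _ _ v u).2, hadj, h2]
        ring
      have hS2 : (1 + N - M) * (1 + N - M) = (4 : F) • e a c := by
        rw [← hN2, hM, show (4 : F) • (N * N) = 4 * (N * N) by rw [Algebra.smul_def, map_ofNat]]
        have h4 : N * N * N = 0 := by rw [← hN3, pow_succ, pow_two]
        have : N * N * (N * N) = 0 := by rw [← mul_assoc, h4, zero_mul]
        rw [show (1 + N - (1 - N + N * N)) * (1 + N - (1 - N + N * N)) =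
          4 * (N * N) - 2 * (N * N * N) - 2 * (N * N * N) + N * N * (N * N) by noncomm_ring, h4, this]
        simp
      have hsq : ∀ u, u c * f' (Pi.single a 1) u = 0 := by
        intro u
        have h0 := hS ((1 + N - M).mulVec u) u
        rw [hf'.alternating, neg_zero, Matrix.mulVec_mulVec, hS2, Matrix.smul_mulVec, hf'.bilinear.smul_left] at h0
        have h4 : (4 : F) ≠ 0 := by
          intro h4
          have : ((4 : ℕ) : F) = 0 := by exact_mod_cast h4
          rw [CharP.cast_eq_zero_iff F r] at this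
          have := Nat.le_of_dvd (by norm_num) this
          interval_cases r
          · norm_num at *
          · exact absurd hr (by norm_num)
        have h1 := (mul_eq_zero.mp h0).resolve_left h4
        rw [show (e a c).mulVec u = u c • (Pi.single a (1 : F) : Fin n → F) by
          funext j
          by_cases hj : j = a
          · subst hj; simp [e, Matrix.mulVec, dotProduct, Matrix.single_apply]
          · simp [e, hj, Ne.symm hj, Matrix.mulVec, dotProduct, Matrix.single_apply], hf'.bilinear.smul_left] at h1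
        exact h1
      have hzero : ∀ u, f' (Pi.single a 1) u = 0 := by
        intro u
        by_cases hu : u c = 0
        · have h1 := hsq (u + Pi.single c 1)
          have h2 := hsq (Pi.single c 1)
          rw [Pi.single_eq_same, one_mul] at h2
          rw [Pi.add_apply, hu, Pi.single_eq_same, zero_add, one_mul, hf'.bilinear.add_right, h2, add_zero] at h1
          exact h1
        · exact (mul_eq_zero.mp (hsq u)).resolve_left hu
      obtain ⟨-, v, hv⟩ := hf'.nondegenerate (Pi.single a 1) (by simp)
      exact hv (hzero v)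
  · obtain ⟨hin, hodd⟩ := order_facts (p := p) hd' hn hf hr hrp hΩ
    set i := orderOf (Fintype.card F : ZMod r) with hidef
    have hi1 : i = 1 ∨ 2 ≤ i := by
      rcases i with _ | _ | k
      · exact absurd Even.zero hodd
      · exact Or.inl rfl
      · exact Or.inr (by omega)
    rcases hi1 with hi | hi
    · -- diagonal element
      have hrM : r ∣ Fintype.card F - 1 := by
        have h1 : (Fintype.card F : ZMod r) = 1 := orderOf_eq_one_iff.mp hi
        rw [← ZMod.natCast_eq_zero_iff, Nat.cast_sub Fintype.card_pos, h1, Nat.cast_one, sub_self]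
      obtain ⟨ζ, hζ⟩ : ∃ ζ : Fˣ, orderOf ζ = r :=
        exists_prime_orderOf_dvd_card' r (by rwa [Nat.card_units, Nat.card_eq_fintype_card])
      let k : Fin n → ℕ := fun a => if (a : ℕ) < 2 then 1 else if (a : ℕ) = 2 then r - 2 else 0
      let dd : Fin n → F := fun a => ((ζ ^ k a : Fˣ) : F)
      have hdd : ∀ a, dd a ≠ 0 := fun a => Units.ne_zero _
      have hval : ∀ i j : ℕ, ((ζ ^ i : Fˣ) : F) = ((ζ ^ j : Fˣ) : F) ↔ i % r = j % r := fun i j => by
        rw [Units.val_inj, pow_eq_pow_iff_modEq, hζ]; rfl
      have hk_sum : r ∣ ∑ a, k a := by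
        have : ∑ a : Fin n, k a = r := by
          rw [Fin.sum_univ_eq_sum_range (fun j => if j < 2 then 1 else if j = 2 then r - 2 else 0)]
          rw [show n = 3 + (n - 3) by omega, Finset.sum_range_add]
          have h1 : ∑ j ∈ Finset.range (n - 3), (if 3 + j < 2 then 1 else if 3 + j = 2 then r - 2 else 0) = 0 :=
            Finset.sum_eq_zero fun j _ => by rw [if_neg (by omega), if_neg (by omega)]
          rw [h1]
          simp [Finset.sum_range_succ]
          omega
        rw [this]
      have hζr : ζ ^ r = 1 := hζ ▸ pow_orderOf_eq_one ζ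
      have hdet : (Matrix.diagonal dd).det = 1 := by
        rw [Matrix.det_diagonal, ← Units.coe_prod, Finset.prod_pow_eq_pow_sum]
        obtain ⟨t, ht⟩ := hk_sum
        rw [ht, pow_mul, hζr, one_pow, Units.val_one]
      let x : Matrix.SpecialLinearGroup (Fin n) F := ⟨Matrix.diagonal dd, hdet⟩
      have hxr : (Matrix.diagonal dd) ^ r = 1 := by
        rw [Matrix.diagonal_pow, ← Matrix.diagonal_one]
        congr 1
        funext a
        show dd a ^ r = 1
        rw [← Units.val_pow_eq_pow_val, pow_right_comm, hζr, one_pow, Units.val_one]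
      refine ⟨x, ⟨1, by rw [Matrix.SpecialLinearGroup.coe_pow, one_smul]; exact hxr⟩, fun z hz => ?_, no_conj ?_ hf⟩
      · have h0 := congrFun (congrFun hz ⟨0, by omega⟩) ⟨0, by omega⟩
        have h3 := congrFun (congrFun hz ⟨3, by omega⟩) ⟨3, by omega⟩
        simp [x] at h0 h3
        have := (hval _ _).mp (h0.trans h3.symm)
        simp [k, Nat.mod_eq_of_lt (show 1 < r by omega)] at this
      · intro f' hf' c hc
        have hT : (Matrix.toLinAlgEquiv' (Matrix.diagonal dd)) ^ r = 1 := by rw [← map_pow, hxr, map_one]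
        have hcr : c ^ r = 1 := multiplier_pow hf' (by omega) _ (fun u v => hc u v) hT
        obtain ⟨s, hsr, hs⟩ : ∃ s, s < r ∧ ((ζ ^ s : Fˣ) : F) = c := by
          have hc0 : c ≠ 0 := fun e => by rw [e, zero_pow hr.ne_zero] at hcr; exact zero_ne_one hcr
          have hmem : Units.mk0 c hc0 ∈ Subgroup.zpowers ζ := by
            haveI : NeZero r := ⟨hr.ne_zero⟩
            have h1 : Units.mk0 c hc0 ∈ rootsOfUnity r F := Units.ext hcr
            obtain ⟨j, -, hj⟩ := ((IsPrimitiveRoot.coe_units_iff).mpr (hζ ▸ IsPrimitiveRoot.orderOf ζ)).eq_pow_of_pow_eq_one hcr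
            refine ⟨j, Units.ext ?_⟩
            simp [hj]
          obtain ⟨j, hj⟩ := mem_powers_iff_mem_zpowers.mpr hmem
          refine ⟨j % r, Nat.mod_lt _ hr.pos, ?_⟩
          have hj' : ((ζ ^ j : Fˣ) : F) = c := congrArg Units.val hj
          rw [← hj', hval, Nat.mod_mod]
        set N : ℕ → ℕ := fun e => (Finset.univ.filter fun a => dd a = ((ζ ^ e : Fˣ) : F)).card with hNdef
        have hle : ∀ e f, (e + f) % r = s → N e ≤ N f := by
          intro e g heg
          have h := diag_counts hf' hc hdd ((ζ ^ e : Fˣ) : F)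
          have hdiv : c / ((ζ ^ e : Fˣ) : F) = ((ζ ^ g : Fˣ) : F) := by
            rw [div_eq_iff (Units.ne_zero _), ← Units.val_mul, ← pow_add, ← hs, hval, add_comm, heg, Nat.mod_eq_of_lt hsr]
          rwa [hdiv] at h
        have hcount : ∀ e, e < r → N e =
            (if e = 1 then 2 else 0) + (if e = r - 2 then 1 else 0) + (if e = 0 then n - 3 else 0) := by
          intro e he
          have hfil : (Finset.univ.filter fun a => dd a = ((ζ ^ e : Fˣ) : F)) = Finset.univ.filter fun a => k a = e := by
            refine Finset.filter_congr fun a _ => ?_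
            rw [hval, Nat.mod_eq_of_lt he, Nat.mod_eq_of_lt]
            simp only [k]; split_ifs <;> omega
          show (Finset.univ.filter fun a => dd a = ((ζ ^ e : Fˣ) : F)).card = _
          rw [hfil, Finset.card_filter, Fin.sum_univ_eq_sum_range
            (fun j => if (if j < 2 then 1 else if j = 2 then r - 2 else 0) = e then 1 else 0),
            show n = 3 + (n - 3) by omega, Finset.sum_range_add, Nat.add_sub_cancel_left]
          have h1 : ∑ j ∈ Finset.range (n - 3), (if (if 3 + j < 2 then 1 else if 3 + j = 2 then r - 2 else 0) = e then 1 else 0) =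
              if e = 0 then n - 3 else 0 := by
            rw [Finset.sum_congr rfl fun j _ => by rw [if_neg (by omega : ¬ 3 + j < 2), if_neg (by omega : ¬ 3 + j = 2)],
              Finset.sum_const, Finset.card_range, smul_eq_mul]
            split_ifs <;> omega
          rw [h1]
          simp only [Finset.sum_range_succ, Finset.sum_range_zero, if_true, if_false, Nat.lt_irrefl, one_lt_two,
            zero_lt_two, zero_add]
          split_ifs <;> omega
        have heq : ∀ e, e < r → N e = N ((s + r - e) % r) := by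
          intro e he
          have h1 : (e + (s + r - e) % r) % r = s := by
            rw [Nat.add_mod_mod, show e + (s + r - e) = s + r by omega, Nat.add_mod_right, Nat.mod_eq_of_lt hsr]
          exact le_antisymm (hle _ _ h1) (hle _ _ (by rw [add_comm]; exact h1))
        have e1 := heq 1 (by omega)
        have e0 := heq 0 hr.pos
        rw [hcount 1 (by omega), hcount _ (Nat.mod_lt _ hr.pos)] at e1
        rw [hcount 0 hr.pos, hcount _ (Nat.mod_lt _ hr.pos), Nat.sub_zero, Nat.add_mod_right, Nat.mod_eq_of_lt hsr] at e0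
        have hm : (s + r - 1) % r = if s = 0 then r - 1 else s - 1 := by
          split_ifs with h
          · rw [h, zero_add, Nat.mod_eq_of_lt (by omega)]
          · rw [show s + r - 1 = s - 1 + r by omega, Nat.add_mod_right, Nat.mod_eq_of_lt (by omega)]
        rw [hm] at e1
        exact counts_absurd hn ⟨d, hd⟩ hr hr2 hgap hsr
          (fun e => (if e = 1 then 2 else 0) + (if e = r - 2 then 1 else 0) + (if e = 0 then n - 3 else 0)) (fun e => rfl) e0 e1
    · -- one irreducible block
      have hev : Even n := ⟨d, hd⟩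
      obtain ⟨x, hx1, hx2, -, hx4⟩ := exists_blocks_element (F := F) (p := p) (n := n) (s := 1) hr hrp hi le_rfl (by rw [one_mul]; exact hin)
      refine ⟨x, ⟨1, hx1⟩, hx2, no_conj ?_ hf⟩
      intro f' hf' c hc
      set T := Matrix.toLinAlgEquiv' (x : Matrix (Fin n) (Fin n) F)
      have hT : T ^ r = 1 := by
        rw [pow_scalar r hx1, one_smul]
      have hndvd : ¬ r ∣ Fintype.card F - 1 := fun hd => by
        have h3 : (Fintype.card F : ZMod r) = 1 := by
          have := (ZMod.natCast_eq_zero_iff _ _).mpr hd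
          rwa [Nat.cast_sub Fintype.card_pos, Nat.cast_one, sub_eq_zero] at this
        rw [hidef, h3, orderOf_one] at hi
        omega
      have hc1 : c = 1 := root_unity_one hr hndvd (multiplier_pow hf' (by omega) T (fun u v => hc u v) hT)
      subst hc1
      have hev2 := even_range (p := p) hf' T hr hrp hT fun u v => by
        have := hc u v
        rw [one_mul] at this
        exact this
      have hrn := LinearMap.finrank_range_add_finrank_ker (T - 1)
      rw [Module.finrank_fin_fun, ← hidef] at *
      apply hodd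
      have : finrank F (LinearMap.range (T - 1)) = i := by omega
      rwa [this] at hev2

end CfsgLib.MaxSub.Elusive
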