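/-
Involutions of `PSL n` inside the similarities of a symplectic form.
-/
import Cfsg.Agent.Lib.MaxSub.ElusiveSp

set_option autoImplicit false
set_option linter.unusedSectionVars false

namespace CfsgLib.MaxSub.Elusive

open Polynomial Module

universe u

variable {F : Type u} [Field F] [Fintype F] {n : ℕ}

/-- A symplectic basis, by hyperbolic planes. -/
theorem exists_plane_basis {f : (Fin n → F) → (Fin n → F) → F} (hf : Cfsg.Geo.IsSymplecticForm f) {d : ℕ}
    (hd : n = 2 * d) :
    ∃ S : Basis (Fin d × Fin 2) F (Fin n → F),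
      (∀ j, f (S (j, 0)) (S (j, 1)) = 1) ∧ ∀ j k a b, j ≠ k → f (S (j, a)) (S (k, b)) = 0 := by
  classical
  set G := Cfsg.Geo.gramMatrix f
  have hdot : ∀ u v, f u v = u ⬝ᵥ (G.mulVec v) := fun u v =>
    (CfsgLib.Aschbacher.isSesq_of_bilinear hf.bilinear).eq_dot u v
  have halt : ∀ x, CfsgLib.SemisimpleIso.bil G x x = 0 := fun x => by
    rw [CfsgLib.SemisimpleIso.bil, ← hdot]; exact hf.alternating x
  suffices ∀ (m : ℕ) (W : Submodule F (Fin n → F)), finrank F W = 2 * m →
      (∀ x ∈ W, (∀ y ∈ W, f x y = 0) → x = 0) →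
      ∃ s : Fin m × Fin 2 → (Fin n → F), (∀ i, s i ∈ W) ∧ (∀ j, f (s (j, 0)) (s (j, 1)) = 1) ∧
        (∀ j k a b, j ≠ k → f (s (j, a)) (s (k, b)) = 0) by
    obtain ⟨s, -, h1, h2⟩ := this d ⊤ (by rw [finrank_top, Module.finrank_fin_fun, hd]) fun x _ h => by
      by_contra h0
      obtain ⟨-, y, hy⟩ := hf.nondegenerate x h0
      exact hy (h y Submodule.mem_top)
    have hli : LinearIndependent F s := by
      rw [Fintype.linearIndependent_iff]
      intro c hc
      have key : ∀ v, ∑ i, c i * f v (s i) = 0 := fun v => by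
        let φ : (Fin n → F) →ₗ[F] F :=
          { toFun := fun u => f v u
            map_add' := fun a a' => hf.bilinear.add_right _ a a'
            map_smul' := fun t a => hf.bilinear.smul_right t _ a }
        have : φ (∑ i, c i • s i) = 0 := by rw [hc, map_zero]
        rw [map_sum] at this
        rw [← this]
        exact Finset.sum_congr rfl fun i _ => (map_smul φ _ _).symm
      rintro ⟨j, a⟩
      have h0 := key (s (j, 0))
      have h1' := key (s (j, 1))
      have hself : ∀ a b : Fin 2, ∑ i, c i * f (s (j, a)) (s i) = c (j, 0) * f (s (j, a)) (s (j, 0)) + c (j, 1) * f (s (j, a)) (s (j, 1)) := by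
        intro a _
        rw [Fintype.sum_prod_type, Finset.sum_eq_single j (fun k _ hk => by
          rw [Fin.sum_univ_two, h2 j k a 0 (Ne.symm hk), h2 j k a 1 (Ne.symm hk), mul_zero, mul_zero, add_zero])
          (fun h => absurd (Finset.mem_univ j) h), Fin.sum_univ_two]
      rw [hself 0 0, h1, hf.alternating, mul_zero, zero_add, mul_one] at h0
      rw [hself 1 0, hf.skew (s (j, 1)) (s (j, 0)), h1, hf.alternating, mul_zero, add_zero, mul_neg, mul_one,
        neg_eq_zero] at h1'
      fin_cases a
      · exact h1'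
      · exact h0
    refine ⟨basisOfLinearIndependentOfCardEqFinrank' s hli (by simp [hd, mul_comm]), ?_, ?_⟩
    · intro j; simpa using h1 j
    · intro j k a b hjk; simpa using h2 j k a b hjk
  intro m
  induction m with
  | zero => intro W _ _; exact ⟨fun i => i.1.elim0, fun i => i.1.elim0, fun i => i.elim0, fun i => i.elim0⟩
  | succ m ih =>
    intro W hW hnd
    obtain ⟨e, he, he0⟩ := Submodule.exists_mem_ne_zero_of_ne_bot (p := W) fun h => by
      rw [h, finrank_bot] at hW; omega
    obtain ⟨g₀, hg₀, heg⟩ : ∃ g₀ ∈ W, f e g₀ ≠ 0 := by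
      by_contra hc
      push Not at hc
      exact he0 (hnd e he hc)
    set g := (f e g₀)⁻¹ • g₀ with hgdef
    have hg : g ∈ W := W.smul_mem _ hg₀
    have hef : f e g = 1 := by rw [hgdef, hf.bilinear.smul_right, inv_mul_cancel₀ heg]
    clear_value g
    have hneg : ∀ u v, f u (-v) = - f u v := fun u v => by
      rw [← neg_one_smul F v, hf.bilinear.smul_right, neg_one_mul]
    let L : (Fin n → F) →ₗ[F] F × F :=
      { toFun := fun u => (f e u, f g u)
        map_add' := fun a a' => by simp [hf.bilinear.add_right]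
        map_smul' := fun t a => by simp [hf.bilinear.smul_right] }
    let W' := W ⊓ LinearMap.ker L
    have hdec : ∀ x ∈ W, ∃ w ∈ W', x = (f e x) • g + (- f g x) • e + w := by
      intro x hx
      refine ⟨x - ((f e x) • g + (- f g x) • e),
        ⟨sub_mem hx (add_mem (W.smul_mem _ hg) (W.smul_mem _ he)), ?_⟩, by abel⟩
      show L (x - ((f e x) • g + (- f g x) • e)) = 0
      rw [map_sub, map_add, map_smul, map_smul]
      simp [L, hef, hneg, hf.alternating, hf.skew g e, hf.bilinear.add_right, hf.bilinear.smul_right]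
    have hW' : finrank F W' = 2 * m := by
      have h := LinearMap.finrank_range_add_finrank_ker (L.comp W.subtype)
      have hr : LinearMap.range (L.comp W.subtype) = ⊤ := by
        rw [eq_top_iff]
        rintro ⟨a, b⟩ -
        refine ⟨⟨a • g + (-b) • e, add_mem (W.smul_mem _ hg) (W.smul_mem _ he)⟩, ?_⟩
        simp [L, hef, hneg, hf.alternating, hf.skew g e, hf.bilinear.add_right, hf.bilinear.smul_right]
      rw [hr, finrank_top, Module.finrank_prod, Module.finrank_self, LinearMap.ker_comp,
        ← Submodule.finrank_map_subtype_eq W, Submodule.map_comap_subtype, hW] at h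
      show finrank F ↥(W ⊓ LinearMap.ker L) = _
      omega
    have horth : ∀ w ∈ W', f e w = 0 ∧ f g w = 0 := fun w hw => by
      have h := LinearMap.mem_ker.mp hw.2
      exact ⟨congrArg Prod.fst h, congrArg Prod.snd h⟩
    obtain ⟨s, hs, hs1, hs2⟩ := ih W' hW' fun x hx h => hnd x hx.1 fun y hy => by
      obtain ⟨w, hw, hy'⟩ := hdec y hy
      have h3 := horth x hx
      rw [hy', hf.bilinear.add_right, hf.bilinear.add_right, hf.bilinear.smul_right, hf.bilinear.smul_right, h w hw,
        hf.skew x g, hf.skew x e, h3.1, h3.2]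
      simp
    refine ⟨fun i => Fin.cases (if i.2 = 0 then e else g) (fun j => s (j, i.2)) i.1, ?_, ?_, ?_⟩
    · rintro ⟨i, a⟩
      refine Fin.cases ?_ (fun j => ?_) i
      · show (if a = 0 then e else g) ∈ W
        split_ifs
        exacts [he, hg]
      · exact (hs _).1
    · intro j
      refine Fin.cases ?_ (fun j => ?_) j
      · simpa using hef
      · simpa using hs1 j
    · intro j k a b hjk
      revert hjk
      refine Fin.cases (fun hjk => ?_) (fun j hjk => ?_) j
      · revert hjk
        refine Fin.cases (fun hjk => absurd rfl hjk) (fun k _ => ?_) k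
        show f (if a = 0 then e else g) (s (k, b)) = 0
        split_ifs
        exacts [(horth _ (hs _)).1, (horth _ (hs _)).2]
      · revert hjk
        refine Fin.cases (fun _ => ?_) (fun k hjk => ?_) k
        · show f (s (j, a)) (if b = 0 then e else g) = 0
          rw [hf.skew]
          split_ifs <;> simp [(horth _ (hs (j, a))).1, (horth _ (hs (j, a))).2]
        · exact hs2 j k a b fun h => hjk (congrArg Fin.succ h)

/-- A map acting on planes with one determinant has a conjugate among the similarities. -/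
theorem conj_of_planes {f : (Fin n → F) → (Fin n → F) → F} (hf : Cfsg.Geo.IsSymplecticForm f) {d : ℕ}
    (hd : n = 2 * d) (hd0 : 0 < d) (x : Matrix.SpecialLinearGroup (Fin n) F) (B : Basis (Fin d × Fin 2) F (Fin n → F))
    (M : Fin d → Matrix (Fin 2) (Fin 2) F) (c : F) (hM : ∀ j, (M j).det = c)
    (hx : ∀ j a, (x : Matrix (Fin n) (Fin n) F).mulVec (B (j, a)) = M j 0 a • B (j, 0) + M j 1 a • B (j, 1)) :
    ∃ P : Matrix.SpecialLinearGroup (Fin n) F,
      P⁻¹ * x * P ∈ (Cfsg.Geo.similarityGroup f).comap (Matrix.SpecialLinearGroup.toGL : Matrix.SpecialLinearGroup (Fin n) F →* GL (Fin n) F) := by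
  classical
  obtain ⟨S, hS1, hS2⟩ := exists_plane_basis hf hd
  let φ : (Fin n → F) ≃ₗ[F] (Fin n → F) := S.equiv B (Equiv.refl _)
  set δ := LinearMap.det φ.toLinearMap with hδdef
  have hδ : δ ≠ 0 := φ.isUnit_det'.ne_zero
  let j0 : Fin d := ⟨0, hd0⟩
  let w : Fin d × Fin 2 → Fˣ := fun i => if i = (j0, 0) then (Units.mk0 δ hδ)⁻¹ else 1
  let B' : Basis (Fin d × Fin 2) F (Fin n → F) := B.unitsSMul w
  let Φ : (Fin n → F) ≃ₗ[F] (Fin n → F) := S.equiv B' (Equiv.refl _)
  have hΦ : ∀ i, Φ (S i) = (w i : F) • B i := fun i => by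
    simp [Φ, B', Basis.unitsSMul_apply, Units.smul_def]
  have hdetΦ : LinearMap.det Φ.toLinearMap = 1 := by
    have e1 : Φ.toLinearMap = φ.toLinearMap.comp (S.constr F fun i => (w i : F) • S i) := S.ext fun i => by
      show Φ (S i) = φ (S.constr F (fun i => (w i : F) • S i) (S i))
      rw [hΦ, Basis.constr_basis, map_smul]
      simp [φ]
    rw [e1, LinearMap.det_comp, ← hδdef, ← LinearMap.det_toMatrix S,
      show LinearMap.toMatrix S S (S.constr F fun i => (w i : F) • S i) = Matrix.diagonal fun i => (w i : F) by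
        ext a b
        rw [LinearMap.toMatrix_apply, Basis.constr_basis, map_smul, Basis.repr_self, Finsupp.smul_single, smul_eq_mul,
          mul_one, Finsupp.single_apply, Matrix.diagonal_apply]
        by_cases h : a = b
        · subst h; simp
        · simp [h, Ne.symm h],
      Matrix.det_diagonal, Finset.prod_eq_single (j0, 0) (fun b _ hb => by simp [w, hb]) (fun h => absurd (Finset.mem_univ _) h)]
    simp [w, hδ]
  let P : Matrix.SpecialLinearGroup (Fin n) F := ⟨LinearMap.toMatrix' Φ.toLinearMap, by rw [LinearMap.det_toMatrix', hdetΦ]⟩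
  refine ⟨P, ?_⟩
  set A : Matrix (Fin n) (Fin n) F := ((P⁻¹ * x * P : Matrix.SpecialLinearGroup (Fin n) F) : Matrix (Fin n) (Fin n) F)
  let N : Fin d → Fin 2 → Fin 2 → F := fun j a b => ((w (j, a))⁻¹ : Fˣ) * M j a b * w (j, b)
  have hA : ∀ j b, A.mulVec (S (j, b)) = N j 0 b • S (j, 0) + N j 1 b • S (j, 1) := by
    intro j b
    have hP : ∀ v, (P : Matrix (Fin n) (Fin n) F).mulVec v = Φ v := fun v => LinearMap.toMatrix'_mulVec _ _
    have hPA : (P : Matrix (Fin n) (Fin n) F) * A = (x : Matrix (Fin n) (Fin n) F) * (P : Matrix (Fin n) (Fin n) F) := by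
      rw [← Matrix.SpecialLinearGroup.coe_mul, ← Matrix.SpecialLinearGroup.coe_mul, mul_assoc, mul_inv_cancel_left]
    apply Φ.injective
    rw [← hP, Matrix.mulVec_mulVec, hPA, ← Matrix.mulVec_mulVec, hP, hΦ, Matrix.mulVec_smul, hx, map_add, map_smul,
      map_smul, hΦ, hΦ, smul_add, smul_smul, smul_smul, smul_smul, smul_smul]
    have key : ∀ a, (M j a b * (w (j, b) : F)) = N j a b * (w (j, a) : F) := fun a => by
      simp only [N, Units.val_inv_eq_inv_val]
      field_simp
    rw [mul_comm (N j 0 b), mul_comm (N j 1 b)]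
    congr 2 <;> rw [mul_comm _ (M j _ b)] <;> first | rw [key 0, mul_comm] | rw [key 1, mul_comm]
  have hdetN : ∀ j, N j 0 0 * N j 1 1 - N j 0 1 * N j 1 0 = c := by
    intro j
    rw [← hM j, Matrix.det_fin_two]
    simp [N]
    field_simp
  have hc : c ≠ 0 := by
    intro hc0
    have hz : ∀ i j, f (A.mulVec (S i)) (A.mulVec (S j)) = 0 := by
      rintro ⟨i, a⟩ ⟨j, b⟩
      rw [hA, hA]
      simp only [hf.bilinear.add_left, hf.bilinear.add_right, hf.bilinear.smul_left, hf.bilinear.smul_right]
      by_cases hij : i = j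
      · subst hij
        rw [hf.alternating, hf.alternating, hf.skew (S (i, 1)) (S (i, 0)), hS1]
        have h := hdetN i
        rw [hc0] at h
        fin_cases a <;> fin_cases b <;> simp only [Fin.zero_eta, Fin.mk_one, Fin.isValue] <;>
          generalize N i 0 0 = k00, N i 0 1 = k01, N i 1 0 = k10, N i 1 1 = k11 at h ⊢ <;>
          simp <;> first | linear_combination h | linear_combination -h | ring
      · simp [hS2 i j _ _ hij]
    have hu : IsUnit A := (Matrix.isUnit_iff_isUnit_det _).mpr (by
      rw [show A.det = 1 from (P⁻¹ * x * P).2]; exact isUnit_one)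
    have hd2 : f (S (j0, 0)) (S (j0, 1)) = 0 := by
      have key : ∀ u v, f (A.mulVec u) (A.mulVec v) = 0 := by
        intro u v
        let β : (Fin n → F) →ₗ[F] (Fin n → F) →ₗ[F] F := LinearMap.mk₂ F (fun u v => f (A.mulVec u) (A.mulVec v))
          (fun a b c => by simp only [Matrix.mulVec_add, hf.bilinear.add_left])
          (fun t a b => by simp only [Matrix.mulVec_smul, hf.bilinear.smul_left, smul_eq_mul])
          (fun a b c => by simp only [Matrix.mulVec_add, hf.bilinear.add_right])
          (fun t a b => by simp only [Matrix.mulVec_smul, hf.bilinear.smul_right, smul_eq_mul])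
        exact LinearMap.congr_fun₂ (S.ext fun i => S.ext fun j => by simpa [β] using hz i j : β = 0) u v
      obtain ⟨u, hu'⟩ := Matrix.mulVec_surjective_iff_isUnit.mpr hu (S (j0, 0))
      obtain ⟨v, hv'⟩ := Matrix.mulVec_surjective_iff_isUnit.mpr hu (S (j0, 1))
      rw [← hu', ← hv']
      exact key u v
    rw [hS1] at hd2
    exact one_ne_zero hd2
  refine ⟨Units.mk0 c hc, fun u v => ?_⟩
  show f (A.mulVec u) (A.mulVec v) = c * f u v
  let β : (Fin n → F) →ₗ[F] (Fin n → F) →ₗ[F] F := LinearMap.mk₂ F (fun u v => f (A.mulVec u) (A.mulVec v))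
    (fun a b c => by simp only [Matrix.mulVec_add, hf.bilinear.add_left])
    (fun t a b => by simp only [Matrix.mulVec_smul, hf.bilinear.smul_left, smul_eq_mul])
    (fun a b c => by simp only [Matrix.mulVec_add, hf.bilinear.add_right])
    (fun t a b => by simp only [Matrix.mulVec_smul, hf.bilinear.smul_right, smul_eq_mul])
  let γ : (Fin n → F) →ₗ[F] (Fin n → F) →ₗ[F] F := LinearMap.mk₂ F (fun u v => c * f u v)
    (fun a b c => by simp only [hf.bilinear.add_left]; ring)
    (fun t a b => by simp only [hf.bilinear.smul_left, smul_eq_mul]; ring)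
    (fun a b c => by simp only [hf.bilinear.add_right]; ring)
    (fun t a b => by simp only [hf.bilinear.smul_right, smul_eq_mul]; ring)
  refine LinearMap.congr_fun₂ (S.ext fun i => S.ext fun j => ?_ : β = γ) u v
  obtain ⟨i, a⟩ := i
  obtain ⟨j, b⟩ := j
  show f (A.mulVec (S (i, a))) (A.mulVec (S (j, b))) = c * f (S (i, a)) (S (j, b))
  rw [hA, hA]
  simp only [hf.bilinear.add_left, hf.bilinear.add_right, hf.bilinear.smul_left, hf.bilinear.smul_right]
  by_cases hij : i = j
  · subst hij
    have h := hdetN i
    fin_cases a <;> fin_cases b <;> simp only [Fin.zero_eta, Fin.mk_one, Fin.isValue] <;>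
      generalize N i 0 0 = k00, N i 0 1 = k01, N i 1 0 = k10, N i 1 1 = k11 at h ⊢ <;>
      simp [hf.alternating, hf.skew (S (i, 1)) (S (i, 0)), hS1] <;> first | linear_combination h | linear_combination -h | ring
  · simp [hS2 i j _ _ hij]

variable {p : ℕ} [Fact p.Prime] [CharP F p]

/-- A map with square zero pairs up a basis. -/
theorem planes_square_zero {d : ℕ} (hd : n = 2 * d) (N : Module.End F (Fin n → F)) (hN : N * N = 0) :
    ∃ (B : Basis (Fin d × Fin 2) F (Fin n → F)) (s : Fin d → F), ∀ j, N (B (j, 0)) = s j • B (j, 1) ∧ N (B (j, 1)) = 0 := by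
  classical
  obtain ⟨W, hW⟩ := (LinearMap.ker N).exists_isCompl
  set NW := W.map N with hNW
  have hNW' : NW ≤ LinearMap.ker N := by
    rintro _ ⟨w, -, rfl⟩
    show (N * N) w = 0
    rw [hN, LinearMap.zero_apply]
  obtain ⟨C', hC'⟩ := NW.exists_isCompl
  set C := LinearMap.ker N ⊓ C' with hCdef
  have hker : NW ⊔ C = LinearMap.ker N := by
    rw [hCdef, inf_comm, ← sup_inf_assoc_of_le C' hNW', hC'.sup_eq_top, top_inf_eq]
  have hNWinj : Disjoint W (LinearMap.ker N) := hW.disjoint.symm
  have hNWd : finrank F NW = finrank F W := by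
    have h := LinearMap.finrank_range_add_finrank_ker (N.comp W.subtype)
    have h0 : LinearMap.ker (N.comp W.subtype) = ⊥ := by
      rw [LinearMap.ker_comp, ← Submodule.map_injective_of_injective W.subtype_injective |>.eq_iff,
        Submodule.map_comap_subtype, Submodule.map_bot, hNWinj.eq_bot]
    rw [h0, finrank_bot, add_zero, LinearMap.range_comp, Submodule.range_subtype] at h
    exact h
  have hsum := Submodule.finrank_add_eq_of_isCompl hW
  rw [Module.finrank_fin_fun] at hsum
  have h2 := Submodule.finrank_sup_add_finrank_inf_eq NW C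
  have hdis : NW ⊓ C = ⊥ := le_bot_iff.mp ((inf_le_inf_left _ inf_le_right).trans hC'.inf_eq_bot.le)
  rw [hker, hdis, finrank_bot, add_zero, hNWd] at h2
  set k := finrank F W
  obtain ⟨l, hl⟩ : ∃ l, finrank F C = 2 * l := ⟨d - k, by omega⟩
  let bW := Module.finBasis F W
  let bC : Basis (Fin l × Fin 2) F C :=
    (Module.finBasisOfFinrankEq F C hl).reindex ((finCongr (mul_comm 2 l)).trans finProdFinEquiv.symm)
  let fam : (Fin k ⊕ Fin l) × Fin 2 → (Fin n → F) := fun i => match i with
    | (Sum.inl j, a) => if a = 0 then (bW j : Fin n → F) else N (bW j : Fin n → F)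
    | (Sum.inr j, a) => (bC (j, a) : Fin n → F)
  have hspan : ⊤ ≤ Submodule.span F (Set.range fam) := by
    have h1 : W ≤ Submodule.span F (Set.range fam) := by
      intro v hv
      have : (⟨v, hv⟩ : W) ∈ Submodule.span F (Set.range bW) := by rw [bW.span_eq]; trivial
      refine (Submodule.span_le.mpr ?_ : Submodule.span F (Set.range bW) ≤ (Submodule.span F (Set.range fam)).comap W.subtype) this
      rintro _ ⟨j, rfl⟩
      exact Submodule.subset_span ⟨(Sum.inl j, 0), by simp [fam]⟩
    have h2' : NW ≤ Submodule.span F (Set.range fam) := by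
      rintro _ ⟨v, hv, rfl⟩
      have : (⟨v, hv⟩ : W) ∈ Submodule.span F (Set.range bW) := by rw [bW.span_eq]; trivial
      refine (Submodule.span_le.mpr ?_ : Submodule.span F (Set.range bW) ≤ ((Submodule.span F (Set.range fam)).comap N).comap W.subtype) this
      rintro _ ⟨j, rfl⟩
      exact Submodule.subset_span ⟨(Sum.inl j, 1), by simp [fam]⟩
    have h3 : C ≤ Submodule.span F (Set.range fam) := by
      intro v hv
      have : (⟨v, hv⟩ : C) ∈ Submodule.span F (Set.range bC) := by rw [bC.span_eq]; trivial
      refine (Submodule.span_le.mpr ?_ : Submodule.span F (Set.range bC) ≤ (Submodule.span F (Set.range fam)).comap C.subtype) this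
      rintro _ ⟨⟨j, a⟩, rfl⟩
      exact Submodule.subset_span ⟨(Sum.inr j, a), rfl⟩
    rw [← hW.sup_eq_top, ← hker]
    exact sup_le (sup_le h2' h3) h1
  have hcard : k + l = d := by omega
  let B0 := basisOfTopLeSpanOfCardEqFinrank fam hspan (by simp [hd]; omega)
  let e : Fin k ⊕ Fin l ≃ Fin d := finSumFinEquiv.trans (finCongr hcard)
  refine ⟨B0.reindex (e.prodCongr (Equiv.refl _)), fun j => if (e.symm j).isLeft then 1 else 0, fun j => ?_⟩
  simp only [Basis.reindex_apply, Equiv.prodCongr_symm, Equiv.prodCongr_apply, Prod.map_apply, Equiv.refl_symm,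
    Equiv.refl_apply, B0, coe_basisOfTopLeSpanOfCardEqFinrank]
  rcases e.symm j with a | a
  · refine ⟨by simp [fam], ?_⟩
    show N (N (bW a : Fin n → F)) = 0
    rw [← Module.End.mul_apply, hN, LinearMap.zero_apply]
  · refine ⟨?_, ?_⟩
    · show N (bC (a, 0) : Fin n → F) = _
      rw [show N (bC (a, 0) : Fin n → F) = 0 from (bC (a, 0)).2.1]
      simp
    · exact (bC (a, 1)).2.1

theorem planes_involution {d : ℕ} (hd : n = 2 * d) (h2 : p ≠ 2) (T : Module.End F (Fin n → F)) (hT : T ^ 2 = 1)
    (hev : Even (finrank F (LinearMap.range (T - 1)))) :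
    ∃ (B : Basis (Fin d × Fin 2) F (Fin n → F)) (s : Fin d → F), (∀ j, s j ^ 2 = 1) ∧ ∀ j a, T (B (j, a)) = s j • B (j, a) := by
  classical
  obtain ⟨k, hk⟩ := hev
  have hrn := LinearMap.finrank_range_add_finrank_ker (T - 1)
  rw [Module.finrank_fin_fun] at hrn
  have hE : finrank F (LinearMap.ker (T - 1)) = 2 * (d - k) := by omega
  have hR : finrank F (LinearMap.range (T - 1)) = 2 * k := by omega
  let bE : Basis (Fin (d - k) × Fin 2) F _ :=
    (Module.finBasisOfFinrankEq F _ hE).reindex ((finCongr (mul_comm 2 (d - k))).trans finProdFinEquiv.symm)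
  let bR : Basis (Fin k × Fin 2) F _ :=
    (Module.finBasisOfFinrankEq F _ hR).reindex ((finCongr (mul_comm 2 k)).trans finProdFinEquiv.symm)
  let fam : (Fin (d - k) ⊕ Fin k) × Fin 2 → (Fin n → F) := fun i => match i with
    | (Sum.inl j, a) => (bE (j, a) : Fin n → F)
    | (Sum.inr j, a) => (bR (j, a) : Fin n → F)
  have hspan : ⊤ ≤ Submodule.span F (Set.range fam) := by
    have h1 : LinearMap.ker (T - 1) ≤ Submodule.span F (Set.range fam) := by
      intro v hv
      have : (⟨v, hv⟩ : LinearMap.ker (T - 1)) ∈ Submodule.span F (Set.range bE) := by rw [bE.span_eq]; trivial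
      refine (Submodule.span_le.mpr ?_ : Submodule.span F (Set.range bE) ≤ (Submodule.span F (Set.range fam)).comap (LinearMap.ker (T - 1)).subtype) this
      rintro _ ⟨⟨j, a⟩, rfl⟩
      exact Submodule.subset_span ⟨(Sum.inl j, a), rfl⟩
    have h3 : LinearMap.range (T - 1) ≤ Submodule.span F (Set.range fam) := by
      intro v hv
      have : (⟨v, hv⟩ : LinearMap.range (T - 1)) ∈ Submodule.span F (Set.range bR) := by rw [bR.span_eq]; trivial
      refine (Submodule.span_le.mpr ?_ : Submodule.span F (Set.range bR) ≤ (Submodule.span F (Set.range fam)).comap (LinearMap.range (T - 1)).subtype) this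
      rintro _ ⟨⟨j, a⟩, rfl⟩
      exact Submodule.subset_span ⟨(Sum.inr j, a), rfl⟩
    have htop : LinearMap.ker (T - 1) ⊔ LinearMap.range (T - 1) = ⊤ := by
      refine Submodule.eq_top_of_finrank_eq ?_
      have h := Submodule.finrank_sup_add_finrank_inf_eq (LinearMap.ker (T - 1)) (LinearMap.range (T - 1))
      rw [ker_inf_range (p := p) T Nat.prime_two h2.symm hT, finrank_bot, add_zero] at h
      rw [Module.finrank_fin_fun]
      omega
    rw [← htop]
    exact sup_le h1 h3
  have hcard : d - k + k = d := by omega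
  let B0 := basisOfTopLeSpanOfCardEqFinrank fam hspan (by simp [hd]; omega)
  let e : Fin (d - k) ⊕ Fin k ≃ Fin d := finSumFinEquiv.trans (finCongr hcard)
  refine ⟨B0.reindex (e.prodCongr (Equiv.refl _)), fun j => if (e.symm j).isLeft then 1 else -1,
    fun j => by simp only []; split_ifs <;> ring, fun j a => ?_⟩
  simp only [Basis.reindex_apply, Equiv.prodCongr_symm, Equiv.prodCongr_apply, Prod.map_apply, Equiv.refl_symm,
    Equiv.refl_apply, B0, coe_basisOfTopLeSpanOfCardEqFinrank]
  rcases e.symm j with b | b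
  · show T (bE (b, a) : Fin n → F) = _
    rw [sub_eq_zero.mp (bE (b, a)).2]
    simp [fam]
  · show T (bR (b, a) : Fin n → F) = _
    obtain ⟨w, hw⟩ := (bR (b, a)).2
    have : T ((T - 1) w) = -((T - 1) w) := by
      have h := LinearMap.congr_fun hT w
      rw [pow_two, Module.End.mul_apply, Module.End.one_apply] at h
      simp [h]
    rw [hw] at this
    simp [fam, this]

theorem sp_involution_iff (p : ℕ) [Fact p.Prime] [CharP F p] (hn : 4 ≤ n) (he : Even n) {f : (Fin n → F) → (Fin n → F) → F}
    (hf : Cfsg.Geo.IsSymplecticForm f) :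
    (∀ x : Matrix.SpecialLinearGroup (Fin n) F,
      (∃ z : F, ((x ^ 2 : Matrix.SpecialLinearGroup (Fin n) F) : Matrix (Fin n) (Fin n) F) = z • (1 : Matrix (Fin n) (Fin n) F)) →
      (∀ z : F, (x : Matrix (Fin n) (Fin n) F) ≠ z • (1 : Matrix (Fin n) (Fin n) F)) →
      ∃ P : Matrix.SpecialLinearGroup (Fin n) F, P⁻¹ * x * P ∈ ((Cfsg.Geo.similarityGroup f).comap (Matrix.SpecialLinearGroup.toGL : Matrix.SpecialLinearGroup (Fin n) F →* GL (Fin n) F))) ↔
    padicValNat 2 (Fintype.card F - 1) ≤ padicValNat 2 n := by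
  classical
  obtain ⟨d, hd0⟩ := he
  have hd : n = 2 * d := by omega
  have hq : ∀ h2 : p ≠ 2, 2 ∣ Fintype.card F - 1 := fun h2 => by
    have : ¬ 2 ∣ Fintype.card F := fun h => h2.symm ((dvd_q_iff (F := F) (p := p) Nat.prime_two).mp h)
    omega
  constructor
  · intro H
    by_contra hlt
    push Not at hlt
    have h2 : p ≠ 2 := by
      intro e
      have h1 : 2 ∣ Fintype.card F := (dvd_q_iff (F := F) (p := p) Nat.prime_two).mpr e.symm
      have := Fintype.one_lt_card (α := F)
      rw [padicValNat.eq_zero_of_not_dvd (n := Fintype.card F - 1) (by omega)] at hlt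
      exact Nat.not_lt_zero _ hlt
    set v := padicValNat 2 n
    have hq1 : Fintype.card F - 1 ≠ 0 := by have := Fintype.one_lt_card (α := F); omega
    have hv1 : 2 ^ (v + 1) ∣ Fintype.card F - 1 := (padicValNat_dvd_iff_le hq1).mpr hlt
    obtain ⟨ζ, hζ⟩ := IsCyclic.exists_ofOrder_eq_natCard (α := Fˣ)
    rw [Nat.card_units, Nat.card_eq_fintype_card] at hζ
    set b := ζ ^ ((Fintype.card F - 1) / 2 ^ (v + 1)) with hbdef
    have hb : orderOf b = 2 ^ (v + 1) := by
      rw [hbdef, orderOf_pow_of_dvd ((Nat.div_ne_zero_iff_of_dvd hv1).mpr ⟨hq1, pow_ne_zero _ two_ne_zero⟩)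
        (by rw [hζ]; exact Nat.div_dvd_of_dvd hv1), hζ, Nat.div_div_self hv1 hq1]
    have hbn : ((b : Fˣ) : F) ^ n = -1 := by
      have h1 : (((b : Fˣ) : F) ^ n) ^ 2 = 1 := by
        rw [← Units.val_pow_eq_pow_val, ← Units.val_pow_eq_pow_val, ← pow_mul,
          orderOf_dvd_iff_pow_eq_one.mp (by rw [hb, pow_succ]; exact Nat.mul_dvd_mul_right pow_padicValNat_dvd 2), Units.val_one]
      refine (sq_eq_one_iff.mp h1).resolve_left fun h => ?_
      have h' : b ^ n = 1 := Units.ext (by rw [Units.val_pow_eq_pow_val, h, Units.val_one])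
      have := orderOf_dvd_of_pow_eq_one h'
      rw [hb, padicValNat_dvd_iff_le (by omega)] at this
      omega
    let dd : Fin n → F := fun a => if (a : ℕ) = 0 then -(b : F) else (b : F)
    have hdet : (Matrix.diagonal dd).det = 1 := by
      rw [Matrix.det_diagonal, ← Finset.mul_prod_erase _ _ (Finset.mem_univ (⟨0, by omega⟩ : Fin n)),
        Finset.prod_eq_pow_card (b := (b : F)) (fun a ha => by
          have := (Finset.mem_erase.mp ha).1
          simp only [dd, ne_eq, Fin.ext_iff] at *
          rw [if_neg this]), Finset.card_erase_of_mem (Finset.mem_univ _), Finset.card_univ, Fintype.card_fin]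
      simp only [dd, if_pos]
      rw [neg_mul, ← pow_succ', Nat.sub_add_cancel (by omega : 1 ≤ n), hbn, neg_neg]
    let x : Matrix.SpecialLinearGroup (Fin n) F := ⟨Matrix.diagonal dd, hdet⟩
    have hb0 : (b : F) ≠ 0 := Units.ne_zero b
    have h20 : (2 : F) ≠ 0 := fun h => h2 (by
      have : ((2 : ℕ) : F) = 0 := by exact_mod_cast h
      rw [CharP.cast_eq_zero_iff F p] at this
      exact (Nat.prime_dvd_prime_iff_eq Fact.out Nat.prime_two).mp this)
    obtain ⟨P, hP⟩ := H x ⟨(b : F) ^ 2, by
      rw [Matrix.SpecialLinearGroup.coe_pow]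
      show (Matrix.diagonal dd) ^ 2 = _
      rw [Matrix.diagonal_pow, ← Matrix.diagonal_one, ← Matrix.diagonal_smul]
      congr 1
      funext a
      show dd a ^ 2 = (b : F) ^ 2 • (1 : F)
      simp only [dd]; split_ifs <;> simp⟩ (fun z hz => by
      have h0 := congrFun (congrFun hz ⟨0, by omega⟩) ⟨0, by omega⟩
      have h1 := congrFun (congrFun hz ⟨1, by omega⟩) ⟨1, by omega⟩
      simp [x, dd] at h0 h1
      rw [← h1] at h0
      refine hb0 ((mul_eq_zero.mp (?_ : (2 : F) * b = 0)).resolve_left h20)
      linear_combination -h0)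
    refine no_conj ?_ hf P hP
    intro f' hf' c hc
    have hT : (Matrix.toLinAlgEquiv' (Matrix.diagonal dd)) ^ 2 = (b : F) ^ 2 • 1 := by
      refine LinearMap.ext fun u => funext fun a => ?_
      rw [← map_pow, Matrix.diagonal_pow]
      show (Matrix.diagonal (dd ^ 2)).mulVec u a = _
      rw [Matrix.mulVec_diagonal]
      simp only [dd, Pi.pow_apply, LinearMap.smul_apply, Pi.smul_apply, Module.End.one_apply, smul_eq_mul]
      split_ifs <;> simp
    have hcount := diag_counts hf' hc (fun a => by simp only [dd]; split_ifs <;> simp [hb0]) ((b : F))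
    have hcb : c = (b : F) ^ 2 := by
      by_contra hne
      have h1 : n - 1 ≤ (Finset.univ.filter fun a => dd a = c / (b : F)).card := by
        refine le_trans ?_ hcount
        refine le_of_eq_of_le (b := (Finset.univ.erase (⟨0, by omega⟩ : Fin n)).card) ?_ (Finset.card_le_card fun a ha => ?_)
        · rw [Finset.card_erase_of_mem (Finset.mem_univ _), Finset.card_univ, Fintype.card_fin]
        · have := (Finset.mem_erase.mp ha).1
          simp only [ne_eq, Fin.ext_iff] at this
          simp [dd, this]
      have h2' : (Finset.univ.filter fun a => dd a = c / (b : F)).card ≤ 1 := by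
        refine (Finset.card_le_card (t := {(⟨0, by omega⟩ : Fin n)}) fun a ha => ?_).trans (Finset.card_singleton _).le
        rw [Finset.mem_singleton, Fin.ext_iff]
        by_contra ha0
        have h := (Finset.mem_filter.mp ha).2
        simp only [dd, if_neg ha0] at h
        exact hne (by rw [eq_div_iff hb0] at h; rw [← h]; ring)
      omega
    set T := (b : F)⁻¹ • Matrix.toLinAlgEquiv' (Matrix.diagonal dd) with hTdef
    have hev := even_range (p := p) hf' T Nat.prime_two h2.symm (by
        rw [hTdef, _root_.smul_pow, hT, smul_smul, ← mul_pow, inv_mul_cancel₀ hb0, one_pow, one_smul]) (fun u v => by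
      rw [hTdef, LinearMap.smul_apply, LinearMap.smul_apply, hf'.bilinear.smul_left, hf'.bilinear.smul_right]
      show _ * (_ * f' ((x : Matrix (Fin n) (Fin n) F).mulVec u) ((x : Matrix (Fin n) (Fin n) F).mulVec v)) = _
      rw [hc u v, hcb, ← mul_assoc, ← mul_assoc, ← mul_inv, ← pow_two, inv_mul_cancel₀ (pow_ne_zero 2 hb0), one_mul])
    have hone : finrank F (LinearMap.range (T - 1)) = 1 := by
      have hr : LinearMap.range (T - 1) = Submodule.span F {Pi.single (⟨0, by omega⟩ : Fin n) (1 : F)} := by
        have hap : ∀ u : Fin n → F, (T - 1) u = Pi.single (⟨0, by omega⟩ : Fin n) (-2 * u ⟨0, by omega⟩) := by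
          intro u
          funext a
          show (b : F)⁻¹ • ((Matrix.diagonal dd).mulVec u a) - u a = _
          rw [Matrix.mulVec_diagonal]
          by_cases ha : a = ⟨0, by omega⟩
          · subst ha; simp [dd, hb0]; ring
          · have : (a : ℕ) ≠ 0 := fun e => ha (Fin.ext e)
            simp [dd, this, hb0, ha, Pi.single_eq_of_ne ha]
        refine le_antisymm ?_ ?_
        · rintro _ ⟨u, rfl⟩
          rw [hap]
          exact Submodule.mem_span_singleton.mpr ⟨-2 * u ⟨0, by omega⟩, by rw [← Pi.single_smul, smul_eq_mul, mul_one]⟩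
        · rw [Submodule.span_singleton_le_iff_mem]
          exact ⟨Pi.single (⟨0, by omega⟩ : Fin n) (-2⁻¹), by rw [hap, Pi.single_eq_same]; congr 1; field_simp⟩
      rw [hr, finrank_span_singleton (by simp)]
    rw [hone] at hev
    exact absurd hev (by decide)
  · intro hle x ⟨z, hz⟩ _
    set T := Matrix.toLinAlgEquiv' (x : Matrix (Fin n) (Fin n) F) with hTdef
    have hT : T ^ 2 = z • 1 := pow_scalar 2 hz
    have hdetT : LinearMap.det T = 1 := by
      show LinearMap.det (Matrix.toLin' (x : Matrix (Fin n) (Fin n) F)) = 1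
      rw [LinearMap.det_toLin', x.2]
    have hxv : ∀ v, (x : Matrix (Fin n) (Fin n) F).mulVec v = T v := fun v => rfl
    by_cases hsq : ∃ b : F, b ^ 2 = z
    · obtain ⟨b, rfl⟩ := hsq
      have hb : b ≠ 0 := fun e => by
        have := congrArg LinearMap.det hT
        rw [map_pow, hdetT, one_pow, e, zero_pow two_ne_zero, LinearMap.det_smul, Module.finrank_fin_fun,
          zero_pow (by omega : n ≠ 0), zero_mul] at this
        exact one_ne_zero this
      have hT1 : (b⁻¹ • T) ^ 2 = 1 := by
        rw [_root_.smul_pow, hT, smul_smul, ← mul_pow, inv_mul_cancel₀ hb, one_pow, one_smul]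
      have hTe : ∀ v, T v = b • (b⁻¹ • T) v := fun v => by
        rw [LinearMap.smul_apply, smul_smul, mul_inv_cancel₀ hb, one_smul]
      by_cases h2 : p = 2
      · subst h2
        have hN : (b⁻¹ • T - 1) * (b⁻¹ • T - 1) = 0 := by
          have h20 : (2 : Module.End F (Fin n → F)) = 0 := by
            rw [← map_ofNat (algebraMap F (Module.End F (Fin n → F))) 2, show (2 : F) = 0 from CharP.cast_eq_zero F 2, map_zero]
          calc (b⁻¹ • T - 1) * (b⁻¹ • T - 1) = (b⁻¹ • T) ^ 2 + 1 - 2 * (b⁻¹ • T) := by
                generalize b⁻¹ • T = S'; simp only [sub_mul, mul_sub, one_mul, mul_one, pow_two, two_mul]; abel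
            _ = 0 := by rw [hT1, h20, zero_mul, sub_zero, show (1 : Module.End F (Fin n → F)) + 1 = 2 by norm_num, h20]
        obtain ⟨B, s, hB⟩ := planes_square_zero hd _ hN
        refine conj_of_planes hf hd (by omega) x B (fun j => b • !![1, 0; s j, 1]) (b ^ 2)
          (fun j => by simp [Matrix.det_fin_two]; ring) fun j a => ?_
        have h0 := (hB j).1
        have h1 := (hB j).2
        rw [LinearMap.sub_apply, Module.End.one_apply, sub_eq_iff_eq_add] at h0 h1
        rw [hxv, hTe]
        fin_cases a
        · simp only [Fin.zero_eta, Fin.isValue]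
          rw [h0]
          simp [smul_smul, add_comm]
        · simp only [Fin.mk_one, Fin.isValue]
          rw [h1]
          simp
      · have hev : Even (finrank F (LinearMap.range (b⁻¹ • T - 1))) := by
          by_contra hodd
          have h20 : (2 : F) ≠ 0 := fun h => h2 (by
            have : ((2 : ℕ) : F) = 0 := by exact_mod_cast h
            rw [CharP.cast_eq_zero_iff F p] at this
            exact (Nat.prime_dvd_prime_iff_eq Fact.out Nat.prime_two).mp this)
          set R := LinearMap.range (b⁻¹ • T - 1)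
          have hneg : ∀ v ∈ R, (b⁻¹ • T) v = -v := by
            rintro _ ⟨w, rfl⟩
            have h := LinearMap.congr_fun hT1 w
            rw [pow_two, Module.End.mul_apply, Module.End.one_apply] at h
            rw [LinearMap.sub_apply, Module.End.one_apply, map_sub, h, neg_sub]
          have hRT : R ≤ R.comap (b⁻¹ • T) := fun v hv => by
            show (b⁻¹ • T) v ∈ R
            rw [hneg v hv]
            exact neg_mem hv
          have hd1 := LinearMap.det_eq_det_mul_det R (b⁻¹ • T) hRT
          have hres : (b⁻¹ • T).restrict hRT = (-1 : F) • LinearMap.id := LinearMap.ext fun v => Subtype.ext (by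
            show (b⁻¹ • T) v.1 = _
            rw [hneg _ v.2, LinearMap.smul_apply, LinearMap.id_apply, SetLike.val_smul, neg_one_smul])
          have hquot : R.mapQ R (b⁻¹ • T) hRT = LinearMap.id := LinearMap.ext fun v => by
            obtain ⟨v, rfl⟩ := Submodule.mkQ_surjective R v
            rw [Submodule.mkQ_apply, Submodule.mapQ_apply, LinearMap.id_apply, Submodule.Quotient.eq]
            exact ⟨v, rfl⟩
          rw [LinearMap.det_smul, hdetT, Module.finrank_fin_fun, mul_one, hres, hquot, LinearMap.det_smul, LinearMap.det_id,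
            LinearMap.det_id, mul_one, mul_one, (Nat.not_even_iff_odd.mp hodd).neg_one_pow, inv_pow] at hd1
          have hbn : b ^ n = -1 := inv_injective (hd1.trans (by norm_num))
          obtain ⟨m, hm⟩ := pow_padicValNat_dvd (p := 2) (n := n)
          have hu : orderOf (Units.mk0 (b ^ m) (pow_ne_zero _ hb)) = 2 ^ (padicValNat 2 n + 1) := by
            haveI : Fact (Nat.Prime 2) := ⟨Nat.prime_two⟩
            refine orderOf_eq_prime_pow (fun h => ?_) (Units.ext ?_)
            · have h' := congrArg Units.val h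
              rw [Units.val_pow_eq_pow_val, Units.val_mk0, ← pow_mul, mul_comm, ← hm, hbn, Units.val_one] at h'
              exact h20 (by linear_combination -h')
            · rw [Units.val_pow_eq_pow_val, Units.val_mk0, pow_succ, ← pow_mul, ← mul_assoc, mul_comm m, ← hm, pow_mul,
                hbn, neg_one_sq, Units.val_one]
          have hdvd := orderOf_dvd_natCard (Units.mk0 (b ^ m) (pow_ne_zero _ hb))
          rw [hu, Nat.card_units, Nat.card_eq_fintype_card, padicValNat_dvd_iff_le (by
            have := Fintype.one_lt_card (α := F); omega)] at hdvd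
          omega
        obtain ⟨B, s, hs, hB⟩ := planes_involution (p := p) hd h2 _ hT1 hev
        refine conj_of_planes hf hd (by omega) x B (fun j => (b * s j) • 1) (b ^ 2)
          (fun j => by rw [Matrix.det_smul, Matrix.det_one, Fintype.card_fin, mul_pow, hs, mul_one, mul_one]) fun j a => ?_
        rw [hxv, hTe, hB, smul_smul]
        fin_cases a <;> simp
    · push Not at hsq
      have hgi : Irreducible (X ^ 2 - Polynomial.C z) := X_pow_sub_C_irreducible_of_prime Nat.prime_two hsq
      obtain ⟨N, w, B, hN, hB⟩ := orbit_basis T hgi (by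
        rw [map_sub, map_pow, aeval_X, aeval_C, hT, Algebra.algebraMap_eq_smul_one, sub_self])
      have hdeg : (X ^ 2 - Polynomial.C z).natDegree = 2 := natDegree_X_pow_sub_C
      rw [hdeg, Module.finrank_fin_fun] at hN
      have hNd : N = d := by omega
      let B' : Basis (Fin d × Fin 2) F (Fin n → F) :=
        B.reindex (((finCongr hdeg).prodCongr (finCongr hNd)).trans (Equiv.prodComm _ _))
      have hB' : ∀ k i, B' (k, i) = (T ^ (i : ℕ)) (w (Fin.cast hNd.symm k)) := fun k i => by
        simp [B', hB]
      refine conj_of_planes hf hd (by omega) x B' (fun _ => !![0, z; 1, 0]) (-z)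
        (fun j => by simp [Matrix.det_fin_two]) fun j a => ?_
      rw [hxv, hB', hB', hB', ← Module.End.mul_apply, ← pow_succ']
      fin_cases a
      · simp
      · simp [hT]

end CfsgLib.MaxSub.Elusive
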