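/-
Involutions of `PSL n` inside the normaliser of a quadratic field of matrices.
-/
import Cfsg.Agent.Lib.MaxSub.ElusiveSpTwo
import Cfsg.Agent.Lib.MaxSub.ElusiveImprimTools
import Cfsg.Prelude.Def_GeometricClasses

set_option autoImplicit false
set_option linter.unusedSectionVars false

namespace CfsgLib.MaxSub.Elusive

open Polynomial Module

universe u

variable {F : Type u} [Field F] [Fintype F] {n : ℕ}

theorem exists_norm_eq (z δ : F) (hz : z ≠ 0) : ∃ α β : F, α ^ 2 - z * β ^ 2 = δ := by
  classical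
  by_cases h2 : ringChar F = 2
  · obtain ⟨α, hα⟩ := FiniteField.isSquare_of_char_two h2 δ
    exact ⟨α, 0, by rw [hα]; ring⟩
  · obtain ⟨α, β, h⟩ := FiniteField.exists_root_sum_quadratic (f := (X : F[X]) ^ 2 - C δ) (g := C (-z) * X ^ 2)
      (degree_X_pow_sub_C (by norm_num) _) (degree_C_mul_X_pow 2 (neg_ne_zero.mpr hz))
      (FiniteField.odd_card_of_char_ne_two h2)
    refine ⟨α, β, ?_⟩
    simp only [eval_sub, eval_pow, eval_X, eval_C, eval_mul] at h
    linear_combination h

theorem invol_plane {T : Module.End F (Fin n → F)} {z : F} {d : ℕ} (B : Basis (Fin d × Fin 2) F (Fin n → F))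
    (h0 : ∀ j, T (B (j, 0)) = B (j, 1)) (h1 : ∀ j, T (B (j, 1)) = z • B (j, 0)) (hd : 0 < d) (hz : z ≠ 0) :
    ∀ δ : F, δ ≠ 0 → ∃ S : Module.End F (Fin n → F), S * T = T * S ∧ LinearMap.det S = δ := by
  classical
  intro δ _
  obtain ⟨α, β, hab⟩ := exists_norm_eq z δ hz
  let j0 : Fin d := ⟨0, hd⟩
  let A : Fin d → Matrix (Fin 2) (Fin 2) F := fun j => if j = j0 then !![α, z * β; β, α] else 1
  let S : Module.End F (Fin n → F) := B.constr F fun i => A i.1 0 i.2 • B (i.1, 0) + A i.1 1 i.2 • B (i.1, 1)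
  refine ⟨S, B.ext fun ⟨j, a⟩ => ?_, ?_⟩
  · have hS : ∀ j a, S (B (j, a)) = A j 0 a • B (j, 0) + A j 1 a • B (j, 1) := fun j a => by
      simp only [S, Basis.constr_basis]
    rw [Module.End.mul_apply, Module.End.mul_apply]
    fin_cases a <;> simp only [Fin.zero_eta, Fin.mk_one, Fin.isValue, h0, h1, hS, map_add, map_smul] <;>
      by_cases hj : j = j0 <;> simp [A, hj, smul_smul, add_comm, mul_comm]
  · let B2 : Basis (Fin 2 × Fin d) F (Fin n → F) := B.reindex (Equiv.prodComm _ _)
    rw [← LinearMap.det_toMatrix B2, show LinearMap.toMatrix B2 B2 S = Matrix.blockDiagonal A by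
        ext ⟨a, j⟩ ⟨b, k⟩
        rw [LinearMap.toMatrix_apply]
        simp only [B2, S, Basis.reindex_apply, Equiv.prodComm_symm, Equiv.prodComm_apply, Prod.swap_prod_mk,
          Basis.constr_basis, Basis.repr_reindex_apply, map_add, map_smul, Basis.repr_self, Finsupp.add_apply,
          Finsupp.smul_apply, Finsupp.single_apply, Matrix.blockDiagonal_apply, smul_eq_mul]
        by_cases h : k = j
        · subst h; fin_cases a <;> simp
        · simp [h, Ne.symm h],
      Matrix.det_blockDiagonal, Finset.prod_eq_single j0 (fun b _ hb => by simp [A, hb])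
        (fun h => absurd (Finset.mem_univ _) h)]
    simp [A, Matrix.det_fin_two_of]
    linear_combination hab

/-- Intertwined maps are conjugate under determinant one, given enough determinants in the centraliser. -/
theorem mem_of_intertwine (x : Matrix.SpecialLinearGroup (Fin n) F) (H : Subgroup (GL (Fin n) F))
    (Y : Module.End F (Fin n → F)) (φ : (Fin n → F) ≃ₗ[F] (Fin n → F))
    (hφ : ∀ v, (x : Matrix (Fin n) (Fin n) F).mulVec (φ v) = φ (Y v))
    (hS : ∀ δ : F, δ ≠ 0 → ∃ S : Module.End F (Fin n → F),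
      S * Matrix.toLinAlgEquiv' (x : Matrix (Fin n) (Fin n) F) = Matrix.toLinAlgEquiv' (x : Matrix (Fin n) (Fin n) F) * S ∧
        LinearMap.det S = δ)
    (hY : ∀ g : GL (Fin n) F, (g : Matrix (Fin n) (Fin n) F) = LinearMap.toMatrix' Y → g ∈ H) :
    ∃ P : Matrix.SpecialLinearGroup (Fin n) F,
      P⁻¹ * x * P ∈ H.comap (Matrix.SpecialLinearGroup.toGL : Matrix.SpecialLinearGroup (Fin n) F →* GL (Fin n) F) := by
  obtain ⟨S, hSx, hdet⟩ := hS (LinearMap.det φ.toLinearMap)⁻¹ (inv_ne_zero φ.isUnit_det'.ne_zero)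
  let P : Matrix.SpecialLinearGroup (Fin n) F := ⟨LinearMap.toMatrix' (S ∘ₗ φ.toLinearMap), by
    rw [LinearMap.det_toMatrix', LinearMap.det_comp, hdet, inv_mul_cancel₀ φ.isUnit_det'.ne_zero]⟩
  refine ⟨P, hY _ ?_⟩
  have hxP : (x : Matrix (Fin n) (Fin n) F) * (P : Matrix (Fin n) (Fin n) F) =
      (P : Matrix (Fin n) (Fin n) F) * LinearMap.toMatrix' Y := by
    apply Matrix.toLin'.injective
    refine LinearMap.ext fun v => ?_
    rw [Matrix.toLin'_mul, Matrix.toLin'_mul, Matrix.toLin'_toMatrix', Matrix.toLin'_toMatrix', LinearMap.comp_apply,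
      LinearMap.comp_apply, LinearMap.comp_apply, LinearMap.comp_apply]
    exact ((LinearMap.congr_fun hSx (φ v)).symm).trans (congrArg S (hφ v))
  show (((P⁻¹ * x * P : Matrix.SpecialLinearGroup (Fin n) F)) : Matrix (Fin n) (Fin n) F) = _
  rw [mul_assoc, Matrix.SpecialLinearGroup.coe_mul, Matrix.SpecialLinearGroup.coe_mul, hxP, ← mul_assoc,
    ← Matrix.SpecialLinearGroup.coe_mul, inv_mul_cancel, Matrix.SpecialLinearGroup.coe_one, one_mul]

theorem nonzero_mem_injective {k : ℕ} {K : Subalgebra F (Matrix (Fin n) (Fin n) F)}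
    (hK : Cfsg.Geo.IsFieldSubalgebra k K) {m : Matrix (Fin n) (Fin n) F} (hm : m ∈ K) (hm0 : m ≠ 0) {v : Fin n → F}
    (h : m.mulVec v = 0) : v = 0 := by
  obtain ⟨w, hw, hmw⟩ := hK.inv m hm hm0
  have := congrArg w.mulVec h
  rwa [Matrix.mulVec_mulVec, Matrix.mulVec_zero, hK.comm w hw m hm, hmw, Matrix.one_mulVec] at this

/-- Structure of a quadratic field of matrices. -/
theorem quad_field {K : Subalgebra F (Matrix (Fin n) (Fin n) F)} (hK : Cfsg.Geo.IsFieldSubalgebra 2 K) (hn : 2 ≤ n) :
    ∃ (a : Matrix (Fin n) (Fin n) F) (t s : F), a ∈ K ∧ (∀ c : F, a ≠ c • 1) ∧ (∀ k ∈ K, ∃ c e : F, k = c • 1 + e • a) ∧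
      a * a = t • a - s • 1 ∧ Irreducible ((X : F[X]) ^ 2 - C t * X + C s) := by
  classical
  haveI : Nonempty (Fin n) := ⟨⟨0, by omega⟩⟩
  haveI : Nontrivial K := ⟨⟨0, 1, fun h => zero_ne_one (congrArg Subtype.val h)⟩⟩
  obtain ⟨a', ha'⟩ := exists_linearIndependent_pair_of_one_lt_finrank (R := F) (M := K) (x := (1 : K))
    (by rw [hK.finrank_eq]; norm_num) one_ne_zero
  let b := basisOfLinearIndependentOfCardEqFinrank' (![1, a'] : Fin 2 → K) ha' (by rw [Fintype.card_fin, hK.finrank_eq])
  have hspan : ∀ k ∈ K, ∃ c e : F, k = c • 1 + e • (a' : Matrix (Fin n) (Fin n) F) := fun k hk => by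
    refine ⟨b.repr ⟨k, hk⟩ 0, b.repr ⟨k, hk⟩ 1, ?_⟩
    have := congrArg Subtype.val (b.sum_repr ⟨k, hk⟩)
    simp [Fin.sum_univ_two, b] at this
    exact this.symm
  have hne : ∀ c : F, (a' : Matrix (Fin n) (Fin n) F) ≠ c • 1 := fun c hc => by
    have h := (linearIndependent_fin2.mp ha').2 
    have hi := LinearIndependent.pair_iff.mp ha' (-c) 1 (Subtype.ext (by simp [hc]))
    exact one_ne_zero hi.2
  obtain ⟨c, e, hce⟩ := hspan _ (mul_mem a'.2 a'.2)
  refine ⟨a', e, -c, a'.2, hne, hspan, by rw [hce, neg_smul, sub_neg_eq_add, add_comm], ?_⟩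
  have hdeg : ((X : F[X]) ^ 2 - C e * X + C (-c)).natDegree = 2 := by compute_degree!
  rw [irreducible_iff_roots_eq_zero_of_degree_le_three hdeg.ge (by omega)]
  refine Multiset.eq_zero_of_forall_notMem fun r hr => ?_
  have hr' := (mem_roots'.mp hr).2
  simp only [IsRoot, eval_add, eval_sub, eval_mul, eval_pow, eval_X, eval_C] at hr'
  have hprod : ((a' : Matrix (Fin n) (Fin n) F) - r • 1) * ((a' : Matrix (Fin n) (Fin n) F) - (e - r) • 1) = 0 := by
    have hcr : c = r * r - e * r := by linear_combination -hr'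
    rw [sub_mul, mul_sub, mul_sub, hce, hcr]
    simp only [Algebra.smul_mul_assoc, Algebra.mul_smul_comm, one_mul, mul_one, smul_smul]
    module
  have hmem : ∀ r : F, (a' : Matrix (Fin n) (Fin n) F) - r • 1 ∈ K := fun r => sub_mem a'.2 (Subalgebra.smul_mem _ (one_mem K) r)
  obtain ⟨w, hw, hrw⟩ := hK.inv _ (hmem r) (sub_ne_zero.mpr (hne r))
  refine sub_ne_zero.mpr (hne (e - r)) ?_
  calc _ = w * ((a' : Matrix (Fin n) (Fin n) F) - r • 1) * ((a' : Matrix (Fin n) (Fin n) F) - (e - r) • 1) := by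
        rw [hK.comm w hw _ (hmem r), hrw, one_mul]
    _ = 0 := by rw [mul_assoc, hprod, mul_zero]

theorem mem_normalizer {K : Subalgebra F (Matrix (Fin n) (Fin n) F)} {a : Matrix (Fin n) (Fin n) F}
    (hspan : ∀ k ∈ K, ∃ c e : F, k = c • 1 + e • a) {g : GL (Fin n) F} {w : F} (hg : (g : Matrix (Fin n) (Fin n) F) * g = w • 1)
    {a' : Matrix (Fin n) (Fin n) F} (ha' : a' ∈ K) (h : (g : Matrix (Fin n) (Fin n) F) * a = a' * g) :
    g ∈ Cfsg.Geo.subalgebraNormalizer K := by
  set G := (g : Matrix (Fin n) (Fin n) F)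
  set Gi := ((g⁻¹ : GL (Fin n) F) : Matrix (Fin n) (Fin n) F)
  have hGi : G * Gi = 1 := by rw [← Units.val_mul, mul_inv_cancel, Units.val_one]
  have hiG : Gi * G = 1 := by rw [← Units.val_mul, inv_mul_cancel, Units.val_one]
  have key : ∀ k ∈ K, G * k * Gi ∈ K := fun k hk => by
    obtain ⟨c, e, rfl⟩ := hspan k hk
    have : G * (c • 1 + e • a) * Gi = c • 1 + e • a' := by
      rw [mul_add, add_mul, Algebra.mul_smul_comm, Algebra.mul_smul_comm, h, mul_one, Algebra.smul_mul_assoc,
        Algebra.smul_mul_assoc, mul_assoc, hGi, mul_one]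
    rw [this]
    exact add_mem (Subalgebra.smul_mem _ (one_mem K) c) (Subalgebra.smul_mem _ ha' e)
  intro k
  refine ⟨key k, fun hk => ?_⟩
  have h2 := key _ hk
  have e1 : G * (G * k * Gi) * Gi = k := by
    calc G * (G * k * Gi) * Gi = (G * G) * k * (Gi * Gi) := by simp only [mul_assoc]
      _ = k * ((G * G) * (Gi * Gi)) := by rw [hg]; simp [Algebra.smul_mul_assoc, Algebra.mul_smul_comm]
      _ = k := by rw [mul_assoc G, ← mul_assoc G Gi, hGi, one_mul, hGi, mul_one]
  rwa [e1] at h2

/-- Necessity: no element with a reflection modulo scalars. -/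
theorem field_no_conj {K : Subalgebra F (Matrix (Fin n) (Fin n) F)} (hK : Cfsg.Geo.IsFieldSubalgebra 2 K) (hn : 3 ≤ n)
    (x P : Matrix.SpecialLinearGroup (Fin n) F) (b : F) (hb : b ≠ 0)
    (hx : ((x ^ 2 : Matrix.SpecialLinearGroup (Fin n) F) : Matrix (Fin n) (Fin n) F) = b ^ 2 • 1)
    (hr : finrank F (LinearMap.range (b⁻¹ • Matrix.toLinAlgEquiv' (x : Matrix (Fin n) (Fin n) F) - 1)) = 1)
    (hP : P⁻¹ * x * P ∈ (Cfsg.Geo.subalgebraNormalizer K).comap (Matrix.SpecialLinearGroup.toGL : Matrix.SpecialLinearGroup (Fin n) F →* GL (Fin n) F)) :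
    False := by
  classical
  obtain ⟨a, t, s, ha, hane, hspan, -, -⟩ := quad_field hK (by omega)
  set y : Matrix.SpecialLinearGroup (Fin n) F := P⁻¹ * x * P with hydef
  set Y := b⁻¹ • Matrix.toLinAlgEquiv' (y : Matrix (Fin n) (Fin n) F) with hYdef
  have hy2 : ((y ^ 2 : Matrix.SpecialLinearGroup (Fin n) F) : Matrix (Fin n) (Fin n) F) = b ^ 2 • 1 := by
    rw [show y ^ 2 = P⁻¹ * x ^ 2 * P by rw [hydef, pow_two, pow_two]; group, Matrix.SpecialLinearGroup.coe_mul,
      Matrix.SpecialLinearGroup.coe_mul, hx, Algebra.mul_smul_comm, mul_one, Algebra.smul_mul_assoc,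
      ← Matrix.SpecialLinearGroup.coe_mul, inv_mul_cancel, Matrix.SpecialLinearGroup.coe_one]
  have hY2 : Y ^ 2 = 1 := by
    rw [hYdef, _root_.smul_pow, pow_scalar 2 hy2, smul_smul, ← mul_pow, inv_mul_cancel₀ hb, one_pow, one_smul]
  set R := LinearMap.range (Y - 1) with hR
  have hR1 : finrank F R = 1 := by
    let Pe : (Fin n → F) ≃ₗ[F] (Fin n → F) := Matrix.SpecialLinearGroup.toLin' P⁻¹
    have hc : ∀ v, (Y - 1) (Pe v) = Pe ((b⁻¹ • Matrix.toLinAlgEquiv' (x : Matrix (Fin n) (Fin n) F) - 1) v) := fun v => by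
      show b⁻¹ • (y : Matrix (Fin n) (Fin n) F).mulVec (((P⁻¹ : Matrix.SpecialLinearGroup (Fin n) F) : Matrix (Fin n) (Fin n) F).mulVec v) -
          (((P⁻¹ : Matrix.SpecialLinearGroup (Fin n) F) : Matrix (Fin n) (Fin n) F).mulVec v) =
        ((P⁻¹ : Matrix.SpecialLinearGroup (Fin n) F) : Matrix (Fin n) (Fin n) F).mulVec
          (b⁻¹ • (x : Matrix (Fin n) (Fin n) F).mulVec v - v)
      rw [Matrix.mulVec_sub, Matrix.mulVec_smul, Matrix.mulVec_mulVec, Matrix.mulVec_mulVec,
        ← Matrix.SpecialLinearGroup.coe_mul, ← Matrix.SpecialLinearGroup.coe_mul, hydef, mul_inv_cancel_right]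
    rw [← hr, hR, ← LinearMap.range_comp_of_range_eq_top (Y - 1) (LinearEquiv.range Pe),
      show (Y - 1).comp Pe.toLinearMap = Pe.toLinearMap.comp (b⁻¹ • Matrix.toLinAlgEquiv' (x : Matrix (Fin n) (Fin n) F) - 1) from
        LinearMap.ext hc, LinearMap.range_comp, LinearEquiv.finrank_map_eq]
  have hk : Matrix.SpecialLinearGroup.toGL y ∈ Cfsg.Geo.subalgebraNormalizer K := hP
  have ha' := (hk a).mp ha
  set a' : Matrix (Fin n) (Fin n) F := (y : Matrix (Fin n) (Fin n) F) * a *
    (((Matrix.SpecialLinearGroup.toGL y)⁻¹ : GL (Fin n) F) : Matrix (Fin n) (Fin n) F) with ha'def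
  have hya : (y : Matrix (Fin n) (Fin n) F) * a = a' * (y : Matrix (Fin n) (Fin n) F) := by
    rw [ha'def, mul_assoc, show (((Matrix.SpecialLinearGroup.toGL y)⁻¹ : GL (Fin n) F) : Matrix (Fin n) (Fin n) F) *
      (y : Matrix (Fin n) (Fin n) F) = 1 from Units.inv_mul (Matrix.SpecialLinearGroup.toGL y), mul_one]
  change a' ∈ K at ha'
  have hYa : ∀ v, Y (a.mulVec v) = a'.mulVec (Y v) := fun v => by
    show b⁻¹ • (y : Matrix (Fin n) (Fin n) F).mulVec (a.mulVec v) = a'.mulVec (b⁻¹ • (y : Matrix (Fin n) (Fin n) F).mulVec v)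
    rw [Matrix.mulVec_mulVec, hya, Matrix.mulVec_smul, Matrix.mulVec_mulVec]
  by_cases heq : a' = a
  · haveI : Nontrivial R := Module.nontrivial_of_finrank_eq_succ hR1
    obtain ⟨⟨v, hv⟩, hv0⟩ := exists_ne (0 : R)
    have hv0' : v ≠ 0 := fun h => hv0 (Subtype.ext h)
    have hav : a.mulVec v ∈ R := by
      obtain ⟨w, hw⟩ := hv
      refine ⟨a.mulVec w, ?_⟩
      rw [← hw, LinearMap.sub_apply, LinearMap.sub_apply, Module.End.one_apply, Module.End.one_apply, hYa, heq, Matrix.mulVec_sub]
    obtain ⟨c, hc⟩ := exists_smul_eq_of_finrank_eq_one hR1 hv0 ⟨_, hav⟩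
    refine hv0' (nonzero_mem_injective hK (sub_mem ha (Subalgebra.smul_mem _ (one_mem K) c)) (sub_ne_zero.mpr (hane c)) ?_)
    rw [Matrix.sub_mulVec, Matrix.smul_mulVec, Matrix.one_mulVec, sub_eq_zero]
    exact (congrArg Subtype.val hc).symm
  · set E := LinearMap.ker (Y - 1) with hE
    have hrn := LinearMap.finrank_range_add_finrank_ker (Y - 1)
    rw [← hR, ← hE, hR1, Module.finrank_fin_fun] at hrn
    have hmemE : ∀ v, v ∈ E ↔ Y v = v := fun v => by simp [hE, sub_eq_zero]
    set aE := E.map (Matrix.toLin' a) with haE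
    have hinj : Function.Injective (Matrix.toLin' a) := (injective_iff_map_eq_zero _).mpr fun v hv =>
      nonzero_mem_injective hK ha (fun h0 => hane 0 (by rw [h0, zero_smul])) (by simpa using hv)
    have hdaE : finrank F aE = finrank F E := (Submodule.equivMapOfInjective _ hinj E).symm.finrank_eq
    have hinf : E ⊓ aE = ⊥ := by
      rw [eq_bot_iff]
      rintro u ⟨hu, v, hv, rfl⟩
      have h1 := (hmemE _).mp hu
      rw [Matrix.toLin'_apply, hYa, (hmemE v).mp hv] at h1
      have := nonzero_mem_injective hK (sub_mem ha' ha) (sub_ne_zero.mpr heq) (v := v) (by rw [Matrix.sub_mulVec, h1, sub_self])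
      simp [this]
    have h := Submodule.finrank_sup_add_finrank_inf_eq E aE
    have hle := Submodule.finrank_le (E ⊔ aE)
    rw [hinf, finrank_bot, hdaE, Module.finrank_fin_fun] at *
    omega

theorem pow_of_odd_range (T : Module.End F (Fin n → F)) {b : F} (hb : b ≠ 0) (hT1 : (b⁻¹ • T) ^ 2 = 1)
    (hdetT : LinearMap.det T = 1) (hodd : ¬ Even (finrank F (LinearMap.range (b⁻¹ • T - 1)))) : b ^ n = -1 := by
  set R := LinearMap.range (b⁻¹ • T - 1)
  have hneg : ∀ v ∈ R, (b⁻¹ • T) v = -v := by
    rintro _ ⟨w, rfl⟩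
    have h := LinearMap.congr_fun hT1 w
    rw [pow_two, Module.End.mul_apply, Module.End.one_apply] at h
    rw [LinearMap.sub_apply, Module.End.one_apply, map_sub, h, neg_sub]
  have hRT : R ≤ R.comap (b⁻¹ • T) := fun v hv => by
    show (b⁻¹ • T) v ∈ R
    rw [hneg v hv]
    exact neg_mem hv
  have hd1 := LinearMap.det_eq_det_mul_det R (b⁻¹ • T) hRT
  have hres : (b⁻¹ • T).restrict hRT = (-1 : F) • LinearMap.id := LinearMap.ext fun v => Subtype.ext (by
    show (b⁻¹ • T) v.1 = _
    rw [hneg _ v.2, LinearMap.smul_apply, LinearMap.id_apply, SetLike.val_smul, neg_one_smul])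
  have hquot : R.mapQ R (b⁻¹ • T) hRT = LinearMap.id := LinearMap.ext fun v => by
    obtain ⟨v, rfl⟩ := Submodule.mkQ_surjective R v
    rw [Submodule.mkQ_apply, Submodule.mapQ_apply, LinearMap.id_apply, Submodule.Quotient.eq]
    exact ⟨v, rfl⟩
  rw [LinearMap.det_smul, hdetT, Module.finrank_fin_fun, mul_one, hres, hquot, LinearMap.det_smul, LinearMap.det_id,
    LinearMap.det_id, mul_one, mul_one, (Nat.not_even_iff_odd.mp hodd).neg_one_pow, inv_pow] at hd1
  exact inv_injective (hd1.trans (by norm_num))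

theorem le_factor_of_pow_neg_one (h20 : (2 : F) ≠ 0) (hn : n ≠ 0) {b : F} (hb : b ≠ 0) (hbn : b ^ n = -1) :
    padicValNat 2 n < padicValNat 2 (Fintype.card F - 1) := by
  classical
  obtain ⟨m, hm⟩ := pow_padicValNat_dvd (p := 2) (n := n)
  have hu : orderOf (Units.mk0 (b ^ m) (pow_ne_zero _ hb)) = 2 ^ (padicValNat 2 n + 1) := by
    haveI : Fact (Nat.Prime 2) := ⟨Nat.prime_two⟩
    refine orderOf_eq_prime_pow (fun h => ?_) (Units.ext ?_)
    · have h' := congrArg Units.val h
      rw [Units.val_pow_eq_pow_val, Units.val_mk0, ← pow_mul, mul_comm, ← hm, hbn, Units.val_one] at h'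
      exact h20 (by linear_combination -h')
    · rw [Units.val_pow_eq_pow_val, Units.val_mk0, pow_succ, ← pow_mul, ← mul_assoc, mul_comm m, ← hm, pow_mul,
        hbn, neg_one_sq, Units.val_one]
  have hdvd := orderOf_dvd_natCard (Units.mk0 (b ^ m) (pow_ne_zero _ hb))
  rw [hu, Nat.card_units, Nat.card_eq_fintype_card, padicValNat_dvd_iff_le (by
    have := Fintype.one_lt_card (α := F); omega)] at hdvd
  omega

theorem exists_cyclic_two {d : ℕ} (hd1 : d = 1) (hd : n = 2 * d) (T : Module.End F (Fin n → F)) {z : F}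
    (hT : T * T = z • 1) (hns : ∀ c : F, T ≠ c • 1) :
    ∃ B : Basis (Fin d × Fin 2) F (Fin n → F), (∀ j, T (B (j, 0)) = B (j, 1)) ∧ ∀ j, T (B (j, 1)) = z • B (j, 0) := by
  classical
  obtain ⟨v, hv⟩ : ∃ v, LinearIndependent F ![v, T v] := by
    by_contra hc
    push Not at hc
    have hdep : ∀ v, v ≠ 0 → ∃ c : F, T v = c • v := fun v hv => by
      have h := hc v
      rw [LinearIndependent.pair_iff' hv] at h
      push Not at h
      exact ⟨h.choose, h.choose_spec.symm⟩
    subst hd1
    obtain rfl : n = 2 := hd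
    have he : ∀ i : Fin 2, (Pi.single i (1 : F) : Fin 2 → F) ≠ 0 := fun i => by simp
    obtain ⟨c0, h0⟩ := hdep _ (he 0)
    obtain ⟨c1, h1⟩ := hdep _ (he 1)
    obtain ⟨c2, h2⟩ := hdep (Pi.single 0 1 + Pi.single 1 1) fun h => by simpa using congrFun h 0
    rw [map_add, h0, h1, smul_add] at h2
    have e0 : c0 = c2 := by simpa using congrFun h2 0
    have e1 : c1 = c2 := by simpa using congrFun h2 1
    refine hns c0 (LinearMap.pi_ext' fun i => LinearMap.ext_ring ?_)
    fin_cases i
    · simpa using h0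
    · simpa [e0, ← e1] using h1
  let f : Fin d × Fin 2 → (Fin n → F) := fun i => ![v, T v] i.2
  have hf : LinearIndependent F f := hv.comp _ fun i j h => Prod.ext (Fin.ext (by have := i.1.2; have := j.1.2; omega)) h
  let B := basisOfLinearIndependentOfCardEqFinrank' f hf (by simp [hd, hd1])
  refine ⟨B, fun j => by simp [B, f], fun j => ?_⟩
  have := LinearMap.congr_fun hT v
  simpa [B, f] using this

theorem field_involution_iff (p : ℕ) [Fact p.Prime] [CharP F p] (hn : 2 ≤ n) (hev : Even n)
    {K : Subalgebra F (Matrix (Fin n) (Fin n) F)} (hK : Cfsg.Geo.IsFieldSubalgebra 2 K) :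
    (∀ x : Matrix.SpecialLinearGroup (Fin n) F,
      (∃ z : F, ((x ^ 2 : Matrix.SpecialLinearGroup (Fin n) F) : Matrix (Fin n) (Fin n) F) = z • (1 : Matrix (Fin n) (Fin n) F)) →
      (∀ z : F, (x : Matrix (Fin n) (Fin n) F) ≠ z • (1 : Matrix (Fin n) (Fin n) F)) →
      ∃ P : Matrix.SpecialLinearGroup (Fin n) F, P⁻¹ * x * P ∈ ((Cfsg.Geo.subalgebraNormalizer K).comap (Matrix.SpecialLinearGroup.toGL : Matrix.SpecialLinearGroup (Fin n) F →* GL (Fin n) F))) ↔
    (n = 2 ∨ (Odd (Fintype.card F) ∧ padicValNat 2 (Fintype.card F - 1) ≤ padicValNat 2 n)) := by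
  classical
  obtain ⟨d, hd0⟩ := hev
  have hd : n = 2 * d := by omega
  have hodd2 : Odd (Fintype.card F) ↔ p ≠ 2 := by
    rw [Nat.odd_iff, ← Nat.two_dvd_ne_zero, not_iff_not, dvd_q_iff (F := F) (p := p) Nat.prime_two]
    exact eq_comm
  have hne2 : p ≠ 2 → (2 : F) ≠ 0 := fun h2 h => h2 (by
    have : ((2 : ℕ) : F) = 0 := by exact_mod_cast h
    rw [CharP.cast_eq_zero_iff F p] at this
    exact (Nat.prime_dvd_prime_iff_eq Fact.out Nat.prime_two).mp this)
  constructor
  · intro H
    by_contra hc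
    push Not at hc
    obtain ⟨hn2, hc⟩ := hc
    have hn4 : 4 ≤ n := by omega
    let e0 : Fin n := ⟨0, by omega⟩
    let e1 : Fin n := ⟨1, by omega⟩
    suffices ∃ (x : Matrix.SpecialLinearGroup (Fin n) F) (b : F), b ≠ 0 ∧
        ((x ^ 2 : Matrix.SpecialLinearGroup (Fin n) F) : Matrix (Fin n) (Fin n) F) = b ^ 2 • 1 ∧
        finrank F (LinearMap.range (b⁻¹ • Matrix.toLinAlgEquiv' (x : Matrix (Fin n) (Fin n) F) - 1)) = 1 by
      obtain ⟨x, b, hb, hx, hr⟩ := this
      obtain ⟨P, hP⟩ := H x ⟨b ^ 2, hx⟩ (fun z hz => by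
        have hlin : b⁻¹ • Matrix.toLinAlgEquiv' (x : Matrix (Fin n) (Fin n) F) - 1 =
            (b⁻¹ * z - 1) • (1 : Module.End F (Fin n → F)) := by
          rw [hz, map_smul, map_one, smul_smul]
          module
        rw [hlin] at hr
        by_cases h0 : b⁻¹ * z - 1 = 0
        · rw [h0, zero_smul, LinearMap.range_zero, finrank_bot] at hr; exact zero_ne_one hr
        · rw [LinearMap.range_smul _ _ h0, LinearMap.range_eq_top.mpr (Function.surjective_id), finrank_top,
            Module.finrank_fin_fun] at hr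
          omega)
      exact field_no_conj hK (by omega) x P b hb hx hr hP
    by_cases h2 : p = 2
    · subst h2
      have h01 : e0 ≠ e1 := by simp [e0, e1]
      let x : Matrix.SpecialLinearGroup (Fin n) F := ⟨Matrix.transvection e0 e1 1, Matrix.det_transvection_of_ne _ _ h01 _⟩
      refine ⟨x, 1, one_ne_zero, ?_, ?_⟩
      · rw [Matrix.SpecialLinearGroup.coe_pow, one_pow, one_smul]
        show Matrix.transvection e0 e1 (1 : F) ^ 2 = 1
        rw [pow_two, Matrix.transvection_mul_transvection_same e0 e1 h01, CharTwo.add_self_eq_zero, Matrix.transvection_zero]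
      · have hr : LinearMap.range ((1 : F)⁻¹ • Matrix.toLinAlgEquiv' (x : Matrix (Fin n) (Fin n) F) - 1) =
            Submodule.span F {Pi.single e0 (1 : F)} := by
          have hap : ∀ u, ((1 : F)⁻¹ • Matrix.toLinAlgEquiv' (x : Matrix (Fin n) (Fin n) F) - 1) u = Pi.single e0 (u e1) := by
            intro u
            rw [inv_one, one_smul]
            show (Matrix.transvection e0 e1 (1 : F)).mulVec u - u = _
            rw [Matrix.transvection, Matrix.add_mulVec, Matrix.one_mulVec, add_sub_cancel_left, Matrix.single_mulVec, one_mul]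
            rfl
          refine le_antisymm ?_ ?_
          · rintro _ ⟨u, rfl⟩
            rw [hap]
            exact Submodule.mem_span_singleton.mpr ⟨u e1, by rw [← Pi.single_smul, smul_eq_mul, mul_one]⟩
          · rw [Submodule.span_singleton_le_iff_mem]
            exact ⟨Pi.single e1 1, by rw [hap, Pi.single_eq_same]⟩
        rw [hr, finrank_span_singleton (by simp)]
    · have hlt := hc (hodd2.mpr h2)
      set v := padicValNat 2 n
      have hq1 : Fintype.card F - 1 ≠ 0 := by have := Fintype.one_lt_card (α := F); omega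
      have hv1 : 2 ^ (v + 1) ∣ Fintype.card F - 1 := (padicValNat_dvd_iff_le hq1).mpr hlt
      obtain ⟨ζ, hζ⟩ := IsCyclic.exists_ofOrder_eq_natCard (α := Fˣ)
      rw [Nat.card_units, Nat.card_eq_fintype_card] at hζ
      set b := ζ ^ ((Fintype.card F - 1) / 2 ^ (v + 1)) with hbdef
      have hb : orderOf b = 2 ^ (v + 1) := by
        rw [hbdef, orderOf_pow_of_dvd ((Nat.div_ne_zero_iff_of_dvd hv1).mpr ⟨hq1, pow_ne_zero _ two_ne_zero⟩)
          (by rw [hζ]; exact Nat.div_dvd_of_dvd hv1), hζ, Nat.div_div_self hv1 hq1]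
      have hbn : ((b : Fˣ) : F) ^ n = -1 := by
        have h1 : (((b : Fˣ) : F) ^ n) ^ 2 = 1 := by
          rw [← Units.val_pow_eq_pow_val, ← Units.val_pow_eq_pow_val, ← pow_mul,
            orderOf_dvd_iff_pow_eq_one.mp (by rw [hb, pow_succ]; exact Nat.mul_dvd_mul_right pow_padicValNat_dvd 2), Units.val_one]
        refine (sq_eq_one_iff.mp h1).resolve_left fun h => ?_
        have h' : b ^ n = 1 := Units.ext (by rw [Units.val_pow_eq_pow_val, h, Units.val_one])
        have := orderOf_dvd_of_pow_eq_one h'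
        rw [hb, padicValNat_dvd_iff_le (by omega)] at this
        omega
      let dd : Fin n → F := fun a => if (a : ℕ) = 0 then -(b : F) else (b : F)
      have hdet : (Matrix.diagonal dd).det = 1 := by
        rw [Matrix.det_diagonal, ← Finset.mul_prod_erase _ _ (Finset.mem_univ e0),
          Finset.prod_eq_pow_card (b := (b : F)) (fun a ha => by
            have := (Finset.mem_erase.mp ha).1
            simp only [dd, e0, ne_eq, Fin.ext_iff] at *
            rw [if_neg this]), Finset.card_erase_of_mem (Finset.mem_univ _), Finset.card_univ, Fintype.card_fin]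
        simp only [dd, e0, if_pos]
        rw [neg_mul, ← pow_succ', Nat.sub_add_cancel (by omega : 1 ≤ n), hbn, neg_neg]
      have hb0 : (b : F) ≠ 0 := Units.ne_zero b
      let x : Matrix.SpecialLinearGroup (Fin n) F := ⟨Matrix.diagonal dd, hdet⟩
      refine ⟨x, (b : F), hb0, ?_, ?_⟩
      · refine (congrArg Subtype.val (pow_two x)).trans ?_
        show Matrix.diagonal dd * Matrix.diagonal dd = _
        rw [← pow_two]
        rw [Matrix.diagonal_pow, ← Matrix.diagonal_one, ← Matrix.diagonal_smul]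
        congr 1
        funext a
        show dd a ^ 2 = (b : F) ^ 2 • (1 : F)
        simp only [dd]; split_ifs <;> simp
      · have hr : LinearMap.range ((b : F)⁻¹ • Matrix.toLinAlgEquiv' (Matrix.diagonal dd) - 1) =
            Submodule.span F {Pi.single e0 (1 : F)} := by
          have hap : ∀ u : Fin n → F, ((b : F)⁻¹ • Matrix.toLinAlgEquiv' (Matrix.diagonal dd) - 1) u = Pi.single e0 (-2 * u e0) := by
            intro u
            funext a
            show (b : F)⁻¹ • ((Matrix.diagonal dd).mulVec u a) - u a = _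
            rw [Matrix.mulVec_diagonal]
            by_cases ha : a = e0
            · subst ha; simp [dd, e0, hb0]; ring
            · have : (a : ℕ) ≠ 0 := fun e => ha (Fin.ext e)
              simp [dd, this, hb0, ha, Pi.single_eq_of_ne ha]
          refine le_antisymm ?_ ?_
          · rintro _ ⟨u, rfl⟩
            rw [hap]
            exact Submodule.mem_span_singleton.mpr ⟨-2 * u e0, by rw [← Pi.single_smul, smul_eq_mul, mul_one]⟩
          · rw [Submodule.span_singleton_le_iff_mem]
            have h20 := hne2 h2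
            exact ⟨Pi.single e0 (-2⁻¹), by rw [hap, Pi.single_eq_same]; congr 1; field_simp⟩
        rw [hr, finrank_span_singleton (by simp)]
  · intro hcond x ⟨z, hz⟩ hns
    obtain ⟨a, t, s, ha, hane, hspan, hsq, hirr⟩ := quad_field hK hn
    set T := Matrix.toLinAlgEquiv' (x : Matrix (Fin n) (Fin n) F) with hTdef
    have hT : T ^ 2 = z • 1 := pow_scalar 2 hz
    have hz0 : z ≠ 0 := fun e => by
      have h := congrArg Matrix.det hz
      have hne : Nonempty (Fin n) := ⟨⟨0, by omega⟩⟩
      rw [e, zero_smul, Matrix.det_zero, (x ^ 2).2] at h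
      exact one_ne_zero h
    set A := Matrix.toLinAlgEquiv' a with hAdef
    have hA : A * A = t • A - s • 1 := by rw [hAdef, ← map_mul, hsq, map_sub, map_smul, map_smul, map_one]
    -- plane bases for `a`
    obtain ⟨N, w, B, hN, hB⟩ := orbit_basis A hirr (by
      simp only [map_add, map_sub, map_mul, map_pow, aeval_X, aeval_C, Algebra.algebraMap_eq_smul_one]
      rw [pow_two, hA, smul_mul_assoc, one_mul]; abel)
    have hdeg : ((X : F[X]) ^ 2 - C t * X + C s).natDegree = 2 := by compute_degree!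
    rw [hdeg, Module.finrank_fin_fun] at hN
    have hNd : N = d := by omega
    let BA : Basis (Fin d × Fin 2) F (Fin n → F) :=
      B.reindex (((finCongr hdeg).prodCongr (finCongr hNd)).trans (Equiv.prodComm _ _))
    have hBA : ∀ k, BA (k, 1) = A (BA (k, 0)) := fun k => by simp [BA, hB]
    have hAA : ∀ k, A (BA (k, 1)) = t • BA (k, 1) - s • BA (k, 0) := fun k => by
      rw [hBA, ← Module.End.mul_apply, hA]; simp
    have hmat : ∀ Y : Module.End F (Fin n → F), Matrix.toLinAlgEquiv' (LinearMap.toMatrix' Y) = Y := fun Y =>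
      Matrix.toLin'_toMatrix' Y
    have hmem : ∀ (Y : Module.End F (Fin n → F)) (w : F) (a' : Matrix (Fin n) (Fin n) F), Y * Y = w • 1 → a' ∈ K →
        Y * A = Matrix.toLinAlgEquiv' a' * Y → ∀ g : GL (Fin n) F, (g : Matrix (Fin n) (Fin n) F) = LinearMap.toMatrix' Y →
        g ∈ Cfsg.Geo.subalgebraNormalizer K := by
      intro Y w a' hYY ha' hYA g hg
      refine mem_normalizer hspan (w := w) ?_ ha' ?_ <;> apply Matrix.toLinAlgEquiv'.injective
      · rw [map_mul, hg, hmat, hYY, map_smul, map_one]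
      · rw [map_mul, map_mul, hg, hmat]; exact hYA
    have hplanes : ∀ (Y : Module.End F (Fin n → F)) (B1 B2 : Basis (Fin d × Fin 2) F (Fin n → F)),
        (∀ j, T (B1 (j, 0)) = B1 (j, 1)) → (∀ j, T (B1 (j, 1)) = z • B1 (j, 0)) →
        (∀ j, Y (B2 (j, 0)) = B2 (j, 1)) → (∀ j, Y (B2 (j, 1)) = z • B2 (j, 0)) →
        ∀ H : Subgroup (GL (Fin n) F), (∀ g : GL (Fin n) F, (g : Matrix (Fin n) (Fin n) F) = LinearMap.toMatrix' Y → g ∈ H) →
        ∃ P : Matrix.SpecialLinearGroup (Fin n) F,
          P⁻¹ * x * P ∈ H.comap (Matrix.SpecialLinearGroup.toGL : Matrix.SpecialLinearGroup (Fin n) F →* GL (Fin n) F) := by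
      intro Y B1 B2 h0 h1 g0 g1 H hY
      refine mem_of_intertwine x H Y (B2.equiv B1 (Equiv.refl _)) (fun v => ?_) (invol_plane B1 h0 h1 (by omega) hz0) hY
      refine LinearMap.congr_fun (B2.ext (f₁ := T ∘ₗ (B2.equiv B1 (Equiv.refl _)).toLinearMap)
        (f₂ := (B2.equiv B1 (Equiv.refl _)).toLinearMap ∘ₗ Y) fun ⟨j, i⟩ => ?_) v
      fin_cases i <;> simp [h0, h1, g0, g1]
    by_cases hzs : ∃ b : F, b ^ 2 = z
    · obtain ⟨b, rfl⟩ := hzs
      have hb : b ≠ 0 := fun e => hz0 (by rw [e]; simp)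
      rcases hcond with hn2 | ⟨hqo, hle⟩
      · -- degree two: the semilinear involution
        have hd1 : d = 1 := by omega
        obtain ⟨B1, h0, h1⟩ := exists_cyclic_two hd1 hd T (by rw [← pow_two, hT]) (fun c hc => hns c (by
          apply Matrix.toLinAlgEquiv'.injective; rw [← hTdef, hc, map_smul, map_one]))
        let τ : Module.End F (Fin n → F) := BA.constr F fun i => ![BA (i.1, 0), t • BA (i.1, 0) - BA (i.1, 1)] i.2
        have t0 : ∀ j, τ (BA (j, 0)) = BA (j, 0) := fun j => by simp [τ]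
        have t1 : ∀ j, τ (BA (j, 1)) = t • BA (j, 0) - BA (j, 1) := fun j => by simp [τ]
        have hττ : τ * τ = 1 := BA.ext fun ⟨j, i⟩ => by
          fin_cases i <;> simp [t0, t1]
        let j0 : Fin d := ⟨0, by omega⟩
        have hτA : τ * A = Matrix.toLinAlgEquiv' (t • 1 - a) * τ := BA.ext fun ⟨j, i⟩ => by
          rw [map_sub, map_smul, map_one, ← hAdef]
          fin_cases i
          · simp [t0, ← hBA, t1]
          · simp only [Module.End.mul_apply, Fin.mk_one, Fin.isValue, t1, hAA, map_sub, map_smul, t0, LinearMap.sub_apply,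
              LinearMap.smul_apply, Module.End.one_apply, ← hBA]
            module
        set Y := b • τ with hYdef
        have hYY : Y * Y = b ^ 2 • 1 := by rw [hYdef, smul_mul_smul_comm, hττ, pow_two]
        have hYns : ∀ c : F, Y ≠ c • 1 := by
          intro c hc
          have hτc : τ = (b⁻¹ * c) • 1 := by
            rw [← smul_smul, ← hc, hYdef, smul_smul, inv_mul_cancel₀ hb, one_smul]
          have e0 := t0 j0
          have e1 := t1 j0
          rw [hτc, LinearMap.smul_apply, Module.End.one_apply] at e0 e1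
          have hk : b⁻¹ * c = 1 := by
            have := sub_eq_zero.mpr e0
            rw [← one_smul F (BA (j0, 0)), smul_smul, mul_one, ← sub_smul, smul_eq_zero] at this
            exact sub_eq_zero.mp (this.resolve_right (BA.ne_zero _))
          rw [hk, one_smul, eq_sub_iff_add_eq, ← two_smul F] at e1
          have e2 := congrArg BA.repr e1
          simp only [map_smul, Basis.repr_self] at e2
          have h2 : (2 : F) = 0 := by simpa using DFunLike.congr_fun e2 (j0, 1)
          have ht : t = 0 := by simpa [h2] using (DFunLike.congr_fun e2 (j0, 0)).symm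
          obtain ⟨r, hr⟩ := FiniteField.isSquare_of_char_two (ringChar.eq_iff.mpr (CharTwo.of_one_ne_zero_of_two_eq_zero one_ne_zero h2)) (-s)
          haveI := CharTwo.of_one_ne_zero_of_two_eq_zero (one_ne_zero (α := F)) h2
          have hroot : ((X : F[X]) ^ 2 - C t * X + C s).IsRoot r := by
            simp only [IsRoot, eval_add, eval_sub, eval_mul, eval_pow, eval_X, eval_C, ht, pow_two, ← hr]
            ring
          have h3 := (irreducible_iff_roots_eq_zero_of_degree_le_three hdeg.ge (by omega)).mp hirr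
          have : r ∈ ((X : F[X]) ^ 2 - C t * X + C s).roots := mem_roots'.mpr ⟨hirr.ne_zero, hroot⟩
          simp [h3] at this
        obtain ⟨B2, g0, g1⟩ := exists_cyclic_two hd1 hd Y hYY hYns
        refine hplanes Y B1 B2 h0 h1 g0 g1 _ (hmem Y (b ^ 2) (t • 1 - a) hYY
          (sub_mem (Subalgebra.smul_mem _ (one_mem K) t) ha) ?_)
        rw [hYdef, smul_mul_assoc, hτA, mul_smul_comm]
      · have h2 := hodd2.mp hqo
        have hT1 : (b⁻¹ • T) ^ 2 = 1 := by
          rw [_root_.smul_pow, hT, smul_smul, ← mul_pow, inv_mul_cancel₀ hb, one_pow, one_smul]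
        have hdetT : LinearMap.det T = 1 := by
          show LinearMap.det (Matrix.toLin' (x : Matrix (Fin n) (Fin n) F)) = 1
          rw [LinearMap.det_toLin', x.2]
        have hev : Even (finrank F (LinearMap.range (b⁻¹ • T - 1))) := by
          by_contra hodd
          have hbn := pow_of_odd_range (n := n) T hb hT1 hdetT hodd
          have := le_factor_of_pow_neg_one (hne2 h2) (by omega) hb hbn
          omega
        obtain ⟨B1, sg, hsg, hB1⟩ := planes_involution (p := p) hd h2 _ hT1 hev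
        let Y : Module.End F (Fin n → F) := BA.constr F fun i => (b * sg i.1) • BA i
        have hY : ∀ j i, Y (BA (j, i)) = (b * sg j) • BA (j, i) := fun j i => by simp [Y]
        have hYY : Y * Y = b ^ 2 • 1 := BA.ext fun ⟨j, i⟩ => by
          rw [Module.End.mul_apply, hY, map_smul, hY, smul_smul, LinearMap.smul_apply, Module.End.one_apply]
          congr 1
          linear_combination b ^ 2 * hsg j
        have hYA : Y * A = A * Y := BA.ext fun ⟨j, i⟩ => by
          fin_cases i
          · simp [hY, ← hBA]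
          · simp [hY, hAA, smul_sub, smul_smul, mul_comm]
        have hTe : ∀ j i, T (B1 (j, i)) = (b * sg j) • B1 (j, i) := fun j i => by
          have h := hB1 j i
          rw [LinearMap.smul_apply, inv_smul_eq_iff₀ hb] at h
          rw [h, smul_smul]
        refine mem_of_intertwine x _ Y (BA.equiv B1 (Equiv.refl _)) (fun v => ?_) ?_ (hmem Y (b ^ 2) a hYY ha hYA)
        · refine LinearMap.congr_fun (BA.ext (f₁ := T ∘ₗ (BA.equiv B1 (Equiv.refl _)).toLinearMap)
            (f₂ := (BA.equiv B1 (Equiv.refl _)).toLinearMap ∘ₗ Y) fun ⟨j, i⟩ => ?_) v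
          simp [hY, hTe]
        · intro δ _
          let i0 : Fin d × Fin 2 := (⟨0, by omega⟩, 0)
          refine ⟨B1.constr F fun i => (if i = i0 then δ else 1) • B1 i, B1.ext fun ⟨j, i⟩ => ?_, ?_⟩
          · rw [Module.End.mul_apply, Module.End.mul_apply, ← hTdef, hTe, map_smul, Basis.constr_basis, map_smul, hTe, smul_comm]
          · rw [← LinearMap.det_toMatrix B1, show LinearMap.toMatrix B1 B1 (B1.constr F fun i => (if i = i0 then δ else 1) • B1 i) =
                Matrix.diagonal fun i => if i = i0 then δ else 1 by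
              ext u v
              rw [LinearMap.toMatrix_apply, Basis.constr_basis, map_smul, Basis.repr_self, Finsupp.smul_single, smul_eq_mul,
                mul_one, Finsupp.single_apply, Matrix.diagonal_apply]
              by_cases h : u = v
              · subst h; simp
              · simp [h, Ne.symm h],
              Matrix.det_diagonal, Finset.prod_ite_eq' Finset.univ i0, if_pos (Finset.mem_univ _)]
    · push Not at hzs
      have h2 : ringChar F ≠ 2 := fun h => by
        obtain ⟨r, hr⟩ := FiniteField.isSquare_of_char_two h z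
        exact hzs r (by rw [hr, pow_two])
      have h20 : (2 : F) ≠ 0 := Ring.two_ne_zero h2
      set D := t ^ 2 - 4 * s with hDdef
      have h3 := (irreducible_iff_roots_eq_zero_of_degree_le_three hdeg.ge (by omega)).mp hirr
      have hDns : ¬ IsSquare D := by
        rintro ⟨r, hr⟩
        have : (t + r) / 2 ∈ ((X : F[X]) ^ 2 - C t * X + C s).roots := mem_roots'.mpr ⟨hirr.ne_zero, by
          simp only [IsRoot, eval_add, eval_sub, eval_mul, eval_pow, eval_X, eval_C]
          field_simp
          linear_combination -hr⟩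
        simp [h3] at this
      have hD0 : D ≠ 0 := fun h => hDns (h ▸ IsSquare.zero)
      obtain ⟨c, hc⟩ : IsSquare (z / D) := by
        rw [FiniteField.isSquare_iff h2 (div_ne_zero hz0 hD0), div_pow]
        have e1 := (FiniteField.pow_dichotomy h2 hz0).resolve_left fun h => by
          obtain ⟨r, hr⟩ := (FiniteField.isSquare_iff h2 hz0).mpr h
          exact hzs r (by rw [hr, pow_two])
        have e2 := (FiniteField.pow_dichotomy h2 hD0).resolve_left fun h => hDns ((FiniteField.isSquare_iff h2 hD0).mpr h)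
        rw [e1, e2, div_self (neg_ne_zero.mpr one_ne_zero)]
      set y : Matrix (Fin n) (Fin n) F := c • (2 • a - t • 1) with hydef
      have hy : y ∈ K := Subalgebra.smul_mem _ (sub_mem (nsmul_mem ha 2) (Subalgebra.smul_mem _ (one_mem K) t)) c
      set Y := Matrix.toLinAlgEquiv' y with hYdef
      have hYe : Y = c • ((2 : F) • A - t • 1) := by
        rw [hYdef, hydef, map_smul, map_sub, map_nsmul, map_smul, map_one, two_smul F, two_nsmul]
      have hYY : Y * Y = z • 1 := by
        have hzc : z = c * c * D := by rw [← hc]; field_simp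
        rw [hYe, smul_mul_smul_comm, sub_mul, mul_sub, mul_sub, smul_mul_smul_comm, hA]
        simp only [Algebra.smul_mul_assoc, Algebra.mul_smul_comm, one_mul, mul_one, hzc, hDdef]
        module
      have hzirr : Irreducible (X ^ 2 - Polynomial.C z) := X_pow_sub_C_irreducible_of_prime Nat.prime_two hzs
      have hdegz : (X ^ 2 - Polynomial.C z).natDegree = 2 := natDegree_X_pow_sub_C
      have hbases : ∀ T' : Module.End F (Fin n → F), T' * T' = z • 1 → ∃ B' : Basis (Fin d × Fin 2) F (Fin n → F),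
          (∀ j, T' (B' (j, 0)) = B' (j, 1)) ∧ ∀ j, T' (B' (j, 1)) = z • B' (j, 0) := by
        intro T' hT'
        obtain ⟨N', w', B', hN', hB'⟩ := orbit_basis T' hzirr (by
          rw [map_sub, map_pow, aeval_X, aeval_C, pow_two, hT', Algebra.algebraMap_eq_smul_one, sub_self])
        rw [hdegz, Module.finrank_fin_fun] at hN'
        have hN'd : N' = d := by omega
        refine ⟨B'.reindex (((finCongr hdegz).prodCongr (finCongr hN'd)).trans (Equiv.prodComm _ _)), fun j => ?_, fun j => ?_⟩
        · simp [hB']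
        · simp only [Basis.reindex_apply]
          simp [hB', ← Module.End.mul_apply, hT']
      obtain ⟨B1, h0, h1⟩ := hbases T (by rw [← pow_two, hT])
      obtain ⟨B2, g0, g1⟩ := hbases Y hYY
      refine hplanes Y B1 B2 h0 h1 g0 g1 _ (hmem Y z a hYY ha ?_)
      rw [hYdef, hAdef, ← map_mul, ← map_mul, hK.comm y hy a ha]

end CfsgLib.MaxSub.Elusive
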