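/-
Elements of order `n` inside the normaliser of a Singer cycle, `n` prime.
-/
import Cfsg.Agent.Lib.MaxSub.ElusiveImprim
import Cfsg.Agent.Lib.MaxSub.ElusiveField
import Cfsg.Agent.Lib.SLCard

set_option autoImplicit false
set_option linter.unusedSectionVars false

namespace CfsgLib.MaxSub.Elusive

open Polynomial Module

universe u

variable {F : Type u} [Field F] [Fintype F] {n : ℕ}

theorem isField_of_fieldSubalgebra {k : ℕ} {K : Subalgebra F (Matrix (Fin n) (Fin n) F)}
    (hK : Cfsg.Geo.IsFieldSubalgebra k K) (hn : 0 < n) : IsField ↥K := by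
  haveI : Nonempty (Fin n) := ⟨⟨0, hn⟩⟩
  refine ⟨⟨0, 1, fun h => zero_ne_one (congrArg (fun x : ↥K => (x : Matrix (Fin n) (Fin n) F)) h)⟩,
    fun x y => Subtype.ext (hK.comm x x.2 y y.2), fun {a} ha => ?_⟩
  obtain ⟨y, hy, hay⟩ := hK.inv a a.2 fun h => ha (Subtype.ext h)
  exact ⟨⟨y, hy⟩, Subtype.ext hay⟩

/-- The coordinates given by a nonzero vector. -/
theorem exists_coord {K : Subalgebra F (Matrix (Fin n) (Fin n) F)} (hK : Cfsg.Geo.IsFieldSubalgebra n K)
    {v : Fin n → F} (hv : v ≠ 0) : ∃ φ : K ≃ₗ[F] (Fin n → F), ∀ a : K, φ a = (a : Matrix (Fin n) (Fin n) F).mulVec v := by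
  let f : K →ₗ[F] (Fin n → F) :=
    { toFun := fun a => (a : Matrix (Fin n) (Fin n) F).mulVec v
      map_add' := fun a b => by simp [Matrix.add_mulVec]
      map_smul' := fun c a => by simp [Matrix.smul_mulVec] }
  have hinj : Function.Injective f := (injective_iff_map_eq_zero f).mpr fun a ha => by
    by_contra h
    exact hv (nonzero_mem_injective hK a.2 (fun e => h (Subtype.ext e)) ha)
  exact ⟨LinearEquiv.ofInjectiveOfFinrankEq f hinj (by rw [hK.finrank_eq, Module.finrank_fin_fun]), fun a => rfl⟩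

/-- A semilinear map permuting a normal basis. -/
theorem exists_frobenius {K : Subalgebra F (Matrix (Fin n) (Fin n) F)} (hK : Cfsg.Geo.IsFieldSubalgebra n K) (hn : 0 < n) :
    ∃ (Y : Module.End F (Fin n → F)) (w v : Fin n → F),
      Y ^ n = 1 ∧ LinearIndependent F (fun j : Fin n => (Y ^ (j : ℕ)) w) ∧ v ≠ 0 ∧ Y v = v ∧
      ∀ g : GL (Fin n) F, (g : Matrix (Fin n) (Fin n) F) = LinearMap.toMatrix' Y → g ∈ Cfsg.Geo.subalgebraNormalizer K := by
  classical
  letI : Field ↥K := (isField_of_fieldSubalgebra hK hn).toField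
  let v0 : Fin n → F := Pi.single ⟨0, hn⟩ 1
  have hv0 : v0 ≠ 0 := by simp [v0]
  obtain ⟨φ, hφ⟩ := exists_coord hK hv0
  let σ : ↥K ≃ₐ[F] ↥K := FiniteField.frobeniusAlgEquivOfAlgebraic F ↥K
  let Y : Module.End F (Fin n → F) := φ.conjAlgEquiv F σ.toLinearMap
  have hY : ∀ a, Y (φ a) = φ (σ a) := fun a => by simp [Y, LinearEquiv.conjAlgEquiv_apply]
  have hord : orderOf σ = n := by
    rw [FiniteField.orderOf_frobeniusAlgEquivOfAlgebraic, hK.finrank_eq]
  have hpow : ∀ (j : ℕ) a, (Y ^ j) (φ a) = φ ((σ ^ j) a) := by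
    intro j
    induction j with
    | zero => intro a; simp
    | succ j ih => intro a; rw [pow_succ', Module.End.mul_apply, ih, hY, pow_succ']; rfl
  obtain ⟨x, hx⟩ := exists_linearIndependent_algEquiv_apply F ↥K
  have hone : φ 1 = v0 := by rw [hφ]; simp
  refine ⟨Y, φ x, v0, ?_, ?_, hv0, by rw [← hone, hY, map_one], fun g hg => ?_⟩
  · refine LinearMap.ext fun v => ?_
    obtain ⟨a, rfl⟩ := φ.surjective v
    rw [hpow, orderOf_dvd_iff_pow_eq_one.mp hord.dvd]
    rfl
  · have hinj : Function.Injective fun j : Fin n => σ ^ (j : ℕ) := fun i j h =>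
      Fin.ext (pow_injOn_Iio_orderOf (by simp [hord]) (by simp [hord]) h)
    have h := (hx.comp _ hinj).map' φ.toLinearMap φ.ker
    suffices heq : (fun j : Fin n => (Y ^ (j : ℕ)) (φ x)) = φ ∘ (fun σ' : ↥K ≃ₐ[F] ↥K => σ' x) ∘ fun j : Fin n => σ ^ (j : ℕ) by
      rw [heq]; exact h
    funext j
    exact hpow j x
  · set G := (g : Matrix (Fin n) (Fin n) F) with hG
    have hGmul : ∀ a : K, G * (a : Matrix (Fin n) (Fin n) F) = (σ a : Matrix (Fin n) (Fin n) F) * G := by
      intro a
      apply Matrix.toLin'.injective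
      refine LinearMap.ext fun u => ?_
      obtain ⟨c, rfl⟩ := φ.surjective u
      rw [Matrix.toLin'_mul, Matrix.toLin'_mul, LinearMap.comp_apply, LinearMap.comp_apply, hg, Matrix.toLin'_toMatrix',
        Matrix.toLin'_apply, Matrix.toLin'_apply, hY, hφ, hφ, Matrix.mulVec_mulVec, Matrix.mulVec_mulVec]
      rw [← Subalgebra.coe_mul, ← hφ, hY, hφ, map_mul, Subalgebra.coe_mul]
    have hGi : G * ((g⁻¹ : GL (Fin n) F) : Matrix (Fin n) (Fin n) F) = 1 := by
      rw [hG, ← Units.val_mul, mul_inv_cancel, Units.val_one]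
    have hiG : ((g⁻¹ : GL (Fin n) F) : Matrix (Fin n) (Fin n) F) * G = 1 := by
      rw [hG, ← Units.val_mul, inv_mul_cancel, Units.val_one]
    intro k
    constructor
    · intro hk
      rw [hGmul ⟨k, hk⟩, mul_assoc, hGi, mul_one]
      exact (σ ⟨k, hk⟩).2
    · intro hk
      obtain ⟨a, ha⟩ := σ.surjective ⟨_, hk⟩
      have h := hGmul a
      rw [show (σ a : Matrix (Fin n) (Fin n) F) = G * k * ((g⁻¹ : GL (Fin n) F) : Matrix (Fin n) (Fin n) F) from
        congrArg Subtype.val ha, mul_assoc (G * k), hiG, mul_one] at h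
      have h' := congrArg (((g⁻¹ : GL (Fin n) F) : Matrix (Fin n) (Fin n) F) * ·) h
      simp only [← mul_assoc, hiG, one_mul] at h'
      exact h' ▸ a.2

/-- No conjugate in the normaliser has a large fixed space. -/
theorem singer_no_conj {K : Subalgebra F (Matrix (Fin n) (Fin n) F)} (hK : Cfsg.Geo.IsFieldSubalgebra n K)
    (hn : n.Prime) (x P : Matrix.SpecialLinearGroup (Fin n) F) (b : F)
    (h2 : 2 ≤ finrank F (LinearMap.ker (b⁻¹ • Matrix.toLinAlgEquiv' (x : Matrix (Fin n) (Fin n) F) - 1)))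
    (hlt : finrank F (LinearMap.ker (b⁻¹ • Matrix.toLinAlgEquiv' (x : Matrix (Fin n) (Fin n) F) - 1)) < n)
    (hP : P⁻¹ * x * P ∈ (Cfsg.Geo.subalgebraNormalizer K).comap (Matrix.SpecialLinearGroup.toGL : Matrix.SpecialLinearGroup (Fin n) F →* GL (Fin n) F)) :
    False := by
  classical
  letI : Field ↥K := (isField_of_fieldSubalgebra hK hn.pos).toField
  set y : Matrix.SpecialLinearGroup (Fin n) F := P⁻¹ * x * P with hydef
  set Y := b⁻¹ • Matrix.toLinAlgEquiv' (y : Matrix (Fin n) (Fin n) F) with hYdef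
  set E := LinearMap.ker (Y - 1) with hE
  have hmemE : ∀ v, v ∈ E ↔ Y v = v := fun v => by simp [hE, sub_eq_zero]
  have hEd : finrank F E = finrank F (LinearMap.ker (b⁻¹ • Matrix.toLinAlgEquiv' (x : Matrix (Fin n) (Fin n) F) - 1)) := by
    let Pe : (Fin n → F) ≃ₗ[F] (Fin n → F) := Matrix.SpecialLinearGroup.toLin' P⁻¹
    have hc : ∀ v, (Y - 1) (Pe v) = Pe ((b⁻¹ • Matrix.toLinAlgEquiv' (x : Matrix (Fin n) (Fin n) F) - 1) v) := fun v => by
      show b⁻¹ • (y : Matrix (Fin n) (Fin n) F).mulVec (((P⁻¹ : Matrix.SpecialLinearGroup (Fin n) F) : Matrix (Fin n) (Fin n) F).mulVec v) -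
          (((P⁻¹ : Matrix.SpecialLinearGroup (Fin n) F) : Matrix (Fin n) (Fin n) F).mulVec v) =
        ((P⁻¹ : Matrix.SpecialLinearGroup (Fin n) F) : Matrix (Fin n) (Fin n) F).mulVec
          (b⁻¹ • (x : Matrix (Fin n) (Fin n) F).mulVec v - v)
      rw [Matrix.mulVec_sub, Matrix.mulVec_smul, Matrix.mulVec_mulVec, Matrix.mulVec_mulVec,
        ← Matrix.SpecialLinearGroup.coe_mul, ← Matrix.SpecialLinearGroup.coe_mul, hydef, mul_inv_cancel_right]
    have hEm : E = (LinearMap.ker (b⁻¹ • Matrix.toLinAlgEquiv' (x : Matrix (Fin n) (Fin n) F) - 1)).map Pe.toLinearMap := by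
      ext u
      obtain ⟨v, rfl⟩ := Pe.surjective u
      rw [hE, LinearMap.mem_ker, hc, Submodule.mem_map]
      constructor
      · intro h; exact ⟨v, (map_eq_zero_iff _ Pe.injective).mp h, rfl⟩
      · rintro ⟨w, hw, hwv⟩
        rw [← Pe.injective hwv, LinearMap.mem_ker.mp hw, map_zero]
    rw [hEm, LinearEquiv.finrank_map_eq]
  have hk : Matrix.SpecialLinearGroup.toGL y ∈ Cfsg.Geo.subalgebraNormalizer K := hP
  have hconj : ∀ a ∈ K, ∃ a' ∈ K, (y : Matrix (Fin n) (Fin n) F) * a = a' * (y : Matrix (Fin n) (Fin n) F) ∧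
      ∀ v, Y (a.mulVec v) = a'.mulVec (Y v) := fun a ha => by
    refine ⟨_, (hk a).mp ha, ?_⟩
    have h : (y : Matrix (Fin n) (Fin n) F) * a = ((Matrix.SpecialLinearGroup.toGL y : GL (Fin n) F) : Matrix (Fin n) (Fin n) F) * a *
        (((Matrix.SpecialLinearGroup.toGL y)⁻¹ : GL (Fin n) F) : Matrix (Fin n) (Fin n) F) * (y : Matrix (Fin n) (Fin n) F) := by
      rw [mul_assoc, show (((Matrix.SpecialLinearGroup.toGL y)⁻¹ : GL (Fin n) F) : Matrix (Fin n) (Fin n) F) *
        (y : Matrix (Fin n) (Fin n) F) = 1 from Units.inv_mul (Matrix.SpecialLinearGroup.toGL y), mul_one]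
      rfl
    refine ⟨h, fun v => ?_⟩
    show b⁻¹ • (y : Matrix (Fin n) (Fin n) F).mulVec (a.mulVec v) = _
    rw [Matrix.mulVec_mulVec, h, hYdef, LinearMap.smul_apply, Matrix.mulVec_smul, ← Matrix.mulVec_mulVec]
    rfl
  rw [← hEd] at h2 hlt
  haveI : Nontrivial E := Module.nontrivial_of_finrank_pos (R := F) (by omega)
  obtain ⟨⟨v, hvE⟩, hv0⟩ := exists_ne (0 : E)
  have hv : v ≠ 0 := fun h => hv0 (Subtype.ext h)
  obtain ⟨φ, hφ⟩ := exists_coord hK hv
  obtain ⟨w, hwE, hw⟩ : ∃ w ∈ E, w ∉ Submodule.span F {v} := by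
    by_contra h
    push Not at h
    have := Submodule.finrank_mono (show E ≤ Submodule.span F {v} from h)
    rw [finrank_span_singleton hv] at this
    omega
  obtain ⟨a, ha⟩ := φ.surjective w
  rw [hφ] at ha
  -- the subfield commuting with `y`
  let C : Subalgebra F ↥K := (Subalgebra.centralizer F {(y : Matrix (Fin n) (Fin n) F)}).comap K.val
  have haC : a ∈ C := by
    obtain ⟨a', ha', hya, hYa⟩ := hconj a a.2
    have h := hYa v
    rw [(hmemE v).mp hvE, ha, (hmemE w).mp hwE, ← ha] at h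
    have heq : (a : Matrix (Fin n) (Fin n) F) = a' := by
      by_contra hne
      exact hv (nonzero_mem_injective hK (sub_mem a.2 ha') (sub_ne_zero.mpr hne) (by rw [Matrix.sub_mulVec, h, sub_self]))
    rw [← heq] at hya
    intro m hm
    obtain rfl := Set.mem_singleton_iff.mp hm
    exact hya
  haveI := Subalgebra.isSimpleOrder_of_finrank_prime F ↥K (hK.finrank_eq.symm ▸ hn)
  rcases eq_bot_or_eq_top C with h | h
  · rw [h, Algebra.mem_bot] at haC
    obtain ⟨c, hc⟩ := haC
    apply hw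
    rw [Submodule.mem_span_singleton, ← ha]
    refine ⟨c, ?_⟩
    rw [← hc]
    show c • v = (algebraMap F (Matrix (Fin n) (Fin n) F) c).mulVec v
    rw [Algebra.algebraMap_eq_smul_one, Matrix.smul_mulVec, Matrix.one_mulVec]
  · have htop : E = ⊤ := by
      rw [eq_top_iff]
      intro u _
      obtain ⟨k, rfl⟩ := φ.surjective u
      have hkC : k ∈ C := h ▸ Algebra.mem_top
      have hcomm : (y : Matrix (Fin n) (Fin n) F) * (k : Matrix (Fin n) (Fin n) F) =
          (k : Matrix (Fin n) (Fin n) F) * (y : Matrix (Fin n) (Fin n) F) := hkC _ (Set.mem_singleton _)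
      rw [hmemE, hφ]
      show b⁻¹ • (y : Matrix (Fin n) (Fin n) F).mulVec ((k : Matrix (Fin n) (Fin n) F).mulVec v) = _
      rw [Matrix.mulVec_mulVec, hcomm, ← Matrix.mulVec_mulVec, ← Matrix.mulVec_smul]
      exact congrArg _ ((hmemE v).mp hvE)
    rw [htop, finrank_top, Module.finrank_fin_fun] at hlt
    omega

/-- Cyclic maps with the same scalar power are similar. -/
theorem similar_of_cyclic (hn : 0 < n) (T Y : Module.End F (Fin n → F)) {z : F} (hT : T ^ n = z • 1) (hY : Y ^ n = z • 1)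
    {v w : Fin n → F} (hv : LinearIndependent F fun j : Fin n => (T ^ (j : ℕ)) v)
    (hw : LinearIndependent F fun j : Fin n => (Y ^ (j : ℕ)) w) :
    ∃ φ : (Fin n → F) ≃ₗ[F] (Fin n → F), ∀ u, T (φ u) = φ (Y u) := by
  let B1 := basisOfLinearIndependentOfCardEqFinrank' _ hv (by simp)
  let B2 := basisOfLinearIndependentOfCardEqFinrank' _ hw (by simp)
  refine ⟨B2.equiv B1 (Equiv.refl _), fun u => LinearMap.congr_fun (B2.ext (f₁ := T ∘ₗ (B2.equiv B1 (Equiv.refl _)).toLinearMap)
    (f₂ := (B2.equiv B1 (Equiv.refl _)).toLinearMap ∘ₗ Y) fun j => ?_) u⟩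
  show T (B2.equiv B1 (Equiv.refl _) (B2 j)) = B2.equiv B1 (Equiv.refl _) (Y (B2 j))
  rw [Basis.equiv_apply]
  simp only [Equiv.refl_apply, B1, coe_basisOfLinearIndependentOfCardEqFinrank']
  rw [show Y (B2 j) = (Y ^ ((j : ℕ) + 1)) w by simp [B2, pow_succ'], ← Module.End.mul_apply, ← pow_succ']
  by_cases h : (j : ℕ) + 1 < n
  · rw [show (Y ^ ((j : ℕ) + 1)) w = B2 ⟨_, h⟩ by simp [B2], Basis.equiv_apply]
    simp [B1]
  · rw [show (j : ℕ) + 1 = n by omega, hT, hY, LinearMap.smul_apply, LinearMap.smul_apply, Module.End.one_apply,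
      Module.End.one_apply, map_smul, show w = B2 ⟨0, hn⟩ by simp [B2], Basis.equiv_apply]
    simp [B1]

variable {p : ℕ} [Fact p.Prime] [CharP F p]

/-- Regular elements of order `n`. -/
theorem regular_conj {K : Subalgebra F (Matrix (Fin n) (Fin n) F)} (hK : Cfsg.Geo.IsFieldSubalgebra n K) (hn : n.Prime)
    (hnp : n ≠ p) (x : Matrix.SpecialLinearGroup (Fin n) F)
    (hT : (Matrix.toLinAlgEquiv' (x : Matrix (Fin n) (Fin n) F)) ^ n = 1)
    (hE : LinearMap.ker (Matrix.toLinAlgEquiv' (x : Matrix (Fin n) (Fin n) F) - 1) ≠ ⊥)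
    {v : Fin n → F} (hv : LinearIndependent F fun j : Fin n => ((Matrix.toLinAlgEquiv' (x : Matrix (Fin n) (Fin n) F)) ^ (j : ℕ)) v) :
    ∃ P : Matrix.SpecialLinearGroup (Fin n) F, P⁻¹ * x * P ∈
      (Cfsg.Geo.subalgebraNormalizer K).comap (Matrix.SpecialLinearGroup.toGL : Matrix.SpecialLinearGroup (Fin n) F →* GL (Fin n) F) := by
  classical
  set T := Matrix.toLinAlgEquiv' (x : Matrix (Fin n) (Fin n) F)
  obtain ⟨Y, w, -, hY, hw, -, -, hmem⟩ := exists_frobenius hK hn.pos
  obtain ⟨φ, hφ⟩ := similar_of_cyclic hn.pos T Y (z := 1) (by rw [hT, one_smul]) (by rw [hY, one_smul]) hv hw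
  refine mem_of_intertwine x _ Y φ hφ (fun δ _ => ?_) hmem
  have hinf := ker_inf_range (p := p) T hn hnp hT
  have hc : IsCompl (LinearMap.ker (T - 1)) (LinearMap.range (T - 1)) := by
    refine ⟨disjoint_iff.mpr hinf, codisjoint_iff.mpr (Submodule.eq_top_of_finrank_eq ?_)⟩
    have h := Submodule.finrank_sup_add_finrank_inf_eq (LinearMap.ker (T - 1)) (LinearMap.range (T - 1))
    rw [hinf, finrank_bot, add_zero] at h
    have h' := LinearMap.finrank_range_add_finrank_ker (T - 1)
    omega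
  have hpos : 0 < finrank F (LinearMap.ker (T - 1)) := Nat.pos_of_ne_zero fun h => hE (Submodule.finrank_eq_zero.mp h)
  let bE := Module.finBasis F (LinearMap.ker (T - 1))
  let i0 : Fin (finrank F (LinearMap.ker (T - 1))) := ⟨0, hpos⟩
  let S₁ : Module.End F ↥(LinearMap.ker (T - 1)) := bE.constr F fun i => (if i = i0 then δ else 1) • bE i
  let π := Submodule.prodEquivOfIsCompl _ _ hc
  let S : Module.End F (Fin n → F) := π.conjAlgEquiv F (S₁.prodMap LinearMap.id)
  have hS : ∀ e r, S (π (e, r)) = π (S₁ e, r) := fun e r => by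
    simp only [S, LinearEquiv.conjAlgEquiv_apply, LinearMap.comp_apply, LinearEquiv.coe_coe, LinearEquiv.symm_apply_apply,
      LinearMap.prodMap_apply, LinearMap.id_apply]
  have hTπ : ∀ e r, ∃ r', T (π (e, r)) = π (e, r') ∧ ∀ e', T (π (e', r)) = π (e', r') := by
    intro e r
    have hr : T (r : Fin n → F) ∈ LinearMap.range (T - 1) := by
      obtain ⟨u, hu⟩ := r.2
      refine ⟨T u, ?_⟩
      rw [← hu]
      simp
    refine ⟨⟨_, hr⟩, ?_, fun e' => ?_⟩ <;>
      simp [π, Submodule.coe_prodEquivOfIsCompl', sub_eq_zero.mp e.2]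
    exact sub_eq_zero.mp e'.2
  refine ⟨S, LinearMap.ext fun u => ?_, ?_⟩
  · obtain ⟨⟨e, r⟩, rfl⟩ := π.surjective u
    obtain ⟨r', h1, h2⟩ := hTπ e r
    rw [Module.End.mul_apply, Module.End.mul_apply, h1, hS, hS, h2]
  · show LinearMap.det (π.conjAlgEquiv F (S₁.prodMap LinearMap.id)) = δ
    rw [LinearEquiv.conjAlgEquiv_apply]
    refine (LinearMap.det_conj _ π).trans ?_
    rw [LinearMap.det_prodMap, LinearMap.det_id, mul_one, ← LinearMap.det_toMatrix bE,
      show LinearMap.toMatrix bE bE S₁ = Matrix.diagonal fun i => if i = i0 then δ else 1 by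
        ext a b
        rw [LinearMap.toMatrix_apply, Basis.constr_basis, map_smul, Basis.repr_self, Finsupp.smul_single, smul_eq_mul,
          mul_one, Finsupp.single_apply, Matrix.diagonal_apply]
        by_cases h : a = b
        · subst h; simp
        · simp [h, Ne.symm h],
      Matrix.det_diagonal, Finset.prod_ite_eq' Finset.univ i0, if_pos (Finset.mem_univ _)]

/-- Elements whose `n`-th power is an irrational scalar. -/
theorem twisted_conj {K : Subalgebra F (Matrix (Fin n) (Fin n) F)} (hK : Cfsg.Geo.IsFieldSubalgebra n K) (hn : n.Prime)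
    (hq : n ∣ Fintype.card F - 1) (x : Matrix.SpecialLinearGroup (Fin n) F) {z : F}
    (hT : (Matrix.toLinAlgEquiv' (x : Matrix (Fin n) (Fin n) F)) ^ n = z • 1) (hz : ∀ b : F, b ^ n ≠ z) :
    ∃ P : Matrix.SpecialLinearGroup (Fin n) F, P⁻¹ * x * P ∈
      (Cfsg.Geo.subalgebraNormalizer K).comap (Matrix.SpecialLinearGroup.toGL : Matrix.SpecialLinearGroup (Fin n) F →* GL (Fin n) F) := by
  classical
  letI : Field ↥K := (isField_of_fieldSubalgebra hK hn.pos).toField
  letI : Fintype ↥K := Fintype.ofFinite _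
  set T := Matrix.toLinAlgEquiv' (x : Matrix (Fin n) (Fin n) F) with hTdef
  have hgi : Irreducible (X ^ n - Polynomial.C z) := X_pow_sub_C_irreducible_of_prime hn hz
  have hdeg : (X ^ n - Polynomial.C z).natDegree = n := natDegree_X_pow_sub_C
  have hz0 : z ≠ 0 := fun h => hz 0 (by rw [h, zero_pow hn.ne_zero])
  obtain ⟨y, hy⟩ : ∃ y : K, y ^ n = algebraMap F K z := by
    have hcardK : Fintype.card ↥K = Fintype.card F ^ n := by
      rw [Module.card_eq_pow_finrank (K := F), hK.finrank_eq]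
    have hq1 := Fintype.one_lt_card (α := F)
    obtain ⟨c, hc⟩ := hq
    have hsum : n ∣ ∑ i ∈ Finset.range n, Fintype.card F ^ i := by
      rw [← ZMod.natCast_eq_zero_iff, Nat.cast_sum]
      have h1 : (Fintype.card F : ZMod n) = 1 := by
        rw [show Fintype.card F = n * c + 1 by omega]
        simp
      push_cast
      simp [h1]
    obtain ⟨d, hd⟩ := hsum
    have hM : Fintype.card ↥K - 1 = n * ((Fintype.card F - 1) * d) := by
      have := geom_sum_mul_of_one_le (x := Fintype.card F) (by omega) n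
      rw [hcardK, ← this, hd]
      ring
    obtain ⟨ζ, hζ⟩ := IsCyclic.exists_ofOrder_eq_natCard (α := (↥K)ˣ)
    rw [Nat.card_units, Nat.card_eq_fintype_card, hM] at hζ
    have hne : algebraMap F K z ≠ 0 := (_root_.map_ne_zero _).mpr hz0
    obtain ⟨a, ha⟩ : ∃ a : ℕ, ζ ^ a = Units.mk0 _ hne := by
      have hgen : Subgroup.zpowers ζ = ⊤ := Subgroup.eq_top_of_card_eq _ (by
        rw [Nat.card_zpowers, hζ, Nat.card_units, Nat.card_eq_fintype_card, hM])
      have hmem : Units.mk0 _ hne ∈ Subgroup.zpowers ζ := hgen ▸ Subgroup.mem_top _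
      exact mem_powers_iff_mem_zpowers.mpr hmem
    have h1 : ζ ^ (a * ((Fintype.card F - 1) * d)) = 1 := by
      rw [pow_mul, ha]
      refine Units.ext ?_
      rw [Units.val_pow_eq_pow_val, Units.val_mk0, Units.val_one, ← map_pow, pow_mul,
        FiniteField.pow_card_sub_one_eq_one z hz0, one_pow, map_one]
    have h2 := orderOf_dvd_of_pow_eq_one h1
    rw [hζ] at h2
    have hpos : 0 < (Fintype.card F - 1) * d := by
      rcases Nat.eq_zero_or_pos ((Fintype.card F - 1) * d) with h | h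
      · rw [h, mul_zero] at hM
        have := Fintype.one_lt_card (α := ↥K)
        omega
      · exact h
    obtain ⟨e, he⟩ := Nat.dvd_of_mul_dvd_mul_right hpos h2
    refine ⟨((ζ ^ e : (↥K)ˣ) : ↥K), ?_⟩
    rw [← Units.val_pow_eq_pow_val, ← pow_mul, mul_comm, ← he, ha, Units.val_mk0]
  set Y := Matrix.toLinAlgEquiv' (y : Matrix (Fin n) (Fin n) F) with hYdef
  have hY : Y ^ n = z • 1 := by
    rw [hYdef, ← map_pow, ← SubmonoidClass.coe_pow, hy, Subalgebra.coe_algebraMap, AlgEquiv.commutes,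
      Algebra.algebraMap_eq_smul_one]
  have horbit : ∀ S : Module.End F (Fin n → F), S ^ n = z • 1 → ∃ v, LinearIndependent F fun j : Fin n => (S ^ (j : ℕ)) v := by
    intro S hS
    obtain ⟨N, w, B, hN, hB⟩ := orbit_basis S hgi (by
      rw [map_sub, map_pow, aeval_X, aeval_C, hS, Algebra.algebraMap_eq_smul_one, sub_self])
    rw [hdeg, Module.finrank_fin_fun] at hN
    have hN1 : N = 1 := (Nat.mul_eq_left hn.ne_zero).mp hN
    refine ⟨w ⟨0, by omega⟩, ?_⟩
    have h := B.linearIndependent.comp (fun j : Fin n => (Fin.cast hdeg.symm j, (⟨0, by omega⟩ : Fin N)))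
      fun i j h => by simpa using congrArg Prod.fst h
    suffices heq : (fun j : Fin n => (S ^ (j : ℕ)) (w ⟨0, by omega⟩)) = B ∘ fun j : Fin n => (Fin.cast hdeg.symm j, (⟨0, by omega⟩ : Fin N)) by
      rw [heq]; exact h
    funext j
    simp [hB]
  obtain ⟨v, hv⟩ := horbit T hT
  obtain ⟨w, hw⟩ := horbit Y hY
  obtain ⟨φ, hφ⟩ := similar_of_cyclic hn.pos T Y hT hY hv hw
  refine mem_of_intertwine x _ Y φ hφ (fun δ _ => ?_) fun g hg => ?_
  · obtain ⟨κ, hκ⟩ := FiniteField.norm_surjective F ↥K δ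
    refine ⟨φ.conjAlgEquiv F (Matrix.toLinAlgEquiv' (κ : Matrix (Fin n) (Fin n) F)), ?_, ?_⟩
    · have hTφ : T = φ.conjAlgEquiv F Y := LinearMap.ext fun u => by
        simp only [LinearEquiv.conjAlgEquiv_apply, LinearMap.comp_apply, LinearEquiv.coe_coe]
        rw [← hφ, LinearEquiv.apply_symm_apply]
      rw [← hTdef, hTφ, ← map_mul, ← map_mul, hYdef, ← map_mul, ← map_mul, hK.comm _ κ.2 _ y.2]
    · have hv0 : (Pi.single ⟨0, hn.pos⟩ 1 : Fin n → F) ≠ 0 := by simp
      obtain ⟨φ0, hφ0⟩ := exists_coord hK hv0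
      rw [LinearEquiv.conjAlgEquiv_apply]
      refine (LinearMap.det_conj _ φ).trans ?_
      rw [← hκ, Algebra.norm_apply, ← LinearMap.det_conj (Algebra.lmul F ↥K κ) φ0]
      congr 1
      refine LinearMap.ext fun u => ?_
      obtain ⟨c, rfl⟩ := φ0.surjective u
      simp only [LinearMap.comp_apply, LinearEquiv.coe_coe, LinearEquiv.symm_apply_apply, Algebra.coe_lmul_eq_mul, LinearMap.mul_apply']
      rw [hφ0, hφ0]
      show (κ : Matrix (Fin n) (Fin n) F).mulVec _ = _
      rw [Subalgebra.coe_mul, Matrix.mulVec_mulVec]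
  · intro k
    have hGe : (g : Matrix (Fin n) (Fin n) F) = (y : Matrix (Fin n) (Fin n) F) := by
      rw [hg, hYdef]; exact LinearMap.toMatrix'_toLin' _
    constructor
    · intro hk
      rw [hGe, hK.comm _ y.2 k hk, ← hGe, mul_assoc, ← Units.val_mul, mul_inv_cancel, Units.val_one, mul_one]
      exact hk
    · intro hk
      have h := hK.comm _ hk _ y.2
      rw [← hGe, mul_assoc, mul_assoc, ← Units.val_mul, inv_mul_cancel, Units.val_one, mul_one] at h
      have hk' : k = (g : Matrix (Fin n) (Fin n) F) * k * ((g⁻¹ : GL (Fin n) F) : Matrix (Fin n) (Fin n) F) := by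
        have h' := congrArg (((g⁻¹ : GL (Fin n) F) : Matrix (Fin n) (Fin n) F) * ·) h
        simp only [← mul_assoc, ← Units.val_mul, inv_mul_cancel, Units.val_one, one_mul] at h'
        exact h'
      rw [hk']
      exact hk

/-- A cyclic vector when the middle polynomial is irreducible. -/
theorem cyclic_of_max_order (hn : n.Prime) (hn2 : 2 < n) (hnp : n ≠ p)
    (hi : orderOf (Fintype.card F : ZMod n) = n - 1) (T : Module.End F (Fin n → F)) (hT : T ^ n = 1) (hT1 : T ≠ 1) :
    LinearMap.ker (T - 1) ≠ ⊥ ∧ ∃ v, LinearIndependent F fun j : Fin n => (T ^ (j : ℕ)) v := by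
  classical
  haveI := Fact.mk hn
  set R := LinearMap.range (T - 1) with hR
  have hRT : ∀ v ∈ R, T v ∈ R := by
    rintro _ ⟨u, rfl⟩
    exact ⟨T u, by simp⟩
  obtain ⟨⟨c, hc⟩, -⟩ := dims_in_range (p := p) T hn hnp hT R le_rfl hRT
  rw [hi] at hc
  have hR0 : R ≠ ⊥ := fun h => hT1 (sub_eq_zero.mp (LinearMap.range_eq_bot.mp h))
  have hrn := LinearMap.finrank_range_add_finrank_ker (T - 1)
  rw [Module.finrank_fin_fun, ← hR] at hrn
  have hc1 : c = 1 := by
    rcases Nat.lt_or_ge c 2 with h | h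
    · rcases Nat.eq_zero_or_pos c with h0 | h0
      · exact absurd (Submodule.finrank_eq_zero.mp (by rw [hc, h0, mul_zero])) hR0
      · omega
    · have := Nat.mul_le_mul_left (n - 1) h
      omega
  rw [hc, hc1, mul_one] at hrn
  have hE : LinearMap.ker (T - 1) ≠ ⊥ := fun h => by rw [h, finrank_bot] at hrn; omega
  refine ⟨hE, ?_⟩
  obtain ⟨e, he, he0⟩ := Submodule.exists_mem_ne_zero_of_ne_bot hE
  obtain ⟨w, hw, hw0⟩ := Submodule.exists_mem_ne_zero_of_ne_bot hR0
  have hTe : T e = e := sub_eq_zero.mp he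
  have hgeom : (geom F n).natDegree = n - 1 ∧ (geom F n) ≠ 0 := by
    have h : geom F n * (X - 1) = X ^ n - 1 := geom_sum_mul X n
    have hne : geom F n ≠ 0 := fun h0 => by
      rw [h0, zero_mul] at h
      exact (X_pow_sub_C_ne_zero hn.pos (1 : F)) (by rw [map_one]; exact h.symm)
    refine ⟨?_, hne⟩
    have h2 := congrArg natDegree h
    rw [natDegree_mul hne (by simpa using X_sub_C_ne_zero (1 : F)),
      show (X - 1 : F[X]).natDegree = 1 by simpa using natDegree_X_sub_C (1 : F),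
      show (X ^ n - 1 : F[X]).natDegree = n by simpa using natDegree_X_pow_sub_C (n := n) (r := (1 : F))] at h2
    omega
  obtain ⟨g, hgm, hgi, hg⟩ := Polynomial.exists_monic_irreducible_factor (geom F n)
    (fun h => by have := natDegree_eq_zero_of_isUnit h; omega)
  have hgd : g.natDegree = n - 1 := by rw [geom_degree (p := p) hn hnp hgi hgm hg, hi]
  have hga : Associated g (geom F n) := by
    obtain ⟨u, hu⟩ := hg
    have hu0 : u ≠ 0 := fun h => hgeom.2 (by rw [hu, h, mul_zero])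
    have : u.natDegree = 0 := by
      have h2 := congrArg natDegree hu
      rw [natDegree_mul hgi.ne_zero hu0] at h2
      omega
    obtain ⟨a, rfl⟩ := natDegree_eq_zero.mp this
    rw [hu]
    exact associated_mul_unit_right g _ (isUnit_C.mpr (isUnit_iff_ne_zero.mpr fun h => hu0 (by rw [h, map_zero])))
  have hirr := hga.irreducible hgi
  refine ⟨e + w, Fintype.linearIndependent_iff.mpr fun a ha => ?_⟩
  set P : F[X] := ∑ j : Fin n, Polynomial.C (a j) * X ^ (j : ℕ) with hP
  have hPv : aeval T P (e + w) = 0 := by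
    rw [← ha, hP, map_sum, LinearMap.sum_apply]
    refine Finset.sum_congr rfl fun j _ => ?_
    simp [Module.algebraMap_end_apply]
  have hPe : ∀ Q : F[X], aeval T Q e = Q.eval 1 • e := by
    intro Q
    induction Q using Polynomial.induction_on with
    | C c => simp
    | add Q1 Q2 h1 h2 => simp [h1, h2, add_smul]
    | monomial k c ih =>
      rw [show (Polynomial.C c * X ^ (k + 1) : F[X]) = Polynomial.C c * X ^ k * X by ring, map_mul _ _ X,
        Module.End.mul_apply, aeval_X, hTe, ih]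
      simp
  have hPw : aeval T P w ∈ R := by
    obtain ⟨u, hu⟩ := hw
    refine ⟨aeval T P u, ?_⟩
    rw [← hu, show T - 1 = aeval T (X - 1 : F[X]) by simp, ← Module.End.mul_apply, ← Module.End.mul_apply, ← map_mul,
      ← map_mul, mul_comm]
  rw [map_add, hPe] at hPv
  have hzero : P.eval 1 • e = 0 := by
    have h1 : P.eval 1 • e ∈ LinearMap.ker (T - 1) := Submodule.smul_mem _ _ he
    have h2 : P.eval 1 • e ∈ R := by rw [eq_neg_of_add_eq_zero_left hPv]; exact neg_mem hPw
    exact (Submodule.mem_bot F).mp (ker_inf_range (p := p) T hn hnp hT ▸ Submodule.mem_inf.mpr ⟨h1, h2⟩)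
  rw [hzero, zero_add] at hPv
  have hroot : (X - 1 : F[X]) ∣ P := by
    have := (smul_eq_zero.mp hzero).resolve_right he0
    simpa using dvd_iff_isRoot.mpr (show P.IsRoot 1 from this)
  have hgP : geom F n ∣ P := by
    rcases hirr.coprime_iff_not_dvd.symm with _
    by_contra hnd
    obtain ⟨r, s, hrs⟩ := hirr.coprime_iff_not_dvd.mpr hnd
    refine hw0 ?_
    have := LinearMap.congr_fun (congrArg (aeval T) hrs) w
    rw [map_add, map_mul, map_mul, map_one, LinearMap.add_apply, Module.End.mul_apply, Module.End.mul_apply,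
      geom_range T hT w hw, hPv, map_zero, map_zero, add_zero, Module.End.one_apply] at this
    exact this.symm
  have hdvd : (X : F[X]) ^ n - 1 ∣ P := by
    rw [← geom_sum_mul X n]
    refine IsCoprime.mul_dvd (hirr.coprime_iff_not_dvd.mpr fun h => ?_) hgP hroot
    have := natDegree_le_of_dvd h (by simpa using X_sub_C_ne_zero (1 : F))
    rw [hgeom.1, show (X - 1 : F[X]).natDegree = 1 by simpa using natDegree_X_sub_C (1 : F)] at this
    omega
  have hP0 : P = 0 := by
    by_contra h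
    have h1 := natDegree_le_of_dvd hdvd h
    rw [show (X ^ n - 1 : F[X]).natDegree = n by simpa using natDegree_X_pow_sub_C (n := n) (r := (1 : F))] at h1
    have h2 : P.natDegree ≤ n - 1 := natDegree_sum_le_of_forall_le _ _ fun j _ =>
      (natDegree_C_mul_X_pow_le _ _).trans (by omega)
    omega
  intro j
  have := congrArg (fun Q : F[X] => Q.coeff (j : ℕ)) hP0
  simpa [hP, Polynomial.finset_sum_coeff, coeff_C_mul, coeff_X_pow, Fin.val_inj, Finset.sum_ite_eq] using this

theorem max_order_positive {K : Subalgebra F (Matrix (Fin n) (Fin n) F)} (hK : Cfsg.Geo.IsFieldSubalgebra n K)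
    (hn : n.Prime) (hn2 : 2 < n) (hnp : n ≠ p) (hi : orderOf (Fintype.card F : ZMod n) = n - 1)
    (x : Matrix.SpecialLinearGroup (Fin n) F) {z : F}
    (hz : ((x ^ n : Matrix.SpecialLinearGroup (Fin n) F) : Matrix (Fin n) (Fin n) F) = z • 1)
    (hns : ∀ c : F, (x : Matrix (Fin n) (Fin n) F) ≠ c • 1) :
    ∃ P : Matrix.SpecialLinearGroup (Fin n) F, P⁻¹ * x * P ∈
      (Cfsg.Geo.subalgebraNormalizer K).comap (Matrix.SpecialLinearGroup.toGL : Matrix.SpecialLinearGroup (Fin n) F →* GL (Fin n) F) := by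
  have hndvd : ¬ n ∣ Fintype.card F - 1 := fun hd => by
    have h3 : (Fintype.card F : ZMod n) = 1 := by
      have := (ZMod.natCast_eq_zero_iff _ _).mpr hd
      rwa [Nat.cast_sub Fintype.card_pos, Nat.cast_one, sub_eq_zero] at this
    rw [h3, orderOf_one] at hi
    omega
  have hz1 : z = 1 := root_unity_one hn hndvd (by
    have h := congrArg Matrix.det hz
    rw [Matrix.det_smul, Matrix.det_one, mul_one, Fintype.card_fin, (x ^ n).2] at h
    exact h.symm)
  have hT := pow_scalar n hz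
  rw [hz1, one_smul] at hT
  obtain ⟨hE, v, hv⟩ := cyclic_of_max_order hn hn2 hnp hi _ hT (fun h => hns 1 (by
    apply Matrix.toLinAlgEquiv'.injective
    rw [h, map_smul, map_one, one_smul]))
  exact regular_conj hK hn hnp x hT hE hv

theorem exists_diag_large_fix (hn : n.Prime) (hn4 : 4 ≤ n) (hq : n ∣ Fintype.card F - 1) :
    ∃ x : Matrix.SpecialLinearGroup (Fin n) F,
      ((x ^ n : Matrix.SpecialLinearGroup (Fin n) F) : Matrix (Fin n) (Fin n) F) = (1 : F) • 1 ∧
      (∀ c : F, (x : Matrix (Fin n) (Fin n) F) ≠ c • 1) ∧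
      2 ≤ finrank F (LinearMap.ker ((1 : F)⁻¹ • Matrix.toLinAlgEquiv' (x : Matrix (Fin n) (Fin n) F) - 1)) ∧
      finrank F (LinearMap.ker ((1 : F)⁻¹ • Matrix.toLinAlgEquiv' (x : Matrix (Fin n) (Fin n) F) - 1)) < n := by
  classical
  haveI := Fact.mk hn
  obtain ⟨ζ, hζ⟩ : ∃ ζ : Fˣ, orderOf ζ = n :=
    exists_prime_orderOf_dvd_card' n (by rwa [Nat.card_units, Nat.card_eq_fintype_card])
  have hζn : (ζ : F) ^ n = 1 := by rw [← Units.val_pow_eq_pow_val, ← hζ, pow_orderOf_eq_one, Units.val_one]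
  have hζ1 : (ζ : F) ≠ 1 := fun h => by
    rw [Units.ext (h.trans Units.val_one.symm), orderOf_one] at hζ
    omega
  let e0 : Fin n := ⟨0, by omega⟩
  let e1 : Fin n := ⟨1, by omega⟩
  let d : Fin n → F := fun i => if i = e0 then ζ else if i = e1 then (ζ : F)⁻¹ else 1
  have hne : e0 ≠ e1 := by simp [e0, e1]
  have hdet : (Matrix.diagonal d).det = 1 := by
    rw [Matrix.det_diagonal, ← Finset.mul_prod_erase _ _ (Finset.mem_univ e0),
      ← Finset.mul_prod_erase _ _ (Finset.mem_erase.mpr ⟨hne.symm, Finset.mem_univ e1⟩),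
      Finset.prod_eq_one (fun i hi => by
        simp only [Finset.mem_erase, Finset.mem_univ, and_true] at hi
        simp [d, hi.1, hi.2])]
    simp [d, hne.symm]
  let x : Matrix.SpecialLinearGroup (Fin n) F := ⟨Matrix.diagonal d, hdet⟩
  have hxv : ∀ u i, ((1 : F)⁻¹ • Matrix.toLinAlgEquiv' (x : Matrix (Fin n) (Fin n) F) - 1) u i = (d i - 1) * u i := fun u i => by
    rw [inv_one, one_smul, sub_mul, one_mul]
    show (Matrix.diagonal d).mulVec u i - u i = _
    rw [Matrix.mulVec_diagonal]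
  refine ⟨x, ?_, fun c hc => ?_, ?_, ?_⟩
  · rw [Matrix.SpecialLinearGroup.coe_pow, one_smul]
    show Matrix.diagonal d ^ n = 1
    rw [Matrix.diagonal_pow, ← Matrix.diagonal_one]
    congr 1
    funext i
    show d i ^ n = 1
    simp only [d]; split_ifs <;> simp [hζn]
  · let e2 : Fin n := ⟨2, by omega⟩
    have h0 := congrFun (congrFun hc e0) e0
    have h2 := congrFun (congrFun hc e2) e2
    simp [x, d, e0, e1, e2] at h0 h2
    exact hζ1 (h0.trans h2.symm)
  · let e2 : Fin n := ⟨2, by omega⟩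
    let e3 : Fin n := ⟨3, by omega⟩
    let f : (Fin 2 → F) →ₗ[F] (Fin n → F) :=
      { toFun := fun c => Pi.single e2 (c 0) + Pi.single e3 (c 1)
        map_add' := fun a b => by simp only [Pi.add_apply, Pi.single_add]; abel
        map_smul' := fun t a => by simp [← Pi.single_smul, smul_add] }
    have hinj : Function.Injective f := (injective_iff_map_eq_zero f).mpr fun c hc => by
      have h2 := congrFun hc e2
      have h3 := congrFun hc e3
      simp [f, e2, e3, Pi.single_apply] at h2 h3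
      funext j; fin_cases j <;> assumption
    have hle : LinearMap.range f ≤ LinearMap.ker ((1 : F)⁻¹ • Matrix.toLinAlgEquiv' (x : Matrix (Fin n) (Fin n) F) - 1) := by
      rintro _ ⟨c, rfl⟩
      refine funext fun i => ?_
      rw [hxv]
      by_cases h : i = e2 ∨ i = e3
      · rcases h with rfl | rfl <;> simp [d, e0, e1, e2, e3]
      · push Not at h
        simp [f, h.1, h.2, Pi.single_apply]
    have := Submodule.finrank_mono hle
    rwa [LinearMap.finrank_range_of_inj hinj, Module.finrank_fin_fun] at this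
  · refine lt_of_lt_of_eq (Submodule.finrank_lt ?_) (Module.finrank_fin_fun F)
    intro h
    have hm : (Pi.single e0 1 : Fin n → F) ∈ LinearMap.ker ((1 : F)⁻¹ • Matrix.toLinAlgEquiv' (x : Matrix (Fin n) (Fin n) F) - 1) :=
      h ▸ Submodule.mem_top
    have := congrFun (LinearMap.mem_ker.mp hm) e0
    rw [hxv] at this
    simp [d, sub_eq_zero] at this
    exact hζ1 (by rw [this, Units.val_one])

theorem singer_iff {K : Subalgebra F (Matrix (Fin n) (Fin n) F)} (hK : Cfsg.Geo.IsFieldSubalgebra n K)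
    (hn : n.Prime) (hn3 : 3 < n) (hnp : n ≠ p) :
    (∀ x : Matrix.SpecialLinearGroup (Fin n) F,
      (∃ z : F, ((x ^ n : Matrix.SpecialLinearGroup (Fin n) F) : Matrix (Fin n) (Fin n) F) = z • (1 : Matrix (Fin n) (Fin n) F)) →
      (∀ z : F, (x : Matrix (Fin n) (Fin n) F) ≠ z • (1 : Matrix (Fin n) (Fin n) F)) →
      ∃ P : Matrix.SpecialLinearGroup (Fin n) F, P⁻¹ * x * P ∈ ((Cfsg.Geo.subalgebraNormalizer K).comap (Matrix.SpecialLinearGroup.toGL : Matrix.SpecialLinearGroup (Fin n) F →* GL (Fin n) F))) ↔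
    orderOf (Fintype.card F : ZMod n) = n - 1 := by
  classical
  haveI := Fact.mk hn
  constructor
  · intro H
    set i := orderOf (Fintype.card F : ZMod n) with hidef
    by_contra hne
    have hq0 : (Fintype.card F : ZMod n) ≠ 0 := fun h =>
      hnp ((dvd_q_iff (F := F) (p := p) hn).mp ((ZMod.natCast_eq_zero_iff _ _).mp h))
    have hid : i ∣ n - 1 := ZMod.orderOf_dvd_card_sub_one hq0
    have hipos : 0 < i := orderOf_pos_iff.mpr (isOfFinOrder_iff_pow_eq_one.mpr ⟨n - 1, by omega, ZMod.pow_card_sub_one_eq_one hq0⟩)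
    rcases Nat.lt_or_ge i 2 with h1 | h2
    · have hq1 : n ∣ Fintype.card F - 1 := by
        rw [← ZMod.natCast_eq_zero_iff, Nat.cast_sub Fintype.card_pos, Nat.cast_one, sub_eq_zero, ← orderOf_eq_one_iff, ← hidef]
        omega
      obtain ⟨x, hx, hns, h2, h3⟩ := exists_diag_large_fix (F := F) hn (by omega) hq1
      obtain ⟨P, hP⟩ := H x ⟨1, hx⟩ hns
      exact singer_no_conj hK hn x P 1 h2 h3 hP
    · have hle : i + 2 ≤ n := by
        have := Nat.le_of_dvd (by omega) hid
        omega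
      obtain ⟨x, hx, hns, -, hfix⟩ := exists_blocks_element (F := F) (p := p) (n := n) hn hnp (s := 1) h2 le_rfl
        (by rw [one_mul]; show i ≤ n; omega)
      obtain ⟨P, hP⟩ := H x ⟨1, hx⟩ hns
      rw [one_mul, ← hidef] at hfix
      refine singer_no_conj hK hn x P 1 ?_ ?_ hP <;> rw [inv_one, one_smul, hfix] <;> omega
  · rintro hi x ⟨z, hz⟩ hns
    exact max_order_positive hK hn (by omega) hnp hi x hz hns

end CfsgLib.MaxSub.Elusive
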