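/-
Similarity groups of forms are maximal in `SL_n`, by transvections.
-/
import Cfsg.Agent.Lib.MaxSub.SubspaceMaximal

set_option autoImplicit false
set_option maxHeartbeats 400000

namespace CfsgLib.MaxSub

open Matrix Module Cfsg Cfsg.Geo
open CfsgLib.SLCentre CfsgLib.PSLn

variable {F : Type*} [Field F] {n : ℕ}

local notation "V" => Fin n → F
local notation "SL" => Matrix.SpecialLinearGroup (Fin n) F
local notation "Mn" => Matrix (Fin n) (Fin n) F

theorem tv_mulVec (v φ : V) (h : φ ⬝ᵥ v = 0) (x : V) :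
    (tv v φ h).1 *ᵥ x = x + (φ ⬝ᵥ x) • v := by
  rw [coe_tv, add_mulVec, one_mulVec, vecMulVec_mulVec, op_smul_eq_smul]

/-- A subgroup of `SL_n` containing everything in the special linear group. -/
theorem specialLinear_le_of_top {K : Subgroup (GL (Fin n) F)}
    (h : K.comap (Matrix.SpecialLinearGroup.toGL : SL →* GL (Fin n) F) = ⊤) :
    specialLinear (Fin n) F ≤ K := by
  intro k hk
  have hkd : (k : Mn).det = 1 := by simpa using congrArg Units.val (MonoidHom.mem_ker.1 hk)
  let ks : SL := ⟨(k : Mn), hkd⟩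
  have : ks ∈ K.comap Matrix.SpecialLinearGroup.toGL := by
    rw [h]; exact Subgroup.mem_top _
  convert (Subgroup.mem_comap.1 this) using 1
  exact Units.ext rfl

theorem exists_sl_of {K : Subgroup (GL (Fin n) F)} (hK : K ≤ specialLinear (Fin n) F)
    {g : GL (Fin n) F} (hg : g ∈ K) :
    ∃ gs : SL, gs ∈ K.comap (Matrix.SpecialLinearGroup.toGL : SL →* GL (Fin n) F) ∧
      gs.1 = (g : Mn) := by
  have hd : (g : Mn).det = 1 := by simpa using congrArg Units.val (MonoidHom.mem_ker.1 (hK hg))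
  refine ⟨⟨(g : Mn), hd⟩, ?_, rfl⟩
  show Matrix.SpecialLinearGroup.toGL _ ∈ K
  convert hg using 1
  exact Units.ext rfl

/-- `x ↦ f x v` as a vector. -/
def rowVec (f : V → V → F) (v : V) : V := fun i => f (Pi.single i 1) v

theorem rowVec_dot {f : V → V → F} (hadd : ∀ x y v, f (x + y) v = f x v + f y v)
    (hsmul : ∀ (c : F) (x v : V), f (c • x) v = c * f x v) (v x : V) :
    rowVec f v ⬝ᵥ x = f x v := by
  let l : V →ₗ[F] F :=
    { toFun := fun x => f x v, map_add' := fun a b => hadd a b v, map_smul' := fun c a => hsmul c a v }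
  show _ = l x
  rw [LinearMap.pi_apply_eq_sum_univ l x]
  simp only [dotProduct, rowVec, smul_eq_mul]
  refine Finset.sum_congr rfl fun i _ => ?_
  rw [show (fun j => if i = j then (1 : F) else 0) = (Pi.single i 1 : V) from
    funext fun j => by simp [Pi.single_apply, eq_comm]]
  exact mul_comm _ _

/-- `SL_n` is not a group of similarities. -/
theorem sl_not_le_similarity (hn : 3 ≤ n) {f : V → V → F}
    (hal : ∀ x y v, f (x + y) v = f x v + f y v)
    (hsl : ∀ (c : F) (x v : V), f (c • x) v = c * f x v) (hnd : IsNondegenerateForm f) :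
    ¬ specialLinear (Fin n) F ≤ similarityGroup f := by
  obtain ⟨w, hw⟩ : ∃ w : V, w ≠ 0 := by
    refine ⟨Pi.single ⟨0, by omega⟩ 1, fun h => ?_⟩
    simpa using congrFun h ⟨0, by omega⟩
  obtain ⟨-, y, hy⟩ := hnd w hw
  have hlt : Submodule.span F ({w, y} : Set V) ≠ ⊤ := fun h => by
    have h1 : finrank F (Submodule.span F (Set.range ![w, y])) ≤ 2 :=
      (finrank_range_le_card ![w, y]).trans (by simp)
    rw [show Set.range ![w, y] = ({w, y} : Set V) by simp [Matrix.range_cons, Set.pair_comm],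
      h, finrank_top, Module.finrank_fin_fun] at h1
    omega
  obtain ⟨x, hx⟩ : ∃ x, x ∉ Submodule.span F ({w, y} : Set V) := by
    by_contra hc
    push Not at hc
    exact hlt (eq_top_iff.2 fun x _ => hc x)
  obtain ⟨L, hLx, hL⟩ := Submodule.exists_dual_map_eq_bot_of_notMem hx inferInstance
  have hL0 : ∀ z ∈ Submodule.span F ({w, y} : Set V), L z = 0 := fun z hz => by
    have : L z ∈ (Submodule.span F ({w, y} : Set V)).map L := Submodule.mem_map_of_mem hz
    rwa [hL, Submodule.mem_bot] at this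
  set φ := (dotProductEquiv F (Fin n)).symm L with hφ
  have hφd : ∀ z, φ ⬝ᵥ z = L z := fun z =>
    LinearMap.congr_fun ((dotProductEquiv F (Fin n)).apply_symm_apply L) z
  have hφw : φ ⬝ᵥ w = 0 := by rw [hφd]; exact hL0 w (Submodule.subset_span (by simp))
  have hφy : φ ⬝ᵥ y = 0 := by rw [hφd]; exact hL0 y (Submodule.subset_span (by simp))
  have hm : Matrix.SpecialLinearGroup.toGL (tv w φ hφw) ∈ specialLinear (Fin n) F :=
    Units.ext (tv w φ hφw).2
  intro hle
  obtain ⟨c, hc⟩ := hle hm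
  have hact : ∀ z, (tv w φ hφw).1 *ᵥ z = z + (φ ⬝ᵥ z) • w := tv_mulVec w φ hφw
  have h1 : f w y = (c : F) * f w y := by
    have := hc w y
    rwa [show ((Matrix.SpecialLinearGroup.toGL (tv w φ hφw) : GL (Fin n) F) : Mn) *ᵥ w = w by
      show (tv w φ hφw).1 *ᵥ w = w
      rw [hact, hφw, zero_smul, add_zero], show ((Matrix.SpecialLinearGroup.toGL (tv w φ hφw) :
        GL (Fin n) F) : Mn) *ᵥ y = y by
      show (tv w φ hφw).1 *ᵥ y = y
      rw [hact, hφy, zero_smul, add_zero]] at this
  have hc1 : (c : F) = 1 := mul_right_cancel₀ hy (by rw [← h1, one_mul])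
  have := hc x y
  rw [hc1, one_mul] at this
  change f ((tv w φ hφw).1 *ᵥ x) ((tv w φ hφw).1 *ᵥ y) = f x y at this
  rw [hact, hact, hφy, zero_smul, add_zero, hal, hsl, add_eq_left, mul_eq_zero, hφd] at this
  exact this.elim hLx hy

/-- The similarities of a symplectic form are maximal in `SL_n`. -/
theorem sl_symplectic_maximal (hn : 3 ≤ n) {f : V → V → F} (hf : IsSymplecticForm f) :
    IsMaximalIn (specialLinear (Fin n) F) (similarityGroup f ⊓ specialLinear (Fin n) F) := by
  obtain ⟨⟨hal, hsl, har, hsr⟩, hskew, halt, hnd⟩ := hf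
  let B : V →ₗ[F] V →ₗ[F] F := LinearMap.mk₂ F f hal hsl har hsr
  let β : V →ₗ[F] V :=
    { toFun := rowVec f
      map_add' := fun a b => funext fun i => har _ a b
      map_smul' := fun c a => funext fun i => hsr c _ a }
  have hβ : ∀ v x : V, β v ⬝ᵥ x = f x v := fun v x => rowVec_dot hal hsl v x
  have hβi : Function.Injective β := by
    rw [← LinearMap.ker_eq_bot, LinearMap.ker_eq_bot']
    intro v hv
    by_contra h0
    obtain ⟨⟨x, hx⟩, -⟩ := hnd v h0
    exact hx (by rw [← hβ, hv, zero_dotProduct])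
  have hβs : Function.Surjective β := LinearMap.surjective_of_injective hβi
  refine ⟨lt_of_le_of_ne inf_le_right fun e => ?_, fun K hK hKS => ?_⟩
  · exact sl_not_le_similarity hn hal hsl hnd (e ▸ inf_le_left)
  by_cases hle : K ≤ similarityGroup f
  · exact Or.inl (le_antisymm (le_inf hle hKS) hK)
  obtain ⟨g, hg, hgf⟩ := Set.not_subset.1 hle
  refine Or.inr (le_antisymm hKS (specialLinear_le_of_top (eq_top_of_full (by omega) ?_)))
  set K' : Subgroup SL := K.comap Matrix.SpecialLinearGroup.toGL with hK'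
  have hT : ∀ (w : V) (c : F), HasTv K' w (c • β w) := fun w c => by
    have e : (c • β w) ⬝ᵥ w = 0 := by rw [smul_dotProduct, hβ, halt, smul_zero]
    refine ⟨e, hK ⟨⟨1, ?_⟩, Units.ext (tv w _ e).2⟩⟩
    intro a b
    show f ((tv w (c • β w) e).1 *ᵥ a) ((tv w (c • β w) e).1 *ᵥ b) = ((1 : Fˣ) : F) * f a b
    simp only [tv_mulVec, smul_dotProduct, hβ, smul_eq_mul, hal, har, hsl, hsr, halt, Units.val_one]
    rw [hskew w b]
    ring
  obtain ⟨gs, hgs, hgse⟩ := exists_sl_of hKS hg
  obtain ⟨v, u, hv, hvu, hu⟩ : ∃ v u : V, HasTv K' v (β u) ∧ f v u = 0 ∧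
      LinearIndependent F ![v, u] := by
    let βe := LinearEquiv.ofBijective β ⟨hβi, hβs⟩
    let A : V →ₗ[F] V := βe.symm.toLinearMap ∘ₗ Matrix.vecMulLinear (g : Mn) ∘ₗ β ∘ₗ
      Matrix.mulVecLin (g : Mn)
    have hA : ∀ v x, f x (A v) = f ((g : Mn) *ᵥ x) ((g : Mn) *ᵥ v) := fun v x => by
      rw [← hβ (A v) x, show β (A v) = β ((g : Mn) *ᵥ v) ᵥ* (g : Mn) from βe.apply_symm_apply _,
        ← dotProduct_mulVec, hβ]
    by_contra hc
    push Not at hc
    obtain ⟨a, ha⟩ := A.exists_eq_smul_id_of_forall_notLinearIndependent fun v => by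
      refine hc v (A v) ?_ (by rw [hA, halt])
      have := (hT (gs.1 *ᵥ v) 1).conj' hgs (c' := v) rfl
      rwa [one_smul, hgse, show β ((g : Mn) *ᵥ v) ᵥ* (g : Mn) = β (A v) from
        (βe.apply_symm_apply _).symm] at this
    refine hgf ⟨Units.mk0 a fun h0 => ?_, fun x y => ?_⟩
    · obtain ⟨w, hw⟩ : ∃ w : V, w ≠ 0 := ⟨Pi.single ⟨0, by omega⟩ 1, fun h => by
        simpa using congrFun h ⟨0, by omega⟩⟩
      obtain ⟨-, z, hz⟩ := hnd _ (fun h => hw (Matrix.mulVec_injective_iff_isUnit.2 g.isUnit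
        (by rw [h, Matrix.mulVec_zero])) : (g : Mn) *ᵥ w ≠ 0)
      have h1 : ∀ x y, f ((g : Mn) *ᵥ x) ((g : Mn) *ᵥ y) = 0 := fun x y => by
        rw [← hA y x, LinearMap.congr_fun ha y, h0, zero_smul, LinearMap.zero_apply, ← hβ, map_zero, zero_dotProduct]
      refine hz ?_
      rw [← show (g : Mn) *ᵥ (((g⁻¹ : GL (Fin n) F) : Mn) *ᵥ z) = z by
        rw [Matrix.mulVec_mulVec, Units.mul_inv, Matrix.one_mulVec]]
      exact h1 _ _
    · have := hA y x
      rw [LinearMap.congr_fun ha y] at this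
      rw [← this]
      exact hsr a x y
  have hfull : Full K' v := fun ψ hψ => by
    obtain ⟨w, rfl⟩ := hβs ψ
    rw [hβ] at hψ
    have key : ∀ w, f v w = 0 → f w u ≠ 0 → HasTv K' v (β w) := fun w hw hwu => by
      have := hv.comm (hT w (f w u)⁻¹) (by rw [smul_dotProduct, hβ, hw, smul_zero])
      rwa [hβ, smul_smul, mul_inv_cancel₀ hwu, one_smul] at this
    by_cases hwu : f w u = 0
    · obtain ⟨w1, hw1, hw1u⟩ : ∃ w1, f v w1 = 0 ∧ f w1 u ≠ 0 := by
        by_contra hc
        push Not at hc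
        have hle : LinearMap.ker (B v) ≤ LinearMap.ker (B u) := fun z hz =>
          show f u z = 0 by rw [hskew, hc z hz, neg_zero]
        obtain ⟨a, ha⟩ := Submodule.mem_span_range_iff_exists_fun F |>.1
          (mem_span_of_iInf_ker_le_ker (L := fun _ : Unit => B v) (by simpa using hle))
        have h1 : (a () • v - u) = 0 := by
          by_contra h0
          obtain ⟨-, z, hz⟩ := hnd _ h0
          refine hz ?_
          have := LinearMap.congr_fun ha z
          simp only [Finset.univ_unique, Finset.sum_singleton, LinearMap.smul_apply] at this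
          show B (a () • v - u) z = 0
          rw [map_sub, map_smul, LinearMap.sub_apply, LinearMap.smul_apply, this, sub_self]
        exact (LinearIndependent.pair_iff.1 hu (a ()) (-1) (by
          rw [neg_smul, one_smul, ← sub_eq_add_neg, h1])).2 |> neg_ne_zero.2 one_ne_zero
      have := (key (w + w1) (by rw [har, hψ, hw1, add_zero])
        (by rw [hal, hwu, zero_add]; exact hw1u)).sub (key w1 hw1 hw1u)
      rwa [map_add, add_sub_cancel_right] at this
    · exact key w hψ hwu
  have hv0 : v ≠ 0 := fun h => hu.ne_zero 0 (by simpa using h)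
  have key : ∀ w, f v w ≠ 0 → w ∈ fullSubmodule K' := fun w hw => by
    obtain ⟨e, hm⟩ := hT w 1
    have h2 : Full K' ((tv w ((1 : F) • β w) e).1 *ᵥ v) := full_conj hm hfull
    rw [tv_mulVec, one_smul, hβ] at h2
    have := Submodule.sub_mem _ (show _ ∈ fullSubmodule K' from h2) (show v ∈ fullSubmodule K' from hfull)
    rw [add_sub_cancel_left] at this
    exact ((fullSubmodule K').smul_mem_iff hw).1 this
  refine eq_top_iff.2 fun w _ => ?_
  by_cases hw : f v w = 0
  · obtain ⟨-, w1, hw1⟩ := hnd v hv0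
    have := Submodule.sub_mem _ (key (w + w1) (by rw [har, hw, zero_add]; exact hw1)) (key w1 hw1)
    rwa [add_sub_cancel_right] at this
  · exact key w hw

end CfsgLib.MaxSub
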