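/-
Isotropic vectors with prescribed values, for Hermitian forms over finite fields.
-/
import Mathlib
import Cfsg.Prelude.Def_GeometricClasses

set_option autoImplicit false
set_option maxHeartbeats 400000

namespace CfsgLib.MaxSub.Herm

open Module Cfsg Cfsg.Geo

variable {F : Type*} [Field F] [Finite F] {σ : F ≃+* F}

/-- The norm onto the fixed field is surjective. -/
theorem exists_norm (hne : σ ≠ RingEquiv.refl F) (h2 : ∀ a, σ (σ a) = a) {c : F} (hc : σ c = c) :
    ∃ a : F, a * σ a = c := by
  by_cases hc0 : c = 0
  · exact ⟨0, by rw [hc0, zero_mul]⟩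
  let s : Fˣ →* Fˣ := Units.map σ.toRingHom.toMonoidHom
  let N : Fˣ →* Fˣ := MonoidHom.id Fˣ * s
  let M : Fˣ →* Fˣ := MonoidHom.id Fˣ / s
  have hM : ∀ x : Fˣ, M x = x / s x := fun _ => rfl
  have hN : ∀ x : Fˣ, N x = x * s x := fun _ => rfl
  have hs : ∀ x : Fˣ, ((s x : Fˣ) : F) = σ (x : F) := fun _ => rfl
  have hss : ∀ x : Fˣ, s (s x) = x := fun x => Units.ext (by rw [hs, hs, h2])
  have hle : N.ker ≤ M.range := by
    intro a ha
    have ha' : (a : F) * σ (a : F) = 1 := congrArg Units.val (MonoidHom.mem_ker.1 ha)
    obtain ⟨t, ht⟩ : ∃ t : F, t + (a : F) * σ t ≠ 0 := by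
      by_contra hcon
      push Not at hcon
      have h1 : (a : F) = -1 := by
        have := hcon 1
        rw [map_one, mul_one] at this
        linear_combination this
      refine hne (RingEquiv.ext fun t => ?_)
      have := hcon t
      rw [h1] at this
      show σ t = t
      linear_combination -this
    refine ⟨Units.mk0 _ ht, ?_⟩
    rw [hM, div_eq_iff_eq_mul]
    refine Units.ext ?_
    rw [Units.val_mul, hs, Units.val_mk0, map_add, map_mul, h2]
    linear_combination (-t) * ha'
  have hNM : N.range ≤ M.ker := by
    rintro _ ⟨x, rfl⟩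
    rw [MonoidHom.mem_ker, hM, hN, map_mul, hss, mul_comm (s x), div_self']
  have hcard : Nat.card M.ker ≤ Nat.card N.range := by
    have e1 := Subgroup.card_mul_index N.ker
    have e2 := Subgroup.card_mul_index M.ker
    rw [Subgroup.index_ker] at e1 e2
    have h1 : Nat.card N.ker ≤ Nat.card M.range := Subgroup.card_le_of_le hle
    have hp : 0 < Nat.card M.range := Nat.card_pos
    have h3 : Nat.card M.ker * Nat.card M.range ≤ Nat.card N.range * Nat.card M.range := by
      rw [e2, ← e1, mul_comm (Nat.card N.ker)]
      exact Nat.mul_le_mul_left _ h1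
    exact Nat.le_of_mul_le_mul_right h3 hp
  have hmem : Units.mk0 c hc0 ∈ M.ker := by
    rw [MonoidHom.mem_ker, hM, div_eq_one]
    exact Units.ext hc.symm
  rw [← Subgroup.eq_of_le_of_card_ge hNM hcard] at hmem
  obtain ⟨a, ha⟩ := hmem
  exact ⟨a, by rw [← hs, ← Units.val_mul, ← hN, ha, Units.val_mk0]⟩

variable {n : ℕ} {f : (Fin n → F) → (Fin n → F) → F}

omit [Finite F] in
theorem add_right (hf : IsUnitaryForm σ f) (v x y : Fin n → F) : f v (x + y) = f v x + f v y := by
  rw [hf.herm, hf.add_left, map_add, ← hf.herm, ← hf.herm]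

omit [Finite F] in
theorem smul_right (hf : IsUnitaryForm σ f) (c : F) (v x : Fin n → F) :
    f v (c • x) = σ c * f v x := by
  rw [hf.herm, hf.smul_left, map_mul, ← hf.herm]

/-- `x ↦ f x v` as a linear functional. -/
def lin (hf : IsUnitaryForm σ f) (v : Fin n → F) : (Fin n → F) →ₗ[F] F where
  toFun x := f x v
  map_add' a b := hf.add_left a b v
  map_smul' c a := hf.smul_left c a v

omit [Finite F] in
@[simp] theorem lin_apply (hf : IsUnitaryForm σ f) (v x : Fin n → F) : lin hf v x = f x v := rfl

omit [Finite F] in
theorem zero_left (hf : IsUnitaryForm σ f) (v : Fin n → F) : f 0 v = 0 := map_zero (lin hf v)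

omit [Finite F] in
theorem zero_right (hf : IsUnitaryForm σ f) (v : Fin n → F) : f v 0 = 0 := by
  rw [hf.herm, zero_left hf, map_zero]

omit [Finite F] in
/-- Independent vectors give independent functionals. -/
theorem values_surjective (hf : IsUnitaryForm σ f) {k : ℕ} {u : Fin k → (Fin n → F)}
    (hu : LinearIndependent F u) : Function.Surjective (LinearMap.pi fun i => lin hf (u i)) := by
  rw [← LinearMap.range_eq_top]
  by_contra hc
  obtain ⟨w, hw⟩ : ∃ w, w ∉ LinearMap.range (LinearMap.pi fun i => lin hf (u i)) := by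
    by_contra h
    push Not at h
    exact hc (eq_top_iff.2 fun x _ => h x)
  obtain ⟨ψ, hψw, hψ⟩ := Submodule.exists_dual_map_eq_bot_of_notMem hw inferInstance
  have hsum : ∑ i, σ (ψ (Pi.single i 1)) • u i = 0 := by
    by_contra h0
    obtain ⟨⟨x, hx⟩, -⟩ := hf.nondegenerate _ h0
    refine hx ?_
    have h1 : ψ ((LinearMap.pi fun i => lin hf (u i)) x) = 0 := by
      have : ψ ((LinearMap.pi fun i => lin hf (u i)) x) ∈
          (LinearMap.range (LinearMap.pi fun i => lin hf (u i))).map ψ :=
        Submodule.mem_map_of_mem ⟨x, rfl⟩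
      rwa [hψ, Submodule.mem_bot] at this
    rw [LinearMap.pi_apply_eq_sum_univ ψ] at h1
    let L : (Fin n → F) →+ F := AddMonoidHom.mk' (fun y => f x y) (add_right hf x)
    show L _ = 0
    rw [map_sum, ← h1]
    refine Finset.sum_congr rfl fun i _ => ?_
    show f x (_ • u i) = _
    rw [smul_right hf, hf.involutive, show (fun j => if i = j then (1 : F) else 0) = Pi.single i 1
      from funext fun j => by simp [Pi.single_apply, eq_comm], smul_eq_mul, LinearMap.pi_apply,
      lin_apply, mul_comm]
  refine hψw ?_
  have h0 := Fintype.linearIndependent_iff.1 hu _ hsum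
  rw [LinearMap.pi_apply_eq_sum_univ ψ]
  refine Finset.sum_eq_zero fun i _ => ?_
  rw [show (fun j => if i = j then (1 : F) else 0) = Pi.single i 1 from
    funext fun j => by simp [Pi.single_apply, eq_comm]]
  have := h0 i
  rw [map_eq_zero] at this
  rw [this, smul_zero]

omit [Finite F] in
theorem finrank_ker_values (hf : IsUnitaryForm σ f) {k : ℕ} {u : Fin k → (Fin n → F)}
    (hu : LinearIndependent F u) :
    k + finrank F (LinearMap.ker (LinearMap.pi fun i => lin hf (u i))) = n := by
  have := LinearMap.finrank_range_add_finrank_ker (LinearMap.pi fun i => lin hf (u i))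
  rwa [LinearMap.range_eq_top.2 (values_surjective hf hu), finrank_top, Module.finrank_fin_fun,
    Module.finrank_fin_fun] at this

/-- An isotropic vector with prescribed values on independent vectors, when their perpendicular is not
totally isotropic. -/
theorem exists_iso_values_of (hf : IsUnitaryForm σ f) {k : ℕ}
    {u : Fin k → (Fin n → F)} (hu : LinearIndependent F u)
    (hk : 2 * k < n ∨ (2 * k = n ∧ ∃ i j, f (u i) (u j) ≠ 0)) (a : Fin k → F) :
    ∃ z, f z z = 0 ∧ ∀ i, f z (u i) = a i := by
  obtain ⟨p, hp⟩ := values_surjective hf hu a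
  set S := LinearMap.ker (LinearMap.pi fun i => lin hf (u i)) with hS
  have hdim := finrank_ker_values hf hu
  obtain ⟨s, hsS, hs⟩ : ∃ s ∈ S, f s s ≠ 0 := by
    by_contra hc
    push Not at hc
    have hTI : ∀ x ∈ S, ∀ y ∈ S, f x y = 0 := fun x hx y hy => by
      by_contra hxy
      have h0 : ∀ b : F, σ b * f x y + b * σ (f x y) = 0 := fun b => by
        have := hc _ (S.add_mem hx (S.smul_mem b hy))
        rw [hf.add_left, add_right hf, add_right hf, hc x hx, smul_right hf, hf.smul_left,
          hf.smul_left, smul_right hf, hc y hy, hf.herm y x] at this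
        linear_combination this
      refine hf.ne_refl (RingEquiv.ext fun b => ?_)
      have h1 := h0 1
      have h2 := h0 b
      rw [map_one] at h1
      refine mul_right_cancel₀ hxy ?_
      show σ b * f x y = b * f x y
      linear_combination h2 - b * h1
    have hle : S ≤ LinearMap.ker (LinearMap.pi fun i => lin hf
        ((Module.finBasis F S i : S) : Fin n → F)) := fun x hx => by
      ext i
      exact hTI x hx _ (Module.finBasis F S i).2
    have hli : LinearIndependent F fun i => ((Module.finBasis F S i : S) : Fin n → F) :=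
      (Module.finBasis F S).linearIndependent.map' S.subtype (Submodule.ker_subtype S)
    have h1 := finrank_ker_values hf hli
    have h2 := Submodule.finrank_mono hle
    rcases hk with hk | ⟨hk, i, j, hij⟩
    · rw [← hS] at hdim
      omega
    · refine hij ?_
      have hu' : ∀ i, u i ∈ S := fun i => by
        have heq := Submodule.eq_of_le_of_finrank_le hle (by rw [← hS] at hdim; omega)
        rw [heq]
        ext l
        show f (u i) _ = 0
        have hm : ((Module.finBasis F S l : S) : Fin n → F) ∈ S := (Module.finBasis F S l).2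
        rw [hf.herm, show f _ (u i) = 0 from congrFun hm i, map_zero]
      exact congrFun (hu' i) j
  set c := f p p - f p s * f s p / f s s with hc
  obtain ⟨b, hb⟩ := exists_norm hf.ne_refl hf.involutive (c := -c / f s s) (by
    rw [map_div₀, map_neg, hc, map_sub, map_div₀, map_mul, ← hf.herm, ← hf.herm, ← hf.herm, ← hf.herm,
      mul_comm (f p s)])
  refine ⟨p + (b - f p s / f s s) • s, ?_, fun i => ?_⟩
  · have hσs : σ (f s s) = f s s := (hf.herm _ _).symm
    rw [hf.add_left, add_right hf, add_right hf, smul_right hf, hf.smul_left, hf.smul_left,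
      smul_right hf, map_sub, map_div₀, ← hf.herm, hσs]
    rw [eq_div_iff hs, hc] at hb
    field_simp at hb ⊢
    linear_combination hb
  · have hsi : f s (u i) = 0 := congrFun hsS i
    rw [hf.add_left, hf.smul_left, hsi, mul_zero, add_zero]
    exact congrFun hp i

/-- An isotropic vector with prescribed values on at most three independent vectors. -/
theorem exists_iso_values (hn : 7 ≤ n) (hf : IsUnitaryForm σ f) {k : ℕ} (hk : k ≤ 3)
    {u : Fin k → (Fin n → F)} (hu : LinearIndependent F u) (a : Fin k → F) :
    ∃ z, f z z = 0 ∧ ∀ i, f z (u i) = a i :=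
  exists_iso_values_of hf hu (Or.inl (by omega)) a

end CfsgLib.MaxSub.Herm
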