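/-
Similarity groups of Hermitian forms are maximal in `SL_n`.
-/
import Cfsg.Agent.Lib.MaxSub.FormMaximalSL
import Cfsg.Agent.Lib.MaxSub.HermVectors
import Cfsg.Agent.Lib.WittExtension

set_option autoImplicit false
set_option maxHeartbeats 400000

namespace CfsgLib.MaxSub

open Matrix Module Cfsg Cfsg.Geo
open CfsgLib.SLCentre CfsgLib.PSLn

variable {F : Type*} [Field F] [Finite F] {n : ℕ} {σ : F ≃+* F}

local notation "V" => Fin n → F
local notation "SL" => Matrix.SpecialLinearGroup (Fin n) F
local notation "Mn" => Matrix (Fin n) (Fin n) F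

theorem exists_trace_eq (hne : σ ≠ RingEquiv.refl F) (h2 : ∀ a, σ (σ a) = a) {c : F}
    (hc : σ c = c) : ∃ k : F, σ k + k = c :=
  WittExtension.exists_trace (σ := σ.toRingHom)
    (fun h => hne (RingEquiv.ext fun a => RingHom.congr_fun h a)) h2 hc

/-- A subspace with one isotropic vector and the isotropic vectors not perpendicular to it is
everything. -/
theorem herm_span (hn : 6 ≤ n) {f : V → V → F} (hf : IsUnitaryForm σ f) {S : Submodule F V}
    {e : V} (he0 : e ≠ 0) (he : f e e = 0) (heS : e ∈ S)
    (h : ∀ y, f y y = 0 → f y e ≠ 0 → y ∈ S) : S = ⊤ := by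
  have key : ∀ x, f x e ≠ 0 → x ∈ S := fun x hx => by
    obtain ⟨k, hk⟩ := exists_trace_eq hf.ne_refl hf.involutive (c := -(f x x))
      (by rw [map_neg, ← hf.herm])
    have hex : f e x ≠ 0 := fun h0 => hx (by rw [hf.herm, h0, map_zero])
    have hy : f (x + (k / f e x) • e) (x + (k / f e x) • e) = 0 := by
      rw [hf.add_left, Herm.add_right hf, Herm.add_right hf, Herm.smul_right hf, hf.smul_left,
        hf.smul_left, Herm.smul_right hf, he, map_div₀, ← hf.herm x e]
      field_simp
      linear_combination (f e x * f x e) * hk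
    have := h _ hy (by rw [hf.add_left, hf.smul_left, he, mul_zero, add_zero]; exact hx)
    have h2 := S.sub_mem this (S.smul_mem (k / f e x) heS)
    rwa [add_sub_cancel_right] at h2
  obtain ⟨⟨z, hz⟩, -⟩ := hf.nondegenerate e he0
  refine eq_top_iff.2 fun x _ => ?_
  by_cases hx : f x e = 0
  · have := S.sub_mem (key (x + z) (by rw [hf.add_left, hx, zero_add]; exact hz)) (key z hz)
    rwa [add_sub_cancel_right] at this
  · exact key x hx

/-- The similarities of a Hermitian form are maximal in `SL_n`. -/
theorem sl_unitary_maximal (hn : 6 ≤ n) {f : V → V → F} (hf : IsUnitaryForm σ f) :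
    IsMaximalIn (specialLinear (Fin n) F) (similarityGroup f ⊓ specialLinear (Fin n) F) := by
  refine ⟨lt_of_le_of_ne inf_le_right fun e =>
    sl_not_le_similarity (by omega) hf.add_left hf.smul_left hf.nondegenerate (e ▸ inf_le_left),
    fun K hK hKS => ?_⟩
  by_cases hle : K ≤ similarityGroup f
  · exact Or.inl (le_antisymm (le_inf hle hKS) hK)
  obtain ⟨g, hg, hgf⟩ := Set.not_subset.1 hle
  refine Or.inr (le_antisymm hKS (specialLinear_le_of_top (eq_top_of_full (by omega) ?_)))
  set K' : Subgroup SL := K.comap Matrix.SpecialLinearGroup.toGL with hK'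
  have har := Herm.add_right hf
  have hsr := Herm.smul_right hf
  have hherm := hf.herm
  let β : V →+ V := AddMonoidHom.mk' (rowVec f) fun a b => funext fun i => har _ a b
  have hβ : ∀ v x : V, β v ⬝ᵥ x = f x v := fun v x => rowVec_dot hf.add_left hf.smul_left v x
  have hβs : ∀ (c : F) (v : V), β (c • v) = σ c • β v := fun c v => funext fun i => hsr c _ v
  have hβi : Function.Injective β := by
    refine (injective_iff_map_eq_zero β).2 fun v hv => ?_
    by_contra h0
    obtain ⟨⟨x, hx⟩, -⟩ := hf.nondegenerate v h0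
    exact hx (by rw [← hβ, hv, zero_dotProduct])
  have hβb : Function.Surjective β := Finite.injective_iff_surjective.1 hβi
  obtain ⟨c0, hc0, hc0s⟩ : ∃ c : F, c ≠ 0 ∧ c + σ c = 0 := by
    obtain ⟨a, ha⟩ : ∃ a, σ a ≠ a := by
      by_contra hc
      push Not at hc
      exact hf.ne_refl (RingEquiv.ext hc)
    exact ⟨a - σ a, sub_ne_zero.2 ha.symm, by rw [map_sub, hf.involutive]; ring⟩
  obtain ⟨r, hr⟩ := exists_trace_eq hf.ne_refl hf.involutive (c := (1 : F)) (map_one _)
  have hT : ∀ (w : V) (c : F), f w w = 0 → c + σ c = 0 → HasTv K' w (c • β w) := fun w c hw hc => by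
    have e : (c • β w) ⬝ᵥ w = 0 := by rw [smul_dotProduct, hβ, hw, smul_zero]
    refine ⟨e, hK ⟨⟨1, ?_⟩, Units.ext (tv w _ e).2⟩⟩
    intro a b
    show f ((tv w (c • β w) e).1 *ᵥ a) ((tv w (c • β w) e).1 *ᵥ b) = ((1 : Fˣ) : F) * f a b
    simp only [tv_mulVec, smul_dotProduct, hβ, smul_eq_mul, hf.add_left, har, hf.smul_left, hsr, hw,
      Units.val_one, map_mul, ← hherm w b]
    linear_combination (f a w * f w b) * hc
  obtain ⟨gs, hgs, hgse⟩ := exists_sl_of hKS hg
  have hginj := Matrix.mulVec_injective_iff_isUnit.2 g.isUnit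
  have hgi : ∀ x : V, (g : Mn) *ᵥ (((g⁻¹ : GL (Fin n) F) : Mn) *ᵥ x) = x := fun x => by
    rw [Matrix.mulVec_mulVec, Units.mul_inv, Matrix.one_mulVec]
  -- a transvection of `K` with independent centre and axis vector
  obtain ⟨v, u, hv, hvu, hu⟩ : ∃ v u : V, HasTv K' v (β u) ∧ f v u = 0 ∧
      LinearIndependent F ![v, u] := by
    choose A hA using fun v => hβb (β ((g : Mn) *ᵥ v) ᵥ* (g : Mn))
    have hAf : ∀ v x, f x (A v) = f ((g : Mn) *ᵥ x) ((g : Mn) *ᵥ v) := fun v x => by
      rw [← hβ (A v) x, hA, ← dotProduct_mulVec, hβ]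
    let A' : V →ₗ[F] V :=
      { toFun := A
        map_add' := fun a b => hβi (by
          rw [map_add, hA, hA, hA, Matrix.mulVec_add, map_add, Matrix.add_vecMul])
        map_smul' := fun c a => hβi (by
          rw [RingHom.id_apply, hβs, hA, hA, Matrix.mulVec_smul, hβs, Matrix.smul_vecMul]) }
    let T : V →ₗ[F] V := Matrix.mulVecLin (g : Mn) ∘ₗ A' ∘ₗ Matrix.mulVecLin ((g⁻¹ : GL (Fin n) F) : Mn)
    by_contra hc
    push Not at hc
    have heig : ∀ y, y ≠ 0 → f y y = 0 → ∃ l : F, T y = l • y := fun y hy hyy => by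
      set v := ((g⁻¹ : GL (Fin n) F) : Mn) *ᵥ y with hv'
      have h1 := (hT y c0 hyy hc0s).conj' hgs (c' := v) (by rw [hgse, hv', hgi])
      rw [hgse, Matrix.smul_vecMul, show β y = β ((g : Mn) *ᵥ v) by rw [hv', hgi], ← hA,
        show c0 • β (A v) = β (σ c0 • A v) by rw [hβs, hf.involutive]] at h1
      have h2 : f v (σ c0 • A v) = 0 := by rw [hsr, hAf, hv', hgi, hyy, mul_zero]
      have h3 := hc v _ h1 h2
      rw [LinearIndependent.pair_iff] at h3
      push Not at h3
      obtain ⟨s, t, hst, hne⟩ := h3
      have hv0 : v ≠ 0 := fun h => hy (by rw [← hgi y, ← hv', h, Matrix.mulVec_zero])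
      have ht : t * σ c0 ≠ 0 := fun h => by
        rw [mul_eq_zero, map_eq_zero] at h
        have ht0 := h.resolve_right hc0
        rw [ht0, zero_smul, add_zero, smul_eq_zero] at hst
        exact hne (hst.resolve_right hv0) ht0
      refine ⟨-(s / (t * σ c0)), ?_⟩
      show (g : Mn) *ᵥ A v = _
      have : A v = -(s / (t * σ c0)) • v := by
        rw [smul_smul] at hst
        rw [neg_smul, eq_neg_iff_add_eq_zero, add_comm]
        refine smul_right_injective V ht ?_
        simp only [smul_add, smul_smul, smul_zero, mul_div_cancel₀ _ ht]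
        exact hst
      rw [this, Matrix.mulVec_smul, hv', hgi]
    obtain ⟨e, he, he1⟩ := Herm.exists_iso_values_of hf (k := 1)
      (u := ![(Pi.single ⟨0, by omega⟩ 1 : V)])
      (linearIndependent_unique_iff.2 fun h => by simpa using congrFun h ⟨0, by omega⟩) (Or.inl (by omega)) ![1]
    have he0 : e ≠ 0 := fun h => by
      have := he1 0
      rw [h, Herm.zero_left hf] at this
      exact zero_ne_one (this.trans (by simp))
    obtain ⟨l, hl⟩ := heig e he0 he
    have hall : LinearMap.ker (T - l • LinearMap.id) = ⊤ := by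
      refine herm_span hn hf he0 he (by simp [hl]) fun y hy hye => ?_
      have hey : f e y ≠ 0 := fun h0 => hye (by rw [hherm, h0, map_zero])
      have hind : ∀ a b : F, a • y + b • e = 0 → a = 0 ∧ b = 0 := fun a b h => by
        have := congrArg (fun z => f z e) h
        simp only [hf.add_left, hf.smul_left, he, mul_zero, add_zero, Herm.zero_left hf] at this
        have ha := (mul_eq_zero.1 this).resolve_right hye
        rw [ha, zero_smul, zero_add, smul_eq_zero] at h
        exact ⟨ha, h.resolve_right he0⟩
      set b := c0 / f e y with hb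
      have hz : f (y + b • e) (y + b • e) = 0 := by
        rw [hf.add_left, har, har, hsr, hf.smul_left, hf.smul_left, hsr, he, hy, hb, map_div₀,
          ← hherm y e]
        field_simp
        linear_combination (f e y * f y e) * hc0s
      have hy0 : y ≠ 0 := fun h => hye (by rw [h, Herm.zero_left hf])
      have hz0 : y + b • e ≠ 0 := fun h => by
        simpa using (hind 1 b (by rwa [one_smul])).1
      obtain ⟨l1, h1⟩ := heig y hy0 hy
      obtain ⟨l2, h2⟩ := heig _ hz0 hz
      rw [map_add, map_smul, h1, hl] at h2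
      obtain ⟨h3, h4⟩ := hind (l1 - l2) (b * (l - l2)) (by
        rw [sub_smul, mul_sub, sub_smul, mul_comm b l2, mul_smul, mul_smul]
        linear_combination (norm := module) h2)
      have hb0 : b ≠ 0 := div_ne_zero hc0 hey
      simp [h1, show l1 = l by linear_combination h3 - (mul_eq_zero.1 h4).resolve_left hb0]
    have hAl : ∀ v, A v = l • v := fun v => hginj (by
      have := LinearMap.mem_ker.1 (hall ▸ Submodule.mem_top :
        (g : Mn) *ᵥ v ∈ LinearMap.ker (T - l • LinearMap.id))
      simp only [LinearMap.sub_apply, sub_eq_zero] at this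
      change (g : Mn) *ᵥ A (((g⁻¹ : GL (Fin n) F) : Mn) *ᵥ ((g : Mn) *ᵥ v)) = l • ((g : Mn) *ᵥ v) at this
      rw [Matrix.mulVec_mulVec, Units.inv_mul, Matrix.one_mulVec] at this
      rw [Matrix.mulVec_smul]
      exact this)
    have hl0 : σ l ≠ 0 := fun h0 => by
      obtain ⟨-, z, hz⟩ := hf.nondegenerate _ he0
      refine hz ?_
      rw [← hgi e, ← hgi z, ← hAf, hAl, hsr, h0, zero_mul]
    exact hgf ⟨Units.mk0 _ hl0, fun x y => by rw [← hAf, hAl, hsr]; rfl⟩
  have key : ∀ {v x w : V} {c : F}, HasTv K' v (β x) → f w w = 0 → f w v = 0 → c + σ c = 0 →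
      HasTv K' v ((f w x * c) • β w) := fun {v x w c} h hw hwv hc => by
    have := h.comm (hT w c hw hc)
      (by rw [smul_dotProduct, hβ, hherm, hwv, map_zero, smul_zero])
    rwa [hβ, smul_smul] at this
  -- all multiples at a perpendicular isotropic vector
  obtain ⟨w, hw, hwv, hindw, hvw⟩ : ∃ w, f w w = 0 ∧ f w v = 0 ∧
      LinearIndependent F ![v, w] ∧ ∀ a : F, HasTv K' v (a • β w) := by
    obtain ⟨p, hp, hpp⟩ : ∃ p, (f p v = 0 ∧ f p u = 0) ∧ f p p ≠ 0 := by
      by_contra hc
      push Not at hc
      set S := LinearMap.ker (LinearMap.pi fun i => Herm.lin hf (![v, u] i)) with hS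
      have hq : ∀ x ∈ S, f x x = 0 := fun x hx => hc x ⟨congrFun hx 0, congrFun hx 1⟩
      have hTI : ∀ x ∈ S, ∀ y ∈ S, f x y = 0 := fun x hx y hy => by
        by_contra hxy
        have h0 : ∀ b : F, σ b * f x y + b * σ (f x y) = 0 := fun b => by
          have := hq _ (S.add_mem hx (S.smul_mem b hy))
          rw [hf.add_left, har, har, hq x hx, hsr, hf.smul_left,
            hf.smul_left, hsr, hq y hy, hherm y x] at this
          linear_combination this
        refine hf.ne_refl (RingEquiv.ext fun b => ?_)
        have h1 := h0 1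
        have h2 := h0 b
        rw [map_one] at h1
        refine mul_right_cancel₀ hxy ?_
        show σ b * f x y = b * f x y
        linear_combination h2 - b * h1
      have hle : S ≤ LinearMap.ker (LinearMap.pi fun i => Herm.lin hf
          ((Module.finBasis F S i : S) : V)) := fun x hx => by
        ext i
        exact hTI x hx _ (Module.finBasis F S i).2
      have h1 := Herm.finrank_ker_values hf hu
      have h2 := Submodule.finrank_mono hle
      have h3 := Herm.finrank_ker_values hf (u := fun i => ((Module.finBasis F S i : S) : V))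
        ((Module.finBasis F S).linearIndependent.map' S.subtype (Submodule.ker_subtype S))
      rw [← hS] at h1
      omega
    have hpn : p ∉ Submodule.span F (Set.range ![v, u]) := fun h => hpp (by
      have hle : Submodule.span F (Set.range ![v, u]) ≤ LinearMap.ker (Herm.lin hf p) := by
        rw [Submodule.span_le]
        rintro _ ⟨i, rfl⟩
        fin_cases i
        · show f v p = 0
          rw [hherm, hp.1, map_zero]
        · show f u p = 0
          rw [hherm, hp.2, map_zero]
      exact hle h)
    have hind3 : LinearIndependent F ![v, u, p] := by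
      rw [show (![v, u, p] : Fin 3 → V) = Fin.snoc ![v, u] p by
        ext i : 1; fin_cases i <;> rfl]
      exact linearIndependent_finSnoc.2 ⟨hu, hpn⟩
    obtain ⟨w, hw, hwa⟩ := Herm.exists_iso_values_of hf hind3 (by
      rcases lt_or_eq_of_le hn with h | h
      · exact Or.inl (by omega)
      · exact Or.inr ⟨by omega, 2, 2, hpp⟩) ![0, 1, 1]
    have hwv : f w v = 0 := hwa 0
    have hwu : f w u = 1 := hwa 1
    have hwp : f w p = 1 := hwa 2
    have hwn : w ∉ Submodule.span F (Set.range ![v, u]) := fun h => by
      have hle : Submodule.span F (Set.range ![v, u]) ≤ LinearMap.ker (Herm.lin hf p) := by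
        rw [Submodule.span_le]
        rintro _ ⟨i, rfl⟩
        fin_cases i
        · show f v p = 0
          rw [hherm, hp.1, map_zero]
        · show f u p = 0
          rw [hherm, hp.2, map_zero]
      have := hle h
      rw [LinearMap.mem_ker, Herm.lin_apply, hwp] at this
      exact one_ne_zero this
    have hind4 : LinearIndependent F ![v, u, w] := by
      rw [show (![v, u, w] : Fin 3 → V) = Fin.snoc ![v, u] w by
        ext i : 1; fin_cases i <;> rfl]
      exact linearIndependent_finSnoc.2 ⟨hu, hwn⟩
    have hindw : LinearIndependent F ![v, w] := by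
      convert hind4.comp (![0, 2] : Fin 2 → Fin 3) (by decide) using 1
      ext i : 1; fin_cases i <;> rfl
    obtain ⟨w', hw', hw'a⟩ := Herm.exists_iso_values_of hf hind4 (by
      rcases lt_or_eq_of_le hn with h | h
      · exact Or.inl (by omega)
      · refine Or.inr ⟨by omega, 2, 1, ?_⟩
        show f w u ≠ 0
        rw [hwu]
        exact one_ne_zero) ![0, r, 1]
    have h1 : HasTv K' v ((r * c0) • β w') := by
      have := key hv hw' (hw'a 0) hc0s
      rwa [show f w' u = r from hw'a 1] at this
    refine ⟨w, hw, hwv, hindw, fun a => ?_⟩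
    set e := a + σ a with he
    have hes : σ e = e := by rw [he, map_add, hf.involutive]; ring
    have h2 : HasTv K' v ((e * r) • β w) := by
      have := key (x := σ (r * c0) • w') (c := e / c0) (by rwa [hβs, hf.involutive]) hw hwv (by
        rw [map_div₀, hes, show σ c0 = -c0 by linear_combination hc0s, div_neg]; ring)
      rwa [hsr, hf.involutive, hherm w w', show f w' w = 1 from hw'a 2, map_one, mul_one,
        mul_assoc, mul_div_cancel₀ _ hc0, mul_comm r e] at this
    have h3 := key hv hw hwv (c := a - e * r) (by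
      rw [map_sub, map_mul, hes]
      linear_combination he.symm - e * hr)
    rw [hwu, one_mul] at h3
    have h4 := h3.add h2
    rwa [← add_smul, sub_add_cancel] at h4
  obtain ⟨e, he, hea⟩ := Herm.exists_iso_values_of hf hindw (Or.inl (by omega)) ![1, 0]
  have hev : f e v = 1 := hea 0
  have hew : f e w = 0 := hea 1
  have hw0 : w ≠ 0 := hindw.ne_zero 1
  have he0 : e ≠ 0 := fun h => by rw [h, Herm.zero_left hf] at hev; exact zero_ne_one hev
  have hew' : ∀ a : F, HasTv K' e (a • β w) := fun a => by
    have := (hT e c0 he hc0s).comm (hvw (a / c0)) (by rw [smul_dotProduct, hβ, hew, smul_zero])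
    rwa [smul_dotProduct, hβ, hherm v e, hev, map_one, smul_eq_mul, mul_one, smul_smul,
      mul_div_cancel₀ _ hc0] at this
  have hez : ∀ z, f z z = 0 → f z e = 0 → f z w ≠ 0 → ∀ a : F, HasTv K' e (a • β z) :=
    fun z hz hze hzw a => by
      have := key (x := σ (a / (c0 * f z w)) • w)
        (by rw [hβs, hf.involutive]; exact hew' _) hz hze hc0s
      rw [hsr, hf.involutive] at this
      rwa [show a / (c0 * f z w) * f z w * c0 = a by field_simp] at this
  have hfull : Full K' e := fun ψ hψ => by
    obtain ⟨x, rfl⟩ := hβb ψ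
    rw [hβ] at hψ
    have hindew : LinearIndependent F ![e, w] := LinearIndependent.pair_iff.2 fun s t h => by
      have := congrArg (fun z => f z v) h
      simp only [hf.add_left, hf.smul_left, hev, hwv, mul_zero, add_zero, mul_one,
        Herm.zero_left hf] at this
      rw [this, zero_smul, zero_add, smul_eq_zero] at h
      exact ⟨this, h.resolve_right hw0⟩
    obtain ⟨z0, hz0, hz0a⟩ := Herm.exists_iso_values_of hf hindew (Or.inl (by omega)) ![0, 1]
    have hz0e : f z0 e = 0 := hz0a 0
    have hz0w : f z0 w = 1 := hz0a 1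
    set d := 1 - f x w with hd
    set y := x + d • z0 with hy
    have hyw : f y w = 1 := by rw [hy, hf.add_left, hf.smul_left, hz0w, hd]; ring
    have hye : f y e = 0 := by
      rw [hy, hf.add_left, hf.smul_left, hz0e, mul_zero, add_zero, hherm, hψ, map_zero]
    clear_value y
    obtain ⟨k, hk⟩ := exists_trace_eq hf.ne_refl hf.involutive (c := -(f y y))
      (by rw [map_neg, ← hherm])
    have hz : f (y + k • w) (y + k • w) = 0 := by
      rw [hf.add_left, har, har, hsr, hf.smul_left, hf.smul_left, hsr, hw, hyw, hherm w y, hyw,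
        map_one]
      linear_combination hk
    have h1 := hez (y + k • w) hz
      (by rw [hf.add_left, hye, hf.smul_left, hherm w e, hew, map_zero, mul_zero, add_zero])
      (by rw [hf.add_left, hyw, hf.smul_left, hw, mul_zero, add_zero]; exact one_ne_zero) 1
    have h2 := (h1.sub (hew' (σ k))).sub (hez z0 hz0 hz0e (by rw [hz0w]; exact one_ne_zero) (σ d))
    rwa [one_smul, ← hβs, ← hβs, hy, ← map_sub, add_sub_cancel_right, ← map_sub,
      add_sub_cancel_right] at h2
  refine herm_span hn hf he0 he hfull fun y hy hye => ?_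
  obtain ⟨hd, hm⟩ := hT y c0 hy hc0s
  have h2 : Full K' ((tv y (c0 • β y) hd).1 *ᵥ e) := full_conj hm hfull
  rw [tv_mulVec, smul_dotProduct, hβ, smul_eq_mul] at h2
  have := Submodule.sub_mem _ (show _ ∈ fullSubmodule K' from h2)
    (show e ∈ fullSubmodule K' from hfull)
  rw [add_sub_cancel_left] at this
  exact ((fullSubmodule K').smul_mem_iff
    (mul_ne_zero hc0 fun h0 => hye (by rw [hherm, h0, map_zero]))).1 this

end CfsgLib.MaxSub
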