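/-
Stabilisers of totally singular and of non-degenerate subspaces are maximal in `SU_n`.
-/
import Cfsg.Agent.Lib.MaxSub.SubspaceMaximal
import Cfsg.Agent.Lib.Aschbacher.UnitaryProper
import Cfsg.Agent.Lib.Aschbacher.Herm
import Cfsg.Agent.Lib.Aschbacher.UnitaryClasses
import Cfsg.Agent.Lib.UnitarySimple

set_option autoImplicit false
set_option maxHeartbeats 400000

namespace CfsgLib.MaxSub

open Matrix Module Cfsg Cfsg.Geo CfsgLib.UnitaryTransvection
open CfsgLib.Aschbacher (perp IsRefl isRefl_of_unitary)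

variable {F : Type*} [Field F] [Fintype F] {n q : ℕ} (hF : Fintype.card F = q ^ 2)

local notation "h" => Cfsg.hermForm n F q
local notation "σ" => frob hF
local notation "Mn" => Matrix (Fin n) (Fin n) F
local notation "G" => Cfsg.GU n F q ⊓ specialLinear (Fin n) F

/-- An element of `SU` in the general linear group. -/
noncomputable def sg (M : Mn) (hd : M.det = 1) : GL (Fin n) F :=
  Matrix.GeneralLinearGroup.mkOfDetNeZero M (hd.trans_ne one_ne_zero)

theorem sg_mem {M : Mn} (hM : ∀ u v, h (M *ᵥ u) (M *ᵥ v) = h u v) (hd : M.det = 1) :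
    sg M hd ∈ G := ⟨fun u v => hM u v, Units.ext hd⟩

omit [Fintype F] in
theorem G_isometry {g : GL (Fin n) F} (hg : g ∈ G) (u v : Fin n → F) :
    h ((g : Mn) *ᵥ u) ((g : Mn) *ᵥ v) = h u v := hg.1 u v

/-- The centres of the transvections in `K`. -/
def Ctr (K : Subgroup (GL (Fin n) F)) (v : Fin n → F) : Prop :=
  ∀ (g : GL (Fin n) F) (c : F), c + σ c = 0 →
    (g : Mn) = Cfsg.unitaryTransvection n q v c → g ∈ K

variable {hF} {K : Subgroup (GL (Fin n) F)}

theorem Ctr.conj {v : Fin n → F} (hv : Ctr hF K v) {k : GL (Fin n) F} (hk : k ∈ K) (hkG : k ∈ G) :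
    Ctr hF K ((k : Mn) *ᵥ v) := by
  intro g c hc hg
  have h1 : k⁻¹ * g * k ∈ K := hv _ c hc (by
    have e : (g : Mn) * (k : Mn) = (k : Mn) * Cfsg.unitaryTransvection n q v c := by
      refine Matrix.ext_of_mulVec_single fun i => ?_
      rw [← Matrix.mulVec_mulVec, ← Matrix.mulVec_mulVec, hg, tmat_mulVec, tmat_mulVec,
        Matrix.mulVec_add, Matrix.mulVec_smul, G_isometry hkG]
    rw [Units.val_mul, Units.val_mul, mul_assoc, e, ← mul_assoc, Units.inv_mul, one_mul])
  have h2 := mul_mem (mul_mem hk h1) (inv_mem hk)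
  rwa [show k * (k⁻¹ * g * k) * k⁻¹ = g by group] at h2

theorem Ctr.smul {v : Fin n → F} (hv : Ctr hF K v) (a : F) : Ctr hF K (a • v) := by
  intro g c hc hg
  refine hv g (c * (a * σ a)) ?_ ?_
  · rw [map_mul, map_mul, frob_frob hF]
    linear_combination (a * σ a) * hc
  · rw [hg]
    refine Matrix.ext_of_mulVec_single fun i => ?_
    rw [tmat_mulVec, tmat_mulVec, h_smul_right hF, smul_smul]
    congr 2
    ring

theorem Ctr.of_smul {v : Fin n → F} {a : F} (ha : a ≠ 0) (hv : Ctr hF K (a • v)) : Ctr hF K v := by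
  have := hv.smul a⁻¹
  rwa [smul_smul, inv_mul_cancel₀ ha, one_smul] at this

/-- `SU_n` is generated by its transvections. -/
theorem SU_le_of_ctr (hn : 4 ≤ n) (hK : ∀ v : Fin n → F, h v v = 0 → Ctr hF K v) : G ≤ K := by
  intro g hg
  let φ : Cfsg.SU n F q →* GL (Fin n) F :=
    Matrix.SpecialLinearGroup.toGL.comp (Cfsg.SU n F q).subtype
  have hd : (g : Mn).det = 1 := by simpa using congrArg Units.val (MonoidHom.mem_ker.1 hg.2)
  have hle : Subgroup.closure (UnitarySimple.TSet (F := F) (q := q) (n := n)) ≤ K.comap φ := by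
    refine (Subgroup.closure_le _).2 ?_
    rintro A ⟨v, c, hv, hA⟩
    show φ A ∈ K
    by_cases hv0 : v = 0
    · have : φ A = 1 := Units.ext (by
        show UnitarySimple.mat A = 1
        refine Matrix.ext_of_mulVec_single fun i => ?_
        rw [hA, hv0, UnitarySimple.tmat_zero, Matrix.one_mulVec])
      rw [this]; exact one_mem _
    · refine hK v hv (φ A) c (UnitarySimple.skew_of_tmat hF hv hv0 fun a b => ?_) hA
      rw [← hA]; exact UnitarySimple.su_h A a b
  have h2 : φ ⟨⟨(g : Mn), hd⟩, fun u v => hg.1 u v⟩ ∈ K :=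
    hle (by rw [UnitarySimple.generated hF (by omega) (by omega)]; exact Subgroup.mem_top _)
  convert h2 using 1
  exact Units.ext rfl

include hF in
theorem exists_add_iso {y e : Fin n → F} (he : h e e = 0) (hye : h y e ≠ 0) :
    ∃ k : F, h (y + k • e) (y + k • e) = 0 ∧ h (y + k • e) e = h y e := by
  have hey : h e y ≠ 0 := fun e0 => hye (by rw [← h_swap hF e y, e0, map_zero])
  obtain ⟨t, ht⟩ := WittExtension.exists_trace (frob_ne_id hF) (frob_frob hF) (c := -(h y y))
    (by rw [map_neg, h_swap hF])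
  refine ⟨t / h e y, ?_, by rw [h_add_left, h_smul_left, he, mul_zero, add_zero]⟩
  simp only [h_add_left, h_add_right hF, h_smul_left, h_smul_right hF, he, map_div₀, h_swap hF]
  field_simp
  linear_combination (h e y * h y e) * ht

theorem G_not_le (hn : 4 ≤ n) (hFq : Fintype.card F = q ^ 2) {W : Submodule F (Fin n → F)}
    (h0 : W ≠ ⊥) (h1 : W ≠ ⊤) : ¬ G ≤ subspaceStabilizer W :=
  CfsgLib.Aschbacher.not_SU_le_subspaceStabilizer hFq (by omega) h0 h1

section singular

variable {W : Submodule F (Fin n → F)}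

/-- The stabiliser of a totally singular subspace moves isotropic vectors not orthogonal to one of
its vectors. -/
theorem trans_singular (hW : IsTotallySingularFor h W) (hHK : subspaceStabilizer W ⊓ G ≤ K)
    {e y z : Fin n → F} (he : e ∈ W) (hy : h y y = 0) (hye : h y e ≠ 0)
    (hz : h z z = 0) (hze : h z e ≠ 0) (hS : Ctr hF K y) : Ctr hF K z := by
  have hee := hW e he e he
  set c := h y e / h z e with hc
  set z' := c • z with hz'
  have hz'e : h z' e = h y e := by rw [hz', h_smul_left, hc, div_mul_cancel₀ _ hze]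
  have hz'z : h z' z' = 0 := by rw [hz', h_smul_left, h_smul_right hF, hz]; simp
  set a := (h y e)⁻¹ • (z' - y) with ha
  have hae : h a e = 0 := by rw [ha, h_smul_left, h_sub_left, hz'e, sub_self, mul_zero]
  set s := h y a / h y e with hs
  have hcond : h a a + s + σ s = 0 := by
    have hey : σ (h y e) ≠ 0 := fun e0 => hye (by simpa [frob_frob hF] using congrArg σ e0)
    rw [hs, ha]
    simp only [h_smul_left, h_smul_right hF, h_sub_left, h_sub_right hF, hz'z, hy, map_div₀, map_mul,
      map_inv₀, map_sub, frob_frob hF, h_swap hF]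
    field_simp
    rw [← h_swap hF y z']
    simp only [frob_frob hF, map_zero]
    ring
  set u := sg _ (UnitarySimple.det_umat hF hee hae (s := s)) with hu
  have huG : u ∈ G := sg_mem (UnitarySimple.umat_isometry hF hee hae hcond) _
  have huK : u ∈ K := hHK ⟨mem_stab_of_maps fun x hx => by
    show UnitarySimple.umat (q := q) e a s *ᵥ x ∈ W
    rw [UnitarySimple.umat_mulVec, hW x hx e he, zero_smul, add_zero, mul_zero, zero_smul, add_zero]
    exact W.sub_mem hx (W.smul_mem _ he), huG⟩
  have h1 := hS.conj huK huG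
  have e1 : (u : Mn) *ᵥ y = z' := by
    show UnitarySimple.umat (q := q) e a s *ᵥ y = z'
    rw [UnitarySimple.umat_mulVec, show s * h y e = h y a by rw [hs, div_mul_cancel₀ _ hye],
      sub_add_cancel, ha, smul_smul, mul_inv_cancel₀ hye, one_smul]
    abel
  rw [e1, hz'] at h1
  exact h1.of_smul (div_ne_zero hye hze)

/-- Stabilisers of totally singular subspaces are maximal in `SU_n`. -/
theorem su_singular_maximal (hn : 4 ≤ n) (hFq : Fintype.card F = q ^ 2) (hW0 : W ≠ ⊥)
    (hW : IsTotallySingularFor h W) : IsMaximalIn G (subspaceStabilizer W ⊓ G) := by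
  obtain ⟨τ, -, hf⟩ := CfsgLib.Aschbacher.exists_unitary_hermForm (n := n) hFq
  have hr := isRefl_of_unitary hf
  set P := perp hr.sesq W with hP
  have hWP : W ≤ P := fun x hx y hy => hW x hx y hy
  obtain ⟨w₀, hw₀, hw₀0⟩ := Submodule.exists_mem_ne_zero_of_ne_bot hW0
  have hW1 : W ≠ ⊤ := by
    rintro rfl
    exact hw₀0 (h_nondeg hFq fun y => hW w₀ hw₀ y Submodule.mem_top)
  refine isMaximalIn_of (G_not_le hn hFq hW0 hW1) fun K hKG hHK g hg hgW => ?_
  refine SU_le_of_ctr (hF := hFq) hn ?_
  have hPS : ∀ v ∈ P, h v v = 0 → Ctr hFq K v := fun v hv hvv u c hc hu => hHK ⟨mem_stab_of_maps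
    fun x hx => by
      rw [hu, tmat_mulVec, hr.zero_iff.1 (hv x hx), mul_zero, zero_smul, add_zero]; exact hx,
    fun a b => by
      show h ((u : Mn) *ᵥ a) ((u : Mn) *ᵥ b) = h a b
      rw [hu]
      exact tmat_isometry hFq (show Good hFq v c by rw [Good, hvv, mul_zero, add_zero, hc]) a b,
    Units.ext (by
      show (u : Mn).det = 1
      rw [hu, det_tmat, hvv, mul_zero, add_zero])⟩
  obtain ⟨x₀, hx₀P, hx₀i, hx₀⟩ : ∃ x₀, x₀ ∉ P ∧ h x₀ x₀ = 0 ∧ Ctr hFq K x₀ := by
    obtain ⟨w, hw, hgw⟩ := exists_moved hgW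
    set x := (g : Mn) *ᵥ w with hx
    have hxi : h x x = 0 := by rw [hx, G_isometry (hKG hg), hW w hw w hw]
    by_cases hxP : x ∈ P
    · have hPP : perp hr.sesq P = W := by
        refine (Submodule.eq_of_le_of_finrank_eq (hr.le_perp_perp W) ?_).symm
        have h1 := hr.finrank_perp W
        have h2 := hr.finrank_perp (perp hr.sesq W)
        change finrank F W = finrank F (perp hr.sesq (perp hr.sesq W))
        omega
      obtain ⟨p, hp, hxp⟩ : ∃ p ∈ P, h x p ≠ 0 := by
        by_contra hc
        push Not at hc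
        exact hgw (hPP ▸ hc)
      have hpx : h p x ≠ 0 := fun e => hxp (hr.zero_iff.1 e)
      obtain ⟨k, hk1, hk2⟩ := exists_add_iso (hF := hFq) hxi hpx
      obtain ⟨f, hf1, hf2, hf3⟩ :=
        UnitarySimple.avoid hFq (fun e => hgw (by rw [e]; exact W.zero_mem)) hxi hw₀0
      refine ⟨f, fun hfP => hf3 (hfP w₀ hw₀), hf1, ?_⟩
      have hgi : ∀ a b, h (((g⁻¹ : GL (Fin n) F) : Mn) *ᵥ a) (((g⁻¹ : GL (Fin n) F) : Mn) *ᵥ b) = h a b :=
        G_isometry (hKG (inv_mem hg))
      have hgwe : ((g⁻¹ : GL (Fin n) F) : Mn) *ᵥ x = w := by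
        rw [hx, Matrix.mulVec_mulVec, Units.inv_mul, Matrix.one_mulVec]
      have h1 := trans_singular (hF := hFq) hW hHK hw
        (y := ((g⁻¹ : GL (Fin n) F) : Mn) *ᵥ (p + k • x)) (z := ((g⁻¹ : GL (Fin n) F) : Mn) *ᵥ f)
        (by rw [hgi]; exact hk1) (by rw [← hgwe, hgi, hk2]; exact hpx)
        (by rw [hgi]; exact hf1) (by rw [← hgwe, hgi]; exact hf2)
        ((hPS _ (P.add_mem hp (P.smul_mem _ hxP)) hk1).conj (inv_mem hg) (hKG (inv_mem hg)))
      have h2 := h1.conj hg (hKG hg)
      rwa [Matrix.mulVec_mulVec, Units.mul_inv, Matrix.one_mulVec] at h2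
    · exact ⟨x, hxP, hxi, (hPS w (hWP hw) (hW w hw w hw)).conj hg (hKG hg)⟩
  intro z hz
  by_cases hzP : z ∈ P
  · exact hPS z hzP hz
  obtain ⟨a, ha, hxa⟩ : ∃ a ∈ W, h x₀ a ≠ 0 := by
    by_contra hc
    push Not at hc
    exact hx₀P hc
  obtain ⟨a', ha', hza⟩ : ∃ a' ∈ W, h z a' ≠ 0 := by
    by_contra hc
    push Not at hc
    exact hzP hc
  obtain ⟨f, hf1, hf2, hf3⟩ := UnitarySimple.avoid hFq (e := a) (z := a')
    (fun e => hxa (by rw [e]; exact hr.sesq.zero_right _)) (hW a ha a ha)
    (fun e => hza (by rw [e]; exact hr.sesq.zero_right _))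
  exact trans_singular hW hHK ha' hf1 hf3 hz hza
    (trans_singular hW hHK ha hx₀i hxa hf1 hf2 hx₀)

end singular


section nondegenerate

variable {σ' : F ≃+* F} (hr : IsRefl σ' (1 : F) (Cfsg.hermForm n F q))

include hr in
/-- Intersecting with the perpendicular of a vector drops the dimension by at most one. -/
theorem finrank_inf_perp_span (X : Submodule F (Fin n → F)) (v : Fin n → F) :
    finrank F X ≤ finrank F (X ⊓ perp hr.sesq (Submodule.span F {v}) : Submodule F (Fin n → F)) + 1 := by
  have h1 := Submodule.finrank_sup_add_finrank_inf_eq X (perp hr.sesq (Submodule.span F {v}))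
  have h2 := hr.finrank_perp (Submodule.span F {v})
  have h3 : finrank F (Submodule.span F {v}) ≤ 1 := by
    refine le_trans (finrank_span_le_card ({v} : Set (Fin n → F))) ?_
    simp
  have h4 := Submodule.finrank_le (X ⊔ perp hr.sesq (Submodule.span F {v}))
  rw [Module.finrank_fintype_fun_eq_card] at h4
  omega

include hF hr in
/-- A subspace of more than half of a non-degenerate one has an anisotropic vector. -/
theorem exists_aniso {W X : Submodule F (Fin n → F)} (hW : IsNondegenerateOn h W)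
    (hX : X ≤ perp hr.sesq W) (hdim : finrank F (perp hr.sesq W) < 2 * finrank F X) :
    ∃ p ∈ X, h p p ≠ 0 := by
  by_contra hc
  push Not at hc
  obtain ⟨η, hη⟩ : ∃ η : F, σ η ≠ η := by
    by_contra e
    push Not at e
    exact frob_ne_id hF (RingHom.ext e)
  have hts : ∀ x ∈ X, ∀ y ∈ X, h x y = 0 := by
    intro x hx y hy
    have key : ∀ z ∈ X, h x z + h z x = 0 := fun z hz => by
      have := hc (x + z) (X.add_mem hx hz)
      rw [h_add_left, h_add_right hF, h_add_right hF, hc x hx, hc z hz] at this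
      linear_combination this
    have e1 := key y hy
    have e2 := key (η • y) (X.smul_mem η hy)
    rw [h_smul_left, h_smul_right hF] at e2
    have : (σ η - η) * h x y = 0 := by linear_combination e2 - η * e1
    exact (mul_eq_zero.1 this).resolve_left (sub_ne_zero.2 hη)
  have hle : X ⊔ W ≤ perp hr.sesq X := by
    refine sup_le (fun x hx y hy => hts x hx y hy) fun w hw y hy => hr.zero_iff.1 (hX hy w hw)
  have hinf : X ⊓ W = ⊥ := by
    refine eq_bot_iff.2 ?_
    rw [← hr.nondegenerateOn_iff.1 hW]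
    exact le_inf inf_le_right (inf_le_left.trans hX)
  have h1 := Submodule.finrank_sup_add_finrank_inf_eq X W
  rw [hinf, finrank_bot] at h1
  have h2 := Submodule.finrank_mono hle
  have h3 := hr.finrank_perp X
  have h4 := hr.finrank_perp W
  omega

variable {W : Submodule F (Fin n → F)}

theorem det_one_sg {d p : Fin n → F} {k k' : F} (e : (1 + k * h d d) * (1 + k' * h p p) = 1) :
    (Cfsg.unitaryTransvection n q d k * Cfsg.unitaryTransvection n q p k').det = 1 := by
  rw [Matrix.det_mul, det_tmat, det_tmat, e]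

include hF hr in
/-- Adding to a centre a vector of `W` or of its perpendicular. -/
theorem step_nondeg (hW : IsNondegenerateOn h W) (hHK : subspaceStabilizer W ⊓ G ≤ K)
    (hdimP : 3 ≤ finrank F (perp hr.sesq W)) {x d : Fin n → F}
    (hd : d ∈ W ∨ d ∈ perp hr.sesq W)
    (halt : 4 ≤ finrank F (perp hr.sesq W) ∨ d ∈ W ∨
      ∃ p, (p ∈ W ∨ p ∈ perp hr.sesq W) ∧ h p p ≠ 0 ∧ h p x = 0 ∧ h p d = 0)
    (hxd : h x d ≠ 0) (hnorm : h (x + d) (x + d) = h x x)
    (hS : Ctr hF K x) : Ctr hF K (x + d) := by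
  set k := (h x d)⁻¹ with hk
  have hsum : h x d + σ (h x d) + h d d = 0 := by
    rw [h_add_left, h_add_right hF, h_add_right hF] at hnorm
    rw [h_swap hF]
    linear_combination hnorm
  have hsne : σ (h x d) ≠ 0 := fun e0 => hxd (by simpa [frob_frob hF] using congrArg σ e0)
  have hgood : k + σ k + k * σ k * h d d = 0 := by
    rw [hk, map_inv₀]
    field_simp
    linear_combination hsum
  set δ := 1 + k * h d d with hδ
  have hδn : δ * σ δ = 1 := by
    rw [hδ, map_add, map_one, map_mul, h_swap hF d d]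
    linear_combination (h d d) * hgood
  have hδ0 : δ ≠ 0 := fun e => by simp [e] at hδn
  set X := perp hr.sesq W ⊓ perp hr.sesq (Submodule.span F {x}) ⊓ perp hr.sesq (Submodule.span F {d})
    with hX
  have hdim2 : finrank F (perp hr.sesq W) ≤ finrank F X + 2 := by
    have h1 := finrank_inf_perp_span hr (perp hr.sesq W) x
    have h2 := finrank_inf_perp_span hr (perp hr.sesq W ⊓ perp hr.sesq (Submodule.span F {x})) d
    rw [← hX] at h2
    omega
  obtain ⟨p, hpWP, hpp, hpx, hpd⟩ : ∃ p, (p ∈ W ∨ p ∈ perp hr.sesq W) ∧ h p p ≠ 0 ∧ h p x = 0 ∧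
      h p d = 0 := by
    have hgood4 : 4 ≤ finrank F (perp hr.sesq W) ∨ d ∈ W → ∃ p ∈ X, h p p ≠ 0 := ?_
    · rcases halt with h4 | h4 | h4
      all_goals first
        | exact h4
        | (obtain ⟨p, hp, hpp⟩ := hgood4 (by first | exact Or.inl h4 | exact Or.inr h4)
           exact ⟨p, Or.inr hp.1.1, hpp, hp.1.2 x (Submodule.mem_span_singleton_self x),
             hp.2 d (Submodule.mem_span_singleton_self d)⟩)
    intro hcase
    rcases hd with hdW | hdP
    · obtain ⟨p, hp, hpp⟩ := exists_aniso (hF := hF) hr hW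
        (X := perp hr.sesq W ⊓ perp hr.sesq (Submodule.span F {x})) inf_le_left (by
          have h1 := finrank_inf_perp_span hr (perp hr.sesq W) x
          omega)
      refine ⟨p, ⟨hp, fun y hy => ?_⟩, hpp⟩
      obtain ⟨c, rfl⟩ := Submodule.mem_span_singleton.1 hy
      rw [h_smul_right hF, hp.1 d hdW, mul_zero]
    rcases hcase with h4 | hdW
    swap
    · exfalso
      have hd0 : d = 0 := by
        have : d ∈ W ⊓ perp hr.sesq W := ⟨hdW, hdP⟩
        rw [hr.nondegenerateOn_iff.1 hW] at this
        exact (Submodule.mem_bot F).1 this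
      exact hxd (by rw [hd0, hr.sesq.zero_right])
    rcases Nat.lt_or_ge (finrank F (perp hr.sesq W)) (2 * finrank F X) with hlt | hge
    · exact exists_aniso (hF := hF) hr hW (inf_le_left.trans inf_le_left) hlt
    by_contra hc
    push Not at hc
    -- the intersection is totally isotropic of half the dimension and contains `d`
    have hXd : ∀ y ∈ X, h d y = 0 := fun y hy =>
      hr.zero_iff.1 (hy.2 d (Submodule.mem_span_singleton_self d))
    have hdX : d ∈ X := by
      by_contra hdX
      have hdd : ∀ y ∈ X ⊔ Submodule.span F {d}, y ∈ perp hr.sesq X := fun y hy => by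
        intro z hz
        obtain ⟨u, hu, v, hv, rfl⟩ := Submodule.mem_sup.1 hy
        obtain ⟨c, rfl⟩ := Submodule.mem_span_singleton.1 hv
        obtain ⟨η, hη⟩ : ∃ η : F, σ η ≠ η := by
          by_contra e
          push Not at e
          exact frob_ne_id hF (RingHom.ext e)
        have key : ∀ w ∈ X, h z w + h w z = 0 := fun w hw => by
          have := hc (z + w) (X.add_mem hz hw)
          rw [h_add_left, h_add_right hF, h_add_right hF, hc z hz, hc w hw] at this
          linear_combination this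
        have e1 := key u hu
        have e2 := key (η • u) (X.smul_mem η hu)
        rw [h_smul_left, h_smul_right hF] at e2
        have hzu : (σ η - η) * h z u = 0 := by linear_combination e2 - η * e1
        rw [h_add_left, hr.zero_iff.1 ((mul_eq_zero.1 hzu).resolve_left (sub_ne_zero.2 hη)), h_smul_left,
          hXd z hz, mul_zero, add_zero]
      have hle : X ⊔ Submodule.span F {d} ⊔ W ≤ perp hr.sesq X := sup_le hdd fun w hw y hy =>
        hr.zero_iff.1 (hy.1.1 w hw)
      have hXdP : X ⊔ Submodule.span F {d} ≤ perp hr.sesq W :=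
        sup_le (inf_le_left.trans inf_le_left) ((Submodule.span_singleton_le_iff_mem _ _).2 hdP)
      have hinf : (X ⊔ Submodule.span F {d}) ⊓ W = ⊥ := by
        refine eq_bot_iff.2 ?_
        rw [← hr.nondegenerateOn_iff.1 hW]
        exact le_inf inf_le_right (inf_le_left.trans hXdP)
      have h1 := Submodule.finrank_sup_add_finrank_inf_eq (X ⊔ Submodule.span F {d}) W
      rw [hinf, finrank_bot] at h1
      have h2 := Submodule.finrank_mono hle
      have h3 := hr.finrank_perp X
      have h4 := hr.finrank_perp W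
      have h5 : finrank F X < finrank F ↥(X ⊔ Submodule.span F {d}) :=
        Submodule.finrank_lt_finrank_of_lt (lt_of_le_of_ne le_sup_left fun e => hdX (by
          rw [e]; exact Submodule.mem_sup_right (Submodule.mem_span_singleton_self d)))
      omega
    exact hxd (hr.zero_iff.1 (hdX.1.2 x (Submodule.mem_span_singleton_self x)))
  have hxp : h x p = 0 := hr.zero_iff.1 hpx
  have hdp : h d p = 0 := hr.zero_iff.1 hpd
  set k' := (δ⁻¹ - 1) / h p p with hk'
  have hdet : (1 + k * h d d) * (1 + k' * h p p) = 1 := by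
    rw [← hδ, hk', div_mul_cancel₀ _ hpp, add_sub_cancel, mul_inv_cancel₀ hδ0]
  have hgood' : k' + σ k' + k' * σ k' * h p p = 0 := by
    rw [hk', map_div₀, map_sub, map_inv₀, map_one, h_swap hF p p]
    field_simp
    have : σ δ ≠ 0 := fun e => by simp [e] at hδn
    field_simp
    linear_combination -hδn
  set u := sg _ (det_one_sg hdet) with hu
  have happ : ∀ y, (u : Mn) *ᵥ y = Cfsg.unitaryTransvection n q d k *ᵥ (y + (k' * h y p) • p) :=
    fun y => by
      show (Cfsg.unitaryTransvection n q d k * Cfsg.unitaryTransvection n q p k') *ᵥ y = _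
      rw [← Matrix.mulVec_mulVec, tmat_mulVec p]
  have huG : u ∈ G := sg_mem (fun a b => by
    rw [← Matrix.mulVec_mulVec, ← Matrix.mulVec_mulVec, tmat_isometry hF hgood,
      tmat_isometry hF hgood']) _
  have huK : u ∈ K := hHK ⟨mem_stab_of_maps fun w hw => by
    have hw' : w + (k' * h w p) • p ∈ W := by
      rcases hpWP with hp | hp
      · exact W.add_mem hw (W.smul_mem _ hp)
      · rw [hr.zero_iff.1 (hp w hw), mul_zero, zero_smul, add_zero]; exact hw
    rw [happ, tmat_mulVec]
    rcases hd with hd | hd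
    · exact W.add_mem hw' (W.smul_mem _ hd)
    · rw [hr.zero_iff.1 (hd _ hw'), mul_zero, zero_smul, add_zero]; exact hw', huG⟩
  have h1 := hS.conj huK huG
  rwa [happ, hxp, mul_zero, zero_smul, add_zero, tmat_mulVec, hk, inv_mul_cancel₀ hxd, one_smul] at h1

include hF hr in
/-- Moving a component of non-zero norm. -/
theorem move_nondeg (hW : IsNondegenerateOn h W) (hHK : subspaceStabilizer W ⊓ G ≤ K)
    (hdimP : 3 ≤ finrank F (perp hr.sesq W)) {X : Submodule F (Fin n → F)}
    (hX : X = W ∨ X = perp hr.sesq W) {a a' b : Fin n → F} (ha : a ∈ X) (ha' : a' ∈ X)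
    (hb : ∀ w ∈ X, h b w = 0)
    (halt : 4 ≤ finrank F (perp hr.sesq W) ∨ X = W ∨ ∃ p ∈ W, h p p ≠ 0 ∧ h p b = 0)
    (heq : h a' a' = h a a) (hc : h a a ≠ 0) (hS : Ctr hF K (a + b)) :
    Ctr hF K (a' + b) := by
  have hmem : ∀ d ∈ X, d ∈ W ∨ d ∈ perp hr.sesq W := fun d hd => by
    rcases hX with e | e
    · exact Or.inl (e ▸ hd)
    · exact Or.inr (e ▸ hd)
  have key : ∀ u v, u ∈ X → v ∈ X → h u (v - u) ≠ 0 → h v v = h u u → Ctr hF K (u + b) →
      Ctr hF K (v + b) := by
    intro u v hu hv hne he hcu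
    have e1 : v + b = u + b + (v - u) := by abel
    rw [e1]
    refine step_nondeg hr hW hHK hdimP (hmem _ (X.sub_mem hv hu)) ?_ ?_ ?_ hcu
    · rcases halt with h4 | h4 | ⟨p, hpW, hpp, hpb⟩
      · exact Or.inl h4
      · exact Or.inr (Or.inl (h4 ▸ X.sub_mem hv hu))
      · rcases hX with e | e
        · exact Or.inr (Or.inl (e ▸ X.sub_mem hv hu))
        have hz : ∀ y ∈ X, h p y = 0 := fun y hy => hr.zero_iff.1 ((e ▸ hy : y ∈ perp hr.sesq W) p hpW)
        exact Or.inr (Or.inr ⟨p, Or.inl hpW, hpp, by rw [h_add_right hF, hz u hu, hpb, add_zero],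
          hz _ (X.sub_mem hv hu)⟩)
    · rw [h_add_left, hb _ (X.sub_mem hv hu), add_zero]; exact hne
    · rw [← e1, h_add_left, h_add_right hF, h_add_right hF, h_add_left, h_add_right hF, h_add_right hF,
        he, hb u hu, hb v hv, hr.zero_iff.1 (hb u hu), hr.zero_iff.1 (hb v hv)]
  by_cases h0 : h a (a' - a) = 0
  · obtain ⟨ω, hω1, hω⟩ := exists_omega hF
    have hne1 : h a (ω • a - a) ≠ 0 := by
      rw [h_sub_right hF, h_smul_right hF]
      intro e
      have h2 : (σ ω - 1) * h a a = 0 := by linear_combination e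
      have h3 : σ ω = 1 := sub_eq_zero.1 ((mul_eq_zero.1 h2).resolve_right hc)
      exact hω1 (by simpa [frob_frob hF] using congrArg σ h3)
    have hne2 : h (ω • a) (a' - ω • a) ≠ 0 := by
      rw [h_sub_right hF, h_smul_left, h_smul_left, h_smul_right hF]
      rw [h_sub_right hF, sub_eq_zero] at h0
      rw [h0]
      intro e
      have h2 : (ω - 1) * h a a = 0 := by linear_combination e + (h a a) * hω
      exact hω1 (sub_eq_zero.1 ((mul_eq_zero.1 h2).resolve_right hc))
    have hωn : h (ω • a) (ω • a) = h a a := by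
      rw [h_smul_left, h_smul_right hF]; linear_combination (h a a) * hω
    exact key (ω • a) a' (X.smul_mem _ ha) ha' hne2 (by rw [hωn, heq])
      (key a (ω • a) ha (X.smul_mem _ ha) hne1 hωn hS)
  · exact key a a' ha ha' h0 heq hS

include hF hr in
/-- An isotropic vector with prescribed product with a given isotropic one. -/
theorem exists_iso_partner {X : Submodule F (Fin n → F)} (hX : IsNondegenerateOn h X)
    {a : Fin n → F} (ha : a ∈ X) (ha0 : a ≠ 0) (hai : h a a = 0) (α : F) :
    ∃ a' ∈ X, h a' a' = 0 ∧ h a' a = α := by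
  obtain ⟨⟨y, hy, hya⟩, -⟩ := hX a ha ha0
  obtain ⟨k, hk1, hk2⟩ := exists_add_iso (hF := hF) hai hya
  refine ⟨(α / h y a) • (y + k • a), X.smul_mem _ (X.add_mem hy (X.smul_mem _ ha)), ?_, ?_⟩
  · rw [h_smul_left, h_smul_right hF, hk1, mul_zero, mul_zero]
  · rw [h_smul_left, hk2, div_mul_cancel₀ _ hya]

end nondegenerate

/-- Stabilisers of non-degenerate subspaces of less than half the dimension, from dimension five on. -/
theorem su_nondegenerate_maximal_of (hn : 5 ≤ n) (hFq : Fintype.card F = q ^ 2)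
    {W : Submodule F (Fin n → F)} (hW0 : W ≠ ⊥) (hW : IsNondegenerateOn h W)
    (hdim : 2 * finrank F W < n) : IsMaximalIn G (subspaceStabilizer W ⊓ G) := by
  obtain ⟨τ, -, hf⟩ := CfsgLib.Aschbacher.exists_unitary_hermForm (n := n) hFq
  have hr := isRefl_of_unitary hf
  set P := perp hr.sesq W with hP
  have hPn : IsNondegenerateOn h P := hr.nondegenerateOn_perp hW
  have hdP : finrank F W + finrank F P = n := by
    have := hr.finrank_perp W
    rwa [Fintype.card_fin] at this
  have hdim5 : 3 ≤ finrank F P := by omega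
  have hsmall : 4 ≤ finrank F P ∨ (finrank F W = 2 ∧ finrank F P = 3) := by omega
  have hPe : finrank F (perp hr.sesq W) = finrank F P := rfl
  have hinf : W ⊓ P = ⊥ := hr.nondegenerateOn_iff.1 hW
  have hsup : W ⊔ P = ⊤ := by
    refine Submodule.eq_top_of_finrank_eq ?_
    have h1 := Submodule.finrank_sup_add_finrank_inf_eq W P
    rw [hinf, finrank_bot] at h1
    rw [Module.finrank_fin_fun]
    omega
  have hW1 : W ≠ ⊤ := by
    rintro rfl
    rw [finrank_top, Module.finrank_fin_fun] at hdim
    omega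
  have hWP : ∀ {a b : Fin n → F}, a ∈ W → b ∈ P → h b a = 0 ∧ h a b = 0 :=
    fun ha hb => ⟨hb _ ha, hr.zero_iff.1 (hb _ ha)⟩
  have hnorm : ∀ {a b : Fin n → F}, a ∈ W → b ∈ P → h (a + b) (a + b) = h a a + h b b := fun ha hb => by
    rw [h_add_left, h_add_right hFq, h_add_right hFq, (hWP ha hb).1, (hWP ha hb).2]; ring
  refine isMaximalIn_of (G_not_le (by omega) hFq hW0 hW1) fun K hKG hHK g hg hgW => ?_
  refine SU_le_of_ctr (hF := hFq) (by omega) ?_
  have hSS : ∀ v, h v v = 0 → (v ∈ W ∨ v ∈ P) → Ctr hFq K v := fun v hvv hv u c hc hu =>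
    hHK ⟨mem_stab_of_maps fun x hx => by
      rw [hu, tmat_mulVec]
      rcases hv with hv | hv
      · exact W.add_mem hx (W.smul_mem _ hv)
      · rw [hr.zero_iff.1 (hv x hx), mul_zero, zero_smul, add_zero]; exact hx,
    fun a b => by
      show h ((u : Mn) *ᵥ a) ((u : Mn) *ᵥ b) = h a b
      rw [hu]
      exact tmat_isometry hFq (show Good hFq v c by rw [Good, hvv, mul_zero, add_zero, hc]) a b,
    Units.ext (by
      show (u : Mn).det = 1
      rw [hu, det_tmat, hvv, mul_zero, add_zero])⟩
  obtain ⟨v₀, hv₀W, hv₀P, hv₀i, hv₀⟩ :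
      ∃ v, v ∉ W ∧ v ∉ P ∧ h v v = 0 ∧ Ctr hFq K v := by
    by_contra hc
    push Not at hc
    have hgi := G_isometry (hKG hg)
    set L := Matrix.mulVecLin (g : Mn) with hL
    have hinj : Function.Injective L := Matrix.mulVec_injective_iff_isUnit.2 g.isUnit
    have hcases : ∀ v ∈ P, h v v = 0 → L v ∈ W ∨ L v ∈ P := fun v hv hvv => by
      by_contra hn'
      rw [not_or] at hn'
      exact hc _ hn'.1 hn'.2 (by show h ((g : Mn) *ᵥ v) _ = 0; rw [hL, Matrix.mulVecLin_apply, hgi]; exact hvv)
        ((hSS v hvv (Or.inr hv)).conj hg (hKG hg))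
    -- all isotropic vectors of `P` go to the same side
    have hside : (∀ v ∈ P, h v v = 0 → L v ∈ W) ∨ (∀ v ∈ P, h v v = 0 → L v ∈ P) := by
      by_contra hn'
      rw [not_or] at hn'
      push Not at hn'
      obtain ⟨⟨x, hx, hxx, hxW⟩, ⟨y, hy, hyy, hyP⟩⟩ := hn'
      have hLy : L y ∈ W := (hcases y hy hyy).resolve_right hyP
      have hLx : L x ∈ P := (hcases x hx hxx).resolve_left hxW
      have hxy : h x y = 0 := by rw [← hgi x y]; exact (hWP hLy hLx).1
      have hi : h (x + y) (x + y) = 0 := by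
        rw [h_add_left, h_add_right hFq, h_add_right hFq, hxx, hyy, hxy, hr.zero_iff.1 hxy]; ring
      rcases hcases _ (P.add_mem hx hy) hi with h' | h'
      · rw [map_add] at h'; exact hxW (by simpa using W.sub_mem h' hLy)
      · rw [map_add] at h'; exact hyP (by simpa using P.sub_mem h' hLx)
    obtain ⟨e, he, he0, hei⟩ : ∃ e ∈ P, e ≠ 0 ∧ h e e = 0 := by
      obtain ⟨p, hp, hpp⟩ := exists_aniso (hF := hFq) hr hW (X := P) le_rfl (by omega)
      obtain ⟨p', hp', hp'p⟩ := exists_aniso (hF := hFq) hr hW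
        (X := P ⊓ perp hr.sesq (Submodule.span F {p})) inf_le_left (by
          have := finrank_inf_perp_span hr P p
          omega)
      have h21 : h p' p = 0 := hp'.2 p (Submodule.mem_span_singleton_self p)
      obtain ⟨t, ht⟩ := exists_norm_eq hFq (c := -(h p p) / h p' p')
        (by rw [map_div₀, map_neg, h_swap hFq, h_swap hFq])
      refine ⟨p + t • p', P.add_mem hp (P.smul_mem _ hp'.1), fun e => hpp ?_, ?_⟩
      · have h2 := congrArg (fun x => h x p) e
        simpa [h_add_left, h_smul_left, h21, hr.sesq.zero_left] using h2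
      · rw [eq_div_iff hp'p] at ht
        rw [h_add_left, h_add_right hFq, h_add_right hFq, h_smul_left, h_smul_left, h_smul_right hFq,
          h_smul_right hFq, h21, hr.zero_iff.1 h21]
        linear_combination ht
    have hspan : ∀ (Y : Submodule F (Fin n → F)), (∀ v ∈ P, h v v = 0 → L v ∈ Y) → P.map L ≤ Y := by
      rintro Y hY _ ⟨p, hp, rfl⟩
      have hge : ∀ p ∈ P, h p e ≠ 0 → L p ∈ Y := fun p hp hpe => by
        obtain ⟨k, hk, -⟩ := exists_add_iso (hF := hFq) hei hpe
        have h2 := Y.sub_mem (hY _ (P.add_mem hp (P.smul_mem k he)) hk) (Y.smul_mem k (hY e he hei))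
        rwa [map_add, map_smul, add_sub_cancel_right] at h2
      by_cases hpe : h p e = 0
      · obtain ⟨⟨y, hy, hye⟩, -⟩ := hPn e he he0
        have h2 := Y.sub_mem (hge (p + y) (P.add_mem hp hy) (by rw [h_add_left, hpe, zero_add]; exact hye))
          (hge y hy hye)
        rwa [map_add, add_sub_cancel_right] at h2
      · exact hge p hp hpe
    have hrank : finrank F (P.map L) = finrank F P :=
      (LinearEquiv.finrank_eq (Submodule.equivMapOfInjective L hinj P)).symm
    rcases hside with hs | hs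
    · have := Submodule.finrank_mono (hspan W hs)
      omega
    · have hPP : P.map L = P := Submodule.eq_of_le_of_finrank_eq (hspan P hs) hrank
      refine hgW (mem_stab_of_maps fun w hw => ?_)
      have hperp : perp hr.sesq P = W := by
        refine (Submodule.eq_of_le_of_finrank_eq (hr.le_perp_perp W) ?_).symm
        have h2 := hr.finrank_perp (perp hr.sesq W)
        rw [Fintype.card_fin] at h2
        change finrank F W = finrank F (perp hr.sesq (perp hr.sesq W))
        change finrank F (perp hr.sesq W) + _ = n at h2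
        have h3 : finrank F W + finrank F (perp hr.sesq W) = n := hdP
        omega
      rw [← hperp]
      intro p hp
      obtain ⟨p0, hp0, rfl⟩ := Submodule.mem_map.1 (hPP.ge hp)
      show h ((g : Mn) *ᵥ w) ((g : Mn) *ᵥ p0) = 0
      rw [hgi]
      exact (hWP hw hp0).2
  -- a centre with anisotropic component in `W`
  obtain ⟨a₁, ha₁, b₁, hb₁, hc₁, hi₁, hv₁⟩ : ∃ a ∈ W, ∃ b ∈ P, h a a ≠ 0 ∧ h b b = -h a a ∧
      Ctr hFq K (a + b) := by
    obtain ⟨a, ha, b, hb, rfl⟩ := Submodule.mem_sup.1 (hsup ▸ Submodule.mem_top : v₀ ∈ W ⊔ P)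
    have hn0 := hnorm ha hb
    rw [hv₀i] at hn0
    by_cases hc : h a a = 0
    swap
    · exact ⟨a, ha, b, hb, hc, by linear_combination -hn0, hv₀⟩
    have hbb : h b b = 0 := by linear_combination -hn0 - hc
    have ha0 : a ≠ 0 := by rintro rfl; exact hv₀P (by rwa [zero_add])
    have hb0 : b ≠ 0 := by rintro rfl; exact hv₀W (by rwa [add_zero])
    obtain ⟨η, hη⟩ : ∃ η : F, frob hFq η ≠ η := by
      by_contra e
      push Not at e
      exact frob_ne_id hFq (RingHom.ext e)
    obtain ⟨a', ha', ha'i, haa⟩ := exists_iso_partner (hF := hFq) hr hW ha ha0 hc 1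
    obtain ⟨b', hb', hb'i, hbb'⟩ := exists_iso_partner (hF := hFq) hr hPn hb hb0 hbb η
    have hne1 : h a a' ≠ 0 := fun e => one_ne_zero (haa ▸ hr.zero_iff.1 e)
    have hx1 : Ctr hFq K (a' + b) := by
      have e1 : a' + b = a + b + (a' - a) := by abel
      rw [e1]
      refine step_nondeg hr hW hHK hdim5 (Or.inl (W.sub_mem ha' ha)) (Or.inr (Or.inl (W.sub_mem ha' ha)))
        ?_ ?_ hv₀
      · rw [h_add_left, (hWP (W.sub_mem ha' ha) hb).1, h_sub_right hFq, hc, sub_zero, add_zero]
        exact hne1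
      · rw [← e1, hnorm ha' hb, hnorm ha hb, ha'i, hc]
    have hne2 : h b b' ≠ 0 := fun e => hη (by
      have e2 := hr.zero_iff.1 e
      rw [hbb'] at e2
      rw [e2, map_zero])
    have halt : 4 ≤ finrank F P ∨ b' - b ∈ W ∨
        ∃ p, (p ∈ W ∨ p ∈ P) ∧ h p p ≠ 0 ∧ h p (a' + b) = 0 ∧ h p (b' - b) = 0 := by
      rcases hsmall with h4 | ⟨hW2, hP3⟩
      · exact Or.inl h4
      right; right
      set Z := P ⊓ perp hr.sesq (Submodule.span F {b}) ⊓ perp hr.sesq (Submodule.span F {b'}) with hZ
      obtain ⟨p, hp, hp0⟩ := Submodule.exists_mem_ne_zero_of_ne_bot (p := Z) fun e => by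
        have h1 := finrank_inf_perp_span hr P b
        have h2 := finrank_inf_perp_span hr (P ⊓ perp hr.sesq (Submodule.span F {b})) b'
        rw [← hZ, e, finrank_bot] at h2
        omega
      have hpb : h p b = 0 := hp.1.2 b (Submodule.mem_span_singleton_self b)
      have hpb' : h p b' = 0 := hp.2 b' (Submodule.mem_span_singleton_self b')
      refine ⟨p, Or.inr hp.1.1, fun hpp => ?_, ?_, by rw [h_sub_right hFq, hpb', hpb, sub_zero]⟩
      · -- `p` would lie in the radical of `P`
        have hle : Submodule.span F (Set.range ![b, b', p]) ≤ P := Submodule.span_le.2 (by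
          rintro _ ⟨i, rfl⟩
          fin_cases i
          exacts [hb, hb', hp.1.1])
        have hη0 : η ≠ 0 := fun e => hη (by rw [e, map_zero])
        have hbb2 : h b b' ≠ 0 := fun e => hη0 (by rw [← hbb', hr.zero_iff.1 e])
        have hli : LinearIndependent F ![b, b', p] := Fintype.linearIndependent_iff.2 fun g hg => by
          have e := fun y => congrArg (fun x => h x y) hg
          simp only [Fin.sum_univ_three, h_add_left, h_smul_left, Matrix.cons_val_zero, Matrix.cons_val_one,
            Matrix.cons_val_two, Matrix.head_cons, Matrix.tail_cons, hr.sesq.zero_left] at e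
          have e1 := e b
          have e2 := e b'
          rw [hbb, hbb', hpb] at e1
          rw [hb'i, hpb'] at e2
          have g1 : g 1 = 0 := by simpa [hη0] using e1
          have g0 : g 0 = 0 := by simpa [hbb2] using e2
          have g2 : g 2 • p = 0 := by simpa [Fin.sum_univ_three, g0, g1] using hg
          intro i
          fin_cases i
          exacts [g0, g1, (smul_eq_zero.1 g2).resolve_right hp0]
        have heq := Submodule.eq_of_le_of_finrank_le hle (by
          rw [finrank_span_eq_card hli, Fintype.card_fin]; omega)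
        obtain ⟨⟨y, hy, hyp⟩, -⟩ := hPn p hp.1.1 hp0
        rw [← heq] at hy
        obtain ⟨c, rfl⟩ := Submodule.mem_span_range_iff_exists_fun F |>.1 hy
        refine hyp ?_
        simp [Fin.sum_univ_three, h_add_left, h_smul_left, hr.zero_iff.1 hpb, hr.zero_iff.1 hpb', hpp]
      · rw [h_add_right hFq, (hWP ha' hp.1.1).1, hpb, add_zero]
    have hx2 : Ctr hFq K (a' + b') := by
      have e1 : a' + b' = a' + b + (b' - b) := by abel
      rw [e1]
      refine step_nondeg hr hW hHK hdim5 (Or.inr (P.sub_mem hb' hb)) halt ?_ ?_ hx1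
      · rw [h_add_left, (hWP ha' (P.sub_mem hb' hb)).2, h_sub_right hFq, hbb, sub_zero, zero_add]
        exact hne2
      · rw [← e1, hnorm ha' hb, hnorm ha' hb', hbb, hb'i]
    obtain ⟨lam, hlam0, hlam⟩ := exists_skew hFq
    set T := sg (Cfsg.unitaryTransvection n q (a + b) lam)
      (by rw [det_tmat, hv₀i, mul_zero, add_zero]) with hT
    have hTG : T ∈ G := sg_mem (tmat_isometry hFq
      (show Good hFq (a + b) lam by rw [Good, hv₀i, mul_zero, add_zero, hlam])) _
    have h3 := hx2.conj (hv₀ T lam hlam rfl) hTG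
    have hxy : h (a' + b') (a + b) = 1 + η := by
      rw [h_add_left, h_add_right hFq, h_add_right hFq, (hWP ha' hb).2, (hWP ha hb').1, haa, hbb']
      ring
    set μ := lam * (1 + η) with hμ
    have e3 : (T : Mn) *ᵥ (a' + b') = (a' + μ • a) + (b' + μ • b) := by
      show Cfsg.unitaryTransvection n q (a + b) lam *ᵥ (a' + b') = _
      rw [tmat_mulVec, hxy, smul_add]
      abel
    rw [e3] at h3
    have hA : h (a' + μ • a) (a' + μ • a) = lam * (η - frob hFq η) := by
      have hs : h a a' = 1 := by rw [← h_swap hFq a' a, haa, map_one]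
      rw [h_add_left, h_add_right hFq, h_add_right hFq, h_smul_left, h_smul_left, h_smul_right hFq,
        h_smul_right hFq, ha'i, hc, haa, hs, hμ, map_mul, map_add, map_one]
      linear_combination (1 + frob hFq η) * hlam
    have hB : h (b' + μ • b) (b' + μ • b) = -h (a' + μ • a) (a' + μ • a) := by
      have h4 : h ((T : Mn) *ᵥ (a' + b')) ((T : Mn) *ᵥ (a' + b')) = 0 := by
        rw [G_isometry hTG, hnorm ha' hb', ha'i, hb'i, add_zero]
      rw [e3, hnorm (W.add_mem ha' (W.smul_mem _ ha)) (P.add_mem hb' (P.smul_mem _ hb))] at h4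
      linear_combination h4
    exact ⟨_, W.add_mem ha' (W.smul_mem _ ha), _, P.add_mem hb' (P.smul_mem _ hb),
      by rw [hA]; exact mul_ne_zero hlam0 (sub_ne_zero.2 (Ne.symm hη)), hB, h3⟩
  have halt : ∀ a ∈ W, h a a ≠ 0 → 4 ≤ finrank F P ∨ P = W ∨ ∃ p ∈ W, h p p ≠ 0 ∧ h p a = 0 := by
    intro a ha hc
    rcases hsmall with h4 | ⟨hW2, hP3⟩
    · exact Or.inl h4
    right; right
    obtain ⟨p, hp, hp0⟩ := Submodule.exists_mem_ne_zero_of_ne_bot
      (p := W ⊓ perp hr.sesq (Submodule.span F {a})) fun e => by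
        have := finrank_inf_perp_span hr W a
        rw [e, finrank_bot] at this
        omega
    have hpa : h p a = 0 := hp.2 a (Submodule.mem_span_singleton_self a)
    refine ⟨p, hp.1, fun hpp => ?_, hpa⟩
    have ha0 : a ≠ 0 := fun e => hc (by rw [e, hr.sesq.zero_left])
    have hli : LinearIndependent F ![a, p] := LinearIndependent.pair_iff.2 fun s t e => by
      have e1 := congrArg (fun x => h x a) e
      simp only [h_add_left, h_smul_left, hpa, mul_zero, add_zero, hr.sesq.zero_left] at e1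
      have hs := (mul_eq_zero.1 e1).resolve_right hc
      rw [hs, zero_smul, zero_add] at e
      exact ⟨hs, (smul_eq_zero.1 e).resolve_right hp0⟩
    have hle : Submodule.span F (Set.range ![a, p]) ≤ W := Submodule.span_le.2 (by
      rintro _ ⟨i, rfl⟩
      fin_cases i
      exacts [ha, hp.1])
    have heq := Submodule.eq_of_le_of_finrank_le hle (by
      rw [finrank_span_eq_card hli, Fintype.card_fin]; omega)
    obtain ⟨⟨y, hy, hyp⟩, -⟩ := hW p hp.1 hp0
    rw [← heq] at hy
    obtain ⟨c, rfl⟩ := Submodule.mem_span_range_iff_exists_fun F |>.1 hy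
    refine hyp ?_
    simp [Fin.sum_univ_two, h_add_left, h_smul_left, hr.zero_iff.1 hpa, hpp]
  -- targets with anisotropic component
  have main : ∀ a ∈ W, ∀ b ∈ P, h a a ≠ 0 → h b b = -h a a → Ctr hFq K (a + b) := by
    intro a ha b hb hc hi
    obtain ⟨t, ht⟩ := exists_norm_eq hFq (c := h a a / h a₁ a₁)
      (by rw [map_div₀, h_swap hFq, h_swap hFq])
    rw [eq_div_iff hc₁] at ht
    have h1 := hv₁.smul t
    rw [smul_add] at h1
    have hn1 : h (t • a₁) (t • a₁) = h a a := by
      rw [h_smul_left, h_smul_right hFq]; linear_combination ht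
    have h2 := move_nondeg hr hW hHK hdim5 (Or.inl rfl) (W.smul_mem t ha₁) ha
      (fun w hw => (hWP hw (P.smul_mem t hb₁)).1) (Or.inr (Or.inl rfl)) hn1.symm (by rw [hn1]; exact hc) h1
    have hn2 : h (t • b₁) (t • b₁) = h b b := by
      rw [h_smul_left, h_smul_right hFq, hi₁, hi]; linear_combination -ht
    rw [add_comm] at h2 ⊢
    exact move_nondeg hr hW hHK hdim5 (Or.inr rfl) (P.smul_mem t hb₁) hb
      (fun w hw => (hWP ha hw).2) (halt a ha hc) hn2.symm (by rw [hn2, hi]; exact neg_ne_zero.2 hc) h2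
  intro z hz
  obtain ⟨a', ha', b', hb', rfl⟩ := Submodule.mem_sup.1 (hsup ▸ Submodule.mem_top : z ∈ W ⊔ P)
  have hn0 := hnorm ha' hb'
  rw [hz] at hn0
  by_cases hc : h a' a' = 0
  swap
  · exact main a' ha' b' hb' hc (by linear_combination -hn0)
  by_cases ha'0 : a' = 0
  · exact hSS _ hz (Or.inr (by rw [ha'0, zero_add]; exact hb'))
  obtain ⟨y, hy, hya', hyy⟩ : ∃ y ∈ W, h y a' ≠ 0 ∧ h y y ≠ 0 := by
    obtain ⟨⟨y, hy, hya⟩, -⟩ := hW a' ha' ha'0
    by_cases hyy : h y y = 0
    · obtain ⟨d, hd⟩ := exists_trace_one hFq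
      have hay : h a' y ≠ 0 := fun e => hya (hr.zero_iff.1 e)
      refine ⟨y + (d / h a' y) • a', W.add_mem hy (W.smul_mem _ ha'),
        by rw [h_add_left, h_smul_left, hc, mul_zero, add_zero]; exact hya, ?_⟩
      rw [h_add_left, h_add_right hFq, h_add_right hFq, h_smul_left, h_smul_left, h_smul_right hFq,
        h_smul_right hFq, hyy, hc, map_div₀, h_swap hFq, mul_zero, mul_zero, add_zero, zero_add,
        div_mul_cancel₀ _ hay, div_mul_cancel₀ _ hya, hd]
      exact one_ne_zero
    · exact ⟨y, hy, hya, hyy⟩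
  obtain ⟨p, hp, hpp⟩ := exists_aniso (hF := hFq) hr hW
    (X := P ⊓ perp hr.sesq (Submodule.span F {b'})) inf_le_left (by
      have := finrank_inf_perp_span hr P b'
      omega)
  obtain ⟨t, ht⟩ := exists_norm_eq hFq (c := -(h y y) / h p p)
    (by rw [map_div₀, map_neg, h_swap hFq, h_swap hFq])
  rw [eq_div_iff hpp] at ht
  have hv := main y hy (t • p) (P.smul_mem t hp.1) hyy
    (by rw [h_smul_left, h_smul_right hFq]; linear_combination ht)
  obtain ⟨lam, hlam0, hlam⟩ := exists_skew hFq
  have hvi : h (y + t • p) (y + t • p) = 0 := by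
    rw [hnorm hy (P.smul_mem t hp.1), h_smul_left, h_smul_right hFq]; linear_combination ht
  set T := sg (Cfsg.unitaryTransvection n q (y + t • p) lam)
    (by rw [det_tmat, hvi, mul_zero, add_zero]) with hT
  have hTG : T ∈ G := sg_mem (tmat_isometry hFq
    (show Good hFq (y + t • p) lam by rw [Good, hvi, mul_zero, add_zero, hlam])) _
  have hTK : T ∈ K := hv T lam hlam rfl
  have hb'p : h b' (t • p) = 0 := by
    rw [h_smul_right hFq, hr.zero_iff.1 (hp.2 b' (Submodule.mem_span_singleton_self b')), mul_zero]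
  have hzv : h (a' + b') (y + t • p) = h a' y := by
    rw [h_add_left, h_add_right hFq, h_add_right hFq, (hWP ha' (P.smul_mem t hp.1)).2,
      (hWP hy hb').1, hb'p]
    ring
  set μ := lam * h a' y with hμ
  have e3 : (T : Mn) *ᵥ (a' + b') = (a' + μ • y) + (b' + μ • (t • p)) := by
    show Cfsg.unitaryTransvection n q (y + t • p) lam *ᵥ (a' + b') = _
    rw [tmat_mulVec, hzv, smul_add]
    abel
  have hA : h (a' + μ • y) (a' + μ • y) = μ * frob hFq μ * h y y := by
    rw [h_add_left, h_add_right hFq, h_add_right hFq, h_smul_left, h_smul_left, h_smul_right hFq,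
      h_smul_right hFq, hc, hμ, map_mul, h_swap hFq]
    linear_combination (h a' y * h y a') * hlam
  have hA0 : h (a' + μ • y) (a' + μ • y) ≠ 0 := by
    have hay : h a' y ≠ 0 := fun e => hya' (hr.zero_iff.1 e)
    rw [hA]
    refine mul_ne_zero (mul_ne_zero (mul_ne_zero hlam0 hay) fun e => ?_) hyy
    have := congrArg (frob hFq) e
    rw [frob_frob hFq, map_zero] at this
    exact mul_ne_zero hlam0 hay this
  have hB : h (b' + μ • (t • p)) (b' + μ • (t • p)) = -h (a' + μ • y) (a' + μ • y) := by
    have h4 : h ((T : Mn) *ᵥ (a' + b')) ((T : Mn) *ᵥ (a' + b')) = 0 := by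
      rw [G_isometry hTG, hz]
    rw [e3, hnorm (W.add_mem ha' (W.smul_mem _ hy))
      (P.add_mem hb' (P.smul_mem _ (P.smul_mem t hp.1)))] at h4
    linear_combination h4
  have h5 := (main _ (W.add_mem ha' (W.smul_mem _ hy)) _
    (P.add_mem hb' (P.smul_mem _ (P.smul_mem t hp.1))) hA0 hB).conj (inv_mem hTK) (inv_mem hTG)
  rwa [← e3, Matrix.mulVec_mulVec, Units.inv_mul, Matrix.one_mulVec] at h5

/-- Stabilisers of non-degenerate subspaces of less than half the dimension are maximal. -/
theorem su_nondegenerate_maximal (hn : 6 ≤ n) (hFq : Fintype.card F = q ^ 2)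
    {W : Submodule F (Fin n → F)} (hW0 : W ≠ ⊥) (hW : IsNondegenerateOn h W)
    (hdim : 2 * finrank F W < n) : IsMaximalIn G (subspaceStabilizer W ⊓ G) :=
  su_nondegenerate_maximal_of (by omega) hFq hW0 hW hdim

end CfsgLib.MaxSub
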