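/-
Pairs of complementary Lagrangian subspaces: their number, and elements of prime order fixing none of them.
-/
import Mathlib
import Cfsg.Agent.Lib.IsotropicSymp
import Cfsg.Agent.S0245

set_option autoImplicit false
set_option linter.unusedSectionVars false
set_option linter.style.haveILetI false

namespace CfsgLib.MaxSub

open Module CfsgLib.IsotropicCount
open scoped Matrix

variable {F : Type*} [Field F] [Fintype F] {d : ℕ}

/-- Ordered pairs of complementary Lagrangians. -/
abbrev LagPairT (F : Type*) [Field F] (d : ℕ) : Type _ :=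
  {P : Submodule F (Fin d ⊕ Fin d → F) × Submodule F (Fin d ⊕ Fin d → F) // IsCompl P.1 P.2 ∧
    (∀ u ∈ P.1, ∀ v ∈ P.1, Cfsg.sympForm d F u v = 0) ∧ (∀ u ∈ P.2, ∀ v ∈ P.2, Cfsg.sympForm d F u v = 0)}

theorem lagPair_dim (P : LagPairT F d) : finrank F P.1.1 = d ∧ finrank F P.1.2 = d := by
  have h : ∀ U : Submodule F (Fin d ⊕ Fin d → F), (∀ u ∈ U, ∀ v ∈ U, Cfsg.sympForm d F u v = 0) →
      finrank F U ≤ d := by
    intro U hU
    have h1 : U ≤ LinearMap.BilinForm.orthogonal (sympB d F) U := fun v hv u hu => by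
      show sympB d F u v = 0
      rw [sympB_apply]; exact hU u hu v hv
    have h2 := Submodule.finrank_mono h1
    rw [LinearMap.BilinForm.finrank_orthogonal sympB_nondeg] at h2
    simp at h2
    omega
  have := h _ P.2.2.1
  have := h _ P.2.2.2
  have hs := Submodule.finrank_add_eq_of_isCompl P.2.1
  simp at hs
  omega

theorem J_entries (m : ℕ) (i j : Fin m ⊕ Fin m) :
    Cfsg.sympForm m F (Pi.single i 1) (Pi.single j 1) = Matrix.J (Fin m) F i j := by
  rw [← sympB_apply, sympB, Matrix.toBilin'_single]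

theorem card_lagPairs : Nat.card (LagPairT F d) * glc (Fintype.card F) d =
    Nat.card (Matrix.symplecticGroup (Fin d) F) := by
  classical
  have hperp : ∀ P : LagPairT F d, ∀ v ∈ P.1.2, (∀ u ∈ P.1.1, Cfsg.sympForm d F u v = 0) → v = 0 := by
    intro P v hv h
    by_contra hne
    obtain ⟨z, hz⟩ : ∃ z, sympB d F z v ≠ 0 := by
      by_contra hcon
      simp only [not_exists, not_not] at hcon
      exact hne (sympB_nondeg.2 v hcon)
    obtain ⟨u, hu, w, hw, rfl⟩ := Submodule.mem_sup.mp (P.2.1.sup_eq_top.ge (Submodule.mem_top (x := z)))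
    rw [map_add, LinearMap.add_apply, sympB_apply, sympB_apply, h u hu, P.2.2.2 w hw v hv, add_zero] at hz
    exact hz rfl
  have hdual : ∀ (P : LagPairT F d) (b : Basis (Fin d) F P.1.1),
      ∃ w : Fin d → (Fin d ⊕ Fin d → F), (∀ j, w j ∈ P.1.2) ∧
        ∀ i j, Cfsg.sympForm d F (b i : Fin d ⊕ Fin d → F) (w j) = if i = j then -1 else 0 := by
    intro P b
    let T : P.1.2 →ₗ[F] (Fin d → F) := LinearMap.pi fun i => (sympB d F (b i : Fin d ⊕ Fin d → F)).comp P.1.2.subtype
    have hinj : Function.Injective T := by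
      rw [injective_iff_map_eq_zero]
      intro v hv
      refine Subtype.ext (hperp P v.1 v.2 fun u hu => ?_)
      have h0 : ∀ i, sympB d F (b i : Fin d ⊕ Fin d → F) v.1 = 0 := fun i => congrFun hv i
      have hz : ((sympB d F).flip v.1).comp P.1.1.subtype = 0 := b.ext fun i => h0 i
      rw [← sympB_apply]
      exact LinearMap.congr_fun hz ⟨u, hu⟩
    have hsurj : Function.Surjective T :=
      (LinearMap.injective_iff_surjective_of_finrank_eq_finrank (by rw [(lagPair_dim P).2]; simp)).mp hinj
    choose w hw using fun j : Fin d => hsurj (fun i => if i = j then -1 else 0)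
    refine ⟨fun j => w j, fun j => (w j).2, fun i j => ?_⟩
    rw [← sympB_apply]
    exact congrFun (hw j) i
  let col : Matrix.symplecticGroup (Fin d) F → Fin d ⊕ Fin d → (Fin d ⊕ Fin d → F) := fun g s =>
    g.1 *ᵥ Pi.single s 1
  have hcol : ∀ g s t, Cfsg.sympForm d F (col g s) (col g t) = Matrix.J (Fin d) F s t := fun g s t =>
    (symp_preserves g _ _).trans (J_entries d s t)
  have hli : ∀ g, LinearIndependent F (col g) := fun g => by
    have hu : IsUnit g.1 := (Matrix.isUnit_iff_isUnit_det _).mpr (SymplecticGroup.symplectic_det g.2)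
    have h' := Matrix.linearIndependent_cols_of_isUnit hu
    have e : col g = g.1.col := funext fun s => by simp [col]
    rw [e]
    exact h'
  let U : Matrix.symplecticGroup (Fin d) F → Submodule F (Fin d ⊕ Fin d → F) := fun g =>
    Submodule.span F (Set.range fun i => col g (Sum.inl i))
  let W : Matrix.symplecticGroup (Fin d) F → Submodule F (Fin d ⊕ Fin d → F) := fun g =>
    Submodule.span F (Set.range fun i => col g (Sum.inr i))
  have hUW : ∀ g, IsCompl (U g) (W g) := fun g => by
    constructor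
    · have h := (hli g).disjoint_span_image (s := Set.range Sum.inl) (t := Set.range Sum.inr)
        Set.isCompl_range_inl_range_inr.disjoint
      rwa [← Set.range_comp, ← Set.range_comp] at h
    · rw [codisjoint_iff, ← Submodule.span_union, ← Set.Sum.elim_range]
      refine Eq.trans ?_ ((hli g).span_eq_top_of_card_eq_finrank' (by simp))
      congr 2
      funext s
      cases s <;> rfl
  have hUi : ∀ g, ∀ u ∈ U g, ∀ v ∈ U g, Cfsg.sympForm d F u v = 0 := fun g =>
    symp_span2 _ (by rintro _ ⟨i, rfl⟩ _ ⟨j, rfl⟩; rw [hcol]; simp [Matrix.J])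
  have hWi : ∀ g, ∀ u ∈ W g, ∀ v ∈ W g, Cfsg.sympForm d F u v = 0 := fun g =>
    symp_span2 _ (by rintro _ ⟨i, rfl⟩ _ ⟨j, rfl⟩; rw [hcol]; simp [Matrix.J])
  let Φ : Matrix.symplecticGroup (Fin d) F → Σ P : LagPairT F d, {v : Fin d → P.1.1 // LinearIndependent F v} :=
    fun g => ⟨⟨(U g, W g), hUW g, hUi g, hWi g⟩, fun i => ⟨col g (Sum.inl i), Submodule.subset_span ⟨i, rfl⟩⟩,
      LinearIndependent.of_comp (U g).subtype ((hli g).comp _ Sum.inl_injective)⟩
  let ι : (Σ P : LagPairT F d, {v : Fin d → P.1.1 // LinearIndependent F v}) → LagPairT F d × (Fin d → (Fin d ⊕ Fin d → F)) :=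
    fun s => (s.1, fun i => (s.2.1 i : Fin d ⊕ Fin d → F))
  have hι : Function.Injective ι := by
    rintro ⟨P, v⟩ ⟨Q, w⟩ h
    obtain ⟨rfl, h2⟩ := Prod.mk.inj h
    exact congrArg _ (Subtype.ext (funext fun i => Subtype.ext (congrFun h2 i)))
  have hbij : Function.Bijective Φ := by
    constructor
    · intro g h e
      have e1 : ∀ i, col g (Sum.inl i) = col h (Sum.inl i) := fun i => congrArg
        (fun s : Σ P : LagPairT F d, {v : Fin d → P.1.1 // LinearIndependent F v} => (s.2.1 i : Fin d ⊕ Fin d → F)) e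
      have e2 : W g = W h := congrArg (fun s : Σ P : LagPairT F d, {v : Fin d → P.1.1 // LinearIndependent F v} => s.1.1.2) e
      have e3 : ∀ j, col g (Sum.inr j) = col h (Sum.inr j) := fun j => by
        refine sub_eq_zero.mp (hperp ⟨(U g, W g), hUW g, hUi g, hWi g⟩ _
          ((W g).sub_mem (Submodule.subset_span ⟨j, rfl⟩) (e2 ▸ Submodule.subset_span ⟨j, rfl⟩)) ?_)
        have hle : U g ≤ LinearMap.ker ((sympB d F).flip (col g (Sum.inr j) - col h (Sum.inr j))) := by
          rw [Submodule.span_le]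
          rintro _ ⟨i, rfl⟩
          show sympB d F (col g (Sum.inl i)) (_ - _) = 0
          rw [map_sub, sympB_apply, sympB_apply, hcol, e1 i, hcol, sub_self]
        intro u hu
        rw [← sympB_apply]
        exact hle hu
      refine Subtype.ext (Matrix.ext fun r s => ?_)
      have h' : col g s = col h s := by cases s with
        | inl i => exact e1 i
        | inr j => exact e3 j
      simpa [col, Matrix.mulVec_single_one] using congrFun h' r
    · rintro ⟨P, v, hv⟩
      let b : Basis (Fin d) F P.1.1 := Basis.mk hv (hv.span_eq_top_of_card_eq_finrank' (by simp [(lagPair_dim P).1])).ge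
      have hb : ∀ i, b i = v i := fun i => Basis.mk_apply _ _ i
      obtain ⟨w, hw, hvw⟩ := hdual P b
      let M : Matrix (Fin d ⊕ Fin d) (Fin d ⊕ Fin d) F :=
        Matrix.of fun r s => Sum.elim (fun i => (v i : Fin d ⊕ Fin d → F)) w s r
      have hMc : ∀ s, M *ᵥ Pi.single s 1 = Sum.elim (fun i => (v i : Fin d ⊕ Fin d → F)) w s := fun s => by
        funext r; simp [M, Matrix.mulVec_single_one]
      have hval : ∀ s t, Cfsg.sympForm d F (M *ᵥ Pi.single s 1) (M *ᵥ Pi.single t 1) = Matrix.J (Fin d) F s t := by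
        intro s t
        rw [hMc, hMc]
        rcases s with i | i <;> rcases t with j | j <;> simp only [Sum.elim_inl, Sum.elim_inr]
        · rw [P.2.2.1 _ (v i).2 _ (v j).2]; simp [Matrix.J]
        · rw [← hb, hvw]; simp [Matrix.J, Matrix.one_apply]; split_ifs <;> simp
        · rw [← sympB_apply, ← LinearMap.IsAlt.neg (B := sympB d F) sympB_alt, sympB_apply, ← hb, hvw]
          simp [Matrix.J, Matrix.one_apply, eq_comm]
          split_ifs <;> simp
        · rw [P.2.2.2 _ (hw i) _ (hw j)]; simp [Matrix.J]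
      have hM : M ∈ Matrix.symplecticGroup (Fin d) F := SymplecticGroup.mem_iff'.mpr (Matrix.ext fun s t => by
        rw [← hval s t, Cfsg.sympForm, Matrix.mulVec_mulVec, Matrix.mul_assoc]
        simp [Matrix.mulVec_single_one, dotProduct, Matrix.mul_apply, Matrix.col_apply])
      refine ⟨⟨M, hM⟩, ?_⟩
      have hc : ∀ s, col ⟨M, hM⟩ s = Sum.elim (fun i => (v i : Fin d ⊕ Fin d → F)) w s := hMc
      have hU : U ⟨M, hM⟩ = P.1.1 := by
        refine Submodule.eq_of_le_of_finrank_eq (Submodule.span_le.mpr ?_) ?_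
        · rintro _ ⟨i, rfl⟩; dsimp only; rw [hc]; exact (v i).2
        · rw [(lagPair_dim P).1]
          exact (finrank_span_eq_card ((hli _).comp _ Sum.inl_injective)).trans (Fintype.card_fin d)
      have hW : W ⟨M, hM⟩ = P.1.2 := by
        refine Submodule.eq_of_le_of_finrank_eq (Submodule.span_le.mpr ?_) ?_
        · rintro _ ⟨i, rfl⟩; dsimp only; rw [hc]; exact hw i
        · rw [(lagPair_dim P).2]
          exact (finrank_span_eq_card ((hli _).comp _ Sum.inr_injective)).trans (Fintype.card_fin d)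
      exact hι (Prod.ext (Subtype.ext (Prod.ext hU hW)) (funext fun i => hc (Sum.inl i)))
  haveI : Fintype (LagPairT F d) := Fintype.ofFinite _
  rw [Nat.card_congr (Equiv.ofBijective Φ hbij), Nat.card_sigma,
    Finset.sum_congr rfl (fun P _ => card_bases P.1.1 (lagPair_dim P).1), Finset.sum_const, Finset.card_univ,
    smul_eq_mul]
  simp only [Nat.card_eq_fintype_card]

end CfsgLib.MaxSub
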