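/-
A semidirect product of a vector space by a minimal irreducible group of linear maps.
-/
import Mathlib

set_option autoImplicit false
set_option linter.style.haveILetI false

namespace CfsgLib.MaxSub

open SemidirectProduct

theorem affine_example (p d : ℕ) (hp : p.Prime) (hd : 2 ≤ d) :
    ∃ (G : Type) (_ : Group G) (_ : Finite G) (M H K : Subgroup G), IsCoatom M ∧ M.index = p ^ d ∧ H ≤ M ∧
      IsCoatom (H.subgroupOf M) ∧ IsCoatom K ∧ H ≤ K ∧ ¬ IsCoatom (H.subgroupOf K) := by
  classical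
  haveI := Fact.mk hp
  let V := Fin d → ZMod p
  let Irr : Subgroup (V ≃ₗ[ZMod p] V) → Prop := fun A =>
    ∀ W : Submodule (ZMod p) V, (∀ a ∈ A, ∀ w ∈ W, a w ∈ W) → W = ⊥ ∨ W = ⊤
  haveI : Finite (V ≃ₗ[ZMod p] V) := Finite.of_injective (fun e => (e : V → V)) DFunLike.coe_injective
  have htop : Irr ⊤ := by
    intro W hW
    by_cases hb : W = ⊥
    · exact Or.inl hb
    refine Or.inr (eq_top_iff.mpr fun v _ => ?_)
    obtain ⟨w, hw, hw0⟩ := Submodule.exists_mem_ne_zero_of_ne_bot hb
    by_cases hs : w ∈ Submodule.span (ZMod p) {v}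
    · obtain ⟨c, rfl⟩ := Submodule.mem_span_singleton.mp hs
      have hc : c ≠ 0 := fun e => hw0 (by rw [e, zero_smul])
      simpa [smul_smul, inv_mul_cancel₀ hc] using W.smul_mem c⁻¹ hw
    obtain ⟨f, hf, hfv⟩ := Submodule.exists_dual_map_eq_bot_of_notMem hs inferInstance
    have hfv' : f v = 0 := by
      have : f v ∈ (Submodule.span (ZMod p) {v}).map f := Submodule.mem_map_of_mem (Submodule.mem_span_singleton_self v)
      rwa [hfv, Submodule.mem_bot] at this
    have h := hW (LinearEquiv.transvection hfv') (Subgroup.mem_top _) w hw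
    have h' : f w • v ∈ W := by
      have := W.sub_mem h hw
      simpa [LinearEquiv.transvection, LinearMap.transvection] using this
    simpa [smul_smul, inv_mul_cancel₀ hf] using W.smul_mem (f w)⁻¹ h'
  obtain ⟨A, hA, hAmin⟩ := (Set.toFinite {A | Irr A}).exists_minimal ⟨⊤, htop⟩
  let v0 : V := Pi.single ⟨0, by omega⟩ 1
  have hv0 : v0 ≠ 0 := fun e => by
    have h : Pi.single (M := fun _ : Fin d => ZMod p) ⟨0, by omega⟩ 1 ⟨0, by omega⟩ = (0 : ZMod p) := congrFun e _
    rw [Pi.single_eq_same] at h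
    exact one_ne_zero h
  have hline : Submodule.span (ZMod p) {v0} ≠ ⊤ := fun e => by
    have h := congrArg (fun W : Submodule (ZMod p) V => Module.finrank (ZMod p) W) e
    simp only [finrank_span_singleton hv0, finrank_top, V, Module.finrank_fin_fun] at h
    omega
  have hAne : (⊤ : Subgroup A) ≠ ⊥ := by
    intro e
    rcases hA (Submodule.span (ZMod p) {v0}) (fun a ha w hw => by
      have : (⟨a, ha⟩ : A) ∈ (⊥ : Subgroup A) := e ▸ Subgroup.mem_top _
      rw [show a = 1 from congrArg Subtype.val (Subgroup.mem_bot.mp this)]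
      exact hw) with h | h
    · exact hv0 (Submodule.span_singleton_eq_bot.mp h)
    · exact hline h
  obtain ⟨B, hB, -⟩ := (eq_top_or_exists_le_coatom (⊥ : Subgroup A)).resolve_left hAne.symm
  have hBred : ¬ Irr (B.map A.subtype) := fun h => by
    have hle := hAmin h (Subgroup.map_subtype_le B)
    refine hB.1 (eq_top_iff.mpr fun x _ => ?_)
    obtain ⟨y, hy, e⟩ := hle x.2
    exact Subtype.ext e ▸ hy
  obtain ⟨W, hWB, hW0, hW1⟩ : ∃ W : Submodule (ZMod p) V,
      (∀ a ∈ B, ∀ w ∈ W, (a : V ≃ₗ[ZMod p] V) w ∈ W) ∧ W ≠ ⊥ ∧ W ≠ ⊤ := by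
    simp only [Irr, not_forall, not_or] at hBred
    obtain ⟨W, hW, h0, h1⟩ := hBred
    exact ⟨W, fun a ha w hw => hW a ⟨a, ha, rfl⟩ w hw, h0, h1⟩
  let φ : A →* MulAut (Multiplicative V) :=
    { toFun := fun a => AddEquiv.toMultiplicative (a : V ≃ₗ[ZMod p] V).toAddEquiv
      map_one' := by ext x; rfl
      map_mul' := fun a b => by ext x; rfl }
  let G := Multiplicative V ⋊[φ] A
  haveI : Finite G := Finite.of_equiv _ SemidirectProduct.equivProd.symm
  let M : Subgroup G := (inr : A →* G).range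
  let eM : A ≃* M := MonoidHom.ofInjective inr_injective
  let K : Subgroup G := B.comap rightHom
  let L : Subgroup G :=
    { carrier := {g | Multiplicative.toAdd g.left ∈ W ∧ g.right ∈ B}
      one_mem' := ⟨W.zero_mem, B.one_mem⟩
      mul_mem' := fun {a b} ha hb => by
        refine ⟨?_, B.mul_mem ha.2 hb.2⟩
        show Multiplicative.toAdd (a.left * φ a.right b.left) ∈ W
        rw [toAdd_mul]
        exact W.add_mem ha.1 (hWB _ ha.2 _ hb.1)
      inv_mem' := fun {a} ha => by
        refine ⟨?_, B.inv_mem ha.2⟩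
        show (((a.right⁻¹ : A)) : V ≃ₗ[ZMod p] V) (Multiplicative.toAdd a.left⁻¹) ∈ W
        rw [toAdd_inv]
        exact hWB _ (B.inv_mem ha.2) _ (W.neg_mem ha.1) }
  refine ⟨G, inferInstance, inferInstance, M, B.map inr, K, ⟨?_, ?_⟩, ?_, ?_, ?_, ⟨?_, ?_⟩, ?_, ?_⟩
  · intro e
    have : (inl (Multiplicative.ofAdd v0) : G) ∈ M := e ▸ Subgroup.mem_top _
    obtain ⟨a, ha⟩ := this
    exact hv0 (congrArg (fun g : G => Multiplicative.toAdd g.left) ha).symm
  · intro Y hY
    obtain ⟨g, hg, hgM⟩ := SetLike.exists_of_lt hY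
    have hMY : ∀ a : A, (inr a : G) ∈ Y := fun a => hY.le ⟨a, rfl⟩
    let W' : Submodule (ZMod p) V := AddSubgroup.toZModSubmodule p (Subgroup.toAddSubgroup' (Y.comap (inl : Multiplicative V →* G)))
    have hW' : ∀ v, v ∈ W' ↔ (inl (Multiplicative.ofAdd v) : G) ∈ Y := fun v => Iff.rfl
    have hinv : ∀ a ∈ A, ∀ w ∈ W', a w ∈ W' := fun a ha w hw => by
      rw [hW'] at hw ⊢
      have h : (inl (φ ⟨a, ha⟩ (Multiplicative.ofAdd w)) : G) ∈ Y := by
        rw [inl_aut]
        exact mul_mem (mul_mem (hMY _) hw) (hMY _)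
      exact h
    have hne : W' ≠ ⊥ := by
      intro e
      have hgl : (inl g.left : G) ∈ Y := by
        have := mul_mem hg (inv_mem (hMY g.right))
        rwa [show g * (inr g.right)⁻¹ = inl g.left by rw [mul_inv_eq_iff_eq_mul, inl_left_mul_inr_right]] at this
      have : Multiplicative.toAdd g.left ∈ W' := (hW' _).mpr hgl
      rw [e, Submodule.mem_bot] at this
      exact hgM ⟨g.right, SemidirectProduct.ext this.symm rfl⟩
    have htop' := (hA W' hinv).resolve_left hne
    refine eq_top_iff.mpr fun x _ => ?_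
    rw [← inl_left_mul_inr_right x]
    exact mul_mem ((hW' _).mp (htop' ▸ Submodule.mem_top : Multiplicative.toAdd x.left ∈ W')) (hMY _)
  · have h := Subgroup.card_mul_index M
    rw [← Nat.card_congr eM.toEquiv, show Nat.card G = Nat.card (Multiplicative V) * Nat.card A from
      (Nat.card_congr SemidirectProduct.equivProd).trans (Nat.card_prod _ _), mul_comm (Nat.card (Multiplicative V))] at h
    rw [Nat.eq_of_mul_eq_mul_left Nat.card_pos h, Nat.card_congr Multiplicative.toAdd, Nat.card_fun, Nat.card_zmod, Nat.card_fin]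
  · rintro _ ⟨b, -, rfl⟩
    exact ⟨b, rfl⟩
  · have : (B.map (inr : A →* G)).subgroupOf M = eM.mapSubgroup B := by
      ext x
      obtain ⟨a, rfl⟩ := eM.surjective x
      exact ⟨fun ⟨b, hb, e⟩ => ⟨b, hb, Subtype.ext e⟩, fun ⟨b, hb, e⟩ => ⟨b, hb, congrArg Subtype.val e⟩⟩
    rw [this, OrderIso.isCoatom_iff]
    exact hB
  · intro e
    refine hB.1 (eq_top_iff.mpr fun a _ => ?_)
    have h : (inr a : G) ∈ K := e ▸ Subgroup.mem_top _
    exact h
  · intro Y hY
    have hker : (rightHom : G →* A).ker ≤ Y := fun x hx => hY.le (by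
      show rightHom x ∈ B
      rw [MonoidHom.mem_ker.mp hx]; exact B.one_mem)
    have hlt : B < Y.map rightHom := by
      refine lt_of_le_of_ne (fun a ha => ⟨inr a, hY.le (by show rightHom (inr a : G) ∈ B; rwa [rightHom_inr]), rightHom_inr a⟩) fun e => ?_
      exact hY.ne ((congrArg (Subgroup.comap rightHom) e).trans (Subgroup.comap_map_eq_self hker))
    rw [← Subgroup.comap_map_eq_self hker, hB.2 _ hlt, Subgroup.comap_top]
  · rintro _ ⟨b, hb, rfl⟩
    show rightHom (inr b : G) ∈ B
    rwa [rightHom_inr]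
  · intro hco
    obtain ⟨w, hw, hw0⟩ := Submodule.exists_mem_ne_zero_of_ne_bot hW0
    obtain ⟨v, -, hv⟩ := SetLike.exists_of_lt (lt_top_iff_ne_top.mpr hW1)
    have h1 : (B.map (inr : A →* G)).subgroupOf K < L.subgroupOf K := by
      refine lt_of_le_of_ne (fun x hx => ?_) fun e => ?_
      · obtain ⟨b, hb, e⟩ := hx
        show (x : G) ∈ L
        rw [← show (inr b : G) = x from e]
        exact ⟨W.zero_mem, hb⟩
      · have hx : (⟨inl (Multiplicative.ofAdd w), by show rightHom (inl _ : G) ∈ B; rw [rightHom_inl]; exact B.one_mem⟩ : K) ∈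
            (B.map (inr : A →* G)).subgroupOf K := e ▸ (⟨hw, B.one_mem⟩ : (inl (Multiplicative.ofAdd w) : G) ∈ L)
        obtain ⟨b, -, hb⟩ := hx
        exact hw0 (congrArg (fun g : G => Multiplicative.toAdd g.left) hb).symm
    have h2 := Subgroup.subgroupOf_eq_top.mp (hco.2 _ h1)
    have : (inl (Multiplicative.ofAdd v) : G) ∈ L := h2 (by show rightHom (inl _ : G) ∈ B; rw [rightHom_inl]; exact B.one_mem)
    exact hv this.1

end CfsgLib.MaxSub
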