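/-
Irredundant bases of permutation groups.
-/
import Mathlib

set_option autoImplicit false
set_option linter.style.haveILetI false
set_option linter.unusedSectionVars false

namespace CfsgLib.MaxSub

open MulAction

variable {G Ω : Type*} [Group G] [Finite G] [MulAction G Ω]

/-- An irredundant base relative to a subgroup. -/
def IB : Subgroup G → List Ω → Prop
  | H, [] => H = ⊥
  | H, x :: L => ¬ H ≤ stabilizer G x ∧ IB (H ⊓ stabilizer G x) L

/-- Neighbours of an irredundant base may be exchanged. -/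
def CanSwap (Ω : Type*) [MulAction G Ω] (H : Subgroup G) : Prop :=
  ∀ (p : List Ω) (x y : Ω) (r : List Ω), IB H (p ++ x :: y :: r) → IB H (p ++ y :: x :: r)

theorem CanSwap.inherit {H : Subgroup G} (h : CanSwap Ω H) {a : Ω} (ha : ¬ H ≤ stabilizer G a) :
    CanSwap Ω (H ⊓ stabilizer G a) :=
  fun p x y r hp => (h (a :: p) x y r ⟨ha, hp⟩).2

theorem card_lt {H : Subgroup G} {a : Ω} (ha : ¬ H ≤ stabilizer G a) :
    Nat.card ↥(H ⊓ stabilizer G a) < Nat.card H := by
  refine lt_of_le_of_ne (Subgroup.card_le_of_le inf_le_left) fun e => ha ?_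
  exact inf_eq_left.mp (Subgroup.eq_of_le_of_card_ge inf_le_left e.ge)

theorem exists_IB (hF : ∀ g : G, (∀ ω : Ω, g • ω = ω) → g = 1) (n : ℕ) :
    ∀ H : Subgroup G, Nat.card H ≤ n → ∃ L : List Ω, IB H L := by
  induction n with
  | zero => intro H hH; exact absurd hH (by have := Nat.card_pos (α := H); omega)
  | succ n ih =>
    intro H hH
    by_cases hb : H = ⊥
    · exact ⟨[], hb⟩
    obtain ⟨g, hg, hg1⟩ := SetLike.exists_of_lt (bot_lt_iff_ne_bot.mpr hb)
    obtain ⟨ω, hω⟩ : ∃ ω : Ω, g • ω ≠ ω := by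
      by_contra hc
      simp only [not_exists, not_not] at hc
      exact hg1 (Subgroup.mem_bot.mpr (hF g hc))
    have ha : ¬ H ≤ stabilizer G ω := fun h => hω (h hg)
    obtain ⟨L, hL⟩ := ih _ (by have := card_lt ha; omega : Nat.card ↥(H ⊓ stabilizer G ω) ≤ n)
    exact ⟨ω :: L, ha, hL⟩

theorem length_eq (hF : ∀ g : G, (∀ ω : Ω, g • ω = ω) → g = 1) (n : ℕ) :
    ∀ H : Subgroup G, Nat.card H ≤ n → CanSwap Ω H → ∀ L L' : List Ω, IB H L → IB H L' → L.length = L'.length := by
  induction n with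
  | zero => intro H hH; exact absurd hH (by have := Nat.card_pos (α := H); omega)
  | succ n ih =>
    intro H hH hsw L L' hL hL'
    match L, L' with
    | [], [] => rfl
    | [], y :: L' => exact absurd (hL ▸ bot_le) hL'.1
    | x :: L, [] => exact absurd (hL' ▸ bot_le) hL.1
    | x :: Lx, y :: Ly =>
      obtain ⟨hx, hLx⟩ := hL
      obtain ⟨hy, hLy⟩ := hL'
      have c1 : Nat.card ↥(H ⊓ stabilizer G x) ≤ n := by have := card_lt hx; omega
      have c2 : Nat.card ↥(H ⊓ stabilizer G y) ≤ n := by have := card_lt hy; omega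
      have i1 := ih _ c1 (hsw.inherit hx)
      have i2 := ih _ c2 (hsw.inherit hy)
      show Lx.length + 1 = Ly.length + 1
      congr 1
      by_cases hxy : H ⊓ stabilizer G x ≤ stabilizer G y
      · by_cases hyx : H ⊓ stabilizer G y ≤ stabilizer G x
        · have e : H ⊓ stabilizer G x = H ⊓ stabilizer G y :=
            le_antisymm (le_inf inf_le_left hxy) (le_inf inf_le_left hyx)
          exact i1 _ _ hLx (e ▸ hLy)
        · obtain ⟨r, hr⟩ := exists_IB hF _ (H ⊓ stabilizer G y ⊓ stabilizer G x) le_rfl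
          exact absurd hxy (hsw [] y x r ⟨hy, hyx, hr⟩).2.1
      · obtain ⟨r, hr⟩ := exists_IB hF _ (H ⊓ stabilizer G x ⊓ stabilizer G y) le_rfl
        have h' := hsw [] x y r ⟨hx, hxy, hr⟩
        exact (i1 _ (y :: r) hLx ⟨hxy, hr⟩).trans (i2 _ (x :: r) hLy h'.2).symm

theorem exists_reduce (L : List Ω) :
    ∀ H : Subgroup G, (∀ g ∈ H, (∀ ω ∈ L, g • ω = ω) → g = 1) →
      ∃ L' : List Ω, IB H L' ∧ L'.length ≤ L.length ∧ (L'.length = L.length → IB H L) := by
  induction L with
  | nil =>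
    intro H h
    have : H = ⊥ := (Subgroup.eq_bot_iff_forall _).mpr fun g hg => h g hg (by simp)
    exact ⟨[], this, le_rfl, fun _ => this⟩
  | cons x L ih =>
    intro H h
    by_cases hx : H ≤ stabilizer G x
    · obtain ⟨L', h1, h2, -⟩ := ih H fun g hg hL => h g hg fun ω hω => by
        rcases List.mem_cons.mp hω with rfl | hω
        · exact hx hg
        · exact hL ω hω
      exact ⟨L', h1, h2.trans (Nat.le_succ _), fun e => absurd (e ▸ h2) (Nat.not_succ_le_self _)⟩
    · obtain ⟨L', h1, h2, h3⟩ := ih (H ⊓ stabilizer G x) fun g hg hL => h g hg.1 fun ω hω => by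
        rcases List.mem_cons.mp hω with rfl | hω
        · exact hg.2
        · exact hL ω hω
      exact ⟨x :: L', ⟨hx, h1⟩, Nat.succ_le_succ h2, fun e => ⟨hx, h3 (Nat.succ_injective e)⟩⟩

theorem IB_ofFn : ∀ (t : ℕ) (H : Subgroup G) (f : Fin t → Ω), IB H (List.ofFn f) ↔
    ((∀ g ∈ H, (∀ i : Fin t, g • f i = f i) → g = 1) ∧
      ∀ i : Fin t, ∃ g ∈ H, (∀ j : Fin t, j < i → g • f j = f j) ∧ g • f i ≠ f i) := by
  intro t
  induction t with
  | zero =>
    intro H f
    simp only [List.ofFn_zero, IB]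
    exact ⟨fun e => ⟨fun g hg _ => Subgroup.mem_bot.mp (e ▸ hg), fun i => i.elim0⟩,
      fun h => (Subgroup.eq_bot_iff_forall _).mpr fun g hg => h.1 g hg fun i => i.elim0⟩
  | succ t ih =>
    intro H f
    rw [List.ofFn_succ]
    show (¬ H ≤ stabilizer G (f 0) ∧ IB (H ⊓ stabilizer G (f 0)) (List.ofFn fun i => f i.succ)) ↔ _
    rw [ih]
    constructor
    · rintro ⟨h0, h1, h2⟩
      refine ⟨fun g hg hf => h1 g ⟨hg, hf 0⟩ fun i => hf i.succ, fun i => ?_⟩
      refine Fin.cases ?_ (fun i => ?_) i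
      · obtain ⟨g, hg, hne⟩ := SetLike.not_le_iff_exists.mp h0
        exact ⟨g, hg, fun j hj => absurd hj (Fin.not_lt_zero j), hne⟩
      · obtain ⟨g, hg, hlt, hne⟩ := h2 i
        refine ⟨g, hg.1, fun j => Fin.cases (fun _ => hg.2) (fun j hj => hlt j (Fin.succ_lt_succ_iff.mp hj)) j, hne⟩
    · rintro ⟨h1, h2⟩
      refine ⟨fun h => ?_, fun g hg hf => h1 g hg.1 (Fin.cases hg.2 hf), fun i => ?_⟩
      · obtain ⟨g, hg, -, hne⟩ := h2 0
        exact hne (h hg)
      · obtain ⟨g, hg, hlt, hne⟩ := h2 i.succ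
        exact ⟨g, ⟨hg, hlt 0 (Fin.succ_pos i)⟩, fun j hj => hlt j.succ (Fin.succ_lt_succ_iff.mpr hj), hne⟩

/-- An irredundant base, as a predicate on sequences. -/
theorem IB_top {t : ℕ} (f : Fin t → Ω) : IB (⊤ : Subgroup G) (List.ofFn f) ↔
    ((∀ g : G, (∀ i : Fin t, g • f i = f i) → g = 1) ∧
      ∀ i : Fin t, ∃ g : G, (∀ j : Fin t, j < i → g • f j = f j) ∧ g • f i ≠ f i) := by
  rw [IB_ofFn]
  simp only [Subgroup.mem_top, forall_const, true_and]

theorem ibis :
    (∀ (t t' : ℕ) (f : Fin t → Ω) (f' : Fin t' → Ω), IB (⊤ : Subgroup G) (List.ofFn f) →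
      IB (⊤ : Subgroup G) (List.ofFn f') → t = t') ↔
    (∀ (t : ℕ) (f : Fin t → Ω) (σ : Equiv.Perm (Fin t)), IB (⊤ : Subgroup G) (List.ofFn f) →
      IB (⊤ : Subgroup G) (List.ofFn (f ∘ σ))) := by
  constructor
  · intro h t f σ hf
    obtain ⟨L', h1, -, h3⟩ := exists_reduce (List.ofFn (f ∘ σ)) (⊤ : Subgroup G) fun g _ hfix =>
      ((IB_top f).mp hf).1 g fun i => hfix (f i) (List.mem_ofFn.mpr ⟨σ.symm i, by simp⟩)
    refine h3 ?_
    rw [List.length_ofFn]
    exact (h t L'.length f L'.get hf (by rwa [List.ofFn_get])).symm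
  · intro h t t' f f' hf hf'
    have hF : ∀ g : G, (∀ ω : Ω, g • ω = ω) → g = 1 := fun g hg => ((IB_top f).mp hf).1 g fun i => hg _
    have hsw : CanSwap Ω (⊤ : Subgroup G) := by
      intro p x y r hL
      set L := p ++ x :: y :: r
      have hk : p.length + 1 < L.length := by simp [L]
      let σ : Equiv.Perm (Fin L.length) := Equiv.swap ⟨p.length, by omega⟩ ⟨p.length + 1, hk⟩
      have h' := h L.length L.get σ (by rwa [List.ofFn_get])
      convert h' using 1
      refine List.ext_getElem (by simp [L]; omega) fun i h1 h2 => ?_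
      rw [List.getElem_ofFn, Function.comp_apply, List.get_eq_getElem]
      by_cases e1 : i = p.length
      · subst e1
        simp [σ, L]
      by_cases e2 : i = p.length + 1
      · subst e2
        simp [σ, L]
      have e : σ ⟨i, by simpa [L] using h1⟩ = ⟨i, by simpa [L] using h1⟩ :=
        Equiv.swap_apply_of_ne_of_ne (fun e => e1 (congrArg Fin.val e)) (fun e => e2 (congrArg Fin.val e))
      simp only [e]
      rcases lt_trichotomy i p.length with hi | hi | hi
      · simp only [L, List.getElem_append_left hi]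
      · exact absurd hi e1
      · simp only [L, List.getElem_append_right hi.le]
        obtain ⟨k, hk'⟩ : ∃ k, i - p.length = k + 2 := ⟨i - p.length - 2, by omega⟩
        simp only [hk', List.getElem_cons_succ]
    simpa using length_eq hF _ _ le_rfl hsw _ _ hf hf'

end CfsgLib.MaxSub
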