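/-
Characteristically simple finite groups.
-/
import Cfsg.Agent.S5913
import Cfsg.Agent.Lib.Solvable.MinimalNormal

set_option autoImplicit false
set_option linter.style.haveILetI false

namespace CfsgLib.MaxSub

open SemidirectProduct

theorem char_simple_to_power {G : Type*} [Group G] [Finite G] [Nontrivial G]
    (h : ∀ H : Subgroup G, H.Characteristic → H = ⊥ ∨ H = ⊤) :
    ∃ (S : Type) (_ : Group S) (_ : IsSimpleGroup S) (n : ℕ), 1 ≤ n ∧ Nonempty (G ≃* (Fin n → S)) := by
  classical
  let Γ := G ⋊[MonoidHom.id (MulAut G)] MulAut G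
  haveI : Finite (MulAut G) := Finite.of_injective (fun e => (e : G → G)) DFunLike.coe_injective
  haveI : Finite Γ := Finite.of_equiv _ SemidirectProduct.equivProd.symm
  let ι : G →* Γ := inl
  haveI : ι.range.Normal := by rw [range_inl_eq_ker_rightHom]; infer_instance
  have hne : ι.range ≠ ⊥ := fun e => by
    obtain ⟨g, hg⟩ := exists_ne (1 : G)
    have : ι g ∈ (⊥ : Subgroup Γ) := e ▸ ⟨g, rfl⟩
    exact hg (inl_injective ((Subgroup.mem_bot.mp this).trans (map_one _).symm))
  obtain ⟨T, iT, m, hT, hm, ⟨e⟩⟩ := CfsgLib.MinimalNormal.power_of_simple ι.range hne fun M hM hMle => by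
    have hc : (M.comap ι).Characteristic := ⟨fun φ => by
      have key : ∀ (ψ : MulAut G) g, ι g ∈ M → ι (ψ g) ∈ M := fun ψ g hg => by
        show inl ((MonoidHom.id (MulAut G)) ψ g) ∈ M
        rw [inl_aut, map_inv]
        exact hM.conj_mem _ hg (inr ψ : Γ)
      ext g
      rw [Subgroup.mem_comap, Subgroup.mem_comap, Subgroup.mem_comap]
      exact ⟨fun hg => by simpa using key φ.symm _ hg, fun hg => key φ g hg⟩⟩
    have hMeq : (M.comap ι).map ι = M := Subgroup.map_comap_eq_self hMle
    rcases h _ hc with e | e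
    · left; rw [← hMeq, e, Subgroup.map_bot]
    · right; rw [← hMeq, e, ← MonoidHom.range_eq_map]
  exact ⟨T, iT, hT, m, hm, ⟨(MonoidHom.ofInjective inl_injective).trans e⟩⟩

/-- Permuting the coordinates. -/
def permCoord {S : Type*} [Group S] {n : ℕ} (σ : Equiv.Perm (Fin n)) : (Fin n → S) ≃* (Fin n → S) where
  toFun x := fun i => x (σ i)
  invFun x := fun i => x (σ.symm i)
  left_inv x := by funext i; simp
  right_inv x := by funext i; simp
  map_mul' x y := rfl

theorem power_char_simple {S : Type*} [Group S] [Finite S] [IsSimpleGroup S] {n : ℕ}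
    (H : Subgroup (Fin n → S)) [hH : H.Characteristic] : H = ⊥ ∨ H = ⊤ := by
  classical
  by_cases hb : H = ⊥
  · exact Or.inl hb
  right
  obtain ⟨x, hx, hx1⟩ := SetLike.exists_of_lt (bot_lt_iff_ne_bot.mpr hb)
  obtain ⟨j, hj⟩ : ∃ j, x j ≠ 1 := by
    by_contra hc
    simp only [not_exists, not_not] at hc
    exact hx1 (Subgroup.mem_bot.mpr (funext hc))
  have hmap : ∀ (φ : (Fin n → S) ≃* (Fin n → S)) y, y ∈ H → φ y ∈ H := fun φ y hy => by
    have h := hH.fixed φ
    rw [← h] at hy
    exact hy
  refine eq_top_iff.mpr fun y _ => Subgroup.pi_mem_of_mulSingle_mem y fun i => ?_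
  suffices hall : ∀ i : Fin n, ∀ s : S, Pi.mulSingle i s ∈ H from hall i (y i)
  by_cases hS : IsMulCommutative S
  · -- coordinates are of prime order: use shears
    haveI := hS
    letI : CommGroup S := { (inferInstance : Group S) with mul_comm := mul_comm' }
    have hgen : ∀ i : Fin n, (∃ t : S, t ≠ 1 ∧ Pi.mulSingle i t ∈ H) → ∀ s : S, Pi.mulSingle i s ∈ H := by
      rintro i ⟨t, ht, hti⟩ s
      let A : Subgroup S := H.comap (MonoidHom.mulSingle (fun _ : Fin n => S) i)
      rcases (inferInstance : A.Normal).eq_bot_or_eq_top with e | e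
      · exact absurd (Subgroup.mem_bot.mp (e ▸ (hti : t ∈ A))) ht
      · exact (e ▸ Subgroup.mem_top s : s ∈ A)
    have hshear : ∀ (i k : Fin n), i ≠ k → ∀ z ∈ H, Pi.mulSingle i (z k) ∈ H := by
      intro i k hik z hz
      let φ : (Fin n → S) ≃* (Fin n → S) :=
        { toFun := fun w => w * Pi.mulSingle i (w k)
          invFun := fun w => w * Pi.mulSingle i (w k)⁻¹
          left_inv := fun w => by
            simp [Pi.mulSingle_eq_of_ne hik.symm, ← Pi.mulSingle_mul, mul_assoc]
          right_inv := fun w => by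
            simp [Pi.mulSingle_eq_of_ne hik.symm, ← Pi.mulSingle_mul, mul_assoc]
          map_mul' := fun v w => by
            rw [show (v * w) k = v k * w k from rfl, Pi.mulSingle_mul, mul_mul_mul_comm] }
      have h := mul_mem (inv_mem hz) (hmap φ z hz)
      rwa [show z⁻¹ * φ z = Pi.mulSingle i (z k) from inv_mul_cancel_left z _] at h
    intro i
    by_cases hij : i = j
    · subst hij
      by_cases h1 : ∀ k : Fin n, k = i
      · refine hgen i ⟨x i, hj, ?_⟩
        rw [show Pi.mulSingle i (x i) = x from funext fun k => by rw [h1 k, Pi.mulSingle_eq_same]]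
        exact hx
      · simp only [not_forall] at h1
        obtain ⟨k, hk⟩ := h1
        refine hgen i ⟨x i, hj, ?_⟩
        have := hshear i k (Ne.symm hk) _ (hshear k i hk x hx)
        rwa [Pi.mulSingle_eq_same] at this
    · exact hgen i ⟨x j, hj, hshear i j hij x hx⟩
  · obtain ⟨T, hT⟩ := Cfsg.Agent.S5913.result hS n H
    have hjT : j ∈ T := by
      by_contra h
      exact hj ((hT x).mp hx j h)
    intro i s
    have h1 : Pi.mulSingle (M := fun _ : Fin n => S) j s ∈ H := (hT _).mpr fun k hk => Pi.mulSingle_eq_of_ne (fun e : k = j => hk (e.symm ▸ hjT)) _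
    have h2 := hmap (permCoord (Equiv.swap i j)) _ h1
    rwa [show permCoord (Equiv.swap i j) (Pi.mulSingle (M := fun _ : Fin n => S) j s) = Pi.mulSingle i s from funext fun k => by
      show Pi.mulSingle (M := fun _ : Fin n => S) j s (Equiv.swap i j k) = _
      rcases eq_or_ne k i with rfl | hk
      · simp
      · rw [Pi.mulSingle_eq_of_ne hk, Pi.mulSingle_eq_of_ne]
        exact fun e => hk ((Equiv.swap i j).injective (e.trans (Equiv.swap_apply_left i j).symm))] at h2

end CfsgLib.MaxSub
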