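/-
Stabilisers of decompositions are maximal in `SL_n`.
-/
import Cfsg.Agent.Lib.MaxSub.DecompTools
import Cfsg.Agent.Lib.MaxSub.Monomial.Six
import Cfsg.Agent.Lib.Aschbacher.ProperGeneral

set_option autoImplicit false
set_option maxHeartbeats 800000

namespace CfsgLib.MaxSub.DecompSL

open Matrix Module Cfsg Cfsg.Geo
open CfsgLib.SLCentre CfsgLib.PSLn

variable {F : Type*} [Field F] {n t m : ℕ} {D : Fin t → Submodule F (Fin n → F)}

local notation "V" => Fin n → F
local notation "SL" => Matrix.SpecialLinearGroup (Fin n) F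
local notation "Mn" => Matrix (Fin n) (Fin n) F

/-- The functional is supported on the member `j`. -/
def Sup (D : Fin t → Submodule F (Fin n → F)) (j : Fin t) (χ : Fin n → F) : Prop :=
  ∀ l, l ≠ j → ∀ x ∈ D l, χ ⬝ᵥ x = 0

theorem Sup.dot_sum {j : Fin t} {χ : V} (h : Sup D j χ) {c : Fin t → V} (hc : Decomp.Fam D c) :
    χ ⬝ᵥ (∑ i, c i) = χ ⬝ᵥ c j := by
  rw [dotProduct_sum, Finset.sum_eq_single j (fun i _ hi => h i hi _ (hc i))
    (fun h' => absurd (Finset.mem_univ j) h')]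

theorem Sup.add {j : Fin t} {χ ξ : V} (h : Sup D j χ) (h' : Sup D j ξ) : Sup D j (χ + ξ) :=
  fun l hl x hx => by rw [add_dotProduct, h l hl x hx, h' l hl x hx, add_zero]

theorem Sup.smul {j : Fin t} {χ : V} (h : Sup D j χ) (a : F) : Sup D j (a • χ) :=
  fun l hl x hx => by rw [smul_dotProduct, h l hl x hx, smul_zero]

theorem exists_fun (hD : IsMDecomposition m D) {j : Fin t} {U : Submodule F V} (hU : U ≤ D j)
    {w : V} (hw : w ∈ D j) (hwU : w ∉ U) :
    ∃ χ, Sup D j χ ∧ (∀ u ∈ U, χ ⬝ᵥ u = 0) ∧ χ ⬝ᵥ w = 1 := by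
  have hnot : w ∉ U ⊔ (⨆ l, ⨆ (_ : l ≠ j), D l) := by
    intro h
    obtain ⟨u, hu, o, ho, e⟩ := Submodule.mem_sup.1 h
    have h1 : o ∈ D j := by rw [eq_sub_of_add_eq' e]; exact (D j).sub_mem hw (hU hu)
    have h2 := Submodule.disjoint_def.1 (hD.indep j) o h1 ho
    rw [h2, add_zero] at e
    exact hwU (e ▸ hu)
  obtain ⟨L, hLw, hL⟩ := Submodule.exists_dual_map_eq_bot_of_notMem hnot inferInstance
  set χ : V := (L w)⁻¹ • (dotProductEquiv F (Fin n)).symm L with hχ
  have hd : ∀ x, χ ⬝ᵥ x = (L w)⁻¹ * L x := fun x => by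
    rw [hχ, smul_dotProduct, smul_eq_mul]
    congr 1
    exact LinearMap.congr_fun ((dotProductEquiv F (Fin n)).apply_symm_apply L) x
  have h0 : ∀ x ∈ U ⊔ (⨆ l, ⨆ (_ : l ≠ j), D l), L x = 0 := fun x hx => by
    have : L x ∈ (U ⊔ (⨆ l, ⨆ (_ : l ≠ j), D l)).map L := Submodule.mem_map_of_mem hx
    rwa [hL, Submodule.mem_bot] at this
  refine ⟨χ, fun l hl x hx => ?_, fun u hu => ?_, by rw [hd, inv_mul_cancel₀ hLw]⟩
  · rw [hd, h0 x (Submodule.mem_sup_right (Submodule.mem_iSup_of_mem l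
      (Submodule.mem_iSup_of_mem hl hx))), mul_zero]
  · rw [hd, h0 u (Submodule.mem_sup_left hu), mul_zero]

theorem exists_out (hD : IsMDecomposition m D) {j : Fin t} (S : Finset V) (hS : S.card < m) :
    ∃ w ∈ D j, w ∉ Submodule.span F (S : Set V) := by
  by_contra h
  push Not at h
  have h1 := Submodule.finrank_mono (show D j ≤ Submodule.span F (S : Set V) from h)
  have h2 := (finrank_span_finset_le_card (R := F) S).trans hS.le
  rw [hD.finrank_eq] at h1
  have h3 := finrank_span_finset_le_card (R := F) S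
  unfold Set.finrank at h2 h3
  omega

theorem exists_indep (hD : IsMDecomposition m D) (hm : 2 ≤ m) (j : Fin t) (b : V) :
    ∃ w ∈ D j, w ∉ Submodule.span F ({b} : Set V) := by
  simpa using exists_out hD (j := j) {b} (by simp; omega)

variable {K : Subgroup (Matrix.SpecialLinearGroup (Fin n) F)}

/-- The block root elements are present. -/
def Blocks (D : Fin t → Submodule F (Fin n → F))
    (K : Subgroup (Matrix.SpecialLinearGroup (Fin n) F)) : Prop :=
  ∀ j, ∀ b ∈ D j, ∀ χ, Sup D j χ → χ ⬝ᵥ b = 0 → HasTv K b χ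

/-- All cross root elements. -/
def Cross (D : Fin t → Submodule F (Fin n → F))
    (K : Subgroup (Matrix.SpecialLinearGroup (Fin n) F)) (i l : Fin t) : Prop :=
  ∀ c ∈ D i, ∀ ξ, Sup D l ξ → HasTv K c ξ

theorem cross_of_one (hD : IsMDecomposition m D) (hm : 2 ≤ m) (hB : Blocks D K) {i l : Fin t}
    (hil : i ≠ l) {b₀ χ₀ : V} (hb₀ : b₀ ∈ D i) (hb₀0 : b₀ ≠ 0) (hχ₀ : Sup D l χ₀)
    (h : HasTv K b₀ χ₀) {w : V} (hw : w ∈ D l) (hχw : χ₀ ⬝ᵥ w ≠ 0) : Cross D K i l := by
  -- the axes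
  have axis : ∀ ξ, Sup D l ξ → HasTv K b₀ ξ := by
    obtain ⟨v₀, hv₀, hv₀w⟩ := exists_indep hD hm l w
    set v : V := v₀ - (χ₀ ⬝ᵥ v₀ * (χ₀ ⬝ᵥ w)⁻¹) • w with hv
    have hvD : v ∈ D l := (D l).sub_mem hv₀ ((D l).smul_mem _ hw)
    have hχv : χ₀ ⬝ᵥ v = 0 := by
      rw [hv, dotProduct_sub, dotProduct_smul, smul_eq_mul, mul_assoc, inv_mul_cancel₀ hχw, mul_one,
        sub_self]
    have hvw : v ∉ Submodule.span F ({w} : Set V) := fun hmem => hv₀w (by
      have := Submodule.add_mem _ hmem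
        (Submodule.smul_mem _ (χ₀ ⬝ᵥ v₀ * (χ₀ ⬝ᵥ w)⁻¹) (Submodule.mem_span_singleton_self w))
      rwa [hv, sub_add_cancel] at this)
    have direct : ∀ ξ, Sup D l ξ → ξ ⬝ᵥ v ≠ 0 → HasTv K b₀ ξ := by
      intro ξ hξ hξv
      set c : V := w - (ξ ⬝ᵥ w * (ξ ⬝ᵥ v)⁻¹) • v with hc
      have h1 : ξ ⬝ᵥ c = 0 := by
        rw [hc, dotProduct_sub, dotProduct_smul, smul_eq_mul, mul_assoc, inv_mul_cancel₀ hξv,
          mul_one, sub_self]
      have h2 : χ₀ ⬝ᵥ c = χ₀ ⬝ᵥ w := by
        rw [hc, dotProduct_sub, dotProduct_smul, hχv, smul_zero, sub_zero]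
      have h3 := h.comm (hB l c ((D l).sub_mem hw ((D l).smul_mem _ hvD)) ξ hξ h1)
        (hξ i hil b₀ hb₀)
      have h4 : ((χ₀ ⬝ᵥ w)⁻¹ • ξ) ⬝ᵥ c = 0 := by rw [smul_dotProduct, h1, smul_zero]
      have h5 := h.comm (hB l c ((D l).sub_mem hw ((D l).smul_mem _ hvD)) _ (hξ.smul _) h4)
        (hξ.smul _ i hil b₀ hb₀)
      rwa [smul_smul, h2, mul_inv_cancel₀ hχw, one_smul] at h5
    intro ξ hξ
    by_cases hξv : ξ ⬝ᵥ v = 0
    · obtain ⟨ξ₁, hξ₁, -, hξ₁v⟩ := exists_fun hD
        ((Submodule.span_singleton_le_iff_mem w (D l)).2 hw) hvD hvw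
      have := (direct (ξ + ξ₁) (hξ.add hξ₁) (by rw [add_dotProduct, hξv, hξ₁v, zero_add]; exact one_ne_zero)).sub
        (direct ξ₁ hξ₁ (by rw [hξ₁v]; exact one_ne_zero))
      rwa [add_sub_cancel_right] at this
    · exact direct ξ hξ hξv
  intro c hc ξ hξ
  by_cases hcb : c ∈ Submodule.span F ({b₀} : Set V)
  · obtain ⟨κ, rfl⟩ := Submodule.mem_span_singleton.1 hcb
    by_cases hκ : κ = 0
    · subst hκ; rw [zero_smul]; exact full_zero ξ (by rw [dotProduct_zero])
    have h1 := axis (κ • ξ) (hξ.smul κ)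
    have h2 : HasTv K (κ⁻¹ • (κ • b₀)) (κ • ξ) := by rwa [inv_smul_smul₀ hκ]
    have := h2.scale (inv_ne_zero hκ)
    rwa [inv_smul_smul₀ hκ] at this
  · have hb : b₀ ∉ Submodule.span F ({c} : Set V) := fun hmem => by
      obtain ⟨a, ha⟩ := Submodule.mem_span_singleton.1 hmem
      have ha0 : a ≠ 0 := fun h0 => hb₀0 (by rw [← ha, h0, zero_smul])
      exact hcb (Submodule.mem_span_singleton.2 ⟨a⁻¹, by rw [← ha, inv_smul_smul₀ ha0]⟩)
    obtain ⟨ζ, hζ, hζc, hζb⟩ := exists_fun hD ((Submodule.span_singleton_le_iff_mem c (D i)).2 hc)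
      hb₀ hb
    have := (hB i c hc ζ hζ (hζc c (Submodule.mem_span_singleton_self c))).comm (axis ξ hξ)
      (hξ i hil c hc)
    rwa [hζb, one_smul] at this

theorem det_reflect (e θ : V) (a : F) :
    (1 + vecMulVec (a • e) θ : Mn).det = 1 + a * (θ ⬝ᵥ e) := by
  rw [vecMulVec_eq Unit, Matrix.det_one_add_replicateCol_mul_replicateRow, dotProduct_smul,
    smul_eq_mul]

theorem reflect_mulVec (e θ x : V) (a : F) :
    (1 + vecMulVec (a • e) θ : Mn) *ᵥ x = x + (a * (θ ⬝ᵥ x)) • e := by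
  rw [add_mulVec, one_mulVec, vecMulVec_mulVec, op_smul_eq_smul, smul_smul, mul_comm]

/-- An element of the stabiliser realising a permutation of the members. -/
theorem exists_perm (hD : IsMDecomposition m D) (σ : Equiv.Perm (Fin t)) :
    ∃ h : SL, (∀ j, ∀ x ∈ D j, h.1 *ᵥ x ∈ D (σ j)) ∧
      (Matrix.SpecialLinearGroup.toGL h : GL (Fin n) F) ∈ decompositionStabilizer D := by
  classical
  let e : ∀ i, D i ≃ₗ[F] D (σ i) := fun i =>
    LinearEquiv.ofFinrankEq _ _ (by rw [hD.finrank_eq, hD.finrank_eq])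
  obtain ⟨T, hT⟩ := Decomp.exists_glue hD fun i => (D (σ i)).subtype ∘ₗ (e i).toLinearMap
  have hTj : ∀ j, ∀ x (hx : x ∈ D j), T x = (e j ⟨x, hx⟩ : V) := by
    intro j x hx
    have hc : Decomp.Fam D (Pi.single j x) := fun i => by
      by_cases h : i = j
      · subst h; simpa using hx
      · simp [h]
    have := hT _ hc
    rw [Fintype.sum_pi_single'] at this
    rw [this, Finset.sum_eq_single j (fun i _ hi => ?_) (fun h => absurd (Finset.mem_univ j) h)]
    · simp
    · rw [show (⟨(Pi.single j x : Fin t → V) i, hc i⟩ : D i) = 0 from Subtype.ext (by simp [hi]),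
        map_zero]
  have hmem : ∀ j, ∀ x ∈ D j, T x ∈ D (σ j) := fun j x hx => by rw [hTj j x hx]; exact (e j _).2
  have hsurj : Function.Surjective T := by
    rw [← LinearMap.range_eq_top, eq_top_iff, ← hD.iSup_eq_top, iSup_le_iff]
    intro i y hy
    obtain ⟨j, rfl⟩ := σ.surjective i
    exact ⟨((e j).symm ⟨y, hy⟩ : V), by rw [hTj j _ ((e j).symm ⟨y, hy⟩).2]; simp⟩
  set M : Mn := LinearMap.toMatrix' T with hM
  have hMv : ∀ x, M *ᵥ x = T x := fun x => by rw [hM, LinearMap.toMatrix'_mulVec]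
  have hMu : IsUnit M := Matrix.mulVec_surjective_iff_isUnit.1 fun y => by
    obtain ⟨x, rfl⟩ := hsurj y; exact ⟨x, hMv x⟩
  have hd : M.det ≠ 0 := ((Matrix.isUnit_iff_isUnit_det M).1 hMu).ne_zero
  let j₀ : Fin t := ⟨0, by have := hD.two_le; omega⟩
  obtain ⟨e₀, he₀, he₀0⟩ : ∃ e₀ ∈ D j₀, e₀ ≠ 0 := Submodule.exists_mem_ne_zero_of_ne_bot fun h => by
    have := hD.finrank_eq j₀; rw [h, finrank_bot] at this; exact absurd this hD.pos.ne
  obtain ⟨θ, hθ, -, hθe⟩ := exists_fun hD (bot_le : (⊥ : Submodule F V) ≤ D j₀) he₀ (by simpa using he₀0)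
  set R : Mn := 1 + vecMulVec ((M.det⁻¹ - 1) • e₀) θ with hR
  have hdet : (M * R).det = 1 := by
    rw [Matrix.det_mul, hR, det_reflect, hθe, mul_one, add_sub_cancel, mul_inv_cancel₀ hd]
  have hRj : ∀ j, ∀ x ∈ D j, R *ᵥ x ∈ D j := fun j x hx => by
    rw [hR, reflect_mulVec]
    by_cases hj : j = j₀
    · subst hj; exact (D _).add_mem hx ((D _).smul_mem _ he₀)
    · rw [hθ j hj x hx, mul_zero, zero_smul, add_zero]; exact hx
  have hall : ∀ j, ∀ x ∈ D j, (M * R) *ᵥ x ∈ D (σ j) := fun j x hx => by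
    rw [← Matrix.mulVec_mulVec, hMv]; exact hmem j _ (hRj j x hx)
  exact ⟨⟨M * R, hdet⟩, hall, Decomp.mem_stab_of hD fun i => ⟨σ i, hall i⟩⟩

variable [Fintype F]

/-- Members of size at least two. -/
theorem top_of_blocks (hD : IsMDecomposition m D) (hn : 2 ≤ n) (hm : 2 ≤ m)
    (h3 : m = 2 → (3 ≤ Fintype.card F ∧ 3 ≤ t) ∨ (t = 2 ∧ n = 4 ∧ 4 ≤ Fintype.card F))
    (hK : ∀ g : SL, (Matrix.SpecialLinearGroup.toGL g : GL (Fin n) F) ∈ decompositionStabilizer D →
      g ∈ K)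
    {g : SL} (hg : g ∈ K) {i₀ : Fin t} {x : V} (hx : x ∈ D i₀) (hgx : ∀ j, g.1 *ᵥ x ∉ D j) :
    K = ⊤ := by
  classical
  have hB : Blocks D K := by
    intro j b hb χ hχ hχb
    refine ⟨hχb, hK _ (Decomp.mem_stab_of hD fun l => ⟨l, fun y hy => ?_⟩)⟩
    show (tv b χ hχb).1 *ᵥ y ∈ D l
    rw [tv_mulVec]
    by_cases hl : l = j
    · subst hl; exact (D l).add_mem hy ((D l).smul_mem _ hb)
    · rw [hχ l hl y hy, zero_smul, add_zero]; exact hy
  -- one transvection outside the blocks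
  obtain ⟨w, hw, hwx⟩ := exists_indep hD hm i₀ x
  obtain ⟨χ₁, hχ₁, hχ₁x, hχ₁w⟩ := exists_fun hD
    ((Submodule.span_singleton_le_iff_mem x (D i₀)).2 hx) hw hwx
  have e0 : χ₁ = (χ₁ ᵥ* (g⁻¹).1) ᵥ* g.1 := by
    rw [Matrix.vecMul_vecMul, ← Matrix.SpecialLinearGroup.coe_mul, inv_mul_cancel]
    exact (Matrix.vecMul_one χ₁).symm
  have h0 := hB i₀ x hx χ₁ hχ₁ (hχ₁x x (Submodule.mem_span_singleton_self x))
  rw [e0] at h0
  have hA := h0.conj hg
  set ψ := χ₁ ᵥ* (g⁻¹).1 with hψdef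
  have hψ0 : ψ ≠ 0 := fun e => by
    rw [e, Matrix.zero_vecMul] at e0
    rw [e0, zero_dotProduct] at hχ₁w
    exact zero_ne_one hχ₁w
  obtain ⟨a, ha, hae⟩ := Decomp.exists_comp hD (g.1 *ᵥ x)
  have two : ∀ j, ∃ p, p ≠ j ∧ a p ≠ 0 := by
    intro j
    by_contra h
    push Not at h
    exact hgx j (by
      rw [← hae, Finset.sum_eq_single j (fun p _ hp => h p hp)
        (fun h' => absurd (Finset.mem_univ j) h')]
      exact ha j)
  rw [← hae] at hA
  set A : V := ∑ i, a i with hAdef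
  -- reduction to a cross element
  obtain ⟨i, l, hil, hcross⟩ : ∃ i l, i ≠ l ∧ Cross D K i l := by
    have step2 : ∀ (χ : V) (j : Fin t), Sup D j χ → HasTv K A χ → ∀ u ∈ D j, χ ⬝ᵥ u ≠ 0 →
        ∃ i l, i ≠ l ∧ Cross D K i l := by
      intro χ j hχ h u hu hχu
      obtain ⟨p, hpj, hp⟩ := two j
      obtain ⟨c, hc, hcp⟩ := exists_indep hD hm p (a p)
      have hpc : a p ∉ Submodule.span F ({c} : Set V) := fun hmem => by
        obtain ⟨r, hr⟩ := Submodule.mem_span_singleton.1 hmem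
        have hr0 : r ≠ 0 := fun h0 => hp (by rw [← hr, h0, zero_smul])
        exact hcp (Submodule.mem_span_singleton.2 ⟨r⁻¹, by rw [← hr, inv_smul_smul₀ hr0]⟩)
      obtain ⟨ξ, hξ, hξc, hξa⟩ := exists_fun hD ((Submodule.span_singleton_le_iff_mem c (D p)).2 hc)
        (ha p) hpc
      have h1 := (hB p c hc ξ hξ (hξc c (Submodule.mem_span_singleton_self c))).comm h
        (hχ p hpj c hc)
      rw [hAdef, hξ.dot_sum ha, hξa, one_smul] at h1
      exact ⟨p, j, hpj, cross_of_one hD hm hB hpj hc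
        (fun h0 => hcp (h0 ▸ zero_mem _)) hχ h1 hu hχu⟩
    have rule1 : ∀ (φ : V), HasTv K A φ → ∀ j, ∀ b ∈ D j, φ ⬝ᵥ b ≠ 0 →
        ∀ u ∈ D j, u ∉ Submodule.span F ({b, a j} : Set V) → ∃ i l, i ≠ l ∧ Cross D K i l := by
      intro φ h j b hb hφb u hu hu'
      obtain ⟨χ, hχ, hχU, hχu⟩ := exists_fun hD (U := Submodule.span F ({b, a j} : Set V))
        (Submodule.span_le.2 (by
          rintro y (rfl | rfl)
          exacts [hb, ha j])) hu hu'
      have h1 := h.comm (hB j b hb χ hχ (hχU b (Submodule.subset_span (by simp))))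
        (by rw [hAdef, hχ.dot_sum ha]; exact hχU _ (Submodule.subset_span (by simp)))
      exact step2 _ j (hχ.smul _) h1 u hu
        (by rw [smul_dotProduct, hχu, smul_eq_mul, mul_one]; exact hφb)
    have rule2 : ∀ (φ : V), HasTv K A φ → ∀ p, a p ≠ 0 → (∀ y ∈ D p, φ ⬝ᵥ y = 0) →
        ∀ l, ∀ y ∈ D l, φ ⬝ᵥ y ≠ 0 → ∃ i l, i ≠ l ∧ Cross D K i l := by
      intro φ h p hp hφp l y hy hφy
      have hlp : l ≠ p := fun e => hφy (hφp y (e ▸ hy))
      obtain ⟨b, hb, hbp⟩ := exists_indep hD hm p (a p)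
      have hab : a p ∉ Submodule.span F ({b} : Set V) := fun hmem => by
        obtain ⟨r, hr⟩ := Submodule.mem_span_singleton.1 hmem
        have hr0 : r ≠ 0 := fun h0 => hp (by rw [← hr, h0, zero_smul])
        exact hbp (Submodule.mem_span_singleton.2 ⟨r⁻¹, by rw [← hr, inv_smul_smul₀ hr0]⟩)
      obtain ⟨χ, hχ, hχb, hχa⟩ := exists_fun hD ((Submodule.span_singleton_le_iff_mem b (D p)).2 hb)
        (ha p) hab
      have h1 := (hB p b hb χ hχ (hχb b (Submodule.mem_span_singleton_self b))).comm h (hφp b hb)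
      rw [hAdef, hχ.dot_sum ha, hχa, one_smul] at h1
      obtain ⟨c, hc, hcy⟩ := exists_indep hD hm l y
      obtain ⟨ξ, hξ, hξy, hξc⟩ := exists_fun hD ((Submodule.span_singleton_le_iff_mem y (D l)).2 hy)
        hc hcy
      have h2 := h1.comm (hB l y hy ξ hξ (hξy y (Submodule.mem_span_singleton_self y)))
        (hξ p (Ne.symm hlp) b hb)
      refine ⟨p, l, Ne.symm hlp, cross_of_one hD hm hB (Ne.symm hlp) hb
        (fun h0 => hbp (h0 ▸ zero_mem _)) (hξ.smul _) h2 hc ?_⟩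
      rw [smul_dotProduct, hξc, smul_eq_mul, mul_one]; exact hφy
    obtain ⟨j, b, hb, hψb⟩ : ∃ j, ∃ b ∈ D j, ψ ⬝ᵥ b ≠ 0 := by
      by_contra h
      push Not at h
      refine hψ0 (dotProduct_eq_zero_iff.1 fun v => ?_)
      obtain ⟨c, hc, rfl⟩ := Decomp.exists_comp hD v
      rw [dotProduct_sum]
      exact Finset.sum_eq_zero fun i _ => h i _ (hc i)
    by_cases hu : ∃ u ∈ D j, u ∉ Submodule.span F ({b, a j} : Set V)
    · obtain ⟨u, hu1, hu2⟩ := hu
      exact rule1 ψ hA j b hb hψb u hu1 hu2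
    push Not at hu
    have hm2 : m = 2 := by
      by_contra hm2
      obtain ⟨u, hu1, hu2⟩ := exists_out hD (j := j) {b, a j}
        (lt_of_le_of_lt Finset.card_le_two (by omega))
      exact hu2 (by simpa using hu u hu1)
    have haj : a j ≠ 0 := by
      intro h0
      obtain ⟨u, hu1, hu2⟩ := exists_indep hD hm j b
      refine hu2 ?_
      have := hu u hu1
      rw [h0] at this
      rw [Submodule.mem_span_pair] at this
      obtain ⟨r, s, hrs⟩ := this
      exact Submodule.mem_span_singleton.2 ⟨r, by rw [← hrs, smul_zero, add_zero]⟩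
    by_cases hψa : ψ ⬝ᵥ a j = 0
    swap
    · obtain ⟨u, hu1, hu2⟩ := exists_indep hD hm j (a j)
      exact rule1 ψ hA j (a j) (ha j) hψa u hu1 (by simpa using hu2)
    obtain ⟨s, hsj, hs⟩ := two j
    by_cases hsψ : ∀ y ∈ D s, ψ ⬝ᵥ y = 0
    · exact rule2 ψ hA s hs hsψ j b hb hψb
    have hbj : b ∉ Submodule.span F ({a j} : Set V) := fun hmem => by
      obtain ⟨r, hr⟩ := Submodule.mem_span_singleton.1 hmem
      exact hψb (by rw [← hr, dotProduct_smul, hψa, smul_zero])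
    obtain ⟨θ, hθ, hθa, hθb⟩ := exists_fun hD
      ((Submodule.span_singleton_le_iff_mem (a j) (D j)).2 (ha j)) hb hbj
    have hθA : θ ⬝ᵥ A = 0 := by
      rw [hAdef, hθ.dot_sum ha]; exact hθa _ (Submodule.mem_span_singleton_self _)
    rcases h3 hm2 with ⟨hq, ht⟩ | ⟨ht, hn4, hq⟩
    swap
    · -- two planes
      by_cases hρ : ∃ ρ : F, ρ ≠ 0 ∧ ρ ^ 4 ≠ 1
      · obtain ⟨ρ, hρ0, hρ4⟩ := hρ
        set H : Mn := ρ • (1 + vecMulVec (((ρ ^ 4)⁻¹ - 1) • b) θ) with hH
        have hHv : ∀ y, H *ᵥ y = ρ • (y + (((ρ ^ 4)⁻¹ - 1) * (θ ⬝ᵥ y)) • b) := fun y => by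
          rw [hH, smul_mulVec, reflect_mulVec]
        have hHd : H.det = 1 := by
          rw [hH, Matrix.det_smul, Fintype.card_fin, det_reflect, hθb, mul_one, add_sub_cancel,
            show ρ ^ n = ρ ^ 4 by rw [hn4], mul_inv_cancel₀ (pow_ne_zero 4 hρ0)]
        have hHmem : (⟨H, hHd⟩ : SL) ∈ K := hK _ (Decomp.mem_stab_of hD fun l => ⟨l, fun y hy => by
          show H *ᵥ y ∈ D l
          rw [hHv]
          refine (D l).smul_mem _ ?_
          by_cases h2 : l = j
          · subst h2; exact (D l).add_mem hy ((D l).smul_mem _ hb)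
          · rw [hθ l h2 y hy, mul_zero, zero_smul, add_zero]; exact hy⟩)
        have h1 := ((hA.conj' hHmem (c' := ρ⁻¹ • A) (by
          show H *ᵥ (ρ⁻¹ • A) = A
          rw [Matrix.mulVec_smul, hHv, hθA, mul_zero, zero_smul, add_zero, inv_smul_smul₀ hρ0])).scale
            (inv_ne_zero hρ0)).sub hA
        have hdiff : ∀ y, (ρ⁻¹ • (ψ ᵥ* H) - ψ) ⬝ᵥ y = ((ρ ^ 4)⁻¹ - 1) * (θ ⬝ᵥ y) * (ψ ⬝ᵥ b) := by
          intro y
          rw [sub_dotProduct, smul_dotProduct, ← Matrix.dotProduct_mulVec, hHv]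
          simp only [dotProduct_add, dotProduct_smul, smul_eq_mul]
          rw [← mul_assoc, inv_mul_cancel₀ hρ0]
          ring
        refine rule2 _ h1 s hs (fun y hy => ?_) j b hb ?_
        · show (ρ⁻¹ • (ψ ᵥ* H) - ψ) ⬝ᵥ y = 0
          rw [hdiff, hθ s hsj y hy]; ring
        · show (ρ⁻¹ • (ψ ᵥ* H) - ψ) ⬝ᵥ b ≠ 0
          rw [hdiff, hθb, mul_one]
          exact mul_ne_zero (sub_ne_zero.2 fun e => hρ4 (by rw [← inv_inv (ρ ^ 4), e, inv_one])) hψb
      · push Not at hρ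
        -- five elements
        have hq5 : Fintype.card F = 5 := by
          obtain ⟨u, hu⟩ := IsCyclic.exists_generator (α := Fˣ)
          have ho : orderOf u = Fintype.card F - 1 := by
            rw [orderOf_eq_card_of_forall_mem_zpowers hu, Nat.card_eq_fintype_card, Fintype.card_units]
          have h4 : orderOf u ∣ 4 :=
            orderOf_dvd_of_pow_eq_one (Units.ext (by simpa using hρ u u.ne_zero))
          have := Nat.le_of_dvd (by norm_num) h4
          interval_cases h : orderOf u <;> omega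
        have h50 : (5 : F) = 0 := by
          have := Nat.cast_card_eq_zero F
          rw [hq5] at this
          exact_mod_cast this
        push Not at hsψ
        obtain ⟨e, he, hψe⟩ := hsψ
        by_cases hu' : ∃ u ∈ D s, u ∉ Submodule.span F ({e, a s} : Set V)
        · obtain ⟨u, hu1, hu2⟩ := hu'
          exact rule1 ψ hA s e he hψe u hu1 hu2
        push Not at hu'
        have hψs : ψ ⬝ᵥ a s = 0 := by
          have hAψ := hA.dot
          rw [hAdef, dotProduct_sum, Finset.sum_eq_add_of_mem j s (Finset.mem_univ j)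
            (Finset.mem_univ s) (Ne.symm hsj) fun c _ hc => ?_, hψa, zero_add] at hAψ
          · exact hAψ
          · have h1 := c.isLt; have h2 := j.isLt; have h3 := s.isLt
            have := Fin.val_ne_of_ne hc.1; have := Fin.val_ne_of_ne hc.2
            have := Fin.val_ne_of_ne hsj
            omega
        have hes : e ∉ Submodule.span F ({a s} : Set V) := fun hmem => by
          obtain ⟨r, hr⟩ := Submodule.mem_span_singleton.1 hmem
          exact hψe (by rw [← hr, dotProduct_smul, hψs, smul_zero])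
        obtain ⟨η, hη, hηa, hηe⟩ := exists_fun hD
          ((Submodule.span_singleton_le_iff_mem (a s) (D s)).2 (ha s)) he hes
        have hηs : η ⬝ᵥ a s = 0 := hηa _ (Submodule.mem_span_singleton_self _)
        have hηA : η ⬝ᵥ A = 0 := by rw [hAdef, hη.dot_sum ha]; exact hηs
        set H : Mn := (1 + vecMulVec ((1 : F) • b) θ) * (1 + vecMulVec ((2 : F) • e) η) with hH
        have hHv : ∀ y, H *ᵥ y = y + (2 * (η ⬝ᵥ y)) • e + (θ ⬝ᵥ y) • b := by
          intro y
          rw [hH, ← Matrix.mulVec_mulVec, reflect_mulVec, reflect_mulVec, dotProduct_add,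
            dotProduct_smul, hθ s hsj e he, smul_zero, add_zero, one_mul]
        have hHd : H.det = 1 := by
          rw [hH, Matrix.det_mul, det_reflect, det_reflect, hθb, hηe]
          linear_combination h50
        have hHmem : (⟨H, hHd⟩ : SL) ∈ K := hK _ (Decomp.mem_stab_of hD fun l => ⟨l, fun y hy => by
          show H *ᵥ y ∈ D l
          rw [hHv]
          by_cases h1 : l = s
          · subst h1
            rw [hθ l hsj y hy, zero_smul, add_zero]
            exact (D l).add_mem hy ((D l).smul_mem _ he)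
          · rw [hη l h1 y hy, mul_zero, zero_smul, add_zero]
            by_cases h2 : l = j
            · subst h2; exact (D l).add_mem hy ((D l).smul_mem _ hb)
            · rw [hθ l h2 y hy, zero_smul, add_zero]; exact hy⟩)
        have h1 := (((hA.conj' hHmem (c' := A) (by
          show H *ᵥ A = A
          rw [hHv, hθA, hηA, mul_zero, zero_smul, zero_smul, add_zero, add_zero])).sub hA).sub hA).sub hA
        have hdiff : ∀ y, (ψ ᵥ* H - ψ - ψ - ψ) ⬝ᵥ y =
            2 * (η ⬝ᵥ y) * (ψ ⬝ᵥ e) + (θ ⬝ᵥ y) * (ψ ⬝ᵥ b) - 2 * (ψ ⬝ᵥ y) := by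
          intro y
          rw [sub_dotProduct, sub_dotProduct, sub_dotProduct, ← Matrix.dotProduct_mulVec, hHv]
          simp only [dotProduct_add, dotProduct_smul, smul_eq_mul]
          ring
        refine rule2 _ h1 s hs (fun y hy => ?_) j b hb ?_
        · show (ψ ᵥ* H - ψ - ψ - ψ) ⬝ᵥ y = 0
          obtain ⟨c1, c2, rfl⟩ := Submodule.mem_span_pair.1 (hu' y hy)
          rw [hdiff]
          simp only [dotProduct_add, dotProduct_smul, smul_eq_mul, hηs, hψs, hθ s hsj e he,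
            hθ s hsj _ (ha s), hηe]
          ring
        · show (ψ ᵥ* H - ψ - ψ - ψ) ⬝ᵥ b ≠ 0
          rw [hdiff, hη j (Ne.symm hsj) b hb, hθb]
          intro h
          exact hψb (by linear_combination -h)
    -- two compensating reflections
    obtain ⟨r, hr⟩ : ∃ r : Fin t, r ∉ ({j, s} : Finset (Fin t)) := by
      by_contra hc
      push Not at hc
      have h5 : Fintype.card (Fin t) ≤ 2 :=
        (Finset.card_le_card (s := Finset.univ) fun x _ => hc x).trans Finset.card_le_two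
      rw [Fintype.card_fin] at h5
      omega
    simp only [Finset.mem_insert, Finset.mem_singleton, not_or] at hr
    obtain ⟨e, he, hea⟩ := exists_indep hD hm r (a r)
    obtain ⟨η, hη, hηa, hηe⟩ := exists_fun hD
      ((Submodule.span_singleton_le_iff_mem (a r) (D r)).2 (ha r)) he hea
    obtain ⟨μ, hμ0, hμ1⟩ : ∃ μ : F, μ ≠ 0 ∧ μ ≠ 1 := by
      by_contra hc
      push Not at hc
      have : Fintype.card F ≤ 2 :=
        (Finset.card_le_card (s := Finset.univ) (t := ({0, 1} : Finset F)) fun y _ => by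
          by_cases hy : y = 0
          · simp [hy]
          · simp [hc y hy]).trans Finset.card_le_two
      omega
    have hηA : η ⬝ᵥ A = 0 := by
      rw [hAdef, hη.dot_sum ha]; exact hηa _ (Submodule.mem_span_singleton_self _)
    set H : Mn := (1 + vecMulVec ((μ - 1) • b) θ) * (1 + vecMulVec ((μ⁻¹ - 1) • e) η) with hH
    have hHv : ∀ y, H *ᵥ y = y + ((μ⁻¹ - 1) * (η ⬝ᵥ y)) • e + ((μ - 1) * (θ ⬝ᵥ y)) • b := by
      intro y
      rw [hH, ← Matrix.mulVec_mulVec, reflect_mulVec, reflect_mulVec, dotProduct_add,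
        dotProduct_smul, hθ r hr.1 e he, smul_zero, add_zero]
    have hHd : H.det = 1 := by
      rw [hH, Matrix.det_mul, det_reflect, det_reflect, hθb, hηe, mul_one, mul_one, add_sub_cancel,
        add_sub_cancel, mul_inv_cancel₀ hμ0]
    have hHmem : (⟨H, hHd⟩ : SL) ∈ K := hK _ (Decomp.mem_stab_of hD fun l => ⟨l, fun y hy => by
      show H *ᵥ y ∈ D l
      rw [hHv]
      by_cases h1 : l = r
      · subst h1
        rw [hθ l hr.1 y hy, mul_zero, zero_smul, add_zero]
        exact (D l).add_mem hy ((D l).smul_mem _ he)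
      · rw [hη l h1 y hy, mul_zero, zero_smul, add_zero]
        by_cases h2 : l = j
        · subst h2; exact (D l).add_mem hy ((D l).smul_mem _ hb)
        · rw [hθ l h2 y hy, mul_zero, zero_smul, add_zero]; exact hy⟩)
    have h1 := (hA.conj' hHmem (c' := A) (by
      show H *ᵥ A = A
      rw [hHv, hθA, hηA, mul_zero, mul_zero, zero_smul, zero_smul, add_zero, add_zero])).sub hA
    have hdiff : ∀ y, (ψ ᵥ* H - ψ) ⬝ᵥ y =
        (μ⁻¹ - 1) * (η ⬝ᵥ y) * (ψ ⬝ᵥ e) + (μ - 1) * (θ ⬝ᵥ y) * (ψ ⬝ᵥ b) := by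
      intro y
      rw [sub_dotProduct, ← Matrix.dotProduct_mulVec, hHv]
      simp only [dotProduct_add, dotProduct_smul, smul_eq_mul]
      ring
    refine rule2 _ h1 s hs (fun y hy => ?_) j b hb ?_
    · show (ψ ᵥ* H - ψ) ⬝ᵥ y = 0
      rw [hdiff, hη s (Ne.symm hr.2) y hy, hθ s hsj y hy]; ring
    · show (ψ ᵥ* H - ψ) ⬝ᵥ b ≠ 0
      rw [hdiff, hη j (Ne.symm hr.1) b hb, hθb, mul_zero, zero_mul, zero_add, mul_one]
      exact mul_ne_zero (sub_ne_zero.2 hμ1) hψb
  -- all cross elements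
  have all : ∀ p r, p ≠ r → Cross D K p r := by
    intro p r hpr
    obtain ⟨σ, hσi, hσl⟩ : ∃ σ : Equiv.Perm (Fin t), σ i = p ∧ σ l = r := by
      refine ⟨Equiv.swap (Equiv.swap i p l) r * Equiv.swap i p, ?_, ?_⟩
      · rw [Equiv.Perm.mul_apply, Equiv.swap_apply_left]
        refine Equiv.swap_apply_of_ne_of_ne (fun e => hil ?_) hpr
        exact (Equiv.swap i p).injective (by rw [Equiv.swap_apply_left]; exact e)
      · rw [Equiv.Perm.mul_apply, Equiv.swap_apply_left]
    obtain ⟨h, hh, hstab⟩ := exists_perm hD σ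
    have hhK := hK h hstab
    intro c hc ξ hξ
    -- the preimage in the member `i`
    obtain ⟨c', hc', hce⟩ : ∃ c' ∈ D i, h.1 *ᵥ c' = c := by
      have hmap : (D i).map (Matrix.mulVecLin h.1) = D p := by
        refine Submodule.eq_of_le_of_finrank_eq ?_ ?_
        · rintro _ ⟨y, hy, rfl⟩
          rw [← hσi]; exact hh i y hy
        · rw [← LinearEquiv.finrank_eq (Submodule.equivMapOfInjective _
            (Matrix.mulVec_injective_iff_isUnit.2 ((Matrix.isUnit_iff_isUnit_det _).2 (by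
              rw [h.2]; exact isUnit_one))) (D i)), hD.finrank_eq, hD.finrank_eq]
      rw [← hmap] at hc
      obtain ⟨y, hy, rfl⟩ := hc
      exact ⟨y, hy, rfl⟩
    rw [← hce]
    refine (hcross c' hc' (ξ ᵥ* h.1) fun q hq y hy => ?_).conj hhK
    rw [← Matrix.dotProduct_mulVec]
    exact hξ (σ q) (fun e => hq (σ.injective (by rw [e, hσl]))) _ (hh q y hy)
  refine eq_top_of_full hn (eq_top_iff.2 ?_)
  rw [← hD.iSup_eq_top, iSup_le_iff]
  intro p b hb φ hφ
  obtain ⟨T, hT⟩ : ∃ T : Fin t → (V →ₗ[F] V), ∀ c, Decomp.Fam D c → ∀ r, T r (∑ i, c i) = c r := by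
    refine ⟨fun r => Classical.choose (Decomp.exists_glue hD
      fun i => if i = r then (D i).subtype else 0), fun c hc r => ?_⟩
    rw [Classical.choose_spec (Decomp.exists_glue hD
      fun i => if i = r then (D i).subtype else 0) c hc,
      Finset.sum_eq_single r (fun i _ hi => by rw [if_neg hi]; rfl)
        (fun h' => absurd (Finset.mem_univ r) h'), if_pos rfl]
    rfl
  set φr : Fin t → V := fun r => φ ᵥ* LinearMap.toMatrix' (T r) with hφr
  have hval : ∀ r v, φr r ⬝ᵥ v = φ ⬝ᵥ T r v := fun r v => by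
    rw [hφr, ← Matrix.dotProduct_mulVec, LinearMap.toMatrix'_mulVec]
  have hsum : φ = ∑ r, φr r := by
    refine dotProduct_eq _ _ fun v => ?_
    obtain ⟨c, hc, rfl⟩ := Decomp.exists_comp hD v
    rw [sum_dotProduct, dotProduct_sum]
    exact Finset.sum_congr rfl fun r _ => by rw [hval, hT c hc r]
  have hsupp : ∀ r, Sup D r (φr r) := fun r q hq y hy => by
    have hc : Decomp.Fam D (Pi.single q y) := fun i => by
      by_cases h : i = q
      · subst h; simpa using hy
      · simp [h]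
    have := hT _ hc r
    rw [Fintype.sum_pi_single'] at this
    rw [hval, this, Pi.single_eq_of_ne (Ne.symm hq), dotProduct_zero]
  rw [hsum]
  refine Finset.sum_induction _ (fun χ => HasTv K b χ) (fun _ _ => HasTv.add) (HasTv.zero b)
    fun r _ => ?_
  by_cases hrp : r = p
  · subst hrp
    refine hB r b hb _ (hsupp r) ?_
    have : φ ⬝ᵥ b = φr r ⬝ᵥ b := by
      conv_lhs => rw [hsum]
      rw [sum_dotProduct, Finset.sum_eq_single r (fun q _ hq => hsupp q r (Ne.symm hq) b hb)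
        (fun h' => absurd (Finset.mem_univ r) h')]
    rw [← this, hφ]
  · exact all p r (Ne.symm hrp) b hb _ (hsupp r)

/-- Members of size one. -/
theorem top_of_lines_of {D : Fin n → Submodule F (Fin n → F)} (hD : IsMDecomposition 1 D)
    (hmono : ∀ (L : Subgroup SL) (A : Mn), Monomial.HasMono L → Monomial.In L A → ¬ Monomial.Mono A →
      L = ⊤)
    (hK : ∀ g : SL, (Matrix.SpecialLinearGroup.toGL g : GL (Fin n) F) ∈ decompositionStabilizer D →
      g ∈ K)
    {g : SL} (hg : g ∈ K) (hgD : (Matrix.SpecialLinearGroup.toGL g : GL (Fin n) F) ∉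
      decompositionStabilizer D) : K = ⊤ := by
  classical
  have hne : ∀ i, ∃ b, b ∈ D i ∧ b ≠ 0 := fun i => by
    refine Submodule.exists_mem_ne_zero_of_ne_bot fun h => ?_
    have := hD.finrank_eq i
    rw [h, finrank_bot] at this
    omega
  choose v hv hv0 using hne
  set P : Mn := Matrix.of fun i j => v j i with hP
  have hPc : ∀ j, P *ᵥ Pi.single j 1 = v j := fun j => by
    rw [Matrix.mulVec_single_one]; rfl
  have hPu : IsUnit P := by
    rw [← Matrix.linearIndependent_cols_iff_isUnit]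
    exact hD.indep.linearIndependent D hv hv0
  have hPd := (Matrix.isUnit_iff_isUnit_det P).1 hPu
  have h1 : P * P⁻¹ = 1 := Matrix.mul_nonsing_inv P hPd
  have h2 : P⁻¹ * P = 1 := Matrix.nonsing_inv_mul P hPd
  let ψ : SL →* SL :=
    MonoidHom.mk' (fun y => ⟨P * y.1 * P⁻¹, by
      rw [Matrix.det_mul, Matrix.det_mul, mul_right_comm, ← Matrix.det_mul, h1, Matrix.det_one,
        one_mul, y.2]⟩) fun y z => Subtype.ext (by
      show P * (y.1 * z.1) * P⁻¹ = P * y.1 * P⁻¹ * (P * z.1 * P⁻¹)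
      rw [show P * y.1 * P⁻¹ * (P * z.1 * P⁻¹) = P * y.1 * (P⁻¹ * P) * z.1 * P⁻¹ by
        simp only [mul_assoc], h2, mul_one]
      simp only [mul_assoc])
  have hψv : ∀ y : SL, (ψ y).1 = P * y.1 * P⁻¹ := fun y => rfl
  have key : ∀ (y : SL) (j : Fin n), (ψ y).1 *ᵥ v j = P *ᵥ (y.1.col j) := fun y j => by
    rw [hψv, ← hPc, Matrix.mulVec_mulVec, mul_assoc, h2, mul_one, ← Matrix.mulVec_mulVec,
      Matrix.mulVec_single_one]
  have hspan : ∀ j x, x ∈ D j → ∃ r : F, r • v j = x := fun j x hx => by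
    obtain ⟨r, hr⟩ := (finrank_eq_one_iff_of_nonzero' (⟨v j, hv j⟩ : D j)
      (by simpa using hv0 j)).1 (hD.finrank_eq j) ⟨x, hx⟩
    exact ⟨r, congrArg Subtype.val hr⟩
  have mono_stab : ∀ y : SL, Monomial.Mono y.1 →
      (Matrix.SpecialLinearGroup.toGL (ψ y) : GL (Fin n) F) ∈ decompositionStabilizer D := by
    intro y hy
    refine Decomp.mem_stab_of hD fun j => ?_
    obtain ⟨i, hi⟩ := hy j
    refine ⟨i, fun x hx => ?_⟩
    obtain ⟨r, rfl⟩ := hspan j x hx
    show (ψ y).1 *ᵥ (r • v j) ∈ D i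
    rw [Matrix.mulVec_smul, key, show y.1.col j = y.1 i j • (Pi.single i 1 : Fin n → F) from
      funext fun k => by
        by_cases hk : k = i
        · subst hk; simp [Matrix.col_apply]
        · simp [Matrix.col_apply, hk, hi k hk],
      Matrix.mulVec_smul, hPc]
    exact (D i).smul_mem _ ((D i).smul_mem _ (hv i))
  have hN : Monomial.HasMono (K.comap ψ) := fun y hy => hK _ (mono_stab y hy)
  set y₀ : SL := ⟨P⁻¹ * g.1 * P, by
    rw [Matrix.det_mul, Matrix.det_mul, mul_right_comm, ← Matrix.det_mul, h2, Matrix.det_one,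
      one_mul, g.2]⟩ with hy₀
  have hy₀g : ψ y₀ = g := Subtype.ext (by
    rw [hψv]
    show P * (P⁻¹ * g.1 * P) * P⁻¹ = g.1
    rw [show P * (P⁻¹ * g.1 * P) * P⁻¹ = (P * P⁻¹) * g.1 * (P * P⁻¹) by simp only [mul_assoc], h1,
      one_mul, mul_one])
  have hy₁ : Monomial.In (K.comap ψ) y₀.1 := ⟨y₀, (by show ψ y₀ ∈ K; rw [hy₀g]; exact hg), rfl⟩
  have hy₂ : ¬ Monomial.Mono y₀.1 := fun h => hgD (hy₀g ▸ mono_stab y₀ h)
  have htop : K.comap ψ = ⊤ := hmono _ _ hN hy₁ hy₂
  refine eq_top_iff.2 fun z _ => ?_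
  let z' : SL := ⟨P⁻¹ * z.1 * P, by
    rw [Matrix.det_mul, Matrix.det_mul, mul_right_comm, ← Matrix.det_mul, h2, Matrix.det_one,
      one_mul, z.2]⟩
  have hz : ψ z' ∈ K := by
    have : z' ∈ K.comap ψ := by rw [htop]; exact Subgroup.mem_top _
    exact this
  have e : ψ z' = z := Subtype.ext (by
    show P * (P⁻¹ * z.1 * P) * P⁻¹ = z.1
    rw [show P * (P⁻¹ * z.1 * P) * P⁻¹ = (P * P⁻¹) * z.1 * (P * P⁻¹) by simp only [mul_assoc], h1,
      one_mul, mul_one])
  rwa [e] at hz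

/-- Members of size one, in dimension six or at least ten. -/
theorem top_of_lines {D : Fin n → Submodule F (Fin n → F)} (hD : IsMDecomposition 1 D)
    (hn : n = 6 ∨ 10 ≤ n) (hq : 5 ≤ Fintype.card F)
    (hK : ∀ g : SL, (Matrix.SpecialLinearGroup.toGL g : GL (Fin n) F) ∈ decompositionStabilizer D →
      g ∈ K)
    {g : SL} (hg : g ∈ K) (hgD : (Matrix.SpecialLinearGroup.toGL g : GL (Fin n) F) ∉
      decompositionStabilizer D) : K = ⊤ := by
  refine top_of_lines_of hD (fun L A hL hA hA' => ?_) hK hg hgD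
  rcases hn with hn | hn
  · subst hn; exact Monomial.top_of_not_mono_six hq hL hA hA'
  · exact Monomial.top_of_not_mono hq hL hn hA hA'

/-- The stabiliser of a decomposition is maximal in `SL_n`. -/
theorem sl_decomposition_maximal (hn : n = 6 ∨ 10 ≤ n) (hD : IsMDecomposition m D)
    (h1 : ¬ (m = 1 ∧ Fintype.card F ≤ 4)) (h2 : ¬ (m = 2 ∧ Fintype.card F = 2)) :
    IsMaximalIn (specialLinear (Fin n) F)
      (decompositionStabilizer D ⊓ specialLinear (Fin n) F) := by
  refine ⟨lt_of_le_of_ne inf_le_right fun e =>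
    CfsgLib.Aschbacher.not_le_decompositionStabilizer' hD (e ▸ inf_le_left), fun M hM hMG => ?_⟩
  by_cases hle : M ≤ decompositionStabilizer D
  · exact Or.inl (le_antisymm (le_inf hle hMG) hM)
  obtain ⟨g, hg, hgD⟩ := SetLike.not_le_iff_exists.1 hle
  obtain ⟨gs, hgs, hgs'⟩ := exists_sl_of hMG hg
  have eg : (Matrix.SpecialLinearGroup.toGL gs : GL (Fin n) F) = g := Units.ext hgs'
  refine Or.inr (le_antisymm hMG (specialLinear_le_of_top ?_))
  have hK : ∀ y : SL, (Matrix.SpecialLinearGroup.toGL y : GL (Fin n) F) ∈ decompositionStabilizer D →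
      y ∈ M.comap Matrix.SpecialLinearGroup.toGL := fun y hy => hM ⟨hy, Units.ext y.2⟩
  have htn : t * m = n := by
    have := CfsgLib.Aschbacher.mDecomposition_mul_eq hD
    rwa [Fintype.card_fin] at this
  rcases Nat.lt_or_ge m 2 with hm | hm
  · obtain rfl : m = 1 := by have := hD.pos; omega
    obtain rfl : t = n := by omega
    exact top_of_lines hD hn (by omega) hK hgs (eg.symm ▸ hgD)
  · obtain ⟨i, x, hx, hgx⟩ := Decomp.exists_moved hD hgD
    refine top_of_blocks hD (by omega) hm (fun e => Or.inl ⟨?_, ?_⟩) hK hgs hx (hgs'.symm ▸ hgx)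
    · have := Fintype.one_lt_card (α := F)
      omega
    · subst e; omega

end CfsgLib.MaxSub.DecompSL
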