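/-
Fixed-point-free elements of transitive groups.
-/
import Mathlib

set_option autoImplicit false
set_option linter.unusedSectionVars false
set_option linter.style.haveILetI false

namespace CfsgLib.MaxSub

open MulAction

variable {G Ω : Type*} [Group G] [Finite G] [MulAction G Ω] [Finite Ω] [IsPretransitive G Ω]

theorem pow_dvd_orbit {p k : ℕ} [Fact p.Prime] (hk : p ^ k ∣ Nat.card Ω) (P : Sylow p G) (w : Ω) :
    p ^ k ∣ Nat.card (orbit P w) := by
  have e1 : Nat.card (orbit P w) * Nat.card (stabilizer P w) = Nat.card P := by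
    rw [← Nat.card_prod]
    exact Nat.card_congr (orbitProdStabilizerEquivGroup P w)
  have e2 : Nat.card Ω * Nat.card (stabilizer G w) = Nat.card G := by
    rw [← Nat.card_prod]
    exact Nat.card_congr ((((Equiv.Set.univ Ω).symm.trans (Equiv.setCongr (orbit_eq_univ G w).symm)).prodCongr
      (Equiv.refl _)).trans (orbitProdStabilizerEquivGroup G w))
  obtain ⟨c, hc⟩ : Nat.card (stabilizer P w) ∣ Nat.card (stabilizer G w) := by
    rw [← Subgroup.card_map_of_injective (f := (P : Subgroup G).subtype) Subtype.val_injective]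
    refine Subgroup.card_dvd_of_le ?_
    rintro _ ⟨x, hx, rfl⟩
    exact hx
  have e3 : Nat.card Ω * c = (P : Subgroup G).index * Nat.card (orbit P w) := by
    have hpos : 0 < Nat.card (stabilizer P w) := Nat.card_pos
    refine Nat.eq_of_mul_eq_mul_right hpos ?_
    calc Nat.card Ω * c * Nat.card (stabilizer P w) = Nat.card Ω * Nat.card (stabilizer G w) := by rw [hc]; ring
      _ = Nat.card P * (P : Subgroup G).index := by rw [e2, Subgroup.card_mul_index]
      _ = _ := by rw [← e1]; ring
  have hcop : Nat.Coprime (p ^ k) (P : Subgroup G).index :=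
    Nat.Coprime.pow_left _ ((Nat.Prime.coprime_iff_not_dvd Fact.out).mpr P.not_dvd_index)
  exact hcop.dvd_of_dvd_mul_left (e3 ▸ hk.trans (dvd_mul_right _ _))

theorem exists_fpf_pow [FaithfulSMul G Ω] {p k : ℕ} (hp : p.Prime) (hk : 1 ≤ k) (hΩ : Nat.card Ω = p ^ k) :
    ∃ g : G, orderOf g = p ∧ ∀ ω : Ω, g • ω ≠ ω := by
  haveI := Fact.mk hp
  obtain ⟨P⟩ : Nonempty (Sylow p G) := inferInstance
  have horb : ∀ w : Ω, orbit P w = Set.univ := fun w => by
    refine Set.eq_univ_of_forall fun x => ?_
    have hd : p ^ k ∣ Nat.card (orbit P w) := pow_dvd_orbit (hΩ ▸ dvd_rfl) P w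
    have hle := Nat.le_of_dvd (by haveI : Nonempty (orbit P w) := ⟨⟨w, mem_orbit_self w⟩⟩; exact Nat.card_pos) hd
    have := Set.eq_of_subset_of_ncard_le (Set.subset_univ (orbit P w))
      (by rw [Set.ncard_univ, hΩ, ← Nat.card_coe_set_eq]; exact hle)
    rw [this]; trivial
  obtain ⟨w⟩ : Nonempty Ω := Finite.card_pos_iff.mp (hΩ ▸ pow_pos hp.pos k)
  have hpd : p ∣ Nat.card P := by
    have h1 : Nat.card (orbit P w) ∣ Nat.card P :=
      ⟨Nat.card (stabilizer P w), by
        rw [← Nat.card_prod]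
        exact (Nat.card_congr (orbitProdStabilizerEquivGroup P w)).symm⟩
    rw [horb w, Nat.card_univ, hΩ] at h1
    exact (dvd_pow_self p (by omega)).trans h1
  haveI : Nontrivial P := Finite.one_lt_card_iff_nontrivial.mp (hp.one_lt.trans_le (Nat.le_of_dvd Nat.card_pos hpd))
  haveI : Nontrivial (Subgroup.center P) := P.isPGroup'.center_nontrivial
  obtain ⟨n, hn, hcard⟩ := (P.isPGroup'.to_subgroup (Subgroup.center P)).nontrivial_iff_card.mp inferInstance
  obtain ⟨⟨⟨z, hzP⟩, hzc⟩, hz⟩ := exists_prime_orderOf_dvd_card' (G := Subgroup.center P) p (hcard ▸ dvd_pow_self p hn.ne')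
  rw [← Subgroup.orderOf_coe, ← Subgroup.orderOf_coe] at hz
  refine ⟨z, hz, fun x hx => ?_⟩
  refine hp.ne_one (hz.symm.trans (orderOf_eq_one_iff.mpr (eq_of_smul_eq_smul (α := Ω) fun y => ?_)))
  obtain ⟨⟨u, hu⟩, rfl⟩ : y ∈ orbit P x := horb x ▸ Set.mem_univ y
  have hc : u * z = z * u := congrArg Subtype.val (Subgroup.mem_center_iff.mp hzc ⟨u, hu⟩)
  show z • u • x = (1 : G) • u • x
  rw [one_smul, ← mul_smul, ← hc, mul_smul]
  exact congrArg (u • ·) hx

open Classical in
theorem exists_fpf_mul [FaithfulSMul G Ω] {p m : ℕ} (hp : p.Prime) (hm : 1 ≤ m) (hmp : m ≤ p) (hΩ : Nat.card Ω = m * p) :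
    ∃ g : G, orderOf g = p ∧ ∀ ω : Ω, g • ω ≠ ω := by
  rcases hmp.eq_or_lt with rfl | hlt
  · exact exists_fpf_pow hp (by norm_num : 1 ≤ 2) (by rw [hΩ, sq])
  haveI := Fact.mk hp
  obtain ⟨P⟩ : Nonempty (Sylow p G) := inferInstance
  haveI := Fintype.ofFinite Ω
  haveI := Fintype.ofFinite (P : Subgroup G)
  have horb : ∀ w : Ω, Nat.card (orbit P w) = p := by
    intro w
    haveI : Nonempty (orbit P w) := ⟨⟨w, mem_orbit_self w⟩⟩
    obtain ⟨i, hi⟩ := P.isPGroup'.card_orbit w
    have hd : p ∣ Nat.card (orbit P w) := by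
      simpa using pow_dvd_orbit (k := 1) (by rw [pow_one, hΩ]; exact dvd_mul_left p m) P w
    have hle : Nat.card (orbit P w) ≤ Nat.card Ω := Nat.card_le_card_of_injective _ Subtype.val_injective
    rw [hi] at hd hle ⊢
    rw [hΩ] at hle
    have hlt2 : p ^ i < p ^ 2 := lt_of_le_of_lt hle (by rw [sq]; exact Nat.mul_lt_mul_of_pos_right hlt hp.pos)
    have hi2 : i < 2 := (Nat.pow_lt_pow_iff_right hp.one_lt).mp hlt2
    have hi0 : i ≠ 0 := fun e => by rw [e, pow_zero, Nat.dvd_one] at hd; exact hp.ne_one hd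
    rw [show i = 1 by omega, pow_one]
  have hst : ∀ w : Ω, p * Nat.card (stabilizer P w) = Nat.card P := fun w => by
    refine (congrArg (· * Nat.card (stabilizer P w)) (horb w)).symm.trans ?_
    show Nat.card (orbit P w) * Nat.card (stabilizer P w) = Nat.card P
    rw [← Nat.card_prod]
    exact Nat.card_congr (orbitProdStabilizerEquivGroup P w)
  have hnorm : ∀ w : Ω, (stabilizer P w).Normal ∧ (stabilizer P w).index = p := fun w => by
    have hi : (stabilizer P w).index = p := by
      rw [MulAction.index_stabilizer, ← Nat.card_coe_set_eq, horb]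
    refine ⟨Subgroup.normal_of_index_eq_minFac_card ?_, hi⟩
    obtain ⟨e, he⟩ := P.isPGroup'.exists_card_eq
    rw [hi, he, Nat.pow_minFac ?_, hp.minFac_eq]
    intro e0
    have := hst w
    rw [he, e0, pow_zero, mul_eq_one] at this
    exact hp.ne_one this.1
  obtain ⟨⟨g, hgP⟩, hg⟩ : ∃ g : (P : Subgroup G), ∀ w : Ω, g • w ≠ w := by
    by_contra hc
    simp only [not_exists, not_forall, not_not] at hc
    -- double counting of the pairs (g, w) with g • w = w
    let f : ↥(P : Subgroup G) → ℕ := fun g => (Finset.univ.filter fun w : Ω => g • w = w).card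
    have hsum : p * ∑ g : (P : Subgroup G), f g = m * p * Nat.card P := by
      have h1 : ∑ g : (P : Subgroup G), f g = ∑ w : Ω, Nat.card (stabilizer P w) := by
        simp only [f, Finset.card_filter]
        rw [Finset.sum_comm]
        refine Finset.sum_congr rfl fun w _ => ?_
        rw [← Finset.card_filter, Nat.card_eq_fintype_card]
        exact (Fintype.card_subtype _).symm
      rw [h1, Finset.mul_sum, Finset.sum_congr rfl (fun w _ => hst w), Finset.sum_const, Finset.card_univ,
        ← Nat.card_eq_fintype_card, hΩ, smul_eq_mul]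
    have hf1 : f 1 = m * p := by
      simp only [f, one_smul, Finset.filter_true, Finset.card_univ, ← Nat.card_eq_fintype_card, hΩ]
    have hfg : ∀ g : (P : Subgroup G), p ≤ f g := by
      intro g
      obtain ⟨w, hw⟩ := hc g
      have hsub : ((orbit P w).toFinset : Finset Ω) ⊆ Finset.univ.filter fun x : Ω => g • x = x := by
        intro x hx
        obtain ⟨u, rfl⟩ := Set.mem_toFinset.mp hx
        simp only [Finset.mem_filter, Finset.mem_univ, true_and]
        have : u⁻¹ * g * u ∈ stabilizer P w := by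
          simpa using (hnorm w).1.conj_mem g hw u⁻¹
        rw [mem_stabilizer_iff, mul_smul, mul_smul, inv_smul_eq_iff] at this
        exact this
      calc p = (orbit P w).toFinset.card := by rw [Set.toFinset_card, ← Nat.card_eq_fintype_card, horb]
        _ ≤ f g := Finset.card_le_card hsub
    have hge : m * p + (Nat.card P - 1) * p ≤ ∑ g : (P : Subgroup G), f g := by
      have hsplit := Finset.add_sum_erase Finset.univ f (Finset.mem_univ (1 : (P : Subgroup G)))
      rw [hf1] at hsplit
      rw [← hsplit]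
      refine Nat.add_le_add_left ?_ _
      calc (Nat.card P - 1) * p = ∑ _g ∈ (Finset.univ.erase (1 : (P : Subgroup G))), p := by
            rw [Finset.sum_const, Finset.card_erase_of_mem (Finset.mem_univ _), Finset.card_univ,
              ← Nat.card_eq_fintype_card, smul_eq_mul]
        _ ≤ _ := Finset.sum_le_sum fun g _ => hfg g
    obtain ⟨N, hN⟩ : ∃ N, Nat.card (P : Subgroup G) = N + 1 := Nat.exists_eq_add_of_le' (Nat.card_pos (α := (P : Subgroup G)))
    have hs' : ∑ g : (P : Subgroup G), f g = m * Nat.card P := by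
      refine Nat.eq_of_mul_eq_mul_left hp.pos ?_
      rw [hsum]; ring
    rw [hs', hN, Nat.add_sub_cancel, mul_add, mul_one] at hge
    have hmp' : m < m * p := lt_mul_of_one_lt_right hm hp.one_lt
    have : m * N ≤ N * p := by rw [mul_comm N p]; exact Nat.mul_le_mul_right N hmp
    omega
  refine ⟨g, ?_, hg⟩
  have hpow : g ^ p = 1 := by
    refine eq_of_smul_eq_smul (α := Ω) fun w => ?_
    haveI := (hnorm w).1
    have := Subgroup.pow_index_mem (stabilizer P w) ⟨g, hgP⟩
    rw [(hnorm w).2] at this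
    rw [one_smul]
    exact this
  obtain ⟨w⟩ : Nonempty Ω := Finite.card_pos_iff.mp (hΩ ▸ Nat.mul_pos hm hp.pos)
  exact orderOf_eq_prime hpow fun e => hg w (by show g • w = w; rw [e, one_smul])

open Classical in
theorem derangement_bound [FaithfulSMul G Ω] (hn : 3 ≤ Nat.card Ω) :
    (((∃ g : G, g ≠ 1 ∧ ∃ ω : Ω, g • ω = ω) ∧ ∀ g : G, g ≠ 1 → Nat.card (fixedBy Ω g) ≤ 1) ∧
      Nat.card G = Nat.card Ω * (Nat.card Ω - 1) ∧
      Nat.card Ω * Nat.card {g : G // ∀ ω : Ω, g • ω ≠ ω} = Nat.card G) ∨
    Nat.card G < Nat.card Ω * Nat.card {g : G // ∀ ω : Ω, g • ω ≠ ω} := by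
  haveI := Fintype.ofFinite Ω
  haveI := Fintype.ofFinite G
  simp only [Nat.card_eq_fintype_card] at hn ⊢
  set n := Fintype.card Ω with hnd
  obtain ⟨w⟩ : Nonempty Ω := Fintype.card_pos_iff.mp (by omega)
  let f : G → ℕ := fun g => Fintype.card (fixedBy Ω g)
  have hs1 : ∑ g : G, f g = Fintype.card G := by
    haveI : Subsingleton (orbitRel.Quotient G Ω) := by
      refine ⟨fun a b => ?_⟩
      obtain ⟨x, rfl⟩ := Quotient.exists_rep a
      obtain ⟨y, rfl⟩ := Quotient.exists_rep b
      obtain ⟨g, rfl⟩ := exists_smul_eq G y x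
      exact Quotient.sound ⟨g, rfl⟩
    haveI : Unique (orbitRel.Quotient G Ω) := uniqueOfSubsingleton ⟦w⟧
    simp only [f]
    rw [sum_card_fixedBy_eq_card_orbits_mul_card_group G Ω, Fintype.card_unique, one_mul]
  obtain ⟨x, hxw⟩ : ∃ x : Ω, x ≠ w := by
    haveI : Nontrivial Ω := Fintype.one_lt_card_iff_nontrivial.mp (by omega)
    exact exists_ne w
  have hs2 : 2 * Fintype.card G ≤ ∑ g : G, f g * f g := by
    have he : ∀ g : G, Fintype.card (fixedBy (Ω × Ω) g) = f g * f g := fun g => by
      rw [← Fintype.card_prod]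
      exact Fintype.card_congr
        { toFun := fun z => (⟨z.1.1, congrArg Prod.fst z.2⟩, ⟨z.1.2, congrArg Prod.snd z.2⟩)
          invFun := fun z => ⟨(z.1.1, z.2.1), Prod.ext z.1.2 z.2.2⟩
          left_inv := fun z => rfl
          right_inv := fun z => rfl }
    rw [← Finset.sum_congr rfl (fun g _ => he g), sum_card_fixedBy_eq_card_orbits_mul_card_group G (Ω × Ω)]
    refine Nat.mul_le_mul_right _ ?_
    refine Fintype.one_lt_card_iff.mpr ⟨⟦(w, w)⟧, ⟦(w, x)⟧, fun e => hxw ?_⟩
    obtain ⟨g, hg⟩ := Quotient.exact e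
    have h1 : g • w = w := congrArg Prod.fst hg
    have h2 : g • x = w := congrArg Prod.snd hg
    exact smul_left_cancel g (h2.trans h1.symm)
  have hfle : ∀ g, f g ≤ n := fun g => Fintype.card_le_of_injective _ Subtype.val_injective
  set d := Fintype.card {g : G // ∀ ω : Ω, g • ω ≠ ω}
  have hf0 : ∀ g : G, (∀ ω : Ω, g • ω ≠ ω) ↔ f g = 0 := fun g => by
    simp only [f]
    rw [Fintype.card_eq_zero_iff]
    exact ⟨fun h => ⟨fun z => h z.1 z.2⟩, fun h ω hω => h.false ⟨ω, hω⟩⟩
  -- S is the deficit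
  have hterm : ∀ g : G, (n + 1) * f g = f g * f g + (if f g = 0 then 0 else n) + (if f g = 0 then 0 else (n - f g) * (f g - 1)) := by
    intro g
    split_ifs with h
    · rw [h]; simp
    · obtain ⟨a, ha⟩ := Nat.exists_eq_add_of_le (hfle g)
      obtain ⟨b, hb⟩ : ∃ b, f g = b + 1 := Nat.exists_eq_succ_of_ne_zero h
      rw [ha, hb, Nat.add_sub_cancel_left, Nat.add_sub_cancel]
      ring
  have hd : d + ∑ g : G, (if f g = 0 then 0 else 1) = Fintype.card G := by
    show Fintype.card {g : G // ∀ ω : Ω, g • ω ≠ ω} + _ = _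
    rw [Fintype.card_subtype, Finset.card_filter, ← Finset.sum_add_distrib, ← Finset.card_univ, Finset.card_eq_sum_ones]
    refine Finset.sum_congr rfl fun g _ => ?_
    simp only [hf0 g]
    split_ifs <;> rfl
  set S := ∑ g : G, (if f g = 0 then 0 else (n - f g) * (f g - 1))
  have hkey : (n + 1) * Fintype.card G = (∑ g : G, f g * f g) + n * ∑ g : G, (if f g = 0 then 0 else 1) + S := by
    rw [← hs1, Finset.mul_sum, Finset.sum_congr rfl (fun g _ => hterm g), Finset.sum_add_distrib, Finset.sum_add_distrib,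
      Finset.mul_sum]
    simp only [mul_ite, mul_zero, mul_one]
    rfl
  have hle : Fintype.card G + S ≤ n * d := by
    have : n * d + n * ∑ g : G, (if f g = 0 then 0 else 1) = n * Fintype.card G := by rw [← mul_add, hd]
    rw [add_mul, one_mul] at hkey
    omega
  rcases hle.lt_or_eq with hlt | heq
  · exact Or.inr (lt_of_le_of_lt (Nat.le_add_right _ _) hlt)
  by_cases hS : S = 0
  swap
  · exact Or.inr (by omega)
  rw [hS, add_zero] at heq
  left
  have hfix : ∀ g : G, g ≠ 1 → f g ≤ 1 := by
    intro g hg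
    by_contra hc
    have h := (Finset.sum_eq_zero_iff.mp hS) g (Finset.mem_univ g)
    rw [if_neg (by omega), mul_eq_zero] at h
    have hfn : f g = n := by rcases h with h | h <;> have := hfle g <;> omega
    refine hg (eq_of_smul_eq_smul (α := Ω) fun y => ?_)
    rw [one_smul]
    have hb : Function.Bijective (Subtype.val : fixedBy Ω g → Ω) :=
      (Fintype.bijective_iff_injective_and_card _).mpr ⟨Subtype.val_injective, hfn⟩
    obtain ⟨⟨z, hz⟩, rfl⟩ := hb.2 y
    exact hz
  have hf1 : f 1 = n := Fintype.card_congr ((Equiv.setCongr (fixedBy_one_eq_univ Ω G)).trans (Equiv.Set.univ Ω))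
  have hsum : n + (Fintype.card G - 1 - d) = Fintype.card G := by
    have h1 : ∀ g ∈ Finset.univ.erase (1 : G), f g = if f g = 0 then 0 else 1 := fun g hg => by
      have := hfix g (Finset.ne_of_mem_erase hg)
      split_ifs <;> omega
    have h2 := Finset.add_sum_erase Finset.univ (fun g => if f g = 0 then 0 else 1) (Finset.mem_univ (1 : G))
    rw [if_neg (by omega)] at h2
    have hs1' := hs1
    rw [← Finset.add_sum_erase _ _ (Finset.mem_univ (1 : G)), hf1, Finset.sum_congr rfl h1] at hs1'
    omega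
  have hcard : Fintype.card G = n * (n - 1) := by
    have h1 := Finset.single_le_sum (f := fun g => if f g = 0 then 0 else 1) (fun g _ => Nat.zero_le _) (Finset.mem_univ (1 : G))
    rw [if_neg (by omega)] at h1
    have : d = n - 1 := by omega
    rw [← this]; exact heq
  refine ⟨⟨?_, fun g hg => hfix g hg⟩, hcard, heq.symm⟩
  by_contra hc
  simp only [not_exists, not_and] at hc
  have hinj : Function.Injective (fun g : G => g • w) := fun g h e => by
    by_contra hne
    exact hc (h⁻¹ * g) (fun e' => hne (inv_mul_eq_one.mp e').symm) w (by rw [mul_smul, show g • w = h • w from e, inv_smul_smul])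
  have hG := Fintype.card_le_of_injective _ hinj
  rw [hcard, ← hnd] at hG
  have : n * 2 ≤ n * (n - 1) := Nat.mul_le_mul_left _ (by omega)
  omega

end CfsgLib.MaxSub
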