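/-
Perfect groups with soluble maximal subgroups of large derived length: special linear groups modulo powers of five.
-/
import Mathlib

set_option autoImplicit false
set_option linter.style.haveILetI false
set_option linter.unusedSectionVars false

namespace CfsgLib.MaxSub

open Matrix Polynomial
open scoped commutatorElement

variable {R : Type*} [CommRing R]

/-- Upper transvection. -/
def upR (x : R) : SpecialLinearGroup (Fin 2) R := ⟨!![1, x; 0, 1], by simp [det_fin_two]⟩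

/-- Lower transvection. -/
def loR (x : R) : SpecialLinearGroup (Fin 2) R := ⟨!![1, 0; x, 1], by simp [det_fin_two]⟩

/-- Diagonal element. -/
def dgR (t : Rˣ) : SpecialLinearGroup (Fin 2) R := ⟨!![(t : R), 0; 0, (↑t⁻¹ : R)], by simp [det_fin_two]⟩

theorem upR_mul (x y : R) : upR x * upR y = upR (x + y) :=
  Subtype.ext (by
    show (upR x).1 * (upR y).1 = (upR (x + y)).1
    ext i j; fin_cases i <;> fin_cases j <;> simp [upR, Matrix.mul_apply, add_comm])

theorem loR_mul (x y : R) : loR x * loR y = loR (x + y) :=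
  Subtype.ext (by
    show (loR x).1 * (loR y).1 = (loR (x + y)).1
    ext i j; fin_cases i <;> fin_cases j <;> simp [loR, Matrix.mul_apply])

theorem upR_zero : upR (0 : R) = 1 :=
  Subtype.ext (by ext i j; fin_cases i <;> fin_cases j <;> simp [upR])

theorem loR_zero : loR (0 : R) = 1 :=
  Subtype.ext (by ext i j; fin_cases i <;> fin_cases j <;> simp [loR])

theorem upR_inv (x : R) : (upR x)⁻¹ = upR (-x) := inv_eq_of_mul_eq_one_right (by rw [upR_mul, add_neg_cancel, upR_zero])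

theorem loR_inv (x : R) : (loR x)⁻¹ = loR (-x) := inv_eq_of_mul_eq_one_right (by rw [loR_mul, add_neg_cancel, loR_zero])

theorem loR_pow (x : R) (n : ℕ) : loR x ^ n = loR ((n : R) * x) := by
  induction n with
  | zero => rw [pow_zero, Nat.cast_zero, zero_mul, loR_zero]
  | succ n ih => rw [pow_succ, ih, loR_mul, Nat.cast_succ, add_mul, one_mul]

theorem dgR_conj_up (t : Rˣ) (x : R) : dgR t * upR x = upR ((t : R) * t * x) * dgR t :=
  Subtype.ext (by
    show (dgR t).1 * (upR x).1 = (upR ((t : R) * t * x)).1 * (dgR t).1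
    ext i j
    fin_cases i <;> fin_cases j <;>
      simp [upR, dgR, Matrix.mul_apply, mul_assoc, mul_comm x, mul_left_comm _ x])

theorem dgR_conj_lo (t : Rˣ) (x : R) : dgR t * loR x = loR ((↑t⁻¹ : R) * ↑t⁻¹ * x) * dgR t :=
  Subtype.ext (by
    show (dgR t).1 * (loR x).1 = (loR ((↑t⁻¹ : R) * ↑t⁻¹ * x)).1 * (dgR t).1
    ext i j
    fin_cases i <;> fin_cases j <;>
      simp [loR, dgR, Matrix.mul_apply, mul_assoc, mul_comm x, mul_left_comm _ x])

theorem comm_dg_up (t : Rˣ) (x : R) : ⁅dgR t, upR x⁆ = upR (((t : R) * t - 1) * x) := by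
  rw [commutatorElement_def, dgR_conj_up, mul_inv_cancel_right, upR_inv, upR_mul]
  congr 1; ring

theorem comm_dg_lo (t : Rˣ) (x : R) : ⁅dgR t, loR x⁆ = loR (((↑t⁻¹ : R) * ↑t⁻¹ - 1) * x) := by
  rw [commutatorElement_def, dgR_conj_lo, mul_inv_cancel_right, loR_inv, loR_mul]
  congr 1; ring

theorem comm_up_lo (x y : R) (u : Rˣ) (hu : (u : R) = 1 + x * y + x * y * (x * y)) :
    ⁅upR x, loR y⁆ = loR (x * y * y * ↑u⁻¹) * dgR u * upR (-(x * x * y) * ↑u⁻¹) := by
  rw [commutatorElement_def, upR_inv, loR_inv]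
  have h : (↑u⁻¹ : R) * (1 + x * y + x * y * (x * y)) = 1 := by rw [← hu]; exact u.inv_mul
  refine Subtype.ext ?_
  show (upR x).1 * (loR y).1 * (upR (-x)).1 * (loR (-y)).1 =
    (loR (x * y * y * ↑u⁻¹)).1 * (dgR u).1 * (upR (-(x * x * y) * ↑u⁻¹)).1
  ext i j
  fin_cases i <;> fin_cases j <;> simp [upR, loR, dgR, Matrix.mul_apply, hu]
  · ring
  · linear_combination (x * x * y) * h
  · linear_combination (-(x * y * y)) * h
  · linear_combination (x * y - 1 + x * x * x * y * y * y * (↑u⁻¹ : R)) * h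

theorem eq_up_lo_up (g : SpecialLinearGroup (Fin 2) R) (c' : Rˣ) (hc : (c' : R) = g.1 1 0) :
    g = upR ((g.1 0 0 - 1) * ↑c'⁻¹) * loR (g.1 1 0) * upR ((g.1 1 1 - 1) * ↑c'⁻¹) := by
  have hd : g.1 0 0 * g.1 1 1 - g.1 0 1 * g.1 1 0 = 1 := by rw [← det_fin_two]; exact g.2
  have h : (↑c'⁻¹ : R) * g.1 1 0 = 1 := by rw [← hc]; exact c'.inv_mul
  refine Subtype.ext ?_
  show g.1 = (upR ((g.1 0 0 - 1) * ↑c'⁻¹)).1 * (loR (g.1 1 0)).1 * (upR ((g.1 1 1 - 1) * ↑c'⁻¹)).1
  ext i j
  fin_cases i <;> fin_cases j <;> simp [upR, loR, Matrix.mul_apply]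
  · linear_combination (1 - g.1 0 0) * h
  · linear_combination (-g.1 0 1) * h - (↑c'⁻¹ : R) * hd - (↑c'⁻¹ : R) * (g.1 0 0 - 1) * (g.1 1 1 - 1) * h
  · linear_combination (1 - g.1 1 1) * h

theorem pow_five (i : ℕ) (hi : 1 ≤ i) (X : Matrix (Fin 2) (Fin 2) R) :
    ∃ Y : Matrix (Fin 2) (Fin 2) R, (1 + ((5 : R) ^ i) • X) ^ 5 = 1 + ((5 : R) ^ (i + 1)) • Y := by
  obtain ⟨j, hj⟩ : ∃ j, 5 * i = i + 1 + j := ⟨4 * i - 1, by omega⟩
  set e : R := (5 : R) ^ i with he
  let p : R[X] := Polynomial.X + Polynomial.C (2 * e) * Polynomial.X ^ 2 + Polynomial.C (2 * e ^ 2) * Polynomial.X ^ 3 +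
    Polynomial.C (e ^ 3) * Polynomial.X ^ 4 + Polynomial.C ((5 : R) ^ j) * Polynomial.X ^ 5
  refine ⟨Polynomial.aeval X p, ?_⟩
  have key : (1 + Polynomial.C e * Polynomial.X) ^ 5 = 1 + Polynomial.C (5 * e) * p := by
    have h5 : Polynomial.C (e ^ 5) = Polynomial.C (5 * e) * Polynomial.C ((5 : R) ^ j) := by
      rw [← map_mul, he, ← pow_succ', ← pow_mul, ← pow_add, show i * 5 = i + 1 + j by omega]
    simp only [p, map_mul, map_pow, map_ofNat] at h5 ⊢
    linear_combination (Polynomial.X ^ 5) * h5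
  have h := congrArg (Polynomial.aeval X) key
  simp only [map_pow, map_add, map_one, map_mul, Polynomial.aeval_C, Polynomial.aeval_X] at h
  rw [Algebra.algebraMap_eq_smul_one, Algebra.algebraMap_eq_smul_one, smul_mul_assoc, smul_mul_assoc, one_mul, one_mul] at h
  rw [h, pow_succ, ← he, mul_comm, mul_smul]
  simp only [smul_mul_assoc, one_mul, Matrix.smul_mul]

section five

variable (k : ℕ)

/-- The integers modulo a power of five. -/
abbrev R5 : Type := ZMod (5 ^ (k + 1))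

/-- Reduction modulo five. -/
def red : R5 k →+* ZMod 5 := ZMod.castHom (dvd_pow_self 5 (Nat.succ_ne_zero k)) (ZMod 5)

theorem isUnit_of_red {c : R5 k} (h : red k c ≠ 0) : IsUnit c := by
  haveI : NeZero (5 ^ (k + 1)) := ⟨pow_ne_zero _ (by norm_num)⟩
  rw [← ZMod.natCast_zmod_val c] at h ⊢
  rw [map_natCast, Ne, ZMod.natCast_eq_zero_iff] at h
  rw [ZMod.isUnit_iff_coprime]
  exact Nat.Coprime.pow_right _ ((Nat.Prime.coprime_iff_not_dvd (by norm_num)).mpr h).symm

theorem mul_five_of_red {c : R5 k} (h : red k c = 0) : ∃ d, c = 5 * d := by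
  haveI : NeZero (5 ^ (k + 1)) := ⟨pow_ne_zero _ (by norm_num)⟩
  rw [← ZMod.natCast_zmod_val c] at h ⊢
  rw [map_natCast, ZMod.natCast_eq_zero_iff] at h
  obtain ⟨d, hd⟩ := h
  exact ⟨(d : R5 k), by rw [hd]; push_cast; ring⟩

/-- Matrices which are upper triangular modulo five. -/
def borel5 : Subgroup (SpecialLinearGroup (Fin 2) (R5 k)) where
  carrier := {g | red k (g.1 1 0) = 0}
  one_mem' := by simp
  mul_mem' := fun {g h} hg hh => by
    show red k ((g * h).1 1 0) = 0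
    show red k ((g.1 * h.1) 1 0) = 0
    rw [Matrix.mul_apply, Fin.sum_univ_two, map_add, map_mul, map_mul,
      show red k (g.1 1 0) = 0 from hg, show red k (h.1 1 0) = 0 from hh, zero_mul, mul_zero, add_zero]
  inv_mem' := fun {g} hg => by
    show red k ((g⁻¹).1 1 0) = 0
    show red k (Matrix.adjugate g.1 1 0) = 0
    rw [Matrix.adjugate_fin_two]
    simp [show red k (g.1 1 0) = 0 from hg]

theorem closure_eq_top {Y : Subgroup (SpecialLinearGroup (Fin 2) (R5 k))}
    (hup : ∀ x, upR x ∈ Y) (hlo : ∀ x, loR x ∈ Y) : Y = ⊤ := by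
  refine eq_top_iff.mpr fun g _ => ?_
  by_cases hc : red k (g.1 1 0) = 0
  · have ha : red k (g.1 0 0) ≠ 0 := fun ha => by
      have := congrArg (red k) g.2
      rw [det_fin_two, map_sub, map_mul, map_mul, map_one, hc, ha, zero_mul, mul_zero, sub_zero] at this
      exact absurd this (by decide)
    have hc' : red k ((loR 1 * g).1 1 0) ≠ 0 := by
      show red k (((loR (1 : R5 k)).1 * g.1) 1 0) ≠ 0
      rw [Matrix.mul_apply, Fin.sum_univ_two]
      simpa [loR, hc] using ha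
    obtain ⟨c', hc''⟩ := isUnit_of_red k hc'
    have h : loR 1 * g ∈ Y := by
      rw [eq_up_lo_up _ c' hc'']
      exact mul_mem (mul_mem (hup _) (hlo _)) (hup _)
    simpa using mul_mem (inv_mem (hlo 1)) h
  · obtain ⟨c', hc''⟩ := isUnit_of_red k hc
    rw [eq_up_lo_up _ c' hc'']
    exact mul_mem (mul_mem (hup _) (hlo _)) (hup _)

theorem sl2_five_perfect : commutator (SpecialLinearGroup (Fin 2) (R5 k)) = ⊤ := by
  obtain ⟨t, ht⟩ : IsUnit (2 : R5 k) := isUnit_of_red k (by rw [map_ofNat]; decide)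
  obtain ⟨u, hu⟩ : IsUnit ((t : R5 k) * t - 1) := isUnit_of_red k (by rw [map_sub, map_mul, ht, map_ofNat, map_one]; decide)
  obtain ⟨v, hv⟩ : IsUnit ((↑t⁻¹ : R5 k) * ↑t⁻¹ - 1) := isUnit_of_red k (fun e => by
    have h : red k ((t : R5 k) * t * ((↑t⁻¹ : R5 k) * ↑t⁻¹ - 1)) = 0 := by rw [map_mul, e, mul_zero]
    rw [mul_sub, mul_one, mul_mul_mul_comm, Units.mul_inv, one_mul, map_sub, map_one, map_mul, ht, map_ofNat] at h
    exact absurd h (by decide))
  refine closure_eq_top k (fun x => ?_) (fun x => ?_)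
  · rw [show upR x = ⁅dgR t, upR ((↑u⁻¹ : R5 k) * x)⁆ by rw [comm_dg_up, ← hu, Units.mul_inv_cancel_left]]
    exact Subgroup.commutator_mem_commutator (Subgroup.mem_top _) (Subgroup.mem_top _)
  · rw [show loR x = ⁅dgR t, loR ((↑v⁻¹ : R5 k) * x)⁆ by rw [comm_dg_lo, ← hv, Units.mul_inv_cancel_left]]
    exact Subgroup.commutator_mem_commutator (Subgroup.mem_top _) (Subgroup.mem_top _)

theorem borel5_isCoatom : IsCoatom (borel5 k) := by
  refine ⟨fun e => ?_, fun Y hY => ?_⟩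
  · have h : red k ((loR (1 : R5 k)).1 1 0) = 0 := (e ▸ Subgroup.mem_top _ : loR (1 : R5 k) ∈ borel5 k)
    simp [loR] at h
    exact absurd h (by decide)
  · have hup : ∀ x, upR x ∈ Y := fun x => hY.le (show red k ((upR x).1 1 0) = 0 by simp [upR])
    obtain ⟨g, hg, hgB⟩ := SetLike.exists_of_lt hY
    obtain ⟨c', hc'⟩ := isUnit_of_red k (show red k (g.1 1 0) ≠ 0 from hgB)
    have hc : loR (g.1 1 0) ∈ Y := by
      have h := eq_up_lo_up g c' hc'
      have h' : loR (g.1 1 0) = (upR ((g.1 0 0 - 1) * ↑c'⁻¹))⁻¹ * g * (upR ((g.1 1 1 - 1) * ↑c'⁻¹))⁻¹ := by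
        conv_rhs => arg 1; arg 2; rw [h]
        group
      rw [h']
      exact mul_mem (mul_mem (inv_mem (hup _)) hg) (inv_mem (hup _))
    refine closure_eq_top k hup fun x => ?_
    haveI : NeZero (5 ^ (k + 1)) := ⟨pow_ne_zero _ (by norm_num)⟩
    have h := pow_mem hc (x * ↑c'⁻¹).val
    rwa [loR_pow, ZMod.natCast_zmod_val, ← hc', Units.inv_mul_cancel_right] at h

theorem borel5_solvable : Group.IsSolvable (borel5 k) := by
  haveI : NeZero (5 ^ (k + 1)) := ⟨pow_ne_zero _ (by norm_num)⟩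
  let φ : borel5 k →* (ZMod 5)ˣ := MonoidHom.toHomUnits
    { toFun := fun g => red k ((g : SpecialLinearGroup (Fin 2) (R5 k)).1 0 0)
      map_one' := by simp
      map_mul' := fun g h => by
        show red k (((g : SpecialLinearGroup (Fin 2) (R5 k)).1 * (h : SpecialLinearGroup (Fin 2) (R5 k)).1) 0 0) = _
        rw [Matrix.mul_apply, Fin.sum_univ_two, map_add, map_mul, map_mul,
          show red k ((h : SpecialLinearGroup (Fin 2) (R5 k)).1 1 0) = 0 from h.2, mul_zero, add_zero] }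
  have hent : ∀ g : φ.ker, red k (((g : borel5 k) : SpecialLinearGroup (Fin 2) (R5 k)).1 0 0) = 1 ∧
      red k (((g : borel5 k) : SpecialLinearGroup (Fin 2) (R5 k)).1 1 1) = 1 := fun g => by
    have h1 : red k (((g : borel5 k) : SpecialLinearGroup (Fin 2) (R5 k)).1 0 0) = 1 :=
      congrArg Units.val (MonoidHom.mem_ker.mp g.2)
    have h := congrArg (red k) ((g : borel5 k) : SpecialLinearGroup (Fin 2) (R5 k)).2
    rw [det_fin_two, map_sub, map_mul, map_mul, map_one, h1, one_mul,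
      show red k (((g : borel5 k) : SpecialLinearGroup (Fin 2) (R5 k)).1 1 0) = 0 from (g : borel5 k).2, mul_zero, sub_zero] at h
    exact ⟨h1, h⟩
  let ψ : φ.ker →* Multiplicative (ZMod 5) := MonoidHom.mk'
    (fun g => Multiplicative.ofAdd (red k (((g : borel5 k) : SpecialLinearGroup (Fin 2) (R5 k)).1 0 1)))
    fun g h => by
      rw [← ofAdd_add]
      congr 1
      show red k ((((g : borel5 k) : SpecialLinearGroup (Fin 2) (R5 k)).1 *
        ((h : borel5 k) : SpecialLinearGroup (Fin 2) (R5 k)).1) 0 1) = _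
      rw [Matrix.mul_apply, Fin.sum_univ_two, map_add,
        map_mul, map_mul, (hent g).1, (hent h).2, one_mul, mul_one, add_comm]
  haveI : Fact (Nat.Prime 5) := ⟨by norm_num⟩
  haveI : Finite (SpecialLinearGroup (Fin 2) (R5 k)) := Subtype.finite
  have hp : IsPGroup 5 ψ.ker := by
    intro g
    refine ⟨k, ?_⟩
    set G0 : SpecialLinearGroup (Fin 2) (R5 k) := (((g : φ.ker) : borel5 k) : SpecialLinearGroup (Fin 2) (R5 k)) with hG0
    have hb : red k (G0.1 0 1) = 0 := congrArg Multiplicative.toAdd (MonoidHom.mem_ker.mp g.2)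
    obtain ⟨a, ha⟩ := mul_five_of_red k (c := G0.1 0 0 - 1) (by rw [map_sub, (hent g).1, map_one, sub_self])
    obtain ⟨d, hd⟩ := mul_five_of_red k (c := G0.1 1 1 - 1) (by rw [map_sub, (hent g).2, map_one, sub_self])
    obtain ⟨b, hb'⟩ := mul_five_of_red k hb
    obtain ⟨c, hc⟩ := mul_five_of_red k (show red k (G0.1 1 0) = 0 from ((g : φ.ker) : borel5 k).2)
    have key : ∀ n : ℕ, ∃ Y : Matrix (Fin 2) (Fin 2) (R5 k), (G0 ^ 5 ^ n).1 = 1 + ((5 : R5 k) ^ (n + 1)) • Y := by
      intro n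
      induction n with
      | zero =>
        refine ⟨!![a, b; c, d], ?_⟩
        rw [pow_zero, pow_one, zero_add, pow_one]
        ext i j
        fin_cases i <;> fin_cases j <;> simp [← ha, ← hb', ← hc, ← hd]
      | succ n ih =>
        obtain ⟨Y, hY⟩ := ih
        obtain ⟨Z, hZ⟩ := pow_five (n + 1) (by omega) Y
        refine ⟨Z, ?_⟩
        show (G0 ^ (5 ^ n * 5)).1 = _
        rw [pow_mul]
        show (G0 ^ 5 ^ n).1 ^ 5 = _
        rw [hY, hZ]
    obtain ⟨Y, hY⟩ := key k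
    have h0 : (5 : R5 k) ^ (k + 1) = 0 := by
      have := ZMod.natCast_self (5 ^ (k + 1))
      push_cast at this
      exact this
    refine Subtype.ext (Subtype.ext (Subtype.ext (Subtype.ext ?_)))
    rw [h0, zero_smul, add_zero] at hY
    exact hY
  haveI := hp.isNilpotent
  haveI h1 : Group.IsSolvable φ.ker := Group.isSolvable_of_ker_le_range ψ.ker.subtype ψ (le_of_eq (Subgroup.range_subtype _).symm)
  exact Group.isSolvable_of_ker_le_range φ.ker.subtype φ (le_of_eq (Subgroup.range_subtype _).symm)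

theorem derived_mem (n : ℕ) :
    (∀ x, upR ((5 : R5 k) ^ 2 ^ n * x) ∈ (derivedSeries (borel5 k) n).map (borel5 k).subtype) ∧
      (∀ x, loR ((5 : R5 k) ^ 2 ^ n * x) ∈ (derivedSeries (borel5 k) n).map (borel5 k).subtype) ∧
      ∃ t w : (R5 k)ˣ, (t : R5 k) - 1 = 5 ^ 2 ^ n * w ∧
        dgR t ∈ (derivedSeries (borel5 k) n).map (borel5 k).subtype := by
  have hred5 : red k 5 = 0 := by rw [map_ofNat]; decide
  induction n with
  | zero =>
    simp only [derivedSeries_zero, ← MonoidHom.range_eq_map, Subgroup.range_subtype, pow_zero, pow_one]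
    refine ⟨fun x => by show red k _ = 0; simp [upR], fun x => ?_, ?_⟩
    · show red k ((loR (5 * x)).1 1 0) = 0
      simp [loR, hred5]
    · obtain ⟨t, ht⟩ : IsUnit (1 + 5 : R5 k) := isUnit_of_red k (by rw [map_add, map_one, hred5, add_zero]; decide)
      exact ⟨t, 1, by rw [ht, Units.val_one]; ring, by show red k _ = 0; simp [dgR]⟩
  | succ n ih =>
    obtain ⟨hup, hlo, t, w, htw, ht⟩ := ih
    set D := (derivedSeries (borel5 k) n).map (borel5 k).subtype
    set a : R5 k := 5 ^ 2 ^ n with ha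
    have hD' : (derivedSeries (borel5 k) (n + 1)).map (borel5 k).subtype = ⁅D, D⁆ := by
      rw [derivedSeries_succ, Subgroup.map_commutator]
    rw [hD', show (5 : R5 k) ^ 2 ^ (n + 1) = a * a by rw [ha, ← pow_add, show 2 ^ (n + 1) = 2 ^ n + 2 ^ n by omega]]
    have hra : red k a = 0 := by rw [ha, map_pow, hred5, zero_pow (by positivity)]
    have hrt : red k (t : R5 k) = 1 := by
      have h := congrArg (red k) htw
      rw [map_sub, map_one, map_mul, hra, zero_mul, sub_eq_zero] at h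
      exact h
    have hrti : red k (↑t⁻¹ : R5 k) = 1 := by
      have h := congrArg (red k) t.mul_inv
      rwa [map_mul, hrt, one_mul, map_one] at h
    obtain ⟨e, he⟩ : IsUnit ((w : R5 k) * ((t : R5 k) + 1)) :=
      w.isUnit.mul (isUnit_of_red k (by rw [map_add, hrt, map_one]; decide))
    obtain ⟨e', he'⟩ : IsUnit (-(↑t⁻¹ : R5 k) * ↑t⁻¹ * ((w : R5 k) * ((t : R5 k) + 1))) :=
      ((t⁻¹).isUnit.neg.mul (t⁻¹).isUnit).mul (w.isUnit.mul (isUnit_of_red k (by rw [map_add, hrt, map_one]; decide)))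
    have up' : ∀ x, upR (a * a * x) ∈ ⁅D, D⁆ := fun x => by
      have h := Subgroup.commutator_mem_commutator ht (hup (↑e⁻¹ * x))
      rw [comm_dg_up] at h
      have he1 : ((t : R5 k) * t - 1) = a * e := by rw [he, ← mul_assoc, ← htw]; ring
      rwa [he1, show a * (e : R5 k) * (a * (↑e⁻¹ * x)) = a * a * (((e : R5 k) * ↑e⁻¹) * x) by ring, Units.mul_inv,
        one_mul] at h
    have lo' : ∀ x, loR (a * a * x) ∈ ⁅D, D⁆ := fun x => by
      have h := Subgroup.commutator_mem_commutator ht (hlo (↑e'⁻¹ * x))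
      rw [comm_dg_lo] at h
      have he1 : ((↑t⁻¹ : R5 k) * ↑t⁻¹ - 1) = a * e' := by
        rw [he', show a * (-(↑t⁻¹ : R5 k) * ↑t⁻¹ * ((w : R5 k) * ((t : R5 k) + 1))) =
          -(↑t⁻¹ : R5 k) * ↑t⁻¹ * ((a * w) * ((t : R5 k) + 1)) by ring, ← htw]
        linear_combination (((t : R5 k) * ↑t⁻¹) + 1) * t.mul_inv
      rwa [he1, show a * (e' : R5 k) * (a * (↑e'⁻¹ * x)) = a * a * (((e' : R5 k) * ↑e'⁻¹) * x) by ring, Units.mul_inv,
        one_mul] at h
    refine ⟨up', lo', ?_⟩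
    obtain ⟨u, hu⟩ : IsUnit (1 + a * a + a * a * (a * a)) := isUnit_of_red k (by simp [hra]; decide)
    obtain ⟨w', hw'⟩ : IsUnit (1 + a * a) := isUnit_of_red k (by simp [hra]; decide)
    refine ⟨u, w', by rw [hu, hw']; ring, ?_⟩
    have h := Subgroup.commutator_mem_commutator (hup 1) (hlo 1)
    rw [mul_one, comm_up_lo a a u hu, show a * a * a * (↑u⁻¹ : R5 k) = a * a * (a * ↑u⁻¹) by ring,
      show -(a * a * a) * (↑u⁻¹ : R5 k) = a * a * (-a * ↑u⁻¹) by ring] at h
    have := mul_mem (mul_mem (inv_mem (lo' (a * ↑u⁻¹))) h) (inv_mem (up' (-a * ↑u⁻¹)))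
    rwa [← mul_assoc, inv_mul_cancel_left, mul_inv_cancel_right] at this

theorem perfect_solvable_maximal (d : ℕ) :
    ∃ (G : Type) (_ : Group G) (_ : Finite G) (H : Subgroup G), commutator G = ⊤ ∧ IsCoatom H ∧ Group.IsSolvable H ∧
      derivedSeries H d ≠ ⊥ := by
  haveI : NeZero (5 ^ (2 ^ d + 1)) := ⟨pow_ne_zero _ (by norm_num)⟩
  refine ⟨SpecialLinearGroup (Fin 2) (R5 (2 ^ d)), inferInstance, Subtype.finite, borel5 (2 ^ d), sl2_five_perfect _,
    borel5_isCoatom _, borel5_solvable _, fun e => ?_⟩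
  have h := (derived_mem (2 ^ d) d).1 1
  rw [e, Subgroup.map_bot, Subgroup.mem_bot, mul_one] at h
  have h' : (5 : R5 (2 ^ d)) ^ 2 ^ d = 0 := by
    have := congrArg (fun g : SpecialLinearGroup (Fin 2) (R5 (2 ^ d)) => g.1 0 1) h
    simpa [upR] using this
  have h2 : ((5 ^ 2 ^ d : ℕ) : R5 (2 ^ d)) = 0 := by push_cast; exact h'
  rw [ZMod.natCast_eq_zero_iff, Nat.pow_dvd_pow_iff_le_right (by norm_num)] at h2
  omega

end five

end CfsgLib.MaxSub
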