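/-
The stabiliser of a partition into blocks of equal size is maximal.
-/
import Mathlib

set_option autoImplicit false
set_option linter.style.haveILetI false
set_option linter.unusedSectionVars false

namespace CfsgLib.MaxSub

open Equiv MulAction
open scoped Pointwise

variable {Ω ι : Type*} [Finite Ω]

/-- Permutations preserving the fibres of `f`. -/
def fibreGroup (f : Ω → ι) : Subgroup (Perm Ω) where
  carrier := {g | ∀ x y : Ω, f x = f y ↔ f (g x) = f (g y)}
  one_mem' := fun _ _ => Iff.rfl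
  mul_mem' := fun {a b} ha hb x y => (hb x y).trans (ha (b x) (b y))
  inv_mem' := fun {a} ha x y => by
    have h := ha (a⁻¹ x) (a⁻¹ y)
    rw [Perm.inv_def, a.apply_symm_apply, a.apply_symm_apply] at h
    exact h.symm

theorem closure_fibre (f : Ω → ι) :
    Subgroup.closure {g : Perm Ω | ∀ x y : Ω, f x = f y ↔ f (g x) = f (g y)} = fibreGroup f :=
  Subgroup.closure_eq (fibreGroup f)

theorem swap_mem_fibre [DecidableEq Ω] {f : Ω → ι} {x y : Ω} (h : f x = f y) : swap x y ∈ fibreGroup f := by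
  have e : ∀ z, f (swap x y z) = f z := fun z => by
    by_cases h1 : z = x
    · subst h1; rw [swap_apply_left, h]
    by_cases h2 : z = y
    · subst h2; rw [swap_apply_right, h]
    rw [swap_apply_of_ne_of_ne h1 h2]
  exact fun u v => by rw [e, e]

theorem fibre_lift (a : ℕ) (f : Ω → ι) (hf : ∀ i : ι, Nat.card {x : Ω // f x = i} = a) (π : Perm ι) :
    ∃ g ∈ fibreGroup f, ∀ x, f (g x) = π (f x) := by
  have e : ∀ i, {x : Ω // f x = i} ≃ {x : Ω // f x = π i} := fun i =>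
    (Finite.card_eq.mp ((hf i).trans (hf (π i)).symm)).some
  let g : Perm Ω :=
    (((Equiv.sigmaFiberEquiv f).symm.trans (Equiv.sigmaCongrRight e)).trans
      (Equiv.sigmaCongrLeft (β := fun i => {x : Ω // f x = i}) π)).trans (Equiv.sigmaFiberEquiv f)
  have hg : ∀ x, f (g x) = π (f x) := fun x => (e (f x) ⟨x, rfl⟩).2
  exact ⟨g, fun u v => by rw [hg, hg, π.injective.eq_iff], hg⟩

theorem isCoatom_fibreGroup [DecidableEq Ω] [DecidableEq ι] (a : ℕ) (ha : 2 ≤ a) (f : Ω → ι)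
    (hf : ∀ i : ι, Nat.card {x : Ω // f x = i} = a) (hι : ∃ i j : ι, i ≠ j) :
    IsCoatom (fibreGroup f) := by
  classical
  haveI := Fintype.ofFinite Ω
  have hne : ∀ i, ∃ x, f x = i := fun i => by
    haveI : Nonempty {x : Ω // f x = i} := Finite.card_pos_iff.mp (by rw [hf]; omega)
    obtain ⟨⟨x, hx⟩⟩ := this
    exact ⟨x, hx⟩
  have hpartner : ∀ x, ∃ y, y ≠ x ∧ f y = f x := fun x => by
    haveI : Nontrivial {z : Ω // f z = f x} := Finite.one_lt_card_iff_nontrivial.mp (by rw [hf]; omega)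
    obtain ⟨⟨y, hy⟩, hne⟩ := exists_ne (⟨x, rfl⟩ : {z : Ω // f z = f x})
    exact ⟨y, fun e => hne (Subtype.ext e), hy⟩
  obtain ⟨i₀, j₀, hij⟩ := hι
  refine ⟨fun e => ?_, fun G hG => ?_⟩
  · obtain ⟨x, hx⟩ := hne i₀
    obtain ⟨y, hy⟩ := hne j₀
    obtain ⟨x', hx', hfx'⟩ := hpartner x
    have h : swap x y ∈ fibreGroup f := e ▸ Subgroup.mem_top _
    have h' := (h x x').mp hfx'.symm
    have hx'y : x' ≠ y := fun e => hij (by rw [← hx, ← hy, ← e, hfx'])
    rw [swap_apply_left, swap_apply_of_ne_of_ne hx' hx'y, hy, hfx', hx] at h'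
    exact hij h'.symm
  obtain ⟨g₁, hg₁, hg₁'⟩ := SetLike.exists_of_lt hG
  haveI htrans : IsPretransitive G Ω := ⟨fun x y => by
    obtain ⟨g, hg, hgf⟩ := fibre_lift a f hf (swap (f x) (f y))
    refine ⟨⟨_, hG.le (mul_mem (swap_mem_fibre (x := g x) (y := y) (by rw [hgf, swap_apply_left])) hg)⟩, ?_⟩
    show swap (g x) y (g x) = y
    rw [swap_apply_left]⟩
  obtain ⟨x₁, hx₁⟩ := hne i₀
  obtain ⟨y₁, hy₁, hfy₁⟩ := hpartner x₁
  refine Perm.subgroup_eq_top_of_isPreprimitive_of_isSwap_mem ⟨fun {B} hB => ?_⟩ (swap x₁ y₁)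
    ⟨x₁, y₁, hy₁.symm, rfl⟩ (hG.le (swap_mem_fibre hfy₁.symm))
  by_contra hnt
  rw [IsTrivialBlock, not_or] at hnt
  obtain ⟨hns, hnu⟩ := hnt
  obtain ⟨p, hp, q, hq, hpq⟩ := Set.not_subsingleton_iff.mp hns
  have hstab : ∀ σ ∈ fibreGroup f, ∀ z ∈ B, σ z ∈ B → ∀ w ∈ B, σ w ∈ B := by
    intro σ hσ z hz hσz w hw
    have h : (⟨σ, hG.le hσ⟩ : G) • B = (1 : G) • B := by
      by_contra hne'
      exact Set.disjoint_left.mp (hB hne') (Set.smul_mem_smul_set hz : σ z ∈ _) (by rw [one_smul]; exact hσz)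
    rw [one_smul] at h
    rw [← h]
    exact Set.smul_mem_smul_set hw
  have hfix : ∀ σ ∈ fibreGroup f, ∀ z ∈ B, σ z = z → ∀ w ∈ B, σ w ∈ B :=
    fun σ hσ z hz e => hstab σ hσ z hz (e.symm ▸ hz)
  -- a block with two points contains the fibres of its points
  have hfibre : ∀ z ∈ B, ∀ w, f w = f z → w ∈ B := by
    intro z hz w hw
    by_cases hwz : w = z
    · exact hwz ▸ hz
    obtain ⟨u, hu, huz⟩ : ∃ u ∈ B, u ≠ z := by
      by_cases h : p = z
      · exact ⟨q, hq, fun e => hpq (h.trans e.symm)⟩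
      · exact ⟨p, hp, h⟩
    by_cases huw : u = w
    · exact huw ▸ hu
    have := hfix _ (swap_mem_fibre hw.symm) u hu (swap_apply_of_ne_of_ne huz huw) z hz
    rwa [swap_apply_left] at this
  by_cases hone : ∀ z ∈ B, f z = f p
  · -- the block is a fibre, preserved by all of `G`
    have hBeq : ∀ z, z ∈ B ↔ f z = f p := fun z => ⟨hone z, fun h => hfibre p hp z h⟩
    -- the translate through `x` is the fibre of `x`
    have htr : ∀ x, ∃ τ ∈ fibreGroup f, τ p = x := fun x => by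
      obtain ⟨τ, hτ, hτf⟩ := fibre_lift a f hf (swap (f p) (f x))
      exact ⟨swap (τ p) x * τ, mul_mem (swap_mem_fibre (by rw [hτf, swap_apply_left])) hτ, swap_apply_left _ _⟩
    have hfib : ∀ k : G, ∀ z, z ∈ k • B ↔ f z = f ((k : Perm Ω) p) := by
      intro k z
      obtain ⟨τ, hτ, hτp⟩ := htr ((k : Perm Ω) p)
      have e : (⟨τ, hG.le hτ⟩ : G) • B = k • B := by
        by_contra hne'
        exact Set.disjoint_left.mp (hB hne') (Set.smul_mem_smul_set hp) ⟨p, hp, hτp.symm⟩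
      rw [← e, ← hτp]
      constructor
      · rintro ⟨u, hu, rfl⟩
        exact (hτ u p).mp ((hBeq u).mp hu)
      · intro h
        refine ⟨τ⁻¹ z, (hBeq _).mpr ((hτ _ p).mpr ?_), ?_⟩
        · rw [Perm.inv_def, τ.apply_symm_apply]; exact h
        · show τ (τ⁻¹ z) = z
          rw [Perm.inv_def, τ.apply_symm_apply]
    refine hg₁' fun x y => ?_
    obtain ⟨τ, hτ, hτp⟩ := htr x
    have h1 := hfib ⟨τ, hG.le hτ⟩ y
    have h2 := hfib (⟨g₁, hg₁⟩ * ⟨τ, hG.le hτ⟩) (g₁ y)
    rw [mul_smul] at h2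
    have h3 : g₁ y ∈ (⟨g₁, hg₁⟩ : G) • (⟨τ, hG.le hτ⟩ : G) • B ↔ y ∈ (⟨τ, hG.le hτ⟩ : G) • B :=
      Set.smul_mem_smul_set_iff
    simp only [Subgroup.coe_mul, Perm.mul_apply, hτp] at h1 h2
    rw [eq_comm, ← h1, ← h3, h2, eq_comm]
  · simp only [not_forall] at hone
    obtain ⟨q', hq', hqp⟩ := hone
    refine hnu (Set.eq_univ_of_forall fun w => ?_)
    by_cases h1 : f w = f p
    · exact hfibre p hp w h1
    by_cases h2 : f w = f q'
    · exact hfibre q' hq' w h2
    obtain ⟨σ, hσ, hσf⟩ := fibre_lift a f hf (swap (f q') (f w))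
    -- adjust so that `p` stays and `q'` goes to `w`
    have hσp : f (σ p) = f p := by rw [hσf, swap_apply_of_ne_of_ne (Ne.symm hqp) (Ne.symm h1)]
    have hm : swap (σ q') w * (swap (σ p) p * σ) ∈ fibreGroup f :=
      mul_mem (swap_mem_fibre (by rw [hσf, swap_apply_left])) (mul_mem (swap_mem_fibre hσp) hσ)
    have e1 : (swap (σ q') w * (swap (σ p) p * σ)) p = p := by
      rw [Perm.mul_apply, Perm.mul_apply, swap_apply_left, swap_apply_of_ne_of_ne]
      · intro e; exact h1 (by rw [← swap_apply_left (f q') (f w), ← hσf, ← e])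
      · intro e; exact h1 (congrArg f e).symm
    have e2 : (swap (σ q') w * (swap (σ p) p * σ)) q' = w := by
      have e : swap (σ p) p (σ q') = σ q' := swap_apply_of_ne_of_ne (fun e => hqp (by rw [σ.injective e]))
        (fun e => h1 (by rw [← swap_apply_left (f q') (f w), ← hσf, e]))
      rw [Perm.mul_apply, Perm.mul_apply, e, swap_apply_left]
    exact e2 ▸ hfix _ hm p hp e1 q' hq'

end CfsgLib.MaxSub
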