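/-
The even permutations of eight points preserving four pairs are affine.
-/
import Cfsg.Agent.Lib.MaxSub.Imprimitive

set_option autoImplicit false
set_option maxRecDepth 20000

namespace CfsgLib.MaxSub

open Equiv

/-- The plane over two elements. -/
abbrev Plane : Type := ZMod 2 × ZMod 2

/-- The affine group of three-space over two elements. -/
def affineEight : Subgroup (Perm (Plane × ZMod 2)) where
  carrier := {σ | ∀ x y z, σ (x + y + z) = σ x + σ y + σ z}
  one_mem' := fun _ _ _ => rfl
  mul_mem' := fun {s t} hs ht x y z => by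
    show s (t (x + y + z)) = s (t x) + s (t y) + s (t z)
    rw [ht, hs]
  inv_mem' := fun {s} hs x y z => by
    have h := hs (s⁻¹ x) (s⁻¹ y) (s⁻¹ z)
    simp only [Perm.inv_def, s.apply_symm_apply] at h ⊢
    rw [← h, s.symm_apply_apply]

theorem plane_affine : ∀ π : Plane → Plane, Function.Injective π → ∀ x y z, π (x + y + z) = π x + π y + π z := by
  unfold Function.Injective; decide

theorem parity_affine : ∀ a : Plane → ZMod 2,
    (∏ e : Plane, Perm.sign (if a e = 0 then (1 : Perm (ZMod 2)) else swap 0 1)) = 1 →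
      ∀ x y z, a (x + y + z) = a x + a y + a z := by decide

theorem fibre_le_affine : fibreGroup (Prod.fst : Plane × ZMod 2 → Plane) ⊓ alternatingGroup (Plane × ZMod 2) ≤ affineEight := by
  intro σ hσ
  obtain ⟨hf, hA⟩ := Subgroup.mem_inf.mp hσ
  let π : Plane → Plane := fun e => (σ (e, 0)).1
  have hπ : ∀ i, (σ i).1 = π i.1 := fun i => (hf i (i.1, 0)).mp rfl
  have hπinj : Function.Injective π := fun e e' h => (hf (e, 0) (e', 0)).mpr h
  let πp : Perm Plane := Equiv.ofBijective π (Finite.injective_iff_bijective.mp hπinj)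
  let a : Plane → ZMod 2 := fun e => (σ (e, 0)).2
  have hb : ∀ b : ZMod 2, b = 0 ∨ b = 1 := by decide
  have h01 : ∀ u v : ZMod 2, u ≠ v → v = 1 + u := by decide
  have hσe : ∀ i, σ i = (π i.1, i.2 + a i.1) := by
    rintro ⟨e, b⟩
    refine Prod.ext (hπ _) ?_
    rcases hb b with rfl | rfl
    · simp [a]
    · refine h01 _ _ fun h => ?_
      have := σ.injective (Prod.ext ((hπ (e, 0)).trans (hπ (e, 1)).symm) h : σ (e, 0) = σ (e, 1))
      exact zero_ne_one (congrArg Prod.snd this)
  have hdec : σ = Equiv.prodCongrLeft (fun _ => πp) *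
      Equiv.prodCongrRight (fun e => if a e = 0 then (1 : Perm (ZMod 2)) else swap 0 1) := by
    refine Equiv.ext fun i => ?_
    rw [hσe, Perm.mul_apply, Equiv.prodCongrRight_apply, Equiv.prodCongrLeft_apply]
    refine Prod.ext rfl ?_
    show i.2 + a i.1 = (if a i.1 = 0 then (1 : Perm (ZMod 2)) else swap 0 1) i.2
    rcases hb (a i.1) with h | h <;> rcases hb i.2 with h' | h' <;> rw [h, h'] <;> decide
  have hsign : (∏ e : Plane, Perm.sign (if a e = 0 then (1 : Perm (ZMod 2)) else swap 0 1)) = 1 := by
    have h := Perm.mem_alternatingGroup.mp hA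
    rw [hdec, map_mul, Perm.sign_prodCongrLeft, Perm.sign_prodCongrRight, Finset.prod_const, Finset.card_univ,
      ZMod.card, Int.units_pow_eq_pow_mod_two, pow_zero, one_mul] at h
    exact h
  intro x y z
  rw [hσe, hσe, hσe, hσe]
  refine Prod.ext (plane_affine π hπinj x.1 y.1 z.1) ?_
  show (x + y + z).2 + a (x + y + z).1 = _
  rw [show a (x + y + z).1 = a x.1 + a y.1 + a z.1 from parity_affine a hsign x.1 y.1 z.1]
  simp only [Prod.snd_add]
  ring

/-- A shear. -/
def shear : Perm (Plane × ZMod 2) :=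
  Function.Involutive.toPerm (fun i => ((i.1.1 + i.2, i.1.2), i.2)) (by unfold Function.Involutive; decide)

theorem shear_mem : shear ∈ affineEight ⊓ alternatingGroup (Plane × ZMod 2) ∧
    shear ∉ fibreGroup (Prod.fst : Plane × ZMod 2 → Plane) := by
  refine ⟨⟨fun x y z => ?_, ?_⟩, fun h => ?_⟩
  · exact Prod.ext (Prod.ext (by simp [shear]; ring) (by simp [shear])) (by simp [shear])
  · show shear ∈ alternatingGroup _
    rw [Perm.mem_alternatingGroup]; decide
  · exact absurd ((h ((0, 0), 0) ((0, 0), 1)).mp rfl) (by decide)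

end CfsgLib.MaxSub
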