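/-
Two Sylow 2-subgroups of the symmetric group of degree eight meet non-trivially.
-/
import Mathlib

set_option autoImplicit false
set_option linter.style.haveILetI false
set_option maxRecDepth 20000

namespace CfsgLib.MaxSub

open Equiv

variable {α : Type*}

/-- `σ` permutes the pairs of `z` as an element of a fours group. -/
def PairFours (z σ : Perm α) : Prop :=
  (∀ i, σ (z i) = z (σ i)) ∧ (∀ i, σ (σ i) = i ∨ σ (σ i) = z i) ∧
    ((∀ i, σ i = i ∨ σ i = z i) ∨ ∀ i, σ i ≠ i ∧ σ i ≠ z i)

theorem pairFours_conj {z σ : Perm α} (h : PairFours z σ) (x : Perm α) :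
    PairFours (x * z * x⁻¹) (x * σ * x⁻¹) := by
  obtain ⟨h1, h2, h3⟩ := h
  have e : ∀ (a : Perm α) j, (x * a * x⁻¹) (x j) = x (a j) := fun a j => by simp
  refine ⟨fun i => ?_, fun i => ?_, ?_⟩
  · obtain ⟨j, rfl⟩ := x.surjective i
    rw [e, e, e, e, h1]
  · obtain ⟨j, rfl⟩ := x.surjective i
    simp only [e, x.injective.eq_iff]
    exact h2 j
  · rcases h3 with h3 | h3
    · refine Or.inl fun i => ?_
      obtain ⟨j, rfl⟩ := x.surjective i
      simp only [e, x.injective.eq_iff]
      exact h3 j
    · refine Or.inr fun i => ?_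
      obtain ⟨j, rfl⟩ := x.surjective i
      simp only [e, ne_eq, x.injective.eq_iff]
      exact h3 j

theorem exists_common [Fintype α] (h8 : Fintype.card α = 8) {z w : Perm α}
    (hz : ∀ i, z (z i) = i) (hw : ∀ i, w (w i) = i) (hz1 : ∀ i, z i ≠ i) (hw1 : ∀ i, w i ≠ i) :
    ∃ u : Perm α, u ≠ 1 ∧ PairFours z u ∧ PairFours w u := by
  classical
  by_cases hsh : ∃ i, z i = w i
  · obtain ⟨i, hi⟩ := hsh
    have hpf : ∀ v : Perm α, (∀ j, v (v j) = j) → v i = z i → PairFours v (swap i (z i)) := by
      intro v hv hvi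
      have hvzi : v (z i) = i := by rw [← hvi, hv]
      refine ⟨fun j => ?_, fun j => Or.inl (swap_apply_self _ _ _), Or.inl fun j => ?_⟩
      · rw [v.apply_eq_iff_eq.mpr rfl]
        by_cases h1 : j = i
        · subst h1; rw [hvi, swap_apply_right, swap_apply_left, hvzi]
        by_cases h2 : j = z i
        · subst h2; rw [hvzi, swap_apply_left, swap_apply_right, hvi]
        rw [swap_apply_of_ne_of_ne h1 h2, swap_apply_of_ne_of_ne]
        · exact fun e => h2 (v.injective (e.trans hvzi.symm))
        · exact fun e => h1 (v.injective (e.trans hvi.symm))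
      · by_cases h1 : j = i
        · subst h1; rw [swap_apply_left, hvi]; exact Or.inr rfl
        by_cases h2 : j = z i
        · subst h2; rw [swap_apply_right, hvzi]; exact Or.inr rfl
        exact Or.inl (swap_apply_of_ne_of_ne h1 h2)
    refine ⟨swap i (z i), fun e => hz1 i ?_, hpf z hz rfl, hpf w hw hi.symm⟩
    have := congrArg (fun g : Perm α => g i) e
    simpa using this
  simp only [not_exists] at hsh
  by_cases hcomm : ∀ i, z (w i) = w (z i)
  · refine ⟨w, fun e => ?_, ⟨fun i => (hcomm i).symm, fun i => Or.inl (hw i), Or.inr fun i => ⟨hw1 i, fun e => hsh i e.symm⟩⟩,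
      ⟨fun i => rfl, fun i => Or.inl (hw i), Or.inl fun i => Or.inr rfl⟩⟩
    obtain ⟨i⟩ : Nonempty α := Fintype.card_pos_iff.mp (by omega)
    exact hw1 i (by rw [e]; rfl)
  -- now the two matchings form one cycle of length eight
  set t := fun i => z (w i) with ht
  have ht' : ∀ i, w (z (t i)) = i := fun i => by simp only [ht, hz, hw]
  have htinj : ∀ a b, t a = t b → a = b := fun a b e => w.injective (z.injective e)
  have r0 : ∀ x, z x ≠ x := hz1
  have r1 : ∀ x, z x ≠ t x := fun x e => hw1 x (z.injective e).symm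
  have r2 : ∀ x, z x ≠ t (t x) := fun x e => by
    have e' : x = w (z (w x)) := z.injective e
    exact hz1 (w x) ((congrArg w e').trans (hw _)).symm
  have r3 : ∀ x, z x ≠ t (t (t x)) := fun x e => by
    have e' : x = w (z (w (z (w x)))) := z.injective e
    have e'' : z (w x) = w (z (w x)) := by
      have := congrArg (fun y => z (w y)) e'
      simp only [hz, hw] at this
      exact this
    exact hw1 _ e''.symm
  have r4 : ∀ x, z x ≠ t (t (t (t x))) := fun x e => by
    have e' : x = w (z (w (z (w (z (w x)))))) := z.injective e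
    have e'' : w (z (w x)) = z (w (z (w x))) := by
      have := congrArg (fun y => w (z (w y))) e'
      simp only [hz, hw] at this
      exact this
    exact hz1 _ e''.symm
  have f1 : ∀ x, t x ≠ x := fun x e => hsh x ((congrArg z e).symm.trans (hz _))
  have hclosed : ∀ S : Finset α, (∀ a ∈ S, z a ∈ S) → (∀ a ∈ S, t a ∈ S) → ∀ a ∈ S, w a ∈ S := fun S h1 h2 a ha => by
    have := h1 _ (h2 a ha)
    simp only [ht, hz] at this
    exact this
  have f2 : ∀ x, t (t x) ≠ x := by
    intro x e
    -- the four points form an orbit, and so do the other four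
    apply hcomm
    intro i
    suffices h : t (t i) = i by
      have := congrArg z h
      simp only [ht, hz] at this
      have := congrArg w this
      simp only [hw] at this
      exact this
    set S : Finset α := {x, t x, z x, z (t x)} with hS
    have hzt : z (t (z (t x))) = x := by
      simp only [ht, hz] at e ⊢
      exact hw x
    have hSz : ∀ a ∈ S, z a ∈ S := by
      intro a ha; simp only [hS, Finset.mem_insert, Finset.mem_singleton] at ha ⊢
      rcases ha with rfl | rfl | rfl | rfl <;> simp [hz]
    have hSt : ∀ a ∈ S, t a ∈ S := by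
      intro a ha; simp only [hS, Finset.mem_insert, Finset.mem_singleton] at ha ⊢
      have e1 : t (z (t x)) = z x := by
        apply z.injective; rw [hzt, hz]
      have e2 : t (z x) = z (t x) := by
        apply htinj
        rw [e1]
        simp only [ht] at e ⊢
        have := congrArg z e
        simp only [hz] at this
        have h5 := congrArg w this
        simp only [hw] at h5
        rw [← h5]
        simp only [hw, hz]
      rcases ha with rfl | rfl | rfl | rfl
      · simp
      · simp [e]
      · simp [e2]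
      · simp [e1]
    by_cases hi : i ∈ S
    · have e2 : ∀ a ∈ S, t (t a) = a := by
        intro a ha
        have e1 : t (z (t x)) = z x := by
          apply z.injective; rw [hzt, hz]
        have hzx : t (z x) = z (t x) := by
          have hm := hSt (z x) (by simp [hS])
          simp only [hS, Finset.mem_insert, Finset.mem_singleton] at hm
          rcases hm with h | h | h | h
          · exact absurd ((congrArg t h).trans rfl) (fun h' => r1 (z x) (by rw [hz, h]))
          · exact absurd (htinj _ _ h) (hz1 x)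
          · exact absurd h (f1 _)
          · exact h
        simp only [hS, Finset.mem_insert, Finset.mem_singleton] at ha
        rcases ha with rfl | rfl | rfl | rfl
        · exact e
        · rw [e]
        · rw [hzx, e1]
        · rw [e1, hzx]
      exact e2 i hi
    · have hSw := hclosed S hSz hSt
      have hout : ∀ (g : α → α), Function.Involutive g → (∀ a ∈ S, g a ∈ S) → g i ∉ S := fun g hg h hh => hi (hg i ▸ h _ hh)
      have hzi := hout z hz hSz
      have hwi := hout w hw hSw
      have hti : t i ∉ S := fun h => by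
        have := hSw _ (hSz _ h)
        rw [ht'] at this
        exact hi this
      have htti : t (t i) ∉ S := fun h => by
        have := hSw _ (hSz _ h)
        rw [ht'] at this
        exact hti this
      have hcS : S.card = 4 := by
        rw [hS, Finset.card_insert_of_notMem (by
            simp only [Finset.mem_insert, Finset.mem_singleton, not_or]
            exact ⟨(f1 x).symm, (hz1 x).symm, fun h => r1 x ((congrArg z h).trans (hz _))⟩),
          Finset.card_insert_of_notMem (by simp [Ne.symm (r1 x), Ne.symm (hz1 (t x))]),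
          Finset.card_insert_of_notMem (by
            simp only [Finset.mem_singleton]
            exact fun h => f1 x (z.injective h).symm), Finset.card_singleton]
      have hc : Sᶜ.card = 4 := by rw [Finset.card_compl, hcS, h8]
      by_contra hne
      have hwz : w i ≠ z i := fun e => hsh i e.symm
      have hsub : ({i, z i, w i, t i, t (t i)} : Finset α) ⊆ Sᶜ := by
        intro a ha
        simp only [Finset.mem_insert, Finset.mem_singleton] at ha
        rw [Finset.mem_compl]
        rcases ha with rfl | rfl | rfl | rfl | rfl <;> assumption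
      have h5 := Finset.card_le_card hsub
      rw [hc, Finset.card_insert_of_notMem (by
          simp [Ne.symm (hz1 i), Ne.symm (hw1 i), Ne.symm (f1 i), Ne.symm hne]),
        Finset.card_insert_of_notMem (by simp [hwz.symm, r1 i, r2 i]),
        Finset.card_insert_of_notMem (by
          simp only [Finset.mem_insert, Finset.mem_singleton, not_or]
          exact ⟨fun h => hz1 (w i) h.symm, fun h => r3 i (by
            have h' := congrArg t h
            simp only [ht, hw] at h'
            exact h')⟩),
        Finset.card_insert_of_notMem (by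
          simp only [Finset.mem_singleton]
          exact fun h => f1 i (htinj _ _ h).symm), Finset.card_singleton] at h5
      omega
  have huniv : ∀ x, t (t (t x)) ≠ x → ∀ y, y = x ∨ y = t x ∨ y = t (t x) ∨ y = t (t (t x)) ∨
      y = z x ∨ y = z (t x) ∨ y = z (t (t x)) ∨ y = z (t (t (t x))) := by
    intro x h3 y
    have htz : ∀ a, t (z (t a)) = z a := fun a => by simp only [ht, hz, hw]
    set S : Finset α := {x, t x, t (t x), t (t (t x)), z x, z (t x), z (t (t x)), z (t (t (t x)))} with hS
    suffices hu : S = Finset.univ by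
      have := Finset.mem_univ y
      rw [← hu, hS] at this
      simpa using this
    refine Finset.eq_univ_of_card _ ?_
    have n (a b : α) (h : z a = z b) : a = b := z.injective h
    have q1 : ∀ a, a ≠ z (t a) := fun a h => r1 a (((congrArg z h).trans (hz _)))
    have q2 : ∀ a, a ≠ z (t (t a)) := fun a h => r2 a (((congrArg z h).trans (hz _)))
    have q3 : ∀ a, a ≠ z (t (t (t a))) := fun a h => r3 a (((congrArg z h).trans (hz _)))
    rw [h8, hS, Finset.card_insert_of_notMem, Finset.card_insert_of_notMem, Finset.card_insert_of_notMem,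
      Finset.card_insert_of_notMem, Finset.card_insert_of_notMem, Finset.card_insert_of_notMem,
      Finset.card_insert_of_notMem, Finset.card_singleton] <;>
    simp only [Finset.mem_insert, Finset.mem_singleton, not_or]
    · exact fun h => f1 _ (n _ _ h).symm
    · exact ⟨fun h => f1 _ (n _ _ h).symm, fun h => f2 _ (n _ _ h).symm⟩
    · exact ⟨fun h => f1 _ (n _ _ h).symm, fun h => f2 _ (n _ _ h).symm, fun h => h3 (n _ _ h).symm⟩
    · exact ⟨fun h => r3 x h.symm, fun h => r2 (t x) h.symm, fun h => r1 (t (t x)) h.symm, fun h => r0 _ h.symm⟩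
    · exact ⟨fun h => f1 _ h.symm, fun h => r2 x h.symm, fun h => r1 (t x) h.symm, fun h => r0 _ h.symm, fun h => q1 _ h⟩
    · exact ⟨fun h => f1 _ h.symm, fun h => f2 _ h.symm, fun h => r1 x h.symm, fun h => r0 _ h.symm, fun h => q1 _ h,
        fun h => q2 _ h⟩
    · exact ⟨fun h => f1 _ h.symm, fun h => f2 _ h.symm, fun h => h3 h.symm, fun h => r0 _ h.symm, fun h => q1 _ h,
        fun h => q2 _ h, fun h => q3 _ h⟩
  have f3 : ∀ x, t (t (t x)) ≠ x := by
    intro x e
    have htz : ∀ a, t (z (t a)) = z a := fun a => by simp only [ht, hz, hw]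
    set S : Finset α := {x, t x, t (t x), z x, z (t x), z (t (t x))} with hS
    have hSz : ∀ a ∈ S, z a ∈ S := by
      intro a ha; simp only [hS, Finset.mem_insert, Finset.mem_singleton] at ha ⊢
      rcases ha with rfl | rfl | rfl | rfl | rfl | rfl <;> simp [hz]
    have hSt : ∀ a ∈ S, t a ∈ S := by
      intro a ha; simp only [hS, Finset.mem_insert, Finset.mem_singleton] at ha ⊢
      rcases ha with rfl | rfl | rfl | rfl | rfl | rfl
      · simp
      · simp
      · simp [e]
      · have := htz (t (t x)); rw [e] at this; simp [this]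
      · simp [htz]
      · simp [htz]
    have hSw := hclosed S hSz hSt
    have hle : S.card ≤ 6 := by rw [hS]; exact Finset.card_le_six
    have hge : S.card = 6 := by
      have n (a b : α) (h : z a = z b) : a = b := z.injective h
      have q1 : ∀ a, a ≠ z (t a) := fun a h => r1 a (((congrArg z h).trans (hz _)))
      have q2 : ∀ a, a ≠ z (t (t a)) := fun a h => r2 a (((congrArg z h).trans (hz _)))
      rw [hS, Finset.card_insert_of_notMem, Finset.card_insert_of_notMem, Finset.card_insert_of_notMem,
        Finset.card_insert_of_notMem, Finset.card_insert_of_notMem, Finset.card_singleton] <;>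
      simp only [Finset.mem_insert, Finset.mem_singleton, not_or]
      · exact fun h => f1 _ (n _ _ h).symm
      · exact ⟨fun h => f1 _ (n _ _ h).symm, fun h => f2 _ (n _ _ h).symm⟩
      · exact ⟨fun h => r2 x h.symm, fun h => r1 (t x) h.symm, fun h => r0 _ h.symm⟩
      · exact ⟨fun h => f1 _ h.symm, fun h => r1 x h.symm, fun h => r0 _ h.symm, fun h => q1 _ h⟩
      · exact ⟨fun h => f1 _ h.symm, fun h => f2 _ h.symm, fun h => r0 _ h.symm, fun h => q1 _ h, fun h => q2 _ h⟩
    have hc : Sᶜ.card = 2 := by rw [Finset.card_compl, hge, h8]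
    obtain ⟨y, y', hyy, hy⟩ := Finset.card_eq_two.mp hc
    have hyS : y ∉ S := Finset.mem_compl.mp (hy ▸ Finset.mem_insert_self _ _)
    have hout : ∀ (g : α → α), Function.Involutive g → (∀ a ∈ S, g a ∈ S) → g y ≠ y → g y = y' := by
      intro g hg h hgy
      have : g y ∈ Sᶜ := Finset.mem_compl.mpr fun hh => hyS (hg y ▸ h _ hh)
      rw [hy, Finset.mem_insert, Finset.mem_singleton] at this
      exact this.resolve_left hgy
    exact hsh y ((hout z hz hSz (hz1 y)).trans (hout w hw hSw (hw1 y)).symm)
  have f4 : ∀ x, t (t (t (t x))) = x := by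
    intro x
    rcases huniv x (f3 x) (t (t (t (t x)))) with h | h | h | h | h | h | h | h
    · exact h
    · exact absurd (htinj _ _ h) (f3 x)
    · exact absurd (htinj _ _ (htinj _ _ h)) (f2 x)
    · exact absurd (htinj _ _ (htinj _ _ (htinj _ _ h))) (f1 x)
    · exact absurd h.symm (r4 x)
    · exact absurd h.symm (r3 (t x))
    · exact absurd h.symm (r2 (t (t x)))
    · exact absurd h.symm (r1 (t (t (t x))))
  let u : Perm α := (Function.Involutive.toPerm (fun i => t (t i)) f4)
  have hu : ∀ i, u i = t (t i) := fun i => rfl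
  refine ⟨u, fun e => ?_, ?_, ?_⟩
  · obtain ⟨i⟩ : Nonempty α := Fintype.card_pos_iff.mp (by omega)
    exact f2 i (by rw [← hu, e]; rfl)
  · refine ⟨fun i => ?_, fun i => Or.inl (f4 i), Or.inr fun i => ⟨f2 i, fun e => r2 i e.symm⟩⟩
    rw [hu, hu]
    have := f4 (z (t (t i)))
    simp only [ht, hz, hw] at this ⊢
    exact this
  · refine ⟨fun i => ?_, fun i => Or.inl (f4 i), Or.inr fun i => ⟨f2 i, fun e => ?_⟩⟩
    · rw [hu, hu]
      have := f4 (w (z (w (z i))))
      simp only [ht, hz, hw] at this ⊢
      rw [eq_comm]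
      simpa [hz, hw] using congrArg w this
    · rw [hu] at e
      have h := f4 i
      rw [e] at h
      simp only [ht, hw] at h
      exact hw1 (z i) (z.injective (h.trans (hz i).symm))

/-- Four pairs, indexed by the plane over two elements. -/
abbrev Pts : Type := (ZMod 2 × ZMod 2) × ZMod 2

/-- The standard pairing. -/
def stdPairing : Perm Pts :=
  Function.Involutive.toPerm (fun i => (i.1, i.2 + 1)) (by unfold Function.Involutive; decide)

/-- The group of translations of the pairs with swaps inside each pair. -/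
def pairSubgroup : Subgroup (Perm Pts) where
  carrier := {σ | ∃ v : ZMod 2 × ZMod 2, ∃ a : ZMod 2 × ZMod 2 → ZMod 2, ∀ i : Pts, σ i = (i.1 + v, i.2 + a i.1)}
  one_mem' := ⟨0, fun _ => 0, fun i => by simp⟩
  mul_mem' := by
    rintro σ τ ⟨v, a, hσ⟩ ⟨v', a', hτ⟩
    refine ⟨v' + v, fun e => a' e + a (e + v'), fun i => ?_⟩
    rw [Perm.mul_apply, hτ, hσ]
    exact Prod.ext (add_assoc _ _ _) (add_assoc _ _ _)
  inv_mem' := by
    rintro σ ⟨v, a, hσ⟩
    refine ⟨-v, fun e => -a (e - v), fun i => ?_⟩
    rw [Perm.inv_eq_iff_eq, hσ]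
    have h1 : ∀ b : ZMod 2, b + b = 0 := by decide
    simp [sub_eq_add_neg, add_assoc, h1]

theorem pairSubgroup_isPGroup : IsPGroup 2 pairSubgroup := by
  rintro ⟨σ, v, a, hσ⟩
  refine ⟨2, Subtype.ext (Equiv.ext fun i => ?_)⟩
  have h2 : ∀ e : ZMod 2 × ZMod 2, e + e = 0 := by decide
  have h1 : ∀ b : ZMod 2, b + b = 0 := by decide
  show (σ ^ 4) i = i
  simp only [show (4 : ℕ) = 1 + 1 + 1 + 1 from rfl, pow_succ, pow_zero, Perm.mul_apply, hσ, Perm.one_apply]
  refine Prod.ext ?_ ?_
  · simp only [add_assoc, h2, add_zero]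
  · calc i.2 + a i.1 + a (i.1 + v) + a (i.1 + v + v) + a (i.1 + v + v + v)
        = i.2 + ((a i.1 + a i.1) + (a (i.1 + v) + a (i.1 + v))) := by
          simp only [add_assoc i.1, h2, add_zero]; abel
      _ = i.2 := by rw [h1, h1, add_zero, add_zero]

theorem mem_pairSubgroup {σ : Perm Pts} (h : PairFours stdPairing σ) : σ ∈ pairSubgroup := by
  obtain ⟨h1, h2, h3⟩ := h
  have key : ∀ π : ZMod 2 × ZMod 2 → ZMod 2 × ZMod 2, (∀ e, π (π e) = e) → ((∀ e, π e = e) ∨ ∀ e, π e ≠ e) →
      ∀ e, π e = e + π 0 := by decide
  have hb : ∀ b : ZMod 2, b = 0 ∨ b = 1 := by decide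
  have hstd : ∀ i : Pts, stdPairing i = (i.1, i.2 + 1) := fun i => rfl
  have hπ : ∀ e b, σ (e, b) = ((σ (e, 0)).1, b + (σ (e, 0)).2) := fun e b => by
    rcases hb b with rfl | rfl
    · simp
    · have := h1 (e, 0)
      simp only [hstd, zero_add] at this
      rw [this, add_comm]
  refine ⟨(σ (0, 0)).1, fun e => (σ (e, 0)).2, fun i => ?_⟩
  rw [hπ i.1 i.2]
  refine Prod.ext ?_ rfl
  refine key (fun e => (σ (e, 0)).1) (fun e => ?_) ?_ i.1
  · have h := h2 (e, 0)
    rw [hπ e 0, hπ _ _, hstd] at h
    rcases h with h | h <;> exact congrArg Prod.fst h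
  · rcases h3 with h3 | h3
    · refine Or.inl fun e => ?_
      rcases h3 (e, 0) with h | h <;> rw [h]
      rfl
    · refine Or.inr fun e he => ?_
      obtain ⟨hn1, hn2⟩ := h3 (e, 0)
      have he' : (σ (e, 0)).1 = e := he
      rcases hb (σ (e, 0)).2 with hq | hq
      · exact hn1 (Prod.ext he' hq)
      · refine hn2 ?_
        rw [hstd]
        exact Prod.ext he' (by simpa using hq)

theorem sylow_eight_inf (H : Sylow 2 (Perm (Fin 8))) (x : Perm (Fin 8)) :
    (H : Subgroup (Perm (Fin 8))) ⊓ (H : Subgroup (Perm (Fin 8))).map (MulAut.conj x).toMonoidHom ≠ ⊥ := by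
  haveI : Fact (Nat.Prime 2) := ⟨Nat.prime_two⟩
  let E := (Fintype.equivFinOfCardEq (show Fintype.card Pts = 8 by simp)).permCongrHom
  obtain ⟨P, hP⟩ := (pairSubgroup_isPGroup.map E.toMonoidHom).exists_le_sylow
  obtain ⟨g, rfl⟩ := MulAction.exists_smul_eq (Perm (Fin 8)) P H
  set y := E.symm (g⁻¹ * x * g)
  obtain ⟨u, hu1, hu, hu'⟩ := exists_common (z := stdPairing) (w := y * stdPairing * y⁻¹) (by simp)
    (fun i => by decide +revert) (fun i => by
      obtain ⟨j, rfl⟩ := y.surjective i
      have : stdPairing (stdPairing j) = j := by decide +revert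
      simp [this])
    (fun i => by decide +revert) (fun i => by
      obtain ⟨j, rfl⟩ := y.surjective i
      have : stdPairing j ≠ j := by decide +revert
      simpa using this)
  have hc := pairFours_conj hu' y⁻¹
  rw [show y⁻¹ * (y * stdPairing * y⁻¹) * y⁻¹⁻¹ = stdPairing by group, inv_inv] at hc
  have m1 : E u ∈ (P : Subgroup (Perm (Fin 8))) := hP ⟨u, mem_pairSubgroup hu, rfl⟩
  have m2 : E (y⁻¹ * u * y) ∈ (P : Subgroup (Perm (Fin 8))) := hP ⟨_, mem_pairSubgroup hc, rfl⟩
  have hy : E y = g⁻¹ * x * g := E.apply_symm_apply _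
  rw [map_mul, map_mul, map_inv, hy] at m2
  intro hbot
  refine hu1 (E.injective ?_)
  rw [map_one]
  have : g * E u * g⁻¹ ∈ (⊥ : Subgroup (Perm (Fin 8))) := by
    rw [← hbot, Sylow.coe_subgroup_smul]
    refine Subgroup.mem_inf.mpr ⟨⟨E u, m1, rfl⟩, g * ((g⁻¹ * x * g)⁻¹ * E u * (g⁻¹ * x * g)) * g⁻¹, ⟨_, m2, rfl⟩, ?_⟩
    simp only [MulEquiv.coe_toMonoidHom, MulAut.conj_apply]
    group
  rw [Subgroup.mem_bot, mul_inv_eq_one, mul_eq_left] at this
  exact this

end CfsgLib.MaxSub
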