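/-
Unipotent elements on decompositions into blocks of equal dimension.
-/
import Cfsg.Agent.Lib.MaxSub.ElusiveDecomp
import Cfsg.Prelude.Def_GeometricClasses

set_option autoImplicit false
set_option linter.unusedSectionVars false

namespace CfsgLib.MaxSub.Elusive

open Polynomial Module CfsgLib.GLClassNumber

universe u

variable {F : Type u} [Field F] [Fintype F] {p : ℕ} [Fact p.Prime] [CharP F p]

theorem rho_pow_pred : (rho F) ^ (p - 1) = ∑ i ∈ Finset.range p, (X : F[X]) ^ i := by
  refine mul_right_cancel₀ (X_sub_C_ne_zero (1 : F)) ?_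
  rw [← pow_succ, Nat.sub_add_cancel (Fact.out : p.Prime).one_le, rho, sub_pow_char, Polynomial.C_1, one_pow,
    geom_sum_mul]

theorem count_top (μ : Multiset ℕ) (h : ∀ a ∈ μ, a ≤ p) :
    (μ.map (min (p - 1))).sum + μ.count p = μ.sum := by
  induction μ using Multiset.induction with
  | empty => simp
  | cons a μ ih =>
    have ha := h a (Multiset.mem_cons_self a μ)
    have := ih fun b hb => h b (Multiset.mem_cons_of_mem hb)
    rw [Multiset.map_cons, Multiset.sum_cons, Multiset.sum_cons, Multiset.count_cons]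
    have hp := (Fact.out : p.Prime).one_le
    split_ifs with e <;> omega

theorem blocks_partition {n a t : ℕ} (hat : n = a * t) (ha : 1 ≤ a) (ht : 2 ≤ t)
    (H : ∀ x : Matrix.SpecialLinearGroup (Fin n) F,
      (∃ z : F, ((x ^ p : Matrix.SpecialLinearGroup (Fin n) F) : Matrix (Fin n) (Fin n) F) = z • (1 : Matrix (Fin n) (Fin n) F)) →
      (∀ z : F, (x : Matrix (Fin n) (Fin n) F) ≠ z • (1 : Matrix (Fin n) (Fin n) F)) →
      ∃ D : Fin t → Submodule F (Fin n → F), Cfsg.Geo.IsMDecomposition a D ∧
        ∃ σ : Equiv.Perm (Fin t), ∀ j, (D j).map (Matrix.toLin' (x : Matrix (Fin n) (Fin n) F)) = D (σ j))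
    (μ : Multiset ℕ) (hμ : ∀ b ∈ μ, 0 < b ∧ b ≤ p) (hsum : μ.sum = n) (hcount : μ.count p < a) :
    ∃ ν : Multiset ℕ, ν ≤ μ ∧ ν.sum = a := by
  classical
  have han : a ≤ n := by rw [hat]; exact Nat.le_mul_of_pos_right a (by omega)
  by_cases hone : ∀ b ∈ μ, b = 1
  · have hμ1 : μ = Multiset.replicate μ.card 1 := Multiset.eq_replicate_card.mpr hone
    refine ⟨Multiset.replicate a 1, ?_, by simp⟩
    have : μ.sum = μ.card := by conv_lhs => rw [hμ1]; simp
    rw [hμ1]
    exact (Multiset.replicate_le_replicate 1).mpr (by omega)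
  have hn : 0 < n := by omega
  obtain ⟨g, hd⟩ := exists_gl_of_parts (F := F) μ hsum
  have hmem : ∀ i : Fin μ.toList.length, μ.toList.get i ∈ μ := fun i =>
    Multiset.mem_toList.mp (List.get_mem _ _)
  have hg : g ^ p = 1 := by
    have := pow_eq_one_of_exp_le (p := p) (k := 1) hd fun i => by rw [pow_one]; exact (hμ _ (hmem i)).2
    rwa [pow_one] at this
  have hdet : g.val.det = 1 := by
    have h := congrArg Matrix.det (congrArg Units.val hg)
    rw [Units.val_pow_eq_pow_val, Matrix.det_pow, Units.val_one, Matrix.det_one] at h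
    exact frobenius_inj F p (by rw [frobenius_def, frobenius_def, h, one_pow])
  let x : Matrix.SpecialLinearGroup (Fin n) F := ⟨g.val, hdet⟩
  obtain ⟨D, hD, σ, hσ⟩ := H x ⟨1, by
    rw [Matrix.SpecialLinearGroup.coe_pow, one_smul]
    exact (Units.val_pow_eq_pow_val g p).symm.trans (congrArg Units.val hg)⟩ (fun c hc => hone fun b hb => by
      have hc1 : c = 1 := by
        have h := congrArg Units.val hg
        rw [Units.val_pow_eq_pow_val, show g.val = c • 1 from hc, _root_.smul_pow, one_pow, Units.val_one] at h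
        haveI : NeZero n := ⟨by omega⟩
        have h' := congrFun (congrFun h 0) 0
        simp at h'
        exact frobenius_inj F p (by rw [frobenius_def, frobenius_def, h', one_pow])
      have hg1 : g ^ p ^ 0 = 1 := by
        rw [pow_zero, pow_one]
        exact Units.ext (by rw [show g.val = c • 1 from hc, hc1, one_smul, Units.val_one])
      obtain ⟨i, hi, rfl⟩ := List.getElem_of_mem (Multiset.mem_toList.mpr hb)
      have := exp_le_of_pow_eq_one (p := p) hg1 hd ⟨i, hi⟩
      rw [pow_zero] at this
      have := (hμ _ (hmem ⟨i, hi⟩)).1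
      simp only [List.get_eq_getElem] at *
      omega)
  set T := toEnd g with hTdef
  have hσ' : ∀ j, (D j).map T = D (σ j) := hσ
  have hTp : T ^ p = 1 := by
    rw [hTdef, show toEnd g = Matrix.toLinAlgEquiv' g.val from rfl, ← map_pow, ← Units.val_pow_eq_pow_val, hg,
      Units.val_one, map_one]
  have hiter : ∀ (i : ℕ) j u, u ∈ D j → (T ^ i) u ∈ D ((σ ^ i) j) := by
    intro i
    induction i with
    | zero => intro j u hu; simpa using hu
    | succ i ih =>
      intro j u hu
      rw [pow_succ', pow_succ', Module.End.mul_apply, Equiv.Perm.mul_apply, ← hσ']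
      exact ⟨_, ih j u hu, rfl⟩
  have hne : ∀ j, D j ≠ ⊥ := fun j e => by
    have := hD.finrank_eq j
    rw [e, finrank_bot] at this
    omega
  have hσp : ∀ j, (σ ^ p) j = j := by
    intro j
    by_contra hj
    refine hne j ?_
    rw [Submodule.eq_bot_iff]
    intro u hu
    have h1 := hiter p j u hu
    rw [hTp, Module.End.one_apply] at h1
    exact Submodule.disjoint_def.mp (hD.indep.pairwiseDisjoint (Ne.symm hj)) u hu h1
  have hfix : ∀ j, σ j = j := by
    intro j
    by_contra hj
    have hinj : ∀ i < p, i ≠ 0 → (σ ^ i) j ≠ j := by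
      intro i hi hi0 e
      apply hj
      have h1 : Function.IsPeriodicPt σ i j := by
        show (⇑σ)^[i] j = j
        rwa [← Equiv.Perm.coe_pow]
      have h2 : Function.IsPeriodicPt σ p j := by
        show (⇑σ)^[p] j = j
        rw [← Equiv.Perm.coe_pow]
        exact hσp j
      have h3 := h1.gcd h2
      rw [Nat.Coprime.gcd_eq_one] at h3
      · exact h3
      · exact ((Fact.out : p.Prime).coprime_iff_not_dvd.mpr fun h => by
          have := Nat.le_of_dvd (Nat.pos_of_ne_zero hi0) h
          omega).symm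
    have hker : ∀ u ∈ D j, aeval T ((rho F) ^ (p - 1)) u = 0 → u = 0 := by
      intro u hu h
      rw [rho_pow_pred, map_sum, LinearMap.sum_apply] at h
      simp only [map_pow, aeval_X] at h
      have h0 : 0 ∈ Finset.range p := Finset.mem_range.mpr (Fact.out : p.Prime).pos
      rw [← Finset.add_sum_erase _ _ h0, pow_zero, Module.End.one_apply, add_eq_zero_iff_eq_neg] at h
      refine Submodule.disjoint_def.mp (hD.indep j) u hu ?_
      rw [h]
      refine neg_mem (sum_mem fun i hi => ?_)
      obtain ⟨hi0, hip⟩ := Finset.mem_erase.mp hi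
      have hne' := hinj i (Finset.mem_range.mp hip) hi0
      exact Submodule.mem_iSup_of_mem ((σ ^ i) j) (Submodule.mem_iSup_of_mem hne' (hiter i j u hu))
    let f : ↥(D j) →ₗ[F] ↥(LinearMap.range (aeval T ((rho F) ^ (p - 1)))) :=
      ((aeval T ((rho F) ^ (p - 1))).comp (D j).subtype).codRestrict _ fun u => ⟨u, rfl⟩
    have hf : Function.Injective f := (injective_iff_map_eq_zero f).mpr fun u hu =>
      Subtype.ext (hker u u.2 (congrArg Subtype.val hu))
    have hle := LinearMap.finrank_le_finrank_of_injective hf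
    rw [hD.finrank_eq] at hle
    have hrn := LinearMap.finrank_range_add_finrank_ker (aeval T ((rho F) ^ (p - 1)))
    rw [Module.finrank_fin_fun] at hrn
    have hcard : finrank F (LinearMap.ker (aeval T ((rho F) ^ (p - 1)))) = (μ.map (min (p - 1))).sum := by
      refine Nat.pow_right_injective (Fintype.one_lt_card (α := F)) ?_
      show Fintype.card F ^ _ = Fintype.card F ^ _
      rw [← Nat.card_eq_fintype_card (α := F), ← Module.natCard_eq_pow_finrank, Nat.card_eq_fintype_card (α := F)]
      have h := card_ker_of_decomp hd (p - 1)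
      rw [show (Multiset.map (min (p - 1)) μ).sum = ∑ i : Fin μ.toList.length, min (p - 1) (μ.toList.get i) by
        conv_lhs => rw [← Multiset.coe_toList μ, ← List.ofFn_get μ.toList, ← Fin.univ_val_map]
        rw [Multiset.map_map]
        rfl, ← h]
      exact Nat.card_congr ((Module.AEval'.of (toEnd g)).toEquiv.subtypeEquiv fun v => (of_smul_zero_iff g _ v).symm)
    have := count_top μ (fun b hb => (hμ b hb).2)
    omega
  have j0 : Fin t := ⟨0, by omega⟩
  have hinv : ∀ j, ∀ v ∈ D j, T v ∈ D j := fun j v hv => by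
    have h := hσ' j
    rw [hfix j] at h
    rw [← h]
    exact ⟨v, hv, rfl⟩
  have hcompl : IsCompl (D j0) (⨆ (j : Fin t) (_ : j ≠ j0), D j) := ⟨hD.indep j0, by
    rw [codisjoint_iff, eq_top_iff, ← hD.iSup_eq_top]
    refine iSup_le fun j => ?_
    by_cases h : j = j0
    · rw [h]; exact le_sup_left
    · exact le_sup_of_le_right (le_iSup₂_of_le j h le_rfl)⟩
  obtain ⟨ν, hν, hνs⟩ := parts_le hg (fun i => (hμ _ (hmem i)).1) hd hcompl (hinv j0) (by
    intro v hv
    have hle : (⨆ (j : Fin t) (_ : j ≠ j0), D j).map T ≤ ⨆ (j : Fin t) (_ : j ≠ j0), D j := by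
      simp only [Submodule.map_iSup]
      exact iSup₂_le fun j hj => le_iSup₂_of_le j hj ((map_le_iff _ _).mpr (hinv j))
    exact hle ⟨v, hv, rfl⟩)
  refine ⟨ν, ?_, hνs.trans (hD.finrank_eq j0)⟩
  rwa [expMultiset, Fin.univ_val_map, List.ofFn_get, Multiset.coe_toList] at hν

end CfsgLib.MaxSub.Elusive
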