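/-
Elements of prime order of `SL n` on flags of two subspaces.
-/
import Cfsg.Agent.Lib.MaxSub.ElusiveGL

set_option autoImplicit false
set_option linter.unusedSectionVars false

namespace CfsgLib.MaxSub.Elusive

open Polynomial Module

universe u

variable {F : Type u} [Field F] [Fintype F] {p r : ℕ} [Fact p.Prime] [CharP F p]

/-- Complementary dimensions give as many subspaces. -/
theorem card_subspaces_le (n k : ℕ) (hk : k ≤ n) :
    Nat.card {W : Submodule F (Fin n → F) // finrank F ↥W = k} ≤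
      Nat.card {W : Submodule F (Fin n → F) // finrank F ↥W = n - k} := by
  classical
  let φ : (Fin n → F) ≃ₗ[F] Module.Dual F (Fin n → F) := dotProductEquiv F (Fin n)
  refine Nat.card_le_card_of_injective (fun W => ⟨W.1.dualAnnihilator.map φ.symm.toLinearMap, ?_⟩) ?_
  · have := Subspace.finrank_add_finrank_dualAnnihilator_eq W.1
    rw [Module.finrank_fin_fun, W.2] at this
    rw [LinearEquiv.finrank_map_eq]
    omega
  · intro W W' h
    have h' := congrArg Subtype.val h
    have h2 := Submodule.map_injective_of_injective φ.symm.injective h'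
    exact Subtype.ext (Subspace.dualAnnihilator_inj.mp h2)

theorem card_subspaces_symm (n k : ℕ) (hk : k ≤ n) :
    Nat.card {W : Submodule F (Fin n → F) // finrank F ↥W = n - k} =
      Nat.card {W : Submodule F (Fin n → F) // finrank F ↥W = k} := by
  refine le_antisymm ?_ (card_subspaces_le n k hk)
  have := card_subspaces_le (F := F) n (n - k) (Nat.sub_le n k)
  rwa [Nat.sub_sub_self hk] at this

/-- Counting flags. -/
theorem card_flags (n m : ℕ) (hmn : m ≤ n) :
    Nat.card {P : Submodule F (Fin n → F) × Submodule F (Fin n → F) //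
        P.1 ≤ P.2 ∧ finrank F ↥P.1 = m ∧ finrank F ↥P.2 = n - m} =
      Nat.card {W : Submodule F (Fin n → F) // finrank F ↥W = m} *
        Nat.card {W : Submodule F (Fin (n - m) → F) // finrank F ↥W = m} := by
  classical
  let e : {P : Submodule F (Fin n → F) × Submodule F (Fin n → F) //
        P.1 ≤ P.2 ∧ finrank F ↥P.1 = m ∧ finrank F ↥P.2 = n - m} ≃
      Σ W : {W : Submodule F (Fin n → F) // finrank F ↥W = n - m},
        {U : Submodule F W.1 // finrank F ↥U = m} :=
    { toFun := fun P => ⟨⟨P.1.2, P.2.2.2⟩, ⟨P.1.1.comap P.1.2.subtype, by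
        rw [(Submodule.comapSubtypeEquivOfLe P.2.1).finrank_eq, P.2.2.1]⟩⟩
      invFun := fun x => ⟨(x.2.1.map x.1.1.subtype, x.1.1), Submodule.map_subtype_le _ _, by
        rw [Submodule.finrank_map_subtype_eq, x.2.2], x.1.2⟩
      left_inv := fun P => Subtype.ext (Prod.ext (by
        show Submodule.map _ (Submodule.comap _ _) = _
        rw [Submodule.map_comap_subtype, inf_eq_right.mpr P.2.1]) rfl)
      right_inv := fun x => by
        obtain ⟨W, U⟩ := x
        refine Sigma.ext rfl (heq_of_eq (Subtype.ext ?_))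
        exact Submodule.comap_map_eq_of_injective W.1.subtype_injective U.1 }
  rw [Nat.card_congr e, Nat.card_sigma, Finset.sum_congr rfl fun W _ => ?_, Finset.sum_const, Finset.card_univ,
    smul_eq_mul, ← Nat.card_eq_fintype_card, card_subspaces_symm n m hmn]
  let ψ : W.1 ≃ₗ[F] (Fin (n - m) → F) := LinearEquiv.ofFinrankEq _ _ (by rw [W.2, Module.finrank_fin_fun])
  exact Nat.card_congr ((Submodule.orderIsoMapComap ψ).toEquiv.subtypeEquiv fun U => by
    show _ ↔ finrank F (U.map ψ.toLinearMap) = m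
    rw [LinearEquiv.finrank_map_eq])

theorem exists_sub {V : Type*} [AddCommGroup V] [Module F V] [FiniteDimensional F V] (E : Submodule F V) {a : ℕ}
    (ha : a ≤ finrank F E) : ∃ E' ≤ E, finrank F E' = a := by
  let b := Module.finBasis F E
  refine ⟨Submodule.span F (Set.range fun i : Fin a => (b (Fin.castLE ha i) : V)), ?_, ?_⟩
  · rw [Submodule.span_le]; rintro _ ⟨i, rfl⟩; exact (b _).2
  · refine (finrank_span_eq_card ?_).trans (Fintype.card_fin _)
    exact (b.linearIndependent.map' E.subtype (Submodule.ker_subtype _)).comp _ (Fin.castLE_injective ha)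

/-- Nested invariant subspaces. -/
theorem exists_flag {V : Type*} [AddCommGroup V] [Module F V] [FiniteDimensional F V] (T : Module.End F V)
    (hr : r.Prime) (hrp : r ≠ p) (hT : T ^ r = 1) {k k' a b : ℕ} (hk : k ≤ k') (hab : a ≤ b)
    (hb : b ≤ finrank F (LinearMap.ker (T - 1)))
    (hk' : k' * orderOf (Fintype.card F : ZMod r) + finrank F (LinearMap.ker (T - 1)) ≤ finrank F V) :
    ∃ U W : Submodule F V, U ≤ W ∧ finrank F U = k * orderOf (Fintype.card F : ZMod r) + a ∧
      finrank F W = k' * orderOf (Fintype.card F : ZMod r) + b ∧ (∀ v ∈ U, T v ∈ U) ∧ ∀ v ∈ W, T v ∈ W := by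
  have hrn := LinearMap.finrank_range_add_finrank_ker (T - 1)
  obtain ⟨-, hex⟩ := dims_in_range T hr hrp hT _ le_rfl (fun v hv => by
    obtain ⟨w, rfl⟩ := hv
    exact ⟨T w, by simp⟩)
  obtain ⟨R', hR', hR'd, hR'T⟩ := hex k' (by omega)
  obtain ⟨-, hex'⟩ := dims_in_range T hr hrp hT R' hR' hR'T
  obtain ⟨R, hR, hRd, hRT⟩ := hex' k (by rw [hR'd]; exact Nat.mul_le_mul_right _ hk)
  obtain ⟨E', hE', hE'd⟩ := exists_sub (LinearMap.ker (T - 1)) hb
  obtain ⟨E, hE, hEd⟩ := exists_sub E' (hE'd ▸ hab)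
  have hdim : ∀ E0 R0 : Submodule F V, E0 ≤ LinearMap.ker (T - 1) → R0 ≤ LinearMap.range (T - 1) →
      finrank F ↥(E0 ⊔ R0) = finrank F R0 + finrank F E0 := by
    intro E0 R0 h1 h2
    have h := Submodule.finrank_sup_add_finrank_inf_eq E0 R0
    rw [le_bot_iff.mp ((inf_le_inf h1 h2).trans (ker_inf_range T hr hrp hT).le), finrank_bot, add_zero] at h
    omega
  have hinv : ∀ E0 R0 : Submodule F V, E0 ≤ LinearMap.ker (T - 1) → (∀ v ∈ R0, T v ∈ R0) →
      ∀ v ∈ E0 ⊔ R0, T v ∈ E0 ⊔ R0 := by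
    intro E0 R0 h1 h2 v hv
    obtain ⟨x, hx, y, hy, rfl⟩ := Submodule.mem_sup.mp hv
    have hfix : T x = x := sub_eq_zero.mp (h1 hx)
    rw [map_add, hfix]
    exact add_mem (Submodule.mem_sup_left hx) (Submodule.mem_sup_right (h2 y hy))
  refine ⟨E ⊔ R, E' ⊔ R', sup_le_sup hE hR, ?_, ?_, hinv _ _ (hE.trans hE') hRT, hinv _ _ hE' hR'T⟩
  · rw [hdim _ _ (hE.trans hE') (hR.trans hR'), hRd, hEd]
  · rw [hdim _ _ hE' hR', hR'd, hE'd]

/-- The fixed part and the rest of an invariant subspace. -/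
theorem dim_decomp {V : Type*} [AddCommGroup V] [Module F V] [FiniteDimensional F V] (T : Module.End F V)
    (hr : r.Prime) (hrp : r ≠ p) (hT : T ^ r = 1) (W : Submodule F V) (hW : ∀ v ∈ W, T v ∈ W) :
    ∃ k, finrank F W = k * orderOf (Fintype.card F : ZMod r) + finrank F ↥(W ⊓ LinearMap.ker (T - 1)) := by
  let f := (T - 1).comp W.subtype
  obtain ⟨⟨k, hk⟩, -⟩ := dims_in_range T hr hrp hT _ (LinearMap.range_comp_le_range W.subtype (T - 1)) (by
    rintro _ ⟨y, rfl⟩
    exact ⟨⟨T y, hW _ y.2⟩, by simp⟩)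
  have h := LinearMap.finrank_range_add_finrank_ker f
  have hker : finrank F (LinearMap.ker f) = finrank F ↥(W ⊓ LinearMap.ker (T - 1)) := by
    rw [← Submodule.finrank_map_subtype_eq W (LinearMap.ker f), LinearMap.ker_comp, Submodule.map_comap_subtype]
  refine ⟨k, ?_⟩
  rw [mul_comm, ← hk, ← hker]
  exact h.symm

theorem twisted_flag (hr : r.Prime) {n m : ℕ} (T : Module.End F (Fin n → F)) {c : F} (hc : ∀ b : F, b ^ r ≠ c)
    (hT : T ^ r = c • 1) (hmn : 2 * m ≤ n) (hrm : r ∣ m) :
    ∃ U W : Submodule F (Fin n → F), U ≤ W ∧ finrank F U = m ∧ finrank F W = n - m ∧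
      (∀ v ∈ U, T v ∈ U) ∧ ∀ v ∈ W, T v ∈ W := by
  obtain ⟨hrn, -, hex⟩ := twisted_dims hr T hc hT
  obtain ⟨W, hWd, hWT⟩ := hex (n - m) (Nat.sub_le _ _) (Nat.dvd_sub hrn hrm)
  have hgi : Irreducible (X ^ r - Polynomial.C c) := X_pow_sub_C_irreducible_of_prime hr hc
  have hgm : (X ^ r - Polynomial.C c).Monic := monic_X_pow_sub_C c hr.ne_zero
  obtain ⟨-, hex'⟩ := invariant_dims (P := X ^ r - Polynomial.C c) (d := r) (fun h h1 h2 h3 => by
      rw [eq_of_monic_of_associated h2 hgm (h1.associated_of_dvd hgi h3), natDegree_X_pow_sub_C])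
      (T.restrict hWT) (LinearMap.ext fun y => Subtype.ext (by
        rw [aeval_restrict, map_sub, map_pow, aeval_X, aeval_C, hT, Algebra.algebraMap_eq_smul_one, sub_self]
        rfl))
  obtain ⟨k, rfl⟩ := hrm
  obtain ⟨U, hUd, hUT⟩ := hex' k (by rw [hWd, mul_comm]; omega)
  refine ⟨U.map W.subtype, W, Submodule.map_subtype_le _ _, ?_, hWd, ?_, hWT⟩
  · rw [Submodule.finrank_map_subtype_eq, hUd, mul_comm]
  · rintro _ ⟨y, hy, rfl⟩
    exact ⟨_, hUT y hy, rfl⟩

theorem flag_not_char {n m : ℕ} (hmn : 2 * m ≤ n) (hr : r.Prime)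
    (hΩ : r ∣ Nat.card {P : Submodule F (Fin n → F) × Submodule F (Fin n → F) //
        P.1 ≤ P.2 ∧ finrank F ↥P.1 = m ∧ finrank F ↥P.2 = n - m}) :
    r ≠ p ∧ (m < orderOf (Fintype.card F : ZMod r) → n % orderOf (Fintype.card F : ZMod r) < 2 * m) := by
  rw [card_flags n m (by omega)] at hΩ
  rcases hr.dvd_mul.mp hΩ with h | h
  · have hrp := ne_char (F := F) (p := p) (by omega) hr h
    refine ⟨hrp, fun hi => ?_⟩
    have := mod_lt_of_dvd (F := F) (p := p) (by omega) hr hrp h hi
    omega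
  · have hrp := ne_char (F := F) (p := p) (by omega) hr h
    refine ⟨hrp, fun hi => ?_⟩
    have h1 := mod_lt_of_dvd (F := F) (p := p) (by omega) hr hrp h hi
    by_contra hc
    push Not at hc
    set i := orderOf (Fintype.card F : ZMod r)
    have hdm := Nat.div_add_mod n i
    have hmod : (n - m) % i = n % i - m := by
      have hlt := Nat.mod_lt n (show i > 0 by omega)
      rw [show n - m = (n % i - m) + i * (n / i) by omega, Nat.add_mul_mod_self_left, Nat.mod_eq_of_lt (by omega)]
    omega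

theorem flag_iff {n m : ℕ} (hn : 2 ≤ n) (hm : 1 ≤ m) (hmn : 2 * m < n) (hr : r.Prime)
    (hΩ : r ∣ Nat.card {P : Submodule F (Fin n → F) × Submodule F (Fin n → F) //
        P.1 ≤ P.2 ∧ finrank F ↥P.1 = m ∧ finrank F ↥P.2 = n - m}) :
    (∀ x : Matrix.SpecialLinearGroup (Fin n) F,
      (∃ c : F, ((x ^ r : Matrix.SpecialLinearGroup (Fin n) F) : Matrix (Fin n) (Fin n) F) = c • (1 : Matrix (Fin n) (Fin n) F)) →
      (∀ c : F, (x : Matrix (Fin n) (Fin n) F) ≠ c • (1 : Matrix (Fin n) (Fin n) F)) →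
      ∃ U W : Submodule F (Fin n → F), U ≤ W ∧ Module.finrank F ↥U = m ∧ Module.finrank F ↥W = n - m ∧
        U.map (Matrix.toLin' (x : Matrix (Fin n) (Fin n) F)) ≤ U ∧ W.map (Matrix.toLin' (x : Matrix (Fin n) (Fin n) F)) ≤ W) ↔
    (r ≠ p ∧
      ((orderOf (Fintype.card F : ZMod r) = 1 ∧ (r ∣ m ∨ (padicValNat r n ≤ padicValNat r (Fintype.card F - 1) ∧
        (r = 2 → Even n → Fintype.card F % 4 = 1)))) ∨
       (2 ≤ orderOf (Fintype.card F : ZMod r) ∧ orderOf (Fintype.card F : ZMod r) ≤ m ∧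
        2 * (m % orderOf (Fintype.card F : ZMod r)) ≤ n % orderOf (Fintype.card F : ZMod r)))) := by
  classical
  haveI := Fact.mk hr
  obtain ⟨hrp, hmod⟩ := flag_not_char (F := F) (p := p) hmn.le hr hΩ
  have hq : ¬ r ∣ Fintype.card F := fun h => hrp ((dvd_q_iff (F := F) hr).mp h)
  have hi0 : 0 < orderOf (Fintype.card F : ZMod r) := by
    refine (isOfFinOrder_iff_pow_eq_one.mpr ⟨r - 1, by have := hr.two_le; omega, ?_⟩).orderOf_pos
    exact ZMod.pow_card_sub_one_eq_one fun e => hq ((ZMod.natCast_eq_zero_iff _ _).mp e)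
  have hrM : orderOf (Fintype.card F : ZMod r) = 1 ↔ r ∣ Fintype.card F - 1 := by
    rw [orderOf_eq_one_iff, ← ZMod.natCast_eq_zero_iff, Nat.cast_sub Fintype.card_pos, Nat.cast_one, sub_eq_zero]
  have hqodd : r = 2 → Fintype.card F % 4 = 1 ∨ Fintype.card F % 4 = 3 := by
    rintro rfl
    have : Fintype.card F % 2 = 1 := by
      rcases Nat.mod_two_eq_zero_or_one (Fintype.card F) with h | h
      · exact absurd (Nat.dvd_of_mod_eq_zero h) hq
      · exact h
    omega
  have hneg : r = 2 → Fintype.card F % 4 = 1 → ∀ c : F, (∀ b : F, b ^ 2 ≠ c) → ∀ b : F, b ^ 2 ≠ -c := by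
    intro _ h4 c hc b hb
    obtain ⟨s, hs⟩ := FiniteField.isSquare_neg_one_iff.mpr (by omega : Fintype.card F % 4 ≠ 3)
    exact hc (s * b) (by rw [mul_pow, sq s, ← hs, hb]; ring)
  constructor
  · intro H
    refine ⟨hrp, ?_⟩
    rcases Nat.lt_or_ge (orderOf (Fintype.card F : ZMod r)) 2 with hi | hi
    · left
      have hi1 : orderOf (Fintype.card F : ZMod r) = 1 := by omega
      refine ⟨hi1, or_iff_not_imp_left.mpr fun hrm => ?_⟩
      by_contra hbad
      have hrn : r ∣ n := by
        by_contra h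
        apply hbad
        refine ⟨by rw [padicValNat.eq_zero_of_not_dvd h]; exact Nat.zero_le _, ?_⟩
        rintro rfl he
        exact absurd he.two_dvd h
      have hex : ∃ c : F, (∀ b : F, b ^ r ≠ c) ∧ ((-1) ^ r * -c) ^ (n / r) = 1 := by
        have hv : padicValNat r (n / r) = padicValNat r n - 1 := padicValNat.div hrn
        by_cases h2 : r = 2 ∧ Fintype.card F % 4 = 3
        · obtain ⟨rfl, h4⟩ := h2
          refine ⟨-1, fun b hb => ?_, by simp⟩
          exact (FiniteField.isSquare_neg_one_iff.mp ⟨b, by rw [← hb]; ring⟩) h4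
        · have hlt : padicValNat r (Fintype.card F - 1) < padicValNat r n := by
            by_contra hle
            exact hbad ⟨by omega, fun e he => (hqodd e).resolve_right fun h => h2 ⟨e, h⟩⟩
          obtain ⟨u, -, hu, hun⟩ := exists_not_pow (F := F) hr (hrM.mp hi1) (k := n / r) (by omega)
          rcases hr.eq_two_or_odd' with rfl | hodd
          · refine ⟨-u, hneg rfl ((hqodd rfl).resolve_right fun h => h2 ⟨rfl, h⟩) u hun, ?_⟩
            rw [neg_neg, neg_one_sq, one_mul, hu]
          · exact ⟨u, hun, by rw [hodd.neg_one_pow]; simpa using hu⟩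
      obtain ⟨c, hc, hdet⟩ := hex
      obtain ⟨x, hx1, hx2, hx3⟩ := exists_twisted hr hc hrn (by omega) hdet
      obtain ⟨U, W, -, hU, -, hUx, -⟩ := H x ⟨c, hx1⟩ hx2
      exact hrm (hU ▸ hx3 U ((map_le_iff _ U).mp hUx))
    · right
      refine ⟨hi, ?_⟩
      set i := orderOf (Fintype.card F : ZMod r) with hidef
      have hin : i ≤ n := by
        by_contra h
        push Not at h
        have := hmod (by omega)
        rw [Nat.mod_eq_of_lt h] at this
        omega
      obtain ⟨x, hx1, hx2, hx3⟩ := exists_small_fix (F := F) (p := p) hr hrp hi hin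
      obtain ⟨U, W, hUW, hU, hW, hUx, hWx⟩ := H x ⟨1, hx1⟩ hx2
      have hT : (Matrix.toLinAlgEquiv' (x : Matrix (Fin n) (Fin n) F)) ^ r = 1 := by
        rw [pow_scalar r hx1, one_smul]
      obtain ⟨k, hk⟩ := dim_decomp (p := p) _ hr hrp hT U ((map_le_iff _ U).mp hUx)
      obtain ⟨k', hk'⟩ := dim_decomp (p := p) _ hr hrp hT W ((map_le_iff _ W).mp hWx)
      have hab := Submodule.finrank_mono (inf_le_inf_right
        (LinearMap.ker (Matrix.toLinAlgEquiv' (x : Matrix (Fin n) (Fin n) F) - 1)) hUW)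
      have hbe := Submodule.finrank_mono (inf_le_right :
        W ⊓ LinearMap.ker (Matrix.toLinAlgEquiv' (x : Matrix (Fin n) (Fin n) F) - 1) ≤ _)
      rw [← hidef, hU] at hk
      rw [← hidef, hW] at hk'
      rw [← hidef] at hx3
      set a := finrank F ↥(U ⊓ LinearMap.ker (Matrix.toLinAlgEquiv' (x : Matrix (Fin n) (Fin n) F) - 1))
      set b := finrank F ↥(W ⊓ LinearMap.ker (Matrix.toLinAlgEquiv' (x : Matrix (Fin n) (Fin n) F) - 1))
      have hei := Nat.mod_lt n (show i > 0 by omega)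
      have hma : m % i = a := by rw [hk, add_comm, Nat.add_mul_mod_self_right, Nat.mod_eq_of_lt (by omega)]
      have hsum : (a + b) % i = n % i := by
        rw [show n = a + b + (k + k') * i by rw [add_mul]; omega, Nat.add_mul_mod_self_right]
      have h2 : 2 * a ≤ n % i := by
        rcases Nat.lt_or_ge (a + b) i with h | h
        · rw [Nat.mod_eq_of_lt h] at hsum
          omega
        · rw [Nat.mod_eq_sub_mod h, Nat.mod_eq_of_lt (by omega)] at hsum
          omega
      refine ⟨?_, by omega⟩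
      by_contra h
      push Not at h
      have := hmod h
      rw [Nat.mod_eq_of_lt h] at hma
      omega
  · rintro ⟨-, hcase⟩ x ⟨c, hc⟩ -
    set T := Matrix.toLinAlgEquiv' (x : Matrix (Fin n) (Fin n) F) with hTdef
    have hT : T ^ r = c • 1 := pow_scalar r hc
    suffices ∃ U W : Submodule F (Fin n → F), U ≤ W ∧ finrank F U = m ∧ finrank F W = n - m ∧
        (∀ v ∈ U, T v ∈ U) ∧ ∀ v ∈ W, T v ∈ W by
      obtain ⟨U, W, hUW, hU, hW, hUT, hWT⟩ := this
      exact ⟨U, W, hUW, hU, hW, (map_le_iff _ U).mpr hUT, (map_le_iff _ W).mpr hWT⟩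
    by_cases hpow : ∃ b : F, b ^ r = c
    · obtain ⟨b, rfl⟩ := hpow
      have hdetT : LinearMap.det T = 1 := by
        show LinearMap.det (Matrix.toLin' (x : Matrix (Fin n) (Fin n) F)) = 1
        rw [LinearMap.det_toLin', x.2]
      have hb : b ≠ 0 := fun e => by
        have := congrArg LinearMap.det hT
        rw [map_pow, hdetT, one_pow, e, zero_pow hr.ne_zero, LinearMap.det_smul, Module.finrank_fin_fun,
          zero_pow (by omega : n ≠ 0), zero_mul] at this
        exact one_ne_zero this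
      have hT1 : (b⁻¹ • T) ^ r = 1 := by
        rw [_root_.smul_pow, hT, smul_smul, ← mul_pow, inv_mul_cancel₀ hb, one_pow, one_smul]
      suffices ∃ U W : Submodule F (Fin n → F), U ≤ W ∧ finrank F U = m ∧ finrank F W = n - m ∧
          (∀ v ∈ U, (b⁻¹ • T) v ∈ U) ∧ ∀ v ∈ W, (b⁻¹ • T) v ∈ W by
        obtain ⟨U, W, hUW, hU, hW, hUT, hWT⟩ := this
        have key : ∀ S : Submodule F (Fin n → F), (∀ v ∈ S, (b⁻¹ • T) v ∈ S) → ∀ v ∈ S, T v ∈ S := by
          intro S hS v hv
          have := S.smul_mem b (hS v hv)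
          rwa [LinearMap.smul_apply, smul_smul, mul_inv_cancel₀ hb, one_smul] at this
        exact ⟨U, W, hUW, hU, hW, key U hUT, key W hWT⟩
      set i := orderOf (Fintype.card F : ZMod r) with hidef
      set e := finrank F (LinearMap.ker (b⁻¹ • T - 1))
      obtain ⟨hdvd, -⟩ := dims_in_range (p := p) (b⁻¹ • T) hr hrp hT1 _ le_rfl (fun v hv => by
        obtain ⟨w, rfl⟩ := hv
        exact ⟨(b⁻¹ • T) w, by simp⟩)
      obtain ⟨s, hs⟩ := hdvd
      rw [← hidef] at hs
      have hrn := LinearMap.finrank_range_add_finrank_ker (b⁻¹ • T - 1)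
      rw [Module.finrank_fin_fun, hs, mul_comm] at hrn
      have he : n % i ≤ e := by
        rw [← hrn, add_comm, Nat.add_mul_mod_self_right]
        exact Nat.mod_le _ _
      have hl : 2 * (m % i) ≤ n % i := by
        rcases hcase with ⟨h1, -⟩ | ⟨-, -, h⟩
        · rw [h1, Nat.mod_one, Nat.mod_one]
        · exact h
      have hdm := Nat.div_add_mod m i
      rw [mul_comm] at hdm
      rcases le_or_gt (2 * (m / i)) s with hms | hms
      · obtain ⟨U, W, h1, h2, h3, h4⟩ := exists_flag (p := p) (b⁻¹ • T) hr hrp hT1 (k := m / i) (k' := s - m / i)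
          (a := m % i) (b := e - m % i) (by omega) (by omega) (Nat.sub_le _ _)
          (by
            rw [← hidef, Module.finrank_fin_fun]
            have := Nat.mul_le_mul_right i (Nat.sub_le s (m / i))
            omega)
        refine ⟨U, W, h1, ?_, ?_, h4⟩
        · rw [h2, ← hidef]; omega
        · have := Nat.mul_le_mul_right i (show m / i ≤ s by omega)
          rw [h3, ← hidef, Nat.sub_mul]; omega
      · have ht : (s / 2 + 1) * i ≤ m / i * i := Nat.mul_le_mul_right i (by omega)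
        have hs2 : s * i ≤ (2 * (s / 2) + 1) * i := Nat.mul_le_mul_right i (by omega)
        have hs3 : 2 * (s / 2) * i ≤ s * i := Nat.mul_le_mul_right i (by omega)
        rw [add_mul, one_mul] at ht hs2
        rw [mul_assoc] at hs2 hs3
        obtain ⟨U, W, h1, h2, h3, h4⟩ := exists_flag (p := p) (b⁻¹ • T) hr hrp hT1 (k := s / 2) (k' := s / 2)
          (a := m - s / 2 * i) (b := n - m - s / 2 * i) le_rfl (by omega) (by omega)
          (by rw [← hidef, Module.finrank_fin_fun]; omega)
        refine ⟨U, W, h1, ?_, ?_, h4⟩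
        · rw [h2, ← hidef]; omega
        · rw [h3, ← hidef]; omega
    · push Not at hpow
      obtain ⟨hrn, hdet, hex⟩ := twisted_dims hr T hpow hT
      rcases hcase with ⟨h1, hrm | ⟨hv, h4⟩⟩ | ⟨h2, -, -⟩
      · exact twisted_flag hr T hpow hT hmn.le hrm
      · exfalso
        have hdetT : LinearMap.det T = 1 := by
          show LinearMap.det (Matrix.toLin' (x : Matrix (Fin n) (Fin n) F)) = 1
          rw [LinearMap.det_toLin', x.2]
        rw [hdetT] at hdet
        have hc0 : c ≠ 0 := fun e => hpow 0 (by rw [e, zero_pow hr.ne_zero])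
        have hk : n / r ≠ 0 := (Nat.div_ne_zero_iff_of_dvd hrn).mpr ⟨by omega, hr.ne_zero⟩
        have hvk : padicValNat r (n / r) = padicValNat r n - 1 := padicValNat.div hrn
        have hv1 := one_le_padicValNat_of_dvd (p := r) (by omega : n ≠ 0) hrn
        have := hrM.mp h1
        rcases hr.eq_two_or_odd' with rfl | hodd
        · have h41 := h4 rfl (even_iff_two_dvd.mpr hrn)
          rw [neg_one_sq, one_mul] at hdet
          have := factor_le_of_not_pow (neg_ne_zero.mpr hc0) (hneg rfl h41 c hpow) hr hk hdet.symm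
          omega
        · rw [hodd.neg_one_pow, neg_one_mul, neg_neg] at hdet
          have := factor_le_of_not_pow hc0 hpow hr hk hdet.symm
          omega
      · exfalso
        apply (show ¬ r ∣ Fintype.card F - 1 from fun h => by rw [hrM.mpr h] at h2; omega)
        by_contra hnd
        obtain ⟨u, v, huv⟩ : ∃ u v : ℤ, (r : ℤ) * u + ((Fintype.card F - 1 : ℕ) : ℤ) * v = 1 := by
          refine ⟨Nat.gcdA r (Fintype.card F - 1), Nat.gcdB r (Fintype.card F - 1), ?_⟩
          rw [← Nat.gcd_eq_gcd_ab, (hr.coprime_iff_not_dvd.mpr hnd).gcd_eq_one]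
          rfl
        have hc0 : c ≠ 0 := fun e => hpow 0 (by rw [e, zero_pow hr.ne_zero])
        refine hpow (c ^ u) ?_
        rw [← zpow_natCast, ← zpow_mul, mul_comm u]
        have h1 : c ^ (((Fintype.card F - 1 : ℕ) : ℤ)) = 1 := by
          rw [zpow_natCast]; exact FiniteField.pow_card_sub_one_eq_one c hc0
        conv_rhs => rw [← zpow_one c, ← huv, zpow_add₀ hc0, zpow_mul c _ v, h1, one_zpow, mul_one]

end CfsgLib.MaxSub.Elusive
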