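/-
Elements of prime order of orthogonal groups in characteristic two on nonsingular points.
-/
import Cfsg.Agent.Lib.MaxSub.ElusiveGL
import Cfsg.Agent.Lib.SympInvolution.OrthClasses
import Cfsg.Agent.Lib.StdQuadForms
import Cfsg.Agent.Lib.OmegaPlus
import Cfsg.Agent.Lib.QuadCount
import Cfsg.Agent.Lib.FiniteForms.WittBasis
import Cfsg.Prelude.Def_GeometricClasses

set_option autoImplicit false
set_option linter.unusedSectionVars false

namespace CfsgLib.MaxSub.Nonsingular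

open Module QuadraticMap CfsgLib.SympOrth
open CfsgLib.Lagrangian (Qp Qp_apply)
open scoped Matrix

universe u

variable {F : Type u} [Field F] [Fintype F]

section generic

variable {ι : Type} [Fintype ι] [DecidableEq ι] (f : (ι → F) → F)

theorem omega_mem_iff_exists {x : GL ι F} :
    x ∈ Cfsg.Geo.omegaGL f ↔ ∃ g : Cfsg.isometryGroup F f, g ∈ Cfsg.Omega F f ∧ g.1 = x := Iff.rfl

/-- Counting the points outside the zero set. -/
theorem card_points (hf : ∀ (c : F) v, f (c • v) = c ^ 2 * f v) :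
    Nat.card {v : ι → F // f v ≠ 0} =
      Nat.card {W : Submodule F (ι → F) // finrank F ↥W = 1 ∧ ∃ v ∈ W, f v ≠ 0} * (Fintype.card F - 1) := by
  classical
  have hne : ∀ v : {v : ι → F // f v ≠ 0}, v.1 ≠ 0 := fun v h =>
    v.2 (by rw [h, ← zero_smul F v.1, hf]; simp)
  let sp : {v : ι → F // f v ≠ 0} → {W : Submodule F (ι → F) // finrank F ↥W = 1 ∧ ∃ v ∈ W, f v ≠ 0} := fun v =>
    ⟨Submodule.span F {v.1}, finrank_span_singleton (hne v), v.1, Submodule.mem_span_singleton_self _, v.2⟩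
  rw [← Nat.card_congr (Equiv.sigmaFiberEquiv sp), Nat.card_sigma]
  rw [Finset.sum_congr rfl fun W _ => (?_ : Nat.card {v // sp v = W} = Fintype.card F - 1), Finset.sum_const,
    Finset.card_univ, smul_eq_mul, Nat.card_eq_fintype_card]
  obtain ⟨W, hW, w, hw, hfw⟩ := W
  have hw0 : w ≠ 0 := fun h => hfw (by rw [h, ← zero_smul F w, hf]; simp)
  have hWs : W = Submodule.span F {w} :=
    (Submodule.eq_of_le_of_finrank_eq (Submodule.span_le.mpr (by simpa using hw))
      (by rw [finrank_span_singleton hw0, hW])).symm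
  rw [← Nat.card_eq_fintype_card (α := F), ← Nat.card_units]
  refine (Nat.card_congr (Equiv.ofBijective
    (fun c : Fˣ => (⟨⟨(c : F) • w, by rw [hf]; exact mul_ne_zero (pow_ne_zero _ c.ne_zero) hfw⟩, Subtype.ext (by
      show Submodule.span F {(c : F) • w} = W
      rw [hWs, Submodule.span_singleton_smul_eq c.isUnit])⟩ : {v // sp v = ⟨W, hW, w, hw, hfw⟩})) ⟨?_, ?_⟩)).symm
  · intro a b h
    have h' := congrArg (fun v => v.1.1) h
    exact Units.ext (smul_left_injective F hw0 h')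
  · rintro ⟨⟨v, hv⟩, hvW⟩
    have hvm : v ∈ W := by
      have := congrArg Subtype.val hvW
      change Submodule.span F {v} = W at this
      rw [← this]
      exact Submodule.mem_span_singleton_self v
    rw [hWs, Submodule.mem_span_singleton] at hvm
    obtain ⟨c, rfl⟩ := hvm
    exact ⟨Units.mk0 c fun h => hv (by rw [h, hf]; simp), rfl⟩

theorem prime_dvd_cases (hf : ∀ (c : F) v, f (c • v) = c ^ 2 * f v) {r : ℕ} (hr : r.Prime) {A : ℕ}
    (hA : Nat.card {v : ι → F // f v ≠ 0} = (Fintype.card F - 1) * A)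
    (hΩ : r ∣ Nat.card {W : Submodule F (ι → F) // finrank F ↥W = 1 ∧ ∃ v ∈ W, f v ≠ 0}) : r ∣ A := by
  rw [card_points f hf, mul_comm (Fintype.card F - 1) A] at hA
  have := Fintype.one_lt_card (α := F)
  rw [← Nat.eq_of_mul_eq_mul_right (by omega) hA]
  exact hΩ

theorem card_nonzeros (Z : ℕ) (hZ : Nat.card {v : ι → F // f v = 0} = Z) :
    Nat.card {v : ι → F // f v ≠ 0} = Fintype.card F ^ Fintype.card ι - Z := by
  classical
  rw [Nat.card_eq_fintype_card, Fintype.card_subtype_compl, ← Nat.card_eq_fintype_card (α := {v : ι → F // f v = 0}), hZ,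
    Fintype.card_fun]

/-- Elements without nonzero fixed vectors fix no such point. -/
theorem not_all_fixed [CharP F 2] {r : ℕ} (hr : r.Prime) (hr2 : r ≠ 2) (hf : ∀ (c : F) v, f (c • v) = c ^ 2 * f v)
    {v₁ : ι → F} (hv₁ : f v₁ ≠ 0)
    (g : Cfsg.isometryGroup F f) (hg : g ∈ Cfsg.Omega F f) (hpow : (g.1 : GL ι F) ^ r = 1)
    (hfix : ∀ v, g.1.1 *ᵥ v = v → v = 0) :
    ¬ ∀ x : GL ι F, x ∈ Cfsg.Geo.omegaGL f →
      (∃ z : F, ((x ^ r : GL ι F) : Matrix ι ι F) = z • (1 : Matrix ι ι F)) →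
      (∀ z : F, (x : Matrix ι ι F) ≠ z • (1 : Matrix ι ι F)) →
      ∃ W : Submodule F (ι → F), (finrank F ↥W = 1 ∧ ∃ v ∈ W, f v ≠ 0) ∧
        W.map (Matrix.toLin' (x : Matrix ι ι F)) ≤ W := by
  classical
  intro H
  have hiso : ∀ v, f (g.1.1 *ᵥ v) = f v := fun v => g.2 v v
  have hone : ∀ c : F, c ^ 2 = 1 → c = 1 := fun c hc => CharTwo.sq_injective (by simpa using hc)
  have hv₁0 : v₁ ≠ 0 := fun h => hv₁ (by rw [h, ← zero_smul F v₁, hf]; simp)
  obtain ⟨W, ⟨hW, v, hv, hfv⟩, hWT⟩ := H g.1 ⟨g, hg, rfl⟩ ⟨1, by rw [hpow, one_smul, Units.val_one]⟩ (fun z hz => by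
    have h1 := hiso v₁
    rw [hz, Matrix.smul_mulVec, Matrix.one_mulVec, hf] at h1
    have hz1 : z = 1 := hone z (mul_right_cancel₀ hv₁ (h1.trans (one_mul _).symm))
    refine hv₁0 (hfix v₁ ?_)
    rw [hz, hz1, one_smul, Matrix.one_mulVec])
  have hv0 : v ≠ 0 := fun h => hfv (by rw [h, ← zero_smul F v, hf]; simp)
  obtain ⟨c, hc⟩ := exists_smul_eq_of_finrank_eq_one hW (x := (⟨v, hv⟩ : W)) (fun h => hv0 (congrArg Subtype.val h))
    ⟨_, hWT ⟨v, hv, rfl⟩⟩
  have hc' : c • v = g.1.1 *ᵥ v := congrArg Subtype.val hc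
  have h1 := hiso v
  rw [← hc', hf] at h1
  have hc1 : c = 1 := hone c (mul_right_cancel₀ hfv (h1.trans (one_mul _).symm))
  rw [hc1, one_smul] at hc'
  exact hv0 (hfix v hc'.symm)

/-- The fixed space of an isometric involution. -/
theorem fixed_point_of_ker [CharP F 2] (hf : ∀ (c : F) v, f (c • v) = c ^ 2 * f v) {v₁ : ι → F} (hv₁ : f v₁ ≠ 0)
    {b : ℕ} (hb : ∀ U : Submodule F (ι → F), (∀ u ∈ U, f u = 0) → finrank F U ≤ b) {x : GL ι F}
    (hiso : ∀ v, f ((x : Matrix ι ι F) *ᵥ v) = f v) {z : F} (hz : ((x ^ 2 : GL ι F) : Matrix ι ι F) = z • 1)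
    (hrank : Fintype.card ι < 2 * finrank F (LinearMap.range (Matrix.toLin' ((x : Matrix ι ι F) - 1))) ∨
      b + finrank F (LinearMap.range (Matrix.toLin' ((x : Matrix ι ι F) - 1))) < Fintype.card ι) :
    ∃ W : Submodule F (ι → F), (finrank F ↥W = 1 ∧ ∃ v ∈ W, f v ≠ 0) ∧ W.map (Matrix.toLin' (x : Matrix ι ι F)) ≤ W := by
  classical
  have hz1 : z = 1 := by
    have h1 : f (((x ^ 2 : GL ι F) : Matrix ι ι F) *ᵥ v₁) = f v₁ := by
      rw [pow_two, Units.val_mul, ← Matrix.mulVec_mulVec, hiso, hiso]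
    rw [hz, Matrix.smul_mulVec, Matrix.one_mulVec, hf] at h1
    exact CharTwo.sq_injective (by simpa using mul_right_cancel₀ hv₁ (h1.trans (one_mul _).symm))
  set N := Matrix.toLin' ((x : Matrix ι ι F) - 1) with hN
  have hN2 : ∀ v, N (N v) = 0 := fun v => by
    rw [hN, ← Matrix.toLin'_mul_apply, Matrix.toLin'_apply]
    have : ((x : Matrix ι ι F) - 1) * ((x : Matrix ι ι F) - 1) = 0 := by
      rw [hz1, one_smul, pow_two, Units.val_mul] at hz
      rw [sub_mul, mul_sub, mul_one, one_mul, hz]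
      have h2 : (1 : Matrix ι ι F) + 1 = 0 := by
        rw [← two_smul F (1 : Matrix ι ι F), CharTwo.two_eq_zero, zero_smul]
      have hxx : (x : Matrix ι ι F) + (x : Matrix ι ι F) = 0 := by
        rw [← two_smul F (x : Matrix ι ι F), CharTwo.two_eq_zero, zero_smul]
      calc (1 : Matrix ι ι F) - x - (x - 1) = (1 + 1) - (x + x) := by abel
        _ = 0 := by rw [h2, hxx, sub_zero]
    rw [this, Matrix.zero_mulVec]
  have hrn := LinearMap.finrank_range_add_finrank_ker N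
  have hle : LinearMap.range N ≤ LinearMap.ker N := by
    rintro _ ⟨v, rfl⟩; exact hN2 v
  have hle' := Submodule.finrank_mono hle
  rw [Module.finrank_fintype_fun_eq_card] at hrn
  obtain ⟨v, hv, hfv⟩ : ∃ v ∈ LinearMap.ker N, f v ≠ 0 := by
    by_contra h
    push Not at h
    have := hb _ h
    omega
  have hv0 : v ≠ 0 := fun h => hfv (by rw [h, ← zero_smul F v, hf]; simp)
  refine ⟨Submodule.span F {v}, ⟨finrank_span_singleton hv0, v, Submodule.mem_span_singleton_self _, hfv⟩, ?_⟩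
  rw [Submodule.map_span_le]
  intro u hu
  rw [Set.mem_singleton_iff] at hu
  subst hu
  rw [hN, LinearMap.mem_ker, Matrix.toLin'_apply, Matrix.sub_mulVec, Matrix.one_mulVec, sub_eq_zero] at hv
  rw [Matrix.toLin'_apply, hv]
  exact Submodule.mem_span_singleton_self u

theorem range_top_of_fixedPointFree {M : Matrix ι ι F} (hfix : ∀ v, M *ᵥ v = v → v = 0) :
    (M - 1).rank = Fintype.card ι := by
  have hinj : Function.Injective (Matrix.toLin' (M - 1)) := (injective_iff_map_eq_zero _).mpr fun v hv => by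
    rw [Matrix.toLin'_apply, Matrix.sub_mulVec, Matrix.one_mulVec, sub_eq_zero] at hv
    exact hfix v hv
  rw [Matrix.rank, ← Matrix.toLin'_apply', LinearMap.finrank_range_of_inj hinj, Module.finrank_fintype_fun_eq_card]

end generic

variable [CharP F 2]

theorem plus_smul (d : ℕ) (c : F) (v : Fin d ⊕ Fin d → F) :
    Cfsg.quadFormPlus d F (c • v) = c ^ 2 * Cfsg.quadFormPlus d F v := by
  rw [← Qp_apply, ← Qp_apply, QuadraticMap.map_smul, smul_eq_mul, pow_two]

theorem minus_smul (k : ℕ) (a b c : F) (v : (Fin k ⊕ Fin k) ⊕ Fin 2 → F) :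
    Cfsg.quadFormMinus k F a b (c • v) = c ^ 2 * Cfsg.quadFormMinus k F a b v := by
  rw [← StdQuadForms.Qm_apply, ← StdQuadForms.Qm_apply, QuadraticMap.map_smul, smul_eq_mul, pow_two]

theorem plus_omega_iff {d : ℕ} (hd : 3 ≤ d) (g : Cfsg.isometryGroup F (Cfsg.quadFormPlus d F)) :
    g ∈ Cfsg.Omega F (Cfsg.quadFormPlus d F) ↔ Even (g.1.1 - 1).rank := by
  rw [← mem_Omega_isoE _ plus_hT, mem_Omega_iff Qp_polar (hc_plus (Or.inr (by omega))), rk_isoE _ plus_hT]

theorem minus_omega_iff {k : ℕ} {a b : F} (hab : ∀ x y : F, x ^ 2 + a * x * y + b * y ^ 2 = 0 → x = 0 ∧ y = 0)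
    (g : Cfsg.isometryGroup F (Cfsg.quadFormMinus k F a b)) :
    g ∈ Cfsg.Omega F (Cfsg.quadFormMinus k F a b) ↔ Even (g.1.1 - 1).rank := by
  have ha := minus_a_ne_zero hab
  let T := minusT (k := k) ha
  have hT : ∀ v, Qd (lastVec k 1) (lastVec k (b / a ^ 2)) (T v) = Cfsg.quadFormMinus k F a b v := minusT_form ha
  rw [← mem_Omega_isoE T hT, mem_Omega_iff (Qd_polar _ _) (hc_minus hab), rk_isoE T hT]

theorem plus_witness_two {d : ℕ} (hd : 4 ≤ d) (hev : Even d) :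
    ¬ ∀ x : GL (Fin d ⊕ Fin d) F, x ∈ Cfsg.Geo.omegaGL (Cfsg.quadFormPlus d F) →
      (∃ z : F, ((x ^ 2 : GL (Fin d ⊕ Fin d) F) : Matrix _ _ F) = z • (1 : Matrix (Fin d ⊕ Fin d) (Fin d ⊕ Fin d) F)) →
      (∀ z : F, (x : Matrix _ _ F) ≠ z • (1 : Matrix (Fin d ⊕ Fin d) (Fin d ⊕ Fin d) F)) →
      ∃ W : Submodule F (Fin d ⊕ Fin d → F), (finrank F ↥W = 1 ∧ ∃ v ∈ W, Cfsg.quadFormPlus d F v ≠ 0) ∧
        W.map (Matrix.toLin' (x : Matrix (Fin d ⊕ Fin d) (Fin d ⊕ Fin d) F)) ≤ W := by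
  classical
  intro H
  obtain ⟨e, he⟩ := hev
  obtain ⟨a, ha, hrk, halt⟩ := plus_alt (F := F) (m := d) (r := e) (by omega)
  set t := (isoE _ (plus_hT (F := F) (m := d))).symm a with ht
  have hta : ∀ v, t.1.1 *ᵥ v = a.1.1 *ᵥ v := fun v => by
    have h := conjGL_apply (LinearEquiv.refl F (Fin d ⊕ Fin d → F)) t.1 v
    have h2 : conjGL (LinearEquiv.refl F (Fin d ⊕ Fin d → F)) t.1 = a.1 :=
      congrArg Subtype.val ((isoE _ (plus_hT (F := F) (m := d))).apply_symm_apply a)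
    rw [h2] at h
    exact h.symm
  have hrank : (t.1.1 - 1).rank = d := by
    rw [← rk_isoE _ plus_hT Qp_polar t, ht, MulEquiv.apply_symm_apply]; exact hrk.trans (by omega)
  have htO : t ∈ Cfsg.Omega F (Cfsg.quadFormPlus d F) :=
    (plus_omega_iff (by omega) t).mpr (by rw [hrank]; exact ⟨e, he⟩)
  have htt : t.1 ^ 2 = 1 := by
    have h : t * t = 1 := by rw [ht, ← map_mul, ha, map_one]
    rw [pow_two]
    exact congrArg Subtype.val h
  set N := Matrix.toLin' (t.1.1 - 1) with hN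
  have hNrank : finrank F (LinearMap.range N) = d := hrank
  have hsing : ∀ u ∈ LinearMap.range N, Cfsg.quadFormPlus d F u = 0 := by
    rintro _ ⟨v, rfl⟩
    have h := (alt_iff_Q Qp_polar a).1 halt v
    rw [Qp_apply, SympInv.N_apply] at h
    rw [hN, Matrix.toLin'_apply, Matrix.sub_mulVec, Matrix.one_mulVec, hta, SympInv.vec_sub]
    exact h
  have hN2 : ∀ v, N (N v) = 0 := fun v => by
    rw [hN, ← Matrix.toLin'_mul_apply, Matrix.toLin'_apply]
    have : (t.1.1 - 1) * (t.1.1 - 1) = 0 := by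
      have hz : t.1.1 * t.1.1 = 1 := by rw [← Units.val_mul, ← pow_two, htt, Units.val_one]
      rw [sub_mul, mul_sub, mul_one, one_mul, hz]
      calc (1 : Matrix (Fin d ⊕ Fin d) (Fin d ⊕ Fin d) F) - t.1.1 - (t.1.1 - 1) = (1 + 1) - (t.1.1 + t.1.1) := by abel
        _ = 0 := by rw [← two_smul F (1 : Matrix (Fin d ⊕ Fin d) (Fin d ⊕ Fin d) F), ← two_smul F t.1.1,
            CharTwo.two_eq_zero, zero_smul, zero_smul, sub_zero]
    rw [this, Matrix.zero_mulVec]
  have heq : LinearMap.range N = LinearMap.ker N := by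
    refine Submodule.eq_of_le_of_finrank_eq (by rintro _ ⟨v, rfl⟩; exact hN2 v) ?_
    have h := LinearMap.finrank_range_add_finrank_ker N
    rw [hNrank, Module.finrank_fintype_fun_eq_card, Fintype.card_sum, Fintype.card_fin] at h
    omega
  let v₁ : Fin d ⊕ Fin d → F := Pi.single (Sum.inl ⟨0, by omega⟩) 1 + Pi.single (Sum.inr ⟨0, by omega⟩) 1
  have hv₁ : Cfsg.quadFormPlus d F v₁ = 1 := by simp [v₁, Cfsg.quadFormPlus, Pi.single_apply]
  obtain ⟨W, ⟨hW, v, hv, hfv⟩, hWT⟩ := H t.1 ⟨t, htO, rfl⟩ ⟨1, by rw [htt, one_smul, Units.val_one]⟩ (fun z hz => by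
    have h := t.2 v₁ v₁
    change Cfsg.quadFormPlus d F (t.1.1 *ᵥ v₁) = Cfsg.quadFormPlus d F v₁ at h
    rw [hz, Matrix.smul_mulVec, Matrix.one_mulVec, plus_smul, hv₁, mul_one] at h
    have hz1 : z = 1 := CharTwo.sq_injective (by simpa using h)
    rw [hz, hz1, one_smul, sub_self, Matrix.rank_zero] at hrank
    omega)
  have hv0 : v ≠ 0 := fun h => hfv (by rw [h, ← zero_smul F v, plus_smul]; simp)
  obtain ⟨c, hc⟩ := exists_smul_eq_of_finrank_eq_one hW (x := (⟨v, hv⟩ : W)) (fun h => hv0 (congrArg Subtype.val h))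
    ⟨_, hWT ⟨v, hv, rfl⟩⟩
  have hc' : c • v = t.1.1 *ᵥ v := congrArg Subtype.val hc
  have h1 := t.2 v v
  change Cfsg.quadFormPlus d F (t.1.1 *ᵥ v) = Cfsg.quadFormPlus d F v at h1
  rw [← hc', plus_smul] at h1
  have hc1 : c = 1 := CharTwo.sq_injective (by simpa using mul_right_cancel₀ hfv (h1.trans (one_mul _).symm))
  rw [hc1, one_smul] at hc'
  refine hfv (hsing v (heq ▸ ?_))
  rw [LinearMap.mem_ker, hN, Matrix.toLin'_apply, Matrix.sub_mulVec, Matrix.one_mulVec, ← hc', sub_self]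

theorem plus_exists_fpf {d r : ℕ} (hd : 3 ≤ d) (hr : r.Prime) (hr2 : r ≠ 2)
    (hq : (Fintype.card F : ZMod r) ^ d = 1) :
    ∃ g : Cfsg.isometryGroup F (Cfsg.quadFormPlus d F), g ∈ Cfsg.Omega F (Cfsg.quadFormPlus d F) ∧
      (g.1 : GL _ F) ^ r = 1 ∧ ∀ v, g.1.1 *ᵥ v = v → v = 0 := by
  classical
  haveI := Fact.mk hr
  have hid : orderOf (Fintype.card F : ZMod r) ∣ d := orderOf_dvd_of_pow_eq_one hq
  obtain ⟨A, hA, hfA⟩ : ∃ A : GL (Fin d) F, A ^ r = 1 ∧ ∀ v, A.1 *ᵥ v = v → v = 0 := by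
    by_cases hi : 2 ≤ orderOf (Fintype.card F : ZMod r)
    · obtain ⟨x, hx, -, hker⟩ := Elusive.exists_small_fix (F := F) (p := 2) hr hr2 (n := d) hi (Nat.le_of_dvd (by omega) hid)
      rw [Nat.mod_eq_zero_of_dvd hid] at hker
      refine ⟨Matrix.SpecialLinearGroup.toGL x, Units.ext ?_, fun v hv => ?_⟩
      · rw [Units.val_pow_eq_pow_val, Units.val_one]
        show (x : Matrix (Fin d) (Fin d) F) ^ r = 1
        rw [← Matrix.SpecialLinearGroup.coe_pow, hx, one_smul]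
      · have hm : v ∈ LinearMap.ker (Matrix.toLinAlgEquiv' (x : Matrix (Fin d) (Fin d) F) - 1) := by
          show (x : Matrix (Fin d) (Fin d) F) *ᵥ v - v = 0
          exact sub_eq_zero.mpr hv
        rw [Submodule.finrank_eq_zero.mp (Nat.le_zero.mp hker)] at hm
        exact (Submodule.mem_bot F).mp hm
    · have hi1 : orderOf (Fintype.card F : ZMod r) = 1 := by
        have := orderOf_pos_iff.mpr (isOfFinOrder_iff_pow_eq_one.mpr ⟨d, by omega, hq⟩)
        omega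
      have hdvd : r ∣ Fintype.card F - 1 := by
        rw [← ZMod.natCast_eq_zero_iff, Nat.cast_sub Fintype.card_pos, Nat.cast_one, sub_eq_zero]
        exact orderOf_eq_one_iff.mp hi1
      obtain ⟨ζ, hζ⟩ : ∃ ζ : Fˣ, orderOf ζ = r :=
        exists_prime_orderOf_dvd_card' r (by rwa [Nat.card_units, Nat.card_eq_fintype_card])
      refine ⟨Matrix.GeneralLinearGroup.scalar (Fin d) ζ, ?_, fun v hv => ?_⟩
      · rw [← map_pow, ← hζ, pow_orderOf_eq_one, map_one]
      · rw [Matrix.GeneralLinearGroup.coe_scalar, Matrix.scalar_apply, ← Matrix.smul_one_eq_diagonal, Matrix.smul_mulVec,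
          Matrix.one_mulVec] at hv
        by_contra hv0
        have : (ζ : F) = 1 := smul_left_injective F hv0 (hv.trans (one_smul F v).symm)
        rw [Units.ext (this.trans Units.val_one.symm), orderOf_one] at hζ
        exact hr.ne_one hζ.symm
  obtain ⟨ψ, hψ⟩ := OmegaPlus.exists_hom (F := F) (m := d)
  let g : Cfsg.isometryGroup F (Cfsg.quadFormPlus d F) := (isoE _ (plus_hT (F := F) (m := d))).symm (ψ A)
  have hgv : ∀ v, g.1.1 *ᵥ v = (OmegaPlus.T A.1) *ᵥ v := fun v => by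
    have h := conjGL_apply (LinearEquiv.refl F (Fin d ⊕ Fin d → F)) g.1 v
    have h2 : conjGL (LinearEquiv.refl F (Fin d ⊕ Fin d → F)) g.1 = (ψ A).1 :=
      congrArg Subtype.val ((isoE _ (plus_hT (F := F) (m := d))).apply_symm_apply (ψ A))
    rw [h2] at h
    exact ((congrArg (· *ᵥ v) (hψ A)).symm.trans h).symm
  have hfix : ∀ v, g.1.1 *ᵥ v = v → v = 0 := by
    intro v hv
    rw [hgv, OmegaPlus.T, Matrix.fromBlocks_mulVec] at hv
    simp only [Matrix.zero_mulVec, add_zero, zero_add] at hv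
    have h1 : A.1 *ᵥ (v ∘ Sum.inl) = v ∘ Sum.inl := funext fun j => congrFun hv (Sum.inl j)
    have h2 : (A.1⁻¹)ᵀ *ᵥ (v ∘ Sum.inr) = v ∘ Sum.inr := funext fun j => congrFun hv (Sum.inr j)
    have e1 := hfA _ h1
    -- the dual has no fixed vector either
    have e2 : v ∘ Sum.inr = 0 := by
      by_contra h0
      have hdet : ((A.1⁻¹)ᵀ - 1).det = 0 := Matrix.exists_mulVec_eq_zero_iff.mp
        ⟨_, h0, by rw [Matrix.sub_mulVec, Matrix.one_mulVec, h2, sub_self]⟩
      have hA1 : (A.1 - 1).det = 0 := by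
        have e : A.1 - 1 = -(A.1 * (A.1⁻¹ - 1)) := by
          rw [mul_sub, Matrix.mul_nonsing_inv _ ((Matrix.isUnit_iff_isUnit_det _).mp A.isUnit), mul_one, neg_sub]
        rw [e, Matrix.det_neg, Matrix.det_mul,
          show (A.1⁻¹ - 1).det = 0 by rw [← Matrix.det_transpose, Matrix.transpose_sub, Matrix.transpose_one, hdet],
          mul_zero, mul_zero]
      obtain ⟨u, hu0, hu⟩ := Matrix.exists_mulVec_eq_zero_iff.mpr hA1
      rw [Matrix.sub_mulVec, Matrix.one_mulVec, sub_eq_zero] at hu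
      exact hu0 (hfA u hu)
    funext s
    rcases s with j | j
    · exact congrFun e1 j
    · exact congrFun e2 j
  refine ⟨g, (plus_omega_iff hd g).mpr ?_, ?_, hfix⟩
  · rw [range_top_of_fixedPointFree hfix, Fintype.card_sum]
    exact ⟨_, rfl⟩
  · have h : g ^ r = 1 := by rw [← map_pow, ← map_pow, hA, map_one, map_one]
    exact congrArg Subtype.val h

theorem plus_iff {d r : ℕ} (hd : 4 ≤ d) (hr : r.Prime)
    (hΩ : r ∣ Nat.card {W : Submodule F (Fin d ⊕ Fin d → F) // finrank F ↥W = 1 ∧ ∃ v ∈ W, Cfsg.quadFormPlus d F v ≠ 0}) :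
    (∀ x : GL (Fin d ⊕ Fin d) F, x ∈ Cfsg.Geo.omegaGL (Cfsg.quadFormPlus d F) →
      (∃ z : F, ((x ^ r : GL (Fin d ⊕ Fin d) F) : Matrix (Fin d ⊕ Fin d) (Fin d ⊕ Fin d) F) = z • (1 : Matrix (Fin d ⊕ Fin d) (Fin d ⊕ Fin d) F)) →
      (∀ z : F, (x : Matrix (Fin d ⊕ Fin d) (Fin d ⊕ Fin d) F) ≠ z • (1 : Matrix (Fin d ⊕ Fin d) (Fin d ⊕ Fin d) F)) →
      ∃ W : Submodule F (Fin d ⊕ Fin d → F), (finrank F ↥W = 1 ∧ ∃ v ∈ W, Cfsg.quadFormPlus d F v ≠ 0) ∧
        W.map (Matrix.toLin' (x : Matrix (Fin d ⊕ Fin d) (Fin d ⊕ Fin d) F)) ≤ W) ↔ (r = 2 ∧ Odd d) := by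
  classical
  haveI := Fact.mk hr
  let v₁ : Fin d ⊕ Fin d → F := Pi.single (Sum.inl ⟨0, by omega⟩) 1 + Pi.single (Sum.inr ⟨0, by omega⟩) 1
  have hv₁ : Cfsg.quadFormPlus d F v₁ ≠ 0 := by simp [v₁, Cfsg.quadFormPlus, Pi.single_apply]
  constructor
  · intro H
    by_contra hc
    by_cases hr2 : r = 2
    · subst hr2
      exact plus_witness_two hd (Nat.not_odd_iff_even.mp fun h => hc ⟨rfl, h⟩) H
    · have hZ := QuadCount.card_plus (F := F) d (by omega)
      have hnz := card_nonzeros _ _ hZ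
      rw [Fintype.card_sum, Fintype.card_fin] at hnz
      set q := Fintype.card F with hqdef
      have hq1 : 1 < q := Fintype.one_lt_card
      have hA : Nat.card {v : Fin d ⊕ Fin d → F // Cfsg.quadFormPlus d F v ≠ 0} = (q - 1) * (q ^ (d - 1) * (q ^ d - 1)) := by
        obtain ⟨k, rfl⟩ := Nat.exists_eq_add_of_le (show 1 ≤ d by omega)
        rw [hnz, show 2 * (1 + k) - 1 = 2 * k + 1 by omega, show 1 + k - 1 = k by omega]
        have e1 : q ^ k ≤ q ^ (2 * k + 1) := Nat.pow_le_pow_right (by omega) (by omega)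
        have e2 : q ^ (2 * k + 1) + q ^ (1 + k) - q ^ k ≤ q ^ (1 + k + (1 + k)) := by
          have h1 : q ^ (1 + k + (1 + k)) = q * q ^ (2 * k + 1) := by rw [← pow_succ']; congr 1; omega
          have h2 : q ^ (1 + k) ≤ q ^ (2 * k + 1) := Nat.pow_le_pow_right (by omega) (by omega)
          have h3 := Nat.mul_le_mul_right (q ^ (2 * k + 1)) hq1
          omega
        zify [e2, le_add_right e1, hq1.le, Nat.one_le_pow (1 + k) q (by omega)]
        ring
      have hdvd := prime_dvd_cases _ (plus_smul d) hr hA hΩ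
      have hrq : ¬ r ∣ q := fun h => hr2 ((Elusive.dvd_q_iff (F := F) (p := 2) hr).mp h)
      have hqd : (q : ZMod r) ^ d = 1 := by
        have h := (hr.dvd_mul.mp hdvd).resolve_left fun h => hrq (hr.dvd_of_dvd_pow h)
        rw [← ZMod.natCast_eq_zero_iff, Nat.cast_sub (Nat.one_le_pow _ _ (by omega)), sub_eq_zero] at h
        exact_mod_cast h
      obtain ⟨g, hg, hpow, hfix⟩ := plus_exists_fpf (by omega) hr hr2 hqd
      exact not_all_fixed _ hr hr2 (plus_smul d) hv₁ g hg hpow hfix H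
  · rintro ⟨rfl, hodd⟩ x ⟨g, hg, rfl⟩ ⟨z, hz⟩ _
    refine fixed_point_of_ker _ (plus_smul d) hv₁ (fun U hU => FiniteForms.plus_totally_singular_le U hU)
      (fun v => g.2 v v) hz ?_
    have hev := (plus_omega_iff (by omega) g).mp hg
    rw [Fintype.card_sum, Fintype.card_fin]
    change _ < 2 * (g.1.1 - 1).rank ∨ _ + (g.1.1 - 1).rank < _
    obtain ⟨c, hc⟩ := hev
    obtain ⟨c', hc'⟩ := hodd
    omega

end CfsgLib.MaxSub.Nonsingular
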