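/-
The minus type: nonsingular points in characteristic two.
-/
import Cfsg.Agent.Lib.MaxSub.ElusiveNonsingular

set_option autoImplicit false
set_option linter.unusedSectionVars false

namespace CfsgLib.MaxSub.Nonsingular

open Module QuadraticMap CfsgLib.SympOrth
open scoped Matrix

universe u

variable {F : Type u} [Field F] [Fintype F] [CharP F 2]

/-- Two standard elliptic forms are isometric. -/
theorem minus_equiv (k : ℕ) {a b ζ : F} (hab : ∀ x y : F, x ^ 2 + a * x * y + b * y ^ 2 = 0 → x = 0 ∧ y = 0)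
    (hζ : ∀ t : F, t ^ 2 + t + ζ ≠ 0) :
    ∃ φ : ((Fin k ⊕ Fin k) ⊕ Fin 2 → F) ≃ₗ[F] ((Fin k ⊕ Fin k) ⊕ Fin 2 → F),
      ∀ v, Cfsg.quadFormMinus k F 1 ζ (φ v) = Cfsg.quadFormMinus k F a b v := by
  have ha := minus_a_ne_zero hab
  have h1 : ¬ P2 (b / a ^ 2) := by
    rintro ⟨y, hy⟩
    have h := hab (y * a) 1 (by
      rw [eq_div_iff (pow_ne_zero 2 ha)] at hy
      linear_combination hy + CharTwo.add_self_eq_zero b)
    exact one_ne_zero h.2
  have h2 : ¬ P2 ζ := by
    rintro ⟨y, hy⟩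
    exact hζ y (by rw [hy, CharTwo.add_self_eq_zero])
  obtain ⟨t, ht⟩ : P2 (b / a ^ 2 + ζ) := by
    rw [P2_iff] at h1 h2 ⊢
    rw [AddSubgroup.add_mem_iff_of_index_two range_index]
    exact iff_of_false h1 h2
  let φ : ((Fin k ⊕ Fin k) ⊕ Fin 2 → F) →ₗ[F] ((Fin k ⊕ Fin k) ⊕ Fin 2 → F) :=
    { toFun := fun v => Sum.elim (v ∘ Sum.inl) ![v (Sum.inr 0) + t * a * v (Sum.inr 1), a * v (Sum.inr 1)]
      map_add' := fun u v => by
        funext s
        rcases s with s | s
        · rfl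
        · fin_cases s <;> simp <;> ring
      map_smul' := fun c v => by
        funext s
        rcases s with s | s
        · rfl
        · fin_cases s <;> simp <;> ring }
  have hinj : Function.Injective φ := (injective_iff_map_eq_zero φ).mpr fun v hv => by
    have e1 := congrFun hv (Sum.inr 1)
    have e0 := congrFun hv (Sum.inr 0)
    simp [φ, ha] at e1
    simp [φ, e1] at e0
    funext s
    rcases s with s | s
    · simpa [φ] using congrFun hv (Sum.inl s)
    · fin_cases s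
      · exact e0
      · exact e1
  refine ⟨LinearEquiv.ofBijective φ ⟨hinj, LinearMap.injective_iff_surjective.mp hinj⟩, fun v => ?_⟩
  have hb : a ^ 2 * (t ^ 2 + t + ζ) = b := by
    rw [ht, add_assoc, CharTwo.add_self_eq_zero, add_zero, mul_div_cancel₀ _ (pow_ne_zero 2 ha)]
  show Cfsg.quadFormMinus k F 1 ζ (φ v) = _
  simp only [φ, LinearMap.coe_mk, AddHom.coe_mk, Cfsg.quadFormMinus, Sum.elim_inl,
    Sum.elim_inr, Function.comp_apply, Matrix.cons_val_zero, Matrix.cons_val_one]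
  have h20 : (2 : F) = 0 := CharTwo.two_eq_zero
  linear_combination (v (Sum.inr 1)) ^ 2 * hb + t * a * v (Sum.inr 0) * v (Sum.inr 1) * h20

theorem minus_exists_fpf {d r : ℕ} (hd : 4 ≤ d) (hr : r.Prime) (hr2 : r ≠ 2)
    (hq : (Fintype.card F : ZMod r) ^ d = -1) {a b : F}
    (hab : ∀ x y : F, x ^ 2 + a * x * y + b * y ^ 2 = 0 → x = 0 ∧ y = 0) :
    ∃ g : Cfsg.isometryGroup F (Cfsg.quadFormMinus (d - 1) F a b),
      g ∈ Cfsg.Omega F (Cfsg.quadFormMinus (d - 1) F a b) ∧
      (g.1 : GL _ F) ^ r = 1 ∧ ∀ v, g.1.1 *ᵥ v = v → v = 0 := by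
  classical
  haveI := Fact.mk hr
  haveI : Finite F := Finite.of_fintype F
  haveI : Fact (Nat.Prime 2) := ⟨Nat.prime_two⟩
  haveI : NeZero (2 * d) := ⟨by omega⟩
  let L := FiniteField.Extension F 2 (2 * d)
  haveI : Module.Finite F L := Module.Finite.of_finite
  letI : Fintype L := Fintype.ofFinite L
  set q := Fintype.card F with hqdef
  have hq1 : 1 < q := Fintype.one_lt_card
  have hLc : Nat.card L = q ^ (2 * d) := by rw [FiniteField.natCard_extension, Nat.card_eq_fintype_card]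
  have hLd : finrank F L = 2 * d := FiniteField.finrank_extension F 2 (2 * d)
  obtain ⟨z, hz⟩ : ∃ z : Lˣ, orderOf z = r := by
    refine exists_prime_orderOf_dvd_card' r ?_
    rw [Nat.card_units, hLc, ← ZMod.natCast_eq_zero_iff, Nat.cast_sub (Nat.one_le_pow _ _ (by omega)), Nat.cast_pow,
      mul_comm, pow_mul, hq]
    simp
  have hzr : (z : L) ^ r = 1 := by rw [← Units.val_pow_eq_pow_val, ← hz, pow_orderOf_eq_one, Units.val_one]
  have hz1 : (z : L) ≠ 1 := fun e => by
    rw [Units.ext (e.trans Units.val_one.symm), orderOf_one] at hz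
    exact hr.ne_one hz.symm
  let fr := FiniteField.frobeniusAlgEquivOfAlgebraic F L
  let σ := fr ^ d
  have hσapp : ∀ u : L, σ u = u ^ (q ^ d) := fun u => by
    show (fr ^ d) u = _
    rw [AlgEquiv.coe_pow]
    exact congrFun (FiniteField.coe_frobeniusAlgEquivOfAlgebraic_iterate F L d) u
  have hord : orderOf fr = 2 * d := by
    rw [FiniteField.orderOf_frobeniusAlgEquivOfAlgebraic, hLd]
  have hσ2 : ∀ u, σ (σ u) = u := fun u => by
    have h : σ * σ = 1 := by
      rw [← pow_add, ← two_mul]; exact orderOf_dvd_iff_pow_eq_one.mp hord.dvd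
    exact DFunLike.congr_fun h u
  obtain ⟨e, he⟩ : ∃ e : L, σ e ≠ e := by
    by_contra h
    push Not at h
    have h1 : fr ^ d = 1 := AlgEquiv.ext h
    have := Nat.le_of_dvd (by omega) (orderOf_dvd_of_pow_eq_one h1)
    omega
  haveI : CharP L 2 := charP_of_injective_algebraMap (algebraMap F L).injective 2
  have hw : e + σ e ≠ 0 := fun h => he ((CharTwo.add_eq_zero.mp h).symm)
  set c := e / (e + σ e) with hcdef
  have hc : c + σ c = 1 := by
    rw [hcdef, map_div₀, map_add, hσ2, add_comm (σ e) e, ← add_div, div_self hw]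
  have hzσ : σ (z : L) * z = 1 := by
    rw [hσapp, ← pow_succ]
    have hdvd : r ∣ q ^ d + 1 := by
      rw [← ZMod.natCast_eq_zero_iff]; push_cast; rw [hq]; ring
    obtain ⟨m, hm⟩ := hdvd
    rw [hm, pow_mul, hzr, one_pow]
  let B : LinearMap.BilinForm F L := LinearMap.mk₂ F (fun u v => Algebra.trace F L (c * σ u * v))
    (fun u u' v => by simp [mul_add, add_mul]) (fun s u v => by simp)
    (fun u v v' => by simp [mul_add]) (fun s u v => by simp)
  let Q : QuadraticForm F L := LinearMap.BilinMap.toQuadraticMap B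
  have hQ : ∀ u, Q u = Algebra.trace F L (c * σ u * u) := fun u => rfl
  have hpol : ∀ u v, polar Q u v = Algebra.trace F L (σ u * v) := fun u v => by
    show polar (fun w => Q w) u v = _
    simp only [polar, hQ, map_add, mul_add, add_mul]
    have hswap : Algebra.trace F L (c * σ v * u) = Algebra.trace F L (σ c * σ u * v) := by
      rw [← Algebra.trace_eq_of_algEquiv σ (c * σ v * u), map_mul σ, map_mul σ, hσ2]
      congr 1; ring
    have hsum : Algebra.trace F L (σ u * v) = Algebra.trace F L (c * σ u * v) + Algebra.trace F L (σ c * σ u * v) := by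
      rw [← map_add]; congr 1; linear_combination -(σ u * v) * hc
    rw [hsum, ← hswap]
    ring
  have hnd : FiniteForms.PolarNondeg Q := fun u hu => by
    have h : σ u = 0 := (traceForm_nondegenerate F L).1 _ fun v => by
      rw [Algebra.traceForm_apply, ← hpol]; exact hu v
    exact (map_eq_zero_iff σ σ.injective).mp h
  have hzQ : ∀ u, Q ((z : L) * u) = Q u := fun u => by
    rw [hQ, hQ, map_mul σ]; congr 1; linear_combination (c * σ u * u) * hzσ
  -- it is elliptic
  obtain ⟨e', f', h⟩ | ⟨e', f', x, y, h, hx, hy, hQx, hxy, hnr, hli⟩ :=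
    FiniteForms.even_dichotomy hnd (m := d) (by omega) hLd
  · exfalso
    obtain ⟨φ, hφ⟩ := FiniteForms.isometry_of_hypFam h hLd
    have hZ : Nat.card {u : L // Q u = 0} = q ^ (2 * d - 1) + q ^ d - q ^ (d - 1) := by
      rw [Nat.card_congr (φ.toEquiv.subtypeEquiv (q := fun v => Cfsg.quadFormPlus d F v = 0) fun u => by
        rw [hφ]; rfl)]
      exact QuadCount.card_plus d (by omega)
    let f : Function.End {u : L // Q u = 0} := fun u => ⟨(z : L) * u.1, by rw [hzQ]; exact u.2⟩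
    have hfp : ∀ (j : ℕ) u, ((f ^ j) u).1 = (z : L) ^ j * u.1 := by
      intro j
      induction j with
      | zero => intro u; rw [pow_zero, pow_zero, one_mul]; rfl
      | succ j ih => intro u; rw [pow_succ']; show (z : L) * ((f ^ j) u).1 = _; rw [ih]; ring
    have hmod := Equiv.Perm.card_fixedPoints_modEq (f := f) (p := r) (n := 1) (by
      funext u
      apply Subtype.ext
      rw [pow_one, hfp, hzr, one_mul]
      rfl)
    rw [← Nat.card_eq_fintype_card, hZ] at hmod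
    have hfix : Fintype.card (Function.fixedPoints f) = 1 := by
      rw [Fintype.card_eq_one_iff]
      refine ⟨⟨⟨0, QuadraticMap.map_zero Q⟩, Subtype.ext (mul_zero _)⟩, fun u => Subtype.ext (Subtype.ext ?_)⟩
      by_contra hne
      exact hz1 (mul_right_cancel₀ hne ((congrArg Subtype.val u.2).trans (one_mul _).symm))
    rw [hfix, ← ZMod.natCast_eq_natCast_iff] at hmod
    have hle : q ^ (d - 1) ≤ q ^ (2 * d - 1) + q ^ d :=
      (Nat.pow_le_pow_right (by omega) (by omega)).trans (Nat.le_add_left _ _)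
    rw [Nat.cast_sub hle] at hmod
    push_cast at hmod
    set R := (q : ZMod r) ^ (d - 1) with hR
    have e1 : (q : ZMod r) * R = -1 := by rw [hR, ← pow_succ', Nat.sub_add_cancel (by omega : 1 ≤ d), hq]
    have e2 : (q : ZMod r) ^ (2 * d - 1) = -R := by
      rw [show 2 * d - 1 = d + (d - 1) by omega, pow_add, hq, ← hR]; ring
    rw [e2, hq] at hmod
    have h2 : (2 : ZMod r) ≠ 0 := fun h0 => hr2 ((Nat.prime_dvd_prime_iff_eq hr Nat.prime_two).mp
      ((ZMod.natCast_eq_zero_iff 2 r).mp (by exact_mod_cast h0)))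
    have e3 : R = -1 := by
      have : (2 : ZMod r) * (R + 1) = 0 := by linear_combination -hmod
      exact eq_neg_of_add_eq_zero_left ((mul_eq_zero.mp this).resolve_left h2)
    have e4 : (q : ZMod r) = 1 := by rw [e3] at e1; linear_combination -e1
    rw [e4, one_pow] at hq
    exact h2 (by linear_combination hq)
  · obtain ⟨φ, hφ⟩ := FiniteForms.isometry_of_elliptic h hx hy hxy hQx hli (show finrank F L = 2 * (d - 1) + 2 by omega)
    obtain ⟨ψ, hψ⟩ := minus_equiv (d - 1) hab hnr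
    let Φ := φ.trans ψ.symm
    have hΦ : ∀ u, Cfsg.quadFormMinus (d - 1) F a b (Φ u) = Q u := fun u => by
      rw [hφ, ← hψ]; simp [Φ]
    let m : L →ₗ[F] L := LinearMap.mulLeft F (z : L)
    let T := Φ.conjAlgEquiv F m
    let M := LinearMap.toMatrixAlgEquiv' T
    have hMpow : M ^ r = 1 := by
      rw [← map_pow, ← map_pow, LinearMap.pow_mulLeft, hzr, LinearMap.mulLeft_one, ← Module.End.one_eq_id, map_one, map_one]
    have hM : ∀ v, M *ᵥ v = Φ ((z : L) * Φ.symm v) := fun v => by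
      show (LinearMap.toMatrix' T) *ᵥ v = _
      rw [LinearMap.toMatrix'_mulVec]
      simp [T, m, LinearEquiv.conjAlgEquiv_apply]
    let gu : GL ((Fin (d - 1) ⊕ Fin (d - 1)) ⊕ Fin 2) F := Units.ofPowEqOne M r hMpow hr.ne_zero
    let g : Cfsg.isometryGroup F (Cfsg.quadFormMinus (d - 1) F a b) := ⟨gu, fun v _ => by
      show Cfsg.quadFormMinus (d - 1) F a b (M *ᵥ v) = Cfsg.quadFormMinus (d - 1) F a b v
      rw [hM, hΦ, hzQ, ← hΦ, LinearEquiv.apply_symm_apply]⟩
    have hfix : ∀ v, g.1.1 *ᵥ v = v → v = 0 := fun v hv => by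
      change M *ᵥ v = v at hv
      rw [hM] at hv
      have h1 : (z : L) * Φ.symm v = Φ.symm v := Φ.injective (hv.trans (Φ.apply_symm_apply v).symm)
      have h0 : Φ.symm v = 0 := by
        by_contra hne
        exact hz1 (mul_right_cancel₀ hne (h1.trans (one_mul _).symm))
      rw [← Φ.apply_symm_apply v, h0, map_zero]
    refine ⟨g, (minus_omega_iff hab g).mpr ?_, Units.pow_ofPowEqOne hMpow hr.ne_zero, hfix⟩
    rw [range_top_of_fixedPointFree hfix, Fintype.card_sum, Fintype.card_sum, Fintype.card_fin, Fintype.card_fin]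
    exact ⟨d, by omega⟩

theorem minus_iff {d r : ℕ} (hd : 4 ≤ d) (hr : r.Prime) {a b : F}
    (hab : ∀ x y : F, x ^ 2 + a * x * y + b * y ^ 2 = 0 → x = 0 ∧ y = 0)
    (hΩ : r ∣ Nat.card {W : Submodule F ((Fin (d - 1) ⊕ Fin (d - 1)) ⊕ Fin 2 → F) // finrank F ↥W = 1 ∧ ∃ v ∈ W, Cfsg.quadFormMinus (d - 1) F a b v ≠ 0}) :
    (∀ x : GL ((Fin (d - 1) ⊕ Fin (d - 1)) ⊕ Fin 2) F, x ∈ Cfsg.Geo.omegaGL (Cfsg.quadFormMinus (d - 1) F a b) →
      (∃ z : F, ((x ^ r : GL ((Fin (d - 1) ⊕ Fin (d - 1)) ⊕ Fin 2) F) : Matrix ((Fin (d - 1) ⊕ Fin (d - 1)) ⊕ Fin 2) ((Fin (d - 1) ⊕ Fin (d - 1)) ⊕ Fin 2) F) = z • (1 : Matrix ((Fin (d - 1) ⊕ Fin (d - 1)) ⊕ Fin 2) ((Fin (d - 1) ⊕ Fin (d - 1)) ⊕ Fin 2) F)) →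
      (∀ z : F, (x : Matrix ((Fin (d - 1) ⊕ Fin (d - 1)) ⊕ Fin 2) ((Fin (d - 1) ⊕ Fin (d - 1)) ⊕ Fin 2) F) ≠ z • (1 : Matrix ((Fin (d - 1) ⊕ Fin (d - 1)) ⊕ Fin 2) ((Fin (d - 1) ⊕ Fin (d - 1)) ⊕ Fin 2) F)) →
      ∃ W : Submodule F ((Fin (d - 1) ⊕ Fin (d - 1)) ⊕ Fin 2 → F), (finrank F ↥W = 1 ∧ ∃ v ∈ W, Cfsg.quadFormMinus (d - 1) F a b v ≠ 0) ∧ W.map (Matrix.toLin' (x : Matrix ((Fin (d - 1) ⊕ Fin (d - 1)) ⊕ Fin 2) ((Fin (d - 1) ⊕ Fin (d - 1)) ⊕ Fin 2) F)) ≤ W) ↔ r = 2 := by
  classical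
  haveI := Fact.mk hr
  let v₁ : (Fin (d - 1) ⊕ Fin (d - 1)) ⊕ Fin 2 → F := Pi.single (Sum.inr 0) 1
  have hv₁ : Cfsg.quadFormMinus (d - 1) F a b v₁ ≠ 0 := by simp [v₁, Cfsg.quadFormMinus, Pi.single_apply]
  constructor
  · intro H
    by_contra hr2
    have hZ := QuadCount.card_minus (F := F) d (by omega) a b hab
    have hnz := card_nonzeros _ _ hZ
    rw [Fintype.card_sum, Fintype.card_sum, Fintype.card_fin, Fintype.card_fin] at hnz
    set q := Fintype.card F with hqdef
    have hq1 : 1 < q := Fintype.one_lt_card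
    have hA : Nat.card {v : (Fin (d - 1) ⊕ Fin (d - 1)) ⊕ Fin 2 → F // Cfsg.quadFormMinus (d - 1) F a b v ≠ 0} =
        (q - 1) * (q ^ (d - 1) * (q ^ d + 1)) := by
      obtain ⟨k, rfl⟩ := Nat.exists_eq_add_of_le (show 1 ≤ d by omega)
      rw [hnz, show 1 + k - 1 + (1 + k - 1) + 2 = 2 * k + 2 by omega, show 2 * (1 + k) - 1 = 2 * k + 1 by omega,
        show 1 + k - 1 = k by omega]
      have e1 : q ^ (1 + k) ≤ q ^ (2 * k + 1) := Nat.pow_le_pow_right (by omega) (by omega)
      have e2 : q ^ (2 * k + 1) + q ^ k - q ^ (1 + k) ≤ q ^ (2 * k + 2) := by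
        have h1 : q ^ (2 * k + 2) = q * q ^ (2 * k + 1) := by rw [← pow_succ']
        have h2 : q ^ k ≤ q ^ (2 * k + 1) := Nat.pow_le_pow_right (by omega) (by omega)
        have h3 := Nat.mul_le_mul_right (q ^ (2 * k + 1)) hq1
        omega
      zify [e2, le_add_right e1, hq1.le]
      ring
    have hdvd := prime_dvd_cases _ (minus_smul (d - 1) a b) hr hA hΩ
    have hrq : ¬ r ∣ q := fun h => hr2 ((Elusive.dvd_q_iff (F := F) (p := 2) hr).mp h)
    have hqd : (q : ZMod r) ^ d = -1 := by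
      have h := (hr.dvd_mul.mp hdvd).resolve_left fun h => hrq (hr.dvd_of_dvd_pow h)
      rw [← ZMod.natCast_eq_zero_iff, Nat.cast_add] at h
      push_cast at h
      linear_combination h
    obtain ⟨g, hg, hpow, hfix⟩ := minus_exists_fpf hd hr hr2 hqd hab
    exact not_all_fixed _ hr hr2 (minus_smul (d - 1) a b) hv₁ g hg hpow hfix H
  · rintro rfl x ⟨g, hg, rfl⟩ ⟨z, hz⟩ _
    refine fixed_point_of_ker _ (minus_smul (d - 1) a b) hv₁ (b := d - 1)
      (fun U hU => FiniteForms.minus_totally_singular_le hab U hU) (fun v => g.2 v v) hz ?_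
    rw [Fintype.card_sum, Fintype.card_sum, Fintype.card_fin, Fintype.card_fin]
    omega

end CfsgLib.MaxSub.Nonsingular
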