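/-
Elements of order three inside the normaliser of a Singer cycle of `GL 3`.
-/
import Cfsg.Agent.Lib.MaxSub.ElusiveSinger

set_option autoImplicit false
set_option linter.unusedSectionVars false

namespace CfsgLib.MaxSub.Elusive

open Polynomial Module

universe u

variable {F : Type u} [Field F] [Fintype F]

theorem det_two_eigen (U : Module.End F (Fin 3 → F)) {a b : F} (h : (U - b • 1) * (U - a • 1) = 0) :
    LinearMap.det U = b ^ finrank F (LinearMap.range (U - a • 1)) * a ^ (3 - finrank F (LinearMap.range (U - a • 1))) := by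
  set R := LinearMap.range (U - a • 1)
  have hb : ∀ v ∈ R, U v = b • v := by
    rintro _ ⟨w, rfl⟩
    have h' := LinearMap.congr_fun h w
    rw [Module.End.mul_apply, LinearMap.zero_apply] at h'
    exact sub_eq_zero.mp h'
  have hRT : R ≤ R.comap U := fun v hv => by
    show U v ∈ R
    rw [hb v hv]
    exact R.smul_mem b hv
  have hres : U.restrict hRT = b • LinearMap.id := LinearMap.ext fun v => Subtype.ext (by
    show U v.1 = _
    rw [hb _ v.2, LinearMap.smul_apply, LinearMap.id_apply, SetLike.val_smul])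
  have hquot : R.mapQ R U hRT = a • LinearMap.id := LinearMap.ext fun v => by
    obtain ⟨v, rfl⟩ := Submodule.mkQ_surjective R v
    rw [Submodule.mkQ_apply, Submodule.mapQ_apply, LinearMap.smul_apply, LinearMap.id_apply, ← Submodule.Quotient.mk_smul,
      Submodule.Quotient.eq]
    exact ⟨v, rfl⟩
  have hq := R.finrank_quotient_add_finrank
  rw [Module.finrank_fin_fun] at hq
  rw [LinearMap.det_eq_det_mul_det R U hRT, hres, hquot, LinearMap.det_smul, LinearMap.det_smul, LinearMap.det_id,
    LinearMap.det_id, mul_one, mul_one, show finrank F ((Fin 3 → F) ⧸ R) = 3 - finrank F R by omega]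

/-- Three eigenvectors. -/
theorem regular_three (U : Module.End F (Fin 3 → F)) {ω : F} (hω : ω ≠ 1) (hω3 : ω ^ 3 = 1) (hU : U ^ 3 = 1)
    (hdet : LinearMap.det U = 1) (hns : ∀ c : F, U ≠ c • 1) :
    LinearMap.ker (U - 1) ≠ ⊥ ∧ ∃ v, LinearIndependent F fun j : Fin 3 => (U ^ (j : ℕ)) v := by
  classical
  let s : Fin 3 → F := fun j => ω ^ (j : ℕ)
  have hω0 : ω ≠ 0 := fun h => by rw [h] at hω3; simp at hω3
  have hsum : ω ^ 2 + ω + 1 = 0 := by
    have h : (ω - 1) * (ω ^ 2 + ω + 1) = 0 := by linear_combination hω3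
    exact (mul_eq_zero.mp h).resolve_left (sub_ne_zero.mpr hω)
  have hω2 : ω ^ 2 ≠ 1 := fun h => hω (by linear_combination hω3 - ω * h)
  have hinj : Function.Injective s := by
    intro i j h
    fin_cases i <;> fin_cases j <;> simp [s] at h ⊢
    · exact hω h.symm
    · exact hω2 (by first | exact h | exact h.symm | (rcases h with e | e <;> simp [e]))
    · exact hω h
    · exact hω (mul_left_cancel₀ hω0 (by linear_combination -h))
    · exact hω2 (by first | exact h | exact h.symm | (rcases h with e | e <;> simp [e]))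
    · exact hω (mul_left_cancel₀ hω0 (by linear_combination h))
  have hs3 : ∀ j, s j ^ 3 = 1 := fun j => by rw [← pow_mul, mul_comm, pow_mul, hω3, one_pow]
  have hprod : (U - s 0 • 1) * (U - s 1 • 1) * (U - s 2 • 1) = 0 := by
    have h0 : (((X : F[X]) - Polynomial.C (s 0)) * (X - Polynomial.C (s 1)) * (X - Polynomial.C (s 2))) = X ^ 3 - 1 := by
      have hC3 : Polynomial.C ω ^ 3 = (1 : F[X]) := by rw [← map_pow, hω3, map_one]
      have hCs : Polynomial.C ω ^ 2 + Polynomial.C ω + 1 = (0 : F[X]) := by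
        rw [← map_pow, ← map_add, ← map_one (Polynomial.C (R := F)), ← map_add, hsum, map_zero]
      simp only [s, Fin.val_zero, Fin.val_one, Fin.val_two, pow_zero, pow_one, map_one, map_pow]
      linear_combination (-X ^ 2 + Polynomial.C ω * X) * hCs - hC3
    have := congrArg (aeval U) h0
    simpa [hU, Algebra.algebraMap_eq_smul_one] using this
  have hcomm : ∀ a b : F, (U - a • 1) * (U - b • 1) = (U - b • 1) * (U - a • 1) := fun a b => by
    simp only [sub_mul, mul_sub, Algebra.smul_mul_assoc, Algebra.mul_smul_comm, one_mul, mul_one]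
    module
  have key : ∀ c a b : F, (U - c • 1) * ((U - b • 1) * (U - a • 1)) = 0 → a ≠ b → a ^ 3 = 1 → b ^ 3 = 1 →
      LinearMap.ker (U - c • 1) ≠ ⊥ := by
    intro c a b h hab ha hb hker
    have h' : (U - b • 1) * (U - a • 1) = 0 := LinearMap.ext fun v => by
      have := LinearMap.congr_fun h v
      rw [Module.End.mul_apply, LinearMap.zero_apply] at this
      exact LinearMap.ker_eq_bot.mp hker (this.trans (map_zero _).symm)
    have hd := det_two_eigen U h'
    rw [hdet] at hd
    have ha0 : a ≠ 0 := fun e => by rw [e] at ha; simp at ha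
    set r := finrank F (LinearMap.range (U - a • 1)) with hr
    have hr3 : r ≤ 3 := (Submodule.finrank_le _).trans_eq (Module.finrank_fin_fun F)
    rcases (show r = 0 ∨ r = 1 ∨ r = 2 ∨ r = 3 by omega) with h0 | h1 | h2 | h3
    · exact hns a (sub_eq_zero.mp (LinearMap.range_eq_bot.mp (Submodule.finrank_eq_zero.mp h0)))
    · rw [h1, show (3 : ℕ) - 1 = 2 from rfl, pow_one] at hd
      exact hab (by linear_combination a * hd + b * ha)
    · rw [h2, show (3 : ℕ) - 2 = 1 from rfl, pow_one] at hd
      exact hab (by linear_combination -b * hd - a * hb)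
    · refine hns b (sub_eq_zero.mp (LinearMap.ext fun v => ?_))
      have htop : LinearMap.range (U - a • 1) = ⊤ := Submodule.eq_top_of_finrank_eq (by rw [Module.finrank_fin_fun]; exact h3)
      obtain ⟨w, rfl⟩ : v ∈ LinearMap.range (U - a • 1) := htop ▸ Submodule.mem_top
      exact LinearMap.congr_fun h' w
  have hk : ∀ j, LinearMap.ker (U - s j • 1) ≠ ⊥ := by
    intro j
    fin_cases j
    · refine key _ (s 2) (s 1) ?_ (fun h => absurd (hinj h) (by decide)) (hs3 _) (hs3 _)
      rw [← mul_assoc]; exact hprod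
    · refine key _ (s 2) (s 0) ?_ (fun h => absurd (hinj h) (by decide)) (hs3 _) (hs3 _)
      rw [← mul_assoc, hcomm]; exact hprod
    · refine key _ (s 1) (s 0) ?_ (fun h => absurd (hinj h) (by decide)) (hs3 _) (hs3 _)
      show (U - s 2 • 1) * _ = 0
      rw [← mul_assoc, hcomm (s 2), mul_assoc, hcomm (s 2), ← mul_assoc]; exact hprod
  choose e he he0 using fun j => Submodule.exists_mem_ne_zero_of_ne_bot (hk j)
  have heig : ∀ j, U (e j) = s j • e j := fun j => by
    have := LinearMap.mem_ker.mp (he j)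
    rwa [LinearMap.sub_apply, LinearMap.smul_apply, Module.End.one_apply, sub_eq_zero] at this
  refine ⟨by have := hk 0; simpa [s] using this, ∑ j, e j, ?_⟩
  have hli : LinearIndependent F e :=
    Module.End.eigenvectors_linearIndependent' U s hinj e fun j =>
      ⟨Module.End.mem_eigenspace_iff.mpr (heig j), he0 j⟩
  rw [Fintype.linearIndependent_iff]
  intro c hc
  set P : F[X] := ∑ i : Fin 3, Polynomial.C (c i) * X ^ (i : ℕ) with hP
  have hpow : ∀ (i : ℕ) j, (U ^ i) (e j) = s j ^ i • e j := by
    intro i j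
    induction i with
    | zero => simp
    | succ i ih => rw [pow_succ', Module.End.mul_apply, ih, map_smul, heig, smul_smul, pow_succ]
  have h0 : ∑ j, P.eval (s j) • e j = 0 := by
    rw [← hc]
    simp only [hP, map_sum, hpow, eval_finset_sum, eval_mul, eval_C, eval_pow, eval_X, Finset.sum_smul, Finset.smul_sum,
      smul_smul]
    rw [Finset.sum_comm]
  have hroots := Fintype.linearIndependent_iff.mp hli _ h0
  have hP0 : P = 0 := by
    refine Polynomial.eq_zero_of_natDegree_lt_card_of_eval_eq_zero P hinj hroots ?_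
    refine lt_of_le_of_lt (natDegree_sum_le_of_forall_le (n := 2) _ _ fun i _ =>
      (natDegree_C_mul_X_pow_le _ _).trans (by omega)) (by simp)
  intro j
  have := congrArg (fun Q : F[X] => Q.coeff (j : ℕ)) hP0
  simpa [hP, Polynomial.finset_sum_coeff, coeff_C_mul, coeff_X_pow, Fin.val_inj, Finset.sum_ite_eq] using this

theorem two_ne_one_zmod_three : ((2 : ℕ) : ZMod 3) ≠ 1 := by decide

theorem nine_not_dvd_card_SL {q : ℕ} (hq : q % 9 = 2 ∨ q % 9 = 5) (h : Fintype.card F = q) :
    ¬ 9 ∣ Nat.card (Matrix.SpecialLinearGroup (Fin 3) F) := by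
  classical
  intro hd
  have h1 := CfsgLib.SLCard.card_units_mul_card_SL (F := F) (n := 3) (by norm_num)
  rw [Matrix.card_GL_field, Fin.prod_univ_three] at h1
  simp only [Fin.val_zero, Fin.val_one, Fin.val_two, pow_zero, pow_one, h] at h1
  have h9 : 9 ∣ (q ^ 3 - 1) * (q ^ 3 - q) * (q ^ 3 - q ^ 2) := h1 ▸ dvd_mul_of_dvd_right hd _
  have hq1 : 1 ≤ q := by omega
  have e1 : 1 ≤ q ^ 3 := Nat.one_le_pow _ _ hq1
  have e2 : q ≤ q ^ 3 := Nat.le_self_pow (by norm_num) q
  have e3 : q ^ 2 ≤ q ^ 3 := Nat.pow_le_pow_right hq1 (by norm_num)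
  have hz := (ZMod.natCast_eq_zero_iff _ 9).mpr h9
  rw [Nat.cast_mul, Nat.cast_mul, Nat.cast_sub e1, Nat.cast_sub e2, Nat.cast_sub e3] at hz
  have hqc : (q : ZMod 9) = ((q % 9 : ℕ) : ZMod 9) := (ZMod.natCast_mod q 9).symm
  push_cast at hz
  rcases hq with hq | hq <;> rw [hq] at hqc <;> rw [hqc] at hz <;> revert hz <;> decide

theorem exists_fix_two {K : Subalgebra F (Matrix (Fin 3) (Fin 3) F)} (hK : Cfsg.Geo.IsFieldSubalgebra 3 K)
    (x P : Matrix.SpecialLinearGroup (Fin 3) F) (b : F)
    (hfix : ∀ u : Fin 3 → F, u 2 = 0 → (b⁻¹ • Matrix.toLinAlgEquiv' (x : Matrix (Fin 3) (Fin 3) F) - 1) u = 0)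
    (hne : b⁻¹ • Matrix.toLinAlgEquiv' (x : Matrix (Fin 3) (Fin 3) F) - 1 ≠ 0)
    (hP : P⁻¹ * x * P ∈ (Cfsg.Geo.subalgebraNormalizer K).comap (Matrix.SpecialLinearGroup.toGL : Matrix.SpecialLinearGroup (Fin 3) F →* GL (Fin 3) F)) :
    False := by
  refine singer_no_conj hK Nat.prime_three x P b ?_ ?_ hP
  · let f : (Fin 2 → F) →ₗ[F] (Fin 3 → F) :=
      { toFun := fun c => ![c 0, c 1, 0]
        map_add' := fun a b => by ext i; fin_cases i <;> simp
        map_smul' := fun t a => by ext i; fin_cases i <;> simp }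
    have hinj : Function.Injective f := fun a c h => by
      funext j
      fin_cases j
      · simpa [f] using congrFun h 0
      · simpa [f] using congrFun h 1
    have hle : LinearMap.range f ≤ LinearMap.ker (b⁻¹ • Matrix.toLinAlgEquiv' (x : Matrix (Fin 3) (Fin 3) F) - 1) := by
      rintro _ ⟨c, rfl⟩
      exact hfix _ (by simp [f])
    have := Submodule.finrank_mono hle
    rwa [LinearMap.finrank_range_of_inj hinj, Module.finrank_fin_fun] at this
  · refine lt_of_lt_of_eq (Submodule.finrank_lt fun h => hne ?_) (Module.finrank_fin_fun F)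
    exact LinearMap.ker_eq_top.mp h

theorem singer_three_iff (p : ℕ) [Fact p.Prime] [CharP F p] {K : Subalgebra F (Matrix (Fin 3) (Fin 3) F)} (hK : Cfsg.Geo.IsFieldSubalgebra 3 K)
    (hΩ : 3 ∣ ((Cfsg.Geo.subalgebraNormalizer K).comap (Matrix.SpecialLinearGroup.toGL : Matrix.SpecialLinearGroup (Fin 3) F →* GL (Fin 3) F)).index) :
    (∀ x : Matrix.SpecialLinearGroup (Fin 3) F,
      (∃ z : F, ((x ^ 3 : Matrix.SpecialLinearGroup (Fin 3) F) : Matrix (Fin 3) (Fin 3) F) = z • (1 : Matrix (Fin 3) (Fin 3) F)) →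
      (∀ z : F, (x : Matrix (Fin 3) (Fin 3) F) ≠ z • (1 : Matrix (Fin 3) (Fin 3) F)) →
      ∃ P : Matrix.SpecialLinearGroup (Fin 3) F, P⁻¹ * x * P ∈ ((Cfsg.Geo.subalgebraNormalizer K).comap (Matrix.SpecialLinearGroup.toGL : Matrix.SpecialLinearGroup (Fin 3) F →* GL (Fin 3) F))) ↔
    (Fintype.card F % 9 = 4 ∨ Fintype.card F % 9 = 7 ∨ Fintype.card F % 9 = 8) := by
  classical
  haveI : Fact (Nat.Prime 3) := ⟨Nat.prime_three⟩
  set q := Fintype.card F with hqdef
  have hq1 : 1 < q := Fintype.one_lt_card
  have h3p : 3 ∣ q ↔ 3 = p := dvd_q_iff (F := F) Nat.prime_three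
  have hord : ∀ m, q % 3 = m → orderOf (q : ZMod 3) = orderOf (m : ZMod 3) := fun m hm => by
    rw [← hm, ZMod.natCast_mod]
  constructor
  · intro H
    by_contra hc
    have hcases : q % 3 = 0 ∨ q % 9 = 1 ∨ q % 9 = 2 ∨ q % 9 = 5 := by omega
    rcases hcases with h0 | h1 | h25
    · have hp := (h3p.mp (by omega)).symm
      subst hp
      let x : Matrix.SpecialLinearGroup (Fin 3) F := ⟨Matrix.transvection 0 2 1, Matrix.det_transvection_of_ne _ _ (by decide) _⟩
      have hx3 : ((x ^ 3 : Matrix.SpecialLinearGroup (Fin 3) F) : Matrix (Fin 3) (Fin 3) F) = (1 : F) • 1 := by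
        rw [Matrix.SpecialLinearGroup.coe_pow, one_smul]
        show Matrix.transvection 0 2 (1 : F) ^ 3 = 1
        rw [pow_succ, pow_two, Matrix.transvection_mul_transvection_same _ _ (by decide),
          Matrix.transvection_mul_transvection_same _ _ (by decide),
          show (1 : F) + 1 + 1 = ((3 : ℕ) : F) by norm_num, CharP.cast_eq_zero, Matrix.transvection_zero]
      obtain ⟨P, hP⟩ := H x ⟨1, hx3⟩ (fun z hz => by
        have h := congrFun (congrFun hz 0) 2
        simp [x, Matrix.transvection] at h)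
      have hxu : ∀ u, ((1 : F)⁻¹ • Matrix.toLinAlgEquiv' (x : Matrix (Fin 3) (Fin 3) F) - 1) u = Pi.single 0 (u 2) := fun u => by
        rw [inv_one, one_smul]
        show (Matrix.transvection 0 2 (1 : F)).mulVec u - u = _
        rw [Matrix.transvection, Matrix.add_mulVec, Matrix.one_mulVec, add_sub_cancel_left, Matrix.single_mulVec, one_mul]
        rfl
      refine exists_fix_two hK x P 1 (fun u hu => by rw [hxu, hu, Pi.single_zero]) (fun h => ?_) hP
      have := congrFun (LinearMap.congr_fun h (Pi.single 2 1)) 0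
      rw [hxu] at this
      simp at this
    · have h9 : 9 ∣ q - 1 := by omega
      obtain ⟨ζ, hζ⟩ := IsCyclic.exists_ofOrder_eq_natCard (α := Fˣ)
      rw [Nat.card_units, Nat.card_eq_fintype_card, ← hqdef] at hζ
      set b : Fˣ := ζ ^ ((q - 1) / 9)
      have hb : orderOf b = 9 := by
        rw [orderOf_pow_of_dvd (by omega) (by rw [hζ]; exact Nat.div_dvd_of_dvd h9), hζ, Nat.div_div_self h9 (by omega)]
      have hb9 : (b : F) ^ 9 = 1 := by rw [← Units.val_pow_eq_pow_val, ← hb, pow_orderOf_eq_one, Units.val_one]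
      have hb3 : (b : F) ^ 3 ≠ 1 := fun h => by
        have := orderOf_dvd_of_pow_eq_one (show b ^ 3 = 1 from Units.ext (by rw [Units.val_pow_eq_pow_val, h, Units.val_one]))
        rw [hb] at this
        norm_num at this
      have hb0 : (b : F) ≠ 0 := b.ne_zero
      let d : Fin 3 → F := ![(b : F), b, (b : F) * ((b : F) ^ 3)⁻¹]
      have hdet : (Matrix.diagonal d).det = 1 := by
        rw [Matrix.det_diagonal, Fin.prod_univ_three]
        simp [d]
        field_simp
      let x : Matrix.SpecialLinearGroup (Fin 3) F := ⟨Matrix.diagonal d, hdet⟩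
      have hxu : ∀ u i, ((b : F)⁻¹ • Matrix.toLinAlgEquiv' (x : Matrix (Fin 3) (Fin 3) F) - 1) u i = ((b : F)⁻¹ * d i - 1) * u i := fun u i => by
        rw [sub_mul, one_mul, mul_assoc]
        show (b : F)⁻¹ * (Matrix.diagonal d).mulVec u i - u i = _
        rw [Matrix.mulVec_diagonal]
      obtain ⟨P, hP⟩ := H x ⟨(b : F) ^ 3, by
          rw [Matrix.SpecialLinearGroup.coe_pow]
          show Matrix.diagonal d ^ 3 = _
          rw [Matrix.diagonal_pow, ← Matrix.diagonal_one, ← Matrix.diagonal_smul]
          congr 1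
          funext i
          fin_cases i <;> simp [d]
          field_simp
          linear_combination -hb9⟩
        (fun z hz => by
          have h0 := congrFun (congrFun hz 0) 0
          have h2 := congrFun (congrFun hz 2) 2
          simp [x, d] at h0 h2
          rw [← h0] at h2
          field_simp at h2
          exact hb3 (by linear_combination -h2))
      refine exists_fix_two hK x P b (fun u hu => funext fun i => ?_) (fun h => ?_) hP
      · rw [hxu]
        fin_cases i <;> simp [d, hu]
      · have := congrFun (LinearMap.congr_fun h (Pi.single 2 1)) 2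
        rw [hxu] at this
        simp [d, hb0, sub_eq_zero] at this
        exact hb3 this
    · -- the index is prime to three
      obtain ⟨Y, w, v, hY, hw, hv0, hYv, hmem⟩ := exists_frobenius hK (by norm_num)
      have hnd : ¬ 3 ∣ q - 1 := by omega
      have hdetY : LinearMap.det Y = 1 := root_unity_one Nat.prime_three hnd (by rw [← map_pow, hY, map_one])
      let y : Matrix.SpecialLinearGroup (Fin 3) F := ⟨LinearMap.toMatrix' Y, by rw [LinearMap.det_toMatrix', hdetY]⟩
      set H' := (Cfsg.Geo.subalgebraNormalizer K).comap (Matrix.SpecialLinearGroup.toGL : Matrix.SpecialLinearGroup (Fin 3) F →* GL (Fin 3) F)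
      have hyH : y ∈ H' := hmem _ rfl
      have hy3 : y ^ 3 = 1 := by
        apply Subtype.ext
        show ((y ^ 3 : Matrix.SpecialLinearGroup (Fin 3) F) : Matrix (Fin 3) (Fin 3) F) = 1
        rw [Matrix.SpecialLinearGroup.coe_pow]
        apply Matrix.toLinAlgEquiv'.injective
        rw [map_pow, map_one]
        show (Matrix.toLin' (LinearMap.toMatrix' Y)) ^ 3 = 1
        rw [Matrix.toLin'_toMatrix', hY]
      have hy1 : y ≠ 1 := by
        intro h
        have hY1 : Y = 1 := by
          have := congrArg (fun g : Matrix.SpecialLinearGroup (Fin 3) F => Matrix.toLin' (g : Matrix (Fin 3) (Fin 3) F)) h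
          simpa [y, Matrix.toLin'_toMatrix', Module.End.one_eq_id] using this
        have h01 := hw.injective (a₁ := 0) (a₂ := 1) (by simp [hY1])
        exact absurd h01 (by decide)
      have hH : 3 ∣ Nat.card H' := by
        have ho : orderOf (⟨y, hyH⟩ : H') = 3 := orderOf_eq_prime (Subtype.ext (by simpa using hy3)) (fun h => hy1 (congrArg Subtype.val h))
        have hdv := orderOf_dvd_natCard (⟨y, hyH⟩ : H')
        rwa [ho] at hdv
      exact nine_not_dvd_card_SL h25 rfl (H'.card_mul_index ▸ Nat.mul_dvd_mul hH hΩ)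
  · rintro hc x ⟨z, hz⟩ hns
    have h3 : ¬ 3 ∣ q := by omega
    have hnp : 3 ≠ p := fun h => h3 (h3p.mpr h)
    have hT := pow_scalar 3 hz
    by_cases h1 : q % 3 = 1
    · have h31 : 3 ∣ q - 1 := by omega
      by_cases hzc : ∃ b : F, b ^ 3 = z
      · obtain ⟨b, rfl⟩ := hzc
        have hz3 : (b ^ 3) ^ 3 = 1 := by
          have h := congrArg Matrix.det hz
          rw [Matrix.det_smul, Matrix.det_one, mul_one, Fintype.card_fin, (x ^ 3).2] at h
          exact h.symm
        have hb : b ^ 3 = 1 := by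
          have hb0 : b ≠ 0 := fun e => by rw [e] at hz3; simp at hz3
          have hg := pow_gcd_eq_one.mpr ⟨(by rw [pow_mul]; exact hz3 : b ^ (3 * 3) = 1), FiniteField.pow_card_sub_one_eq_one b hb0⟩
          have hg3 : Nat.gcd (3 * 3) (Fintype.card F - 1) ∣ 3 := by
            rw [← hqdef]
            have hd := Nat.gcd_dvd (3 * 3) (q - 1)
            obtain ⟨i, hi, hgi⟩ := (Nat.dvd_prime_pow Nat.prime_three (m := 2)).mp (by simpa using hd.1)
            rcases (show i = 0 ∨ i = 1 ∨ i = 2 by omega) with rfl | rfl | rfl <;> rw [hgi] at hd ⊢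
            · norm_num
            · norm_num
            · exfalso; norm_num at hd; omega
          obtain ⟨c, hc'⟩ := hg3
          rw [show b ^ 3 = (b ^ Nat.gcd (3 * 3) (Fintype.card F - 1)) ^ c by rw [← pow_mul, ← hc'], hg, one_pow]
        rw [hb, one_smul] at hT
        obtain ⟨ω, hω⟩ : ∃ ω : Fˣ, orderOf ω = 3 :=
          exists_prime_orderOf_dvd_card' 3 (by rwa [Nat.card_units, Nat.card_eq_fintype_card])
        have hω3 : (ω : F) ^ 3 = 1 := by rw [← Units.val_pow_eq_pow_val, ← hω, pow_orderOf_eq_one, Units.val_one]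
        have hω1 : (ω : F) ≠ 1 := fun h => by
          rw [Units.ext (h.trans Units.val_one.symm), orderOf_one] at hω
          omega
        obtain ⟨hE, v, hv⟩ := regular_three _ hω1 hω3 hT
          (by show LinearMap.det (Matrix.toLin' (x : Matrix (Fin 3) (Fin 3) F)) = 1; rw [LinearMap.det_toLin', x.2])
          (fun c hc' => hns c (by apply Matrix.toLinAlgEquiv'.injective; rw [hc', map_smul, map_one]))
        exact regular_conj hK Nat.prime_three hnp x hT hE hv
      · push Not at hzc
        exact twisted_conj hK Nat.prime_three h31 x hT hzc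
    · have hi : orderOf (q : ZMod 3) = 3 - 1 := by
        rw [hord 2 (by omega)]
        exact orderOf_eq_prime (p := 2) (show ((2 : ℕ) : ZMod 3) ^ 2 = 1 by rfl) two_ne_one_zmod_three
      exact max_order_positive hK Nat.prime_three (by norm_num) hnp hi x hz hns

end CfsgLib.MaxSub.Elusive
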