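/-
Elements of prime order without fixed vectors in the orthogonal groups of both types, all dimensions.
-/
import Cfsg.Agent.Lib.MaxSub.ElusiveNonsingularMinus

set_option autoImplicit false
set_option linter.unusedSectionVars false

namespace CfsgLib.MaxSub.SpQuad

open Module QuadraticMap CfsgLib.SympOrth CfsgLib.MaxSub.Nonsingular
open CfsgLib.Lagrangian (Qp Qp_apply)
open scoped Matrix

universe u

variable {F : Type u} [Field F] [Fintype F] [CharP F 2]

theorem plus_fpf {d r : ℕ} (hd : 1 ≤ d) (hr : r.Prime) (hr2 : r ≠ 2)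
    (hq : (Fintype.card F : ZMod r) ^ d = 1) :
    ∃ g : Cfsg.isometryGroup F (Cfsg.quadFormPlus d F), 
      (g.1 : GL _ F) ^ r = 1 ∧ ∀ v, g.1.1 *ᵥ v = v → v = 0 := by
  classical
  haveI := Fact.mk hr
  have hid : orderOf (Fintype.card F : ZMod r) ∣ d := orderOf_dvd_of_pow_eq_one hq
  obtain ⟨A, hA, hfA⟩ : ∃ A : GL (Fin d) F, A ^ r = 1 ∧ ∀ v, A.1 *ᵥ v = v → v = 0 := by
    by_cases hi : 2 ≤ orderOf (Fintype.card F : ZMod r)
    · obtain ⟨x, hx, -, hker⟩ := Elusive.exists_small_fix (F := F) (p := 2) hr hr2 (n := d) hi (Nat.le_of_dvd (by omega) hid)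
      rw [Nat.mod_eq_zero_of_dvd hid] at hker
      refine ⟨Matrix.SpecialLinearGroup.toGL x, Units.ext ?_, fun v hv => ?_⟩
      · rw [Units.val_pow_eq_pow_val, Units.val_one]
        show (x : Matrix (Fin d) (Fin d) F) ^ r = 1
        rw [← Matrix.SpecialLinearGroup.coe_pow, hx, one_smul]
      · have hm : v ∈ LinearMap.ker (Matrix.toLinAlgEquiv' (x : Matrix (Fin d) (Fin d) F) - 1) := by
          show (x : Matrix (Fin d) (Fin d) F) *ᵥ v - v = 0
          exact sub_eq_zero.mpr hv
        rw [Submodule.finrank_eq_zero.mp (Nat.le_zero.mp hker)] at hm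
        exact (Submodule.mem_bot F).mp hm
    · have hi1 : orderOf (Fintype.card F : ZMod r) = 1 := by
        have := orderOf_pos_iff.mpr (isOfFinOrder_iff_pow_eq_one.mpr ⟨d, by omega, hq⟩)
        omega
      have hdvd : r ∣ Fintype.card F - 1 := by
        rw [← ZMod.natCast_eq_zero_iff, Nat.cast_sub Fintype.card_pos, Nat.cast_one, sub_eq_zero]
        exact orderOf_eq_one_iff.mp hi1
      obtain ⟨ζ, hζ⟩ : ∃ ζ : Fˣ, orderOf ζ = r :=
        exists_prime_orderOf_dvd_card' r (by rwa [Nat.card_units, Nat.card_eq_fintype_card])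
      refine ⟨Matrix.GeneralLinearGroup.scalar (Fin d) ζ, ?_, fun v hv => ?_⟩
      · rw [← map_pow, ← hζ, pow_orderOf_eq_one, map_one]
      · rw [Matrix.GeneralLinearGroup.coe_scalar, Matrix.scalar_apply, ← Matrix.smul_one_eq_diagonal, Matrix.smul_mulVec,
          Matrix.one_mulVec] at hv
        by_contra hv0
        have : (ζ : F) = 1 := smul_left_injective F hv0 (hv.trans (one_smul F v).symm)
        rw [Units.ext (this.trans Units.val_one.symm), orderOf_one] at hζ
        exact hr.ne_one hζ.symm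
  obtain ⟨ψ, hψ⟩ := OmegaPlus.exists_hom (F := F) (m := d)
  let g : Cfsg.isometryGroup F (Cfsg.quadFormPlus d F) := (isoE _ (plus_hT (F := F) (m := d))).symm (ψ A)
  have hgv : ∀ v, g.1.1 *ᵥ v = (OmegaPlus.T A.1) *ᵥ v := fun v => by
    have h := conjGL_apply (LinearEquiv.refl F (Fin d ⊕ Fin d → F)) g.1 v
    have h2 : conjGL (LinearEquiv.refl F (Fin d ⊕ Fin d → F)) g.1 = (ψ A).1 :=
      congrArg Subtype.val ((isoE _ (plus_hT (F := F) (m := d))).apply_symm_apply (ψ A))
    rw [h2] at h
    exact ((congrArg (· *ᵥ v) (hψ A)).symm.trans h).symm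
  have hfix : ∀ v, g.1.1 *ᵥ v = v → v = 0 := by
    intro v hv
    rw [hgv, OmegaPlus.T, Matrix.fromBlocks_mulVec] at hv
    simp only [Matrix.zero_mulVec, add_zero, zero_add] at hv
    have h1 : A.1 *ᵥ (v ∘ Sum.inl) = v ∘ Sum.inl := funext fun j => congrFun hv (Sum.inl j)
    have h2 : (A.1⁻¹)ᵀ *ᵥ (v ∘ Sum.inr) = v ∘ Sum.inr := funext fun j => congrFun hv (Sum.inr j)
    have e1 := hfA _ h1
    -- the dual has no fixed vector either
    have e2 : v ∘ Sum.inr = 0 := by
      by_contra h0
      have hdet : ((A.1⁻¹)ᵀ - 1).det = 0 := Matrix.exists_mulVec_eq_zero_iff.mp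
        ⟨_, h0, by rw [Matrix.sub_mulVec, Matrix.one_mulVec, h2, sub_self]⟩
      have hA1 : (A.1 - 1).det = 0 := by
        have e : A.1 - 1 = -(A.1 * (A.1⁻¹ - 1)) := by
          rw [mul_sub, Matrix.mul_nonsing_inv _ ((Matrix.isUnit_iff_isUnit_det _).mp A.isUnit), mul_one, neg_sub]
        rw [e, Matrix.det_neg, Matrix.det_mul,
          show (A.1⁻¹ - 1).det = 0 by rw [← Matrix.det_transpose, Matrix.transpose_sub, Matrix.transpose_one, hdet],
          mul_zero, mul_zero]
      obtain ⟨u, hu0, hu⟩ := Matrix.exists_mulVec_eq_zero_iff.mpr hA1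
      rw [Matrix.sub_mulVec, Matrix.one_mulVec, sub_eq_zero] at hu
      exact hu0 (hfA u hu)
    funext s
    rcases s with j | j
    · exact congrFun e1 j
    · exact congrFun e2 j
  refine ⟨g, ?_, hfix⟩
  have h : g ^ r = 1 := by rw [← map_pow, ← map_pow, hA, map_one, map_one]
  exact congrArg Subtype.val h

theorem minus_fpf {d r : ℕ} (hd : 1 ≤ d) (hr : r.Prime) (hr2 : r ≠ 2)
    (hq : (Fintype.card F : ZMod r) ^ d = -1) {a b : F}
    (hab : ∀ x y : F, x ^ 2 + a * x * y + b * y ^ 2 = 0 → x = 0 ∧ y = 0) :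
    ∃ g : Cfsg.isometryGroup F (Cfsg.quadFormMinus (d - 1) F a b),
      (g.1 : GL _ F) ^ r = 1 ∧ ∀ v, g.1.1 *ᵥ v = v → v = 0 := by
  classical
  haveI := Fact.mk hr
  haveI : Finite F := Finite.of_fintype F
  haveI : Fact (Nat.Prime 2) := ⟨Nat.prime_two⟩
  haveI : NeZero (2 * d) := ⟨by omega⟩
  let L := FiniteField.Extension F 2 (2 * d)
  haveI : Module.Finite F L := Module.Finite.of_finite
  letI : Fintype L := Fintype.ofFinite L
  set q := Fintype.card F with hqdef
  have hq1 : 1 < q := Fintype.one_lt_card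
  have hLc : Nat.card L = q ^ (2 * d) := by rw [FiniteField.natCard_extension, Nat.card_eq_fintype_card]
  have hLd : finrank F L = 2 * d := FiniteField.finrank_extension F 2 (2 * d)
  obtain ⟨z, hz⟩ : ∃ z : Lˣ, orderOf z = r := by
    refine exists_prime_orderOf_dvd_card' r ?_
    rw [Nat.card_units, hLc, ← ZMod.natCast_eq_zero_iff, Nat.cast_sub (Nat.one_le_pow _ _ (by omega)), Nat.cast_pow,
      mul_comm, pow_mul, hq]
    simp
  have hzr : (z : L) ^ r = 1 := by rw [← Units.val_pow_eq_pow_val, ← hz, pow_orderOf_eq_one, Units.val_one]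
  have hz1 : (z : L) ≠ 1 := fun e => by
    rw [Units.ext (e.trans Units.val_one.symm), orderOf_one] at hz
    exact hr.ne_one hz.symm
  let fr := FiniteField.frobeniusAlgEquivOfAlgebraic F L
  let σ := fr ^ d
  have hσapp : ∀ u : L, σ u = u ^ (q ^ d) := fun u => by
    show (fr ^ d) u = _
    rw [AlgEquiv.coe_pow]
    exact congrFun (FiniteField.coe_frobeniusAlgEquivOfAlgebraic_iterate F L d) u
  have hord : orderOf fr = 2 * d := by
    rw [FiniteField.orderOf_frobeniusAlgEquivOfAlgebraic, hLd]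
  have hσ2 : ∀ u, σ (σ u) = u := fun u => by
    have h : σ * σ = 1 := by
      rw [← pow_add, ← two_mul]; exact orderOf_dvd_iff_pow_eq_one.mp hord.dvd
    exact DFunLike.congr_fun h u
  obtain ⟨e, he⟩ : ∃ e : L, σ e ≠ e := by
    by_contra h
    push Not at h
    have h1 : fr ^ d = 1 := AlgEquiv.ext h
    have := Nat.le_of_dvd (by omega) (orderOf_dvd_of_pow_eq_one h1)
    omega
  haveI : CharP L 2 := charP_of_injective_algebraMap (algebraMap F L).injective 2
  have hw : e + σ e ≠ 0 := fun h => he ((CharTwo.add_eq_zero.mp h).symm)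
  set c := e / (e + σ e) with hcdef
  have hc : c + σ c = 1 := by
    rw [hcdef, map_div₀, map_add, hσ2, add_comm (σ e) e, ← add_div, div_self hw]
  have hzσ : σ (z : L) * z = 1 := by
    rw [hσapp, ← pow_succ]
    have hdvd : r ∣ q ^ d + 1 := by
      rw [← ZMod.natCast_eq_zero_iff]; push_cast; rw [hq]; ring
    obtain ⟨m, hm⟩ := hdvd
    rw [hm, pow_mul, hzr, one_pow]
  let B : LinearMap.BilinForm F L := LinearMap.mk₂ F (fun u v => Algebra.trace F L (c * σ u * v))
    (fun u u' v => by simp [mul_add, add_mul]) (fun s u v => by simp)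
    (fun u v v' => by simp [mul_add]) (fun s u v => by simp)
  let Q : QuadraticForm F L := LinearMap.BilinMap.toQuadraticMap B
  have hQ : ∀ u, Q u = Algebra.trace F L (c * σ u * u) := fun u => rfl
  have hpol : ∀ u v, polar Q u v = Algebra.trace F L (σ u * v) := fun u v => by
    show polar (fun w => Q w) u v = _
    simp only [polar, hQ, map_add, mul_add, add_mul]
    have hswap : Algebra.trace F L (c * σ v * u) = Algebra.trace F L (σ c * σ u * v) := by
      rw [← Algebra.trace_eq_of_algEquiv σ (c * σ v * u), map_mul σ, map_mul σ, hσ2]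
      congr 1; ring
    have hsum : Algebra.trace F L (σ u * v) = Algebra.trace F L (c * σ u * v) + Algebra.trace F L (σ c * σ u * v) := by
      rw [← map_add]; congr 1; linear_combination -(σ u * v) * hc
    rw [hsum, ← hswap]
    ring
  have hnd : FiniteForms.PolarNondeg Q := fun u hu => by
    have h : σ u = 0 := (traceForm_nondegenerate F L).1 _ fun v => by
      rw [Algebra.traceForm_apply, ← hpol]; exact hu v
    exact (map_eq_zero_iff σ σ.injective).mp h
  have hzQ : ∀ u, Q ((z : L) * u) = Q u := fun u => by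
    rw [hQ, hQ, map_mul σ]; congr 1; linear_combination (c * σ u * u) * hzσ
  -- it is elliptic
  obtain ⟨e', f', h⟩ | ⟨e', f', x, y, h, hx, hy, hQx, hxy, hnr, hli⟩ :=
    FiniteForms.even_dichotomy hnd (m := d) (by omega) hLd
  · exfalso
    obtain ⟨φ, hφ⟩ := FiniteForms.isometry_of_hypFam h hLd
    have hZ : Nat.card {u : L // Q u = 0} = q ^ (2 * d - 1) + q ^ d - q ^ (d - 1) := by
      rw [Nat.card_congr (φ.toEquiv.subtypeEquiv (q := fun v => Cfsg.quadFormPlus d F v = 0) fun u => by
        rw [hφ]; rfl)]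
      exact QuadCount.card_plus d (by omega)
    let f : Function.End {u : L // Q u = 0} := fun u => ⟨(z : L) * u.1, by rw [hzQ]; exact u.2⟩
    have hfp : ∀ (j : ℕ) u, ((f ^ j) u).1 = (z : L) ^ j * u.1 := by
      intro j
      induction j with
      | zero => intro u; rw [pow_zero, pow_zero, one_mul]; rfl
      | succ j ih => intro u; rw [pow_succ']; show (z : L) * ((f ^ j) u).1 = _; rw [ih]; ring
    have hmod := Equiv.Perm.card_fixedPoints_modEq (f := f) (p := r) (n := 1) (by
      funext u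
      apply Subtype.ext
      rw [pow_one, hfp, hzr, one_mul]
      rfl)
    rw [← Nat.card_eq_fintype_card, hZ] at hmod
    have hfix : Fintype.card (Function.fixedPoints f) = 1 := by
      rw [Fintype.card_eq_one_iff]
      refine ⟨⟨⟨0, QuadraticMap.map_zero Q⟩, Subtype.ext (mul_zero _)⟩, fun u => Subtype.ext (Subtype.ext ?_)⟩
      by_contra hne
      exact hz1 (mul_right_cancel₀ hne ((congrArg Subtype.val u.2).trans (one_mul _).symm))
    rw [hfix, ← ZMod.natCast_eq_natCast_iff] at hmod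
    have hle : q ^ (d - 1) ≤ q ^ (2 * d - 1) + q ^ d :=
      (Nat.pow_le_pow_right (by omega) (by omega)).trans (Nat.le_add_left _ _)
    rw [Nat.cast_sub hle] at hmod
    push_cast at hmod
    set R := (q : ZMod r) ^ (d - 1) with hR
    have e1 : (q : ZMod r) * R = -1 := by rw [hR, ← pow_succ', Nat.sub_add_cancel (by omega : 1 ≤ d), hq]
    have e2 : (q : ZMod r) ^ (2 * d - 1) = -R := by
      rw [show 2 * d - 1 = d + (d - 1) by omega, pow_add, hq, ← hR]; ring
    rw [e2, hq] at hmod
    have h2 : (2 : ZMod r) ≠ 0 := fun h0 => hr2 ((Nat.prime_dvd_prime_iff_eq hr Nat.prime_two).mp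
      ((ZMod.natCast_eq_zero_iff 2 r).mp (by exact_mod_cast h0)))
    have e3 : R = -1 := by
      have : (2 : ZMod r) * (R + 1) = 0 := by linear_combination -hmod
      exact eq_neg_of_add_eq_zero_left ((mul_eq_zero.mp this).resolve_left h2)
    have e4 : (q : ZMod r) = 1 := by rw [e3] at e1; linear_combination -e1
    rw [e4, one_pow] at hq
    exact h2 (by linear_combination hq)
  · obtain ⟨φ, hφ⟩ := FiniteForms.isometry_of_elliptic h hx hy hxy hQx hli (show finrank F L = 2 * (d - 1) + 2 by omega)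
    obtain ⟨ψ, hψ⟩ := minus_equiv (d - 1) hab hnr
    let Φ := φ.trans ψ.symm
    have hΦ : ∀ u, Cfsg.quadFormMinus (d - 1) F a b (Φ u) = Q u := fun u => by
      rw [hφ, ← hψ]; simp [Φ]
    let m : L →ₗ[F] L := LinearMap.mulLeft F (z : L)
    let T := Φ.conjAlgEquiv F m
    let M := LinearMap.toMatrixAlgEquiv' T
    have hMpow : M ^ r = 1 := by
      rw [← map_pow, ← map_pow, LinearMap.pow_mulLeft, hzr, LinearMap.mulLeft_one, ← Module.End.one_eq_id, map_one, map_one]
    have hM : ∀ v, M *ᵥ v = Φ ((z : L) * Φ.symm v) := fun v => by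
      show (LinearMap.toMatrix' T) *ᵥ v = _
      rw [LinearMap.toMatrix'_mulVec]
      simp [T, m, LinearEquiv.conjAlgEquiv_apply]
    let gu : GL ((Fin (d - 1) ⊕ Fin (d - 1)) ⊕ Fin 2) F := Units.ofPowEqOne M r hMpow hr.ne_zero
    let g : Cfsg.isometryGroup F (Cfsg.quadFormMinus (d - 1) F a b) := ⟨gu, fun v _ => by
      show Cfsg.quadFormMinus (d - 1) F a b (M *ᵥ v) = Cfsg.quadFormMinus (d - 1) F a b v
      rw [hM, hΦ, hzQ, ← hΦ, LinearEquiv.apply_symm_apply]⟩
    have hfix : ∀ v, g.1.1 *ᵥ v = v → v = 0 := fun v hv => by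
      change M *ᵥ v = v at hv
      rw [hM] at hv
      have h1 : (z : L) * Φ.symm v = Φ.symm v := Φ.injective (hv.trans (Φ.apply_symm_apply v).symm)
      have h0 : Φ.symm v = 0 := by
        by_contra hne
        exact hz1 (mul_right_cancel₀ hne (h1.trans (one_mul _).symm))
      rw [← Φ.apply_symm_apply v, h0, map_zero]
    exact ⟨g, Units.pow_ofPowEqOne hMpow hr.ne_zero, hfix⟩

end CfsgLib.MaxSub.SpQuad
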