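/-
Elements of prime order of `Sp_2d(q)`, `q` even, and the orthogonal subgroups.
-/
import Cfsg.Agent.Lib.MaxSub.ElusiveSpQuadModels
import Cfsg.Prelude.Def_ClassicalGeometry

set_option autoImplicit false
set_option linter.unusedSectionVars false
set_option maxHeartbeats 600000

namespace CfsgLib.MaxSub.SpQuad

open Module Matrix QuadraticMap CfsgLib.SympOrth CfsgLib.MaxSub.Nonsingular
open CfsgLib.SympGen (B B_map)
open CfsgLib.SympInv (rk Alt)
open CfsgLib.Lagrangian (Qp Qp_apply)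

universe u

variable {F : Type u} [Field F] [Fintype F] [CharP F 2] {d k : ℕ}

/-- A linear isometry of forms with the same polarisation is symplectic. -/
theorem sp_of_iso {R S : QuadraticForm F (Fin d ⊕ Fin d → F)} (hR : Polar R) (hS : Polar S)
    (T : (Fin d ⊕ Fin d → F) ≃ₗ[F] (Fin d ⊕ Fin d → F)) (h : ∀ x, S (T x) = R x) :
    ∃ g : Matrix.symplecticGroup (Fin d) F, ∀ x, S (g.1 *ᵥ x) = R x := by
  have e : ∀ x, LinearMap.toMatrix' T.toLinearMap *ᵥ x = T x := fun x => by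
    rw [LinearMap.toMatrix'_mulVec]; rfl
  refine ⟨⟨LinearMap.toMatrix' T.toLinearMap, mem_symp _ fun x y => ?_⟩, fun x => by
    show S (LinearMap.toMatrix' T.toLinearMap *ᵥ x) = _
    rw [e, h]⟩
  rw [e, e, ← hR x y, ← hS (T x) (T y)]
  simp only [polar]
  rw [← map_add, h, h, h]

/-- The minus model. -/
abbrev Mq (k : ℕ) (ζ : F) : QuadraticForm F (Fin (k + 1) ⊕ Fin (k + 1) → F) :=
  Qd (lastVec k 1) (lastVec k (ζ / (1 : F) ^ 2))

theorem Mq_polar (ζ : F) : Polar (Mq k ζ) := Qd_polar _ _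

variable {ζ : F} (hζ : ∀ t : F, t ^ 2 + t + ζ ≠ 0)

theorem exists_zeta : ∃ ζ : F, ∀ t : F, t ^ 2 + t + ζ ≠ 0 := by
  obtain ⟨e, he⟩ := exists_not_P2 (F := F)
  exact ⟨e, fun t ht => he ⟨t, CharTwo.add_eq_zero.1 ht⟩⟩

include hζ

/-- Every form with this polarisation is an image of one of the two models. -/
theorem exists_model (R : QuadraticForm F (Fin (k + 1) ⊕ Fin (k + 1) → F)) (hR : Polar R) :
    (∃ g : Matrix.symplecticGroup (Fin (k + 1)) F, ∀ x, Qp (k + 1) F (g.1 *ᵥ x) = R x) ∨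
      ∃ g : Matrix.symplecticGroup (Fin (k + 1)) F, ∀ x, Mq k ζ (g.1 *ᵥ x) = R x := by
  have hnd : FiniteForms.PolarNondeg R := fun x hx => (nondeg hR).1 x hx
  have hV : finrank F (Fin (k + 1) ⊕ Fin (k + 1) → F) = 2 * (k + 1) := by
    rw [Module.finrank_fintype_fun_eq_card, Fintype.card_sum, Fintype.card_fin]; omega
  obtain ⟨e, f, h⟩ | ⟨e, f, x, y, h, hx, hy, hQx, hxy, hnr, hli⟩ :=
    FiniteForms.even_dichotomy hnd (m := k + 1) (by omega) hV
  · obtain ⟨φ, hφ⟩ := FiniteForms.isometry_of_hypFam h hV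
    exact Or.inl (sp_of_iso hR Qp_polar φ fun x => by rw [Qp_apply, ← hφ])
  · obtain ⟨φ, hφ⟩ := FiniteForms.isometry_of_elliptic (k := k) h hx hy hxy hQx hli
      (show finrank F (Fin (k + 1) ⊕ Fin (k + 1) → F) = 2 * k + 2 by omega)
    obtain ⟨ψ, hψ⟩ := minus_equiv k (FiniteForms.anisotropic_of_no_root hnr) hζ
    exact Or.inr (sp_of_iso hR (Mq_polar ζ) ((φ.trans ψ).trans (minusT one_ne_zero)) fun x => by
      rw [hφ x, ← hψ]
      exact minusT_form (one_ne_zero (α := F)) _)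

/-- The minus model has no singular subspace of half the dimension. -/
theorem not_plus {R : QuadraticForm F (Fin (k + 1) ⊕ Fin (k + 1) → F)}
    (g : Matrix.symplecticGroup (Fin (k + 1)) F) (hg : ∀ x, Mq k ζ (g.1 *ᵥ x) = R x) :
    ¬ Cfsg.Geo.IsPlusTypeOn ⇑R ⊤ := by
  rintro ⟨U, -, hU, hd⟩
  rw [finrank_top, Module.finrank_fintype_fun_eq_card, Fintype.card_sum, Fintype.card_fin] at hd
  have hinj : Function.Injective (Matrix.toLin' g.1) :=
    (Matrix.mulVec_injective_iff_isUnit).2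
      ((Matrix.isUnit_iff_isUnit_det _).2 (SymplecticGroup.symplectic_det g.2))
  let G := LinearEquiv.ofBijective (Matrix.toLin' g.1) ⟨hinj, LinearMap.injective_iff_surjective.1 hinj⟩
  have := FiniteForms.minus_totally_singular_le (FiniteForms.anisotropic_of_no_root hζ)
    (U.map (G.trans (minusT (k := k) (a := (1 : F)) one_ne_zero).symm).toLinearMap) (by
      rintro _ ⟨x, hx, rfl⟩
      show Cfsg.quadFormMinus k F 1 ζ ((minusT one_ne_zero).symm (G x)) = 0
      rw [← minusT_form (one_ne_zero (α := F)), LinearEquiv.apply_symm_apply]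
      exact (hg x).trans (hU x hx))
  rw [LinearEquiv.finrank_map_eq] at this
  omega

omit hζ

theorem plus_of_model {R : QuadraticForm F (Fin d ⊕ Fin d → F)}
    (g : Matrix.symplecticGroup (Fin d) F) (hg : ∀ x, Qp d F (g.1 *ᵥ x) = R x) :
    Cfsg.Geo.IsPlusTypeOn ⇑R ⊤ := by
  obtain ⟨U, hU, hd⟩ := FiniteForms.plus_exists_singular (F := F) d
  have hinj : Function.Injective (Matrix.toLin' g.1) :=
    (Matrix.mulVec_injective_iff_isUnit).2
      ((Matrix.isUnit_iff_isUnit_det _).2 (SymplecticGroup.symplectic_det g.2))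
  let G := LinearEquiv.ofBijective (Matrix.toLin' g.1) ⟨hinj, LinearMap.injective_iff_surjective.1 hinj⟩
  refine ⟨U.map G.symm.toLinearMap, le_top, ?_, ?_⟩
  · rintro _ ⟨u, hu, rfl⟩
    show R (G.symm u) = 0
    rw [← hg, show g.1 *ᵥ G.symm u = u from G.apply_symm_apply u, Qp_apply]
    exact hU u hu
  · rw [LinearEquiv.finrank_map_eq, hd, finrank_top, Module.finrank_fintype_fun_eq_card,
      Fintype.card_sum, Fintype.card_fin]
    omega

/-- An involution is conjugate into an orthogonal group having a partner of the same invariants. -/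
theorem conj_of_invariants {R S : QuadraticForm F (Fin d ⊕ Fin d → F)} (hS : Polar S)
    (g : Matrix.symplecticGroup (Fin d) F) (hg : ∀ v, S (g.1 *ᵥ v) = R v)
    {x : Matrix.symplecticGroup (Fin d) F} (hx : x * x = 1) (a : Cfsg.isometryGroup F ⇑S)
    (ha : a * a = 1) (hr : rk (toSp hS a) = rk x) (halt : Alt (toSp hS a) ↔ Alt x) :
    ∃ h : Matrix.symplecticGroup (Fin d) F, ∀ v, R ((h⁻¹ * x * h).1 *ᵥ v) = R v := by
  obtain ⟨c, hc⟩ := _root_.isConj_iff.1
    ((SympInv.isConj_iff (toSp_sq hS ha) hx).2 ⟨hr, halt⟩)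
  refine ⟨c * g, fun v => ?_⟩
  rw [← hg, ← hg v, ← SympGen.mul_apply,
    show g * ((c * g)⁻¹ * x * (c * g)) = toSp hS a * g by rw [← hc]; group,
    SympGen.mul_apply, toSp_Q]

/-- An element without fixed vectors preserves at most one form with the given polarisation. -/
theorem unique_of_fpf {R S : QuadraticForm F (Fin d ⊕ Fin d → F)} (hR : Polar R) (hS : Polar S)
    {y : Matrix.symplecticGroup (Fin d) F} (hfix : ∀ v, y.1 *ᵥ v = v → v = 0)
    (h1 : ∀ v, R (y.1 *ᵥ v) = R v) (h2 : ∀ v, S (y.1 *ᵥ v) = S v) (v : Fin d ⊕ Fin d → F) :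
    R v = S v := by
  have hinj : Function.Injective (Matrix.toLin' (y.1 - 1)) := (injective_iff_map_eq_zero _).2 fun w hw => by
    rw [Matrix.toLin'_apply, Matrix.sub_mulVec, Matrix.one_mulVec, sub_eq_zero] at hw
    exact hfix w hw
  obtain ⟨w, hw⟩ := LinearMap.injective_iff_surjective.1 hinj v
  rw [Matrix.toLin'_apply, Matrix.sub_mulVec, Matrix.one_mulVec, SympInv.vec_sub] at hw
  rw [← hw, QuadraticMap.map_add ⇑R, QuadraticMap.map_add ⇑S, h1, h2, hR, hS]
  linear_combination (R w - S w) * CharTwo.two_eq_zero (R := F)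

/-- Twice the number of translates of the same type. -/
theorem two_card_P2 (S : QuadraticForm F (Fin d ⊕ Fin d → F)) {ε : ℤ} (hd : 1 ≤ d)
    (hZ : (Nat.card {v // S v = 0} : ℤ) = (Fintype.card F : ℤ) ^ (2 * d - 1) +
      ε * ((Fintype.card F : ℤ) ^ d - (Fintype.card F : ℤ) ^ (d - 1))) :
    2 * (Nat.card {w // P2 (S w)} : ℤ) =
      (Fintype.card F : ℤ) ^ (2 * d) + ε * (Fintype.card F : ℤ) ^ d := by
  classical
  set q := Fintype.card F with hq
  set N1 := Nat.card {v // S v = 1} with hN1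
  have hfib : ∀ c : F, c ≠ 0 → Nat.card {v // S v = c} = N1 := fun c hc => by
    obtain ⟨s, hs⟩ := SympInv.exists_sqrt c
    have hs0 : s ≠ 0 := fun h => hc (by rw [← hs, h]; simp)
    refine (Nat.card_congr ((LinearEquiv.smulOfUnit (R := F) (M := Fin d ⊕ Fin d → F) (Units.mk0 s hs0)).toEquiv.subtypeEquiv
      fun v => ?_)).symm
    show S v = 1 ↔ S (s • v) = c
    rw [QuadraticMap.map_smul, smul_eq_mul, ← _root_.sq, hs, mul_eq_left₀ hc]
  have hall : (q : ℤ) ^ (2 * d) = Nat.card {v // S v = 0} + ((q : ℤ) - 1) * N1 := by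
    have h := Nat.card_congr (Equiv.sigmaFiberEquiv (fun v => S v))
    rw [Nat.card_sigma, ← Finset.add_sum_erase _ _ (Finset.mem_univ (0 : F)),
      Finset.sum_congr rfl (fun c hc => hfib c (Finset.ne_of_mem_erase hc)), Finset.sum_const,
      Finset.card_erase_of_mem (Finset.mem_univ _), Finset.card_univ, smul_eq_mul,
      Nat.card_eq_fintype_card (α := Fin d ⊕ Fin d → F), Fintype.card_fun, Fintype.card_sum,
      Fintype.card_fin, ← hq, ← two_mul] at h
    have hc : ((q - 1 : ℕ) : ℤ) = (q : ℤ) - 1 := by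
      rw [Nat.cast_sub Fintype.card_pos, Nat.cast_one]
    have h' := congrArg (fun n : ℕ => (n : ℤ)) h
    push_cast [hc] at h'
    exact h'.symm
  set P := {c : F // P2 c}
  have hP : 2 * (Nat.card P : ℤ) = q := by
    have h := AddSubgroup.card_mul_index (asHom (F := F)).range
    rw [range_index, Nat.card_eq_fintype_card (α := F), mul_comm] at h
    exact_mod_cast h
  have hN : (Nat.card {w // P2 (S w)} : ℤ) = Nat.card {v // S v = 0} + ((Nat.card P : ℤ) - 1) * N1 := by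
    have h : Nat.card {w // P2 (S w)} = Nat.card (Σ c : P, {v // S v = c.1}) := Nat.card_congr
      { toFun := fun w => ⟨⟨S w.1, w.2⟩, w.1, rfl⟩
        invFun := fun p => ⟨p.2.1, show P2 (S p.2.1) by rw [p.2.2]; exact p.1.2⟩
        left_inv := fun w => rfl
        right_inv := fun ⟨⟨c, hc⟩, v, hv⟩ => by cases hv; rfl }
    rw [Nat.card_sigma, ← Finset.add_sum_erase _ _ (Finset.mem_univ (⟨0, P2_zero⟩ : P)),
      Finset.sum_congr rfl (fun c hc => hfib c.1 fun e => Finset.ne_of_mem_erase hc (Subtype.ext e)),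
      Finset.sum_const, Finset.card_erase_of_mem (Finset.mem_univ _), Finset.card_univ, smul_eq_mul] at h
    have hpos : 1 ≤ Fintype.card P := Fintype.card_pos_iff.2 ⟨⟨0, P2_zero⟩⟩
    rw [h, Nat.cast_add, Nat.cast_mul, Nat.cast_sub hpos, Nat.card_eq_fintype_card (α := P)]
    simp
  have hq1 : (q : ℤ) - 1 ≠ 0 := by
    have : 1 < q := Fintype.one_lt_card
    omega
  have e1 : (q : ℤ) ^ (2 * d) = q * (q : ℤ) ^ (2 * d - 1) := by
    rw [← pow_succ', Nat.sub_add_cancel (by omega : 1 ≤ 2 * d)]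
  have e2 : (q : ℤ) ^ d = q * (q : ℤ) ^ (d - 1) := by rw [← pow_succ', Nat.sub_add_cancel hd]
  have hN1' : (N1 : ℤ) = (q : ℤ) ^ (2 * d - 1) - ε * (q : ℤ) ^ (d - 1) := by
    refine mul_left_cancel₀ hq1 ?_
    linear_combination -hall - hZ + e1 - ε * e2
  rw [hN, hZ, hN1']
  linear_combination ((q : ℤ) ^ (2 * d - 1) - ε * (q : ℤ) ^ (d - 1)) * hP - e1 + ε * e2

/-- Membership in the symplectic group of the frozen statement. -/
theorem gl_mem (g : Matrix.symplecticGroup (Fin d) F) : gl g ∈ Cfsg.spGL d F := fun u v => B_map g u v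

/-- The symplectic matrix of an element. -/
def spOf (g : Cfsg.spGL d F) : Matrix.symplecticGroup (Fin d) F :=
  ⟨g.1.1, mem_symp _ fun u v => g.2 u v⟩

theorem spOf_mul (g h : Cfsg.spGL d F) : spOf (g * h) = spOf g * spOf h := Subtype.ext rfl

theorem spOf_one : spOf (1 : Cfsg.spGL d F) = 1 := Subtype.ext rfl

theorem spOf_inv (g : Cfsg.spGL d F) : spOf g⁻¹ = (spOf g)⁻¹ :=
  eq_inv_of_mul_eq_one_left (by rw [← spOf_mul, inv_mul_cancel, spOf_one])

/-- In the symplectic group the similarities of the form are its isometries. -/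
theorem mem_sim_iff {R : QuadraticForm F (Fin d ⊕ Fin d → F)} (hR : Polar R) (hd : 1 ≤ d)
    (g : Cfsg.spGL d F) :
    g.1 ∈ Cfsg.Geo.quadSimilarityGroup ⇑R ↔ ∀ v, R ((spOf g).1 *ᵥ v) = R v := by
  refine ⟨fun ⟨c, hc⟩ v => ?_, fun h => ⟨1, fun v => by rw [Units.val_one, one_mul]; exact h v⟩⟩
  let x : Fin d ⊕ Fin d → F := Pi.single (Sum.inl ⟨0, hd⟩) 1
  obtain ⟨y, hy⟩ : ∃ y, B x y ≠ 0 := by
    by_contra hcon
    push Not at hcon
    have := SympInv.eq_zero_of_B (u := x) fun z => by rw [SympInv.B_comm]; exact hcon z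
    simpa [x] using congrFun this (Sum.inl ⟨0, hd⟩)
  have h1 : polar (⇑R) (g.1.1 *ᵥ x) (g.1.1 *ᵥ y) = (c : F) * polar (⇑R) x y := by
    simp only [polar, ← Matrix.mulVec_add, hc]; ring
  rw [hR, hR, show B (g.1.1 *ᵥ x) (g.1.1 *ᵥ y) = B x y from g.2 x y] at h1
  have hc1 : (c : F) = 1 := mul_right_cancel₀ hy (by rw [one_mul]; exact h1.symm)
  show R (g.1.1 *ᵥ v) = R v
  rw [hc, hc1, one_mul]

/-- The index is the number of translates of the same type. -/
theorem relIndex_eq {R : QuadraticForm F (Fin d ⊕ Fin d → F)} (hR : Polar R) (hd : 1 ≤ d) :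
    (Cfsg.Geo.quadSimilarityGroup ⇑R).relIndex (Cfsg.spGL d F) = Nat.card {w // P2 (R w)} := by
  classical
  choose W hW hWP using fun g : Cfsg.spGL d F => exists_shift hR (spOf g⁻¹)
  set H := (Cfsg.Geo.quadSimilarityGroup ⇑R).subgroupOf (Cfsg.spGL d F)
  have key : ∀ a b, a⁻¹ * b ∈ H ↔ W a = W b := fun a b => by
    rw [Subgroup.mem_subgroupOf, mem_sim_iff hR hd, spOf_mul]
    constructor
    · intro h
      refine shift_unique hR (g := spOf b⁻¹) (fun x => ?_) (hW b)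
      have := h ((spOf b⁻¹).1 *ᵥ x)
      rw [← SympGen.mul_apply, mul_assoc, ← spOf_mul b, mul_inv_cancel, spOf_one, mul_one] at this
      rw [← this, hW a]
    · intro e v
      rw [SympGen.mul_apply, hW a, e, ← hW b, ← SympGen.mul_apply, ← spOf_mul, inv_mul_cancel,
        spOf_one, SympGen.one_apply]
  show H.index = _
  rw [Subgroup.index_eq_card]
  refine Nat.card_eq_of_bijective (Quotient.lift (fun g => (⟨W g, hWP g⟩ : {w // P2 (R w)}))
    fun a b h => Subtype.ext ((key a b).1 (QuotientGroup.leftRel_apply.1 h))) ⟨?_, ?_⟩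
  · intro a b
    induction a using Quotient.inductionOn with | _ a => ?_
    induction b using Quotient.inductionOn with | _ b => ?_
    exact fun h => Quotient.sound (QuotientGroup.leftRel_apply.2 ((key a b).2 (congrArg Subtype.val h)))
  · rintro ⟨w, hw⟩
    obtain ⟨c, hc⟩ := exists_tv hR hw
    refine ⟨Quotient.mk _ (⟨gl (SympTransvection.tv w c), gl_mem _⟩⁻¹ : Cfsg.spGL d F), Subtype.ext ?_⟩
    refine shift_unique hR (g := SympTransvection.tv w c) (fun x => ?_) hc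
    have := hW (⟨gl (SympTransvection.tv w c), gl_mem _⟩⁻¹ : Cfsg.spGL d F) x
    rw [inv_inv] at this
    exact this

/-- A scalar symplectic matrix is the identity. -/
theorem scalar_eq_one (y : Matrix.symplecticGroup (Fin (k + 1)) F) {z : F}
    (hz : y.1 = z • (1 : Matrix (Fin (k + 1) ⊕ Fin (k + 1)) (Fin (k + 1) ⊕ Fin (k + 1)) F)) : y = 1 := by
  have hB := B_map y (Pi.single (Sum.inl 0) 1) (Pi.single (Sum.inr 0) 1)
  rw [hz] at hB
  simp only [B, Matrix.smul_mulVec, Matrix.one_mulVec, Matrix.mulVec_smul, smul_dotProduct,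
    dotProduct_smul, smul_eq_mul] at hB
  have hz2 : z * z = 1 := by simpa [Matrix.J, Matrix.one_apply] using hB
  exact Subtype.ext (by rw [hz, CharTwo.sq_injective (show z ^ 2 = 1 ^ 2 by rw [pow_two, hz2, one_pow]), one_smul]; rfl)

/-- Every element of the given order fixes a form in the class. -/
def AllConj (R : QuadraticForm F (Fin d ⊕ Fin d → F)) (r : ℕ) : Prop :=
  ∀ y : Matrix.symplecticGroup (Fin d) F, y ^ r = 1 → y ≠ 1 →
    ∃ h : Matrix.symplecticGroup (Fin d) F, ∀ v, R ((h⁻¹ * y * h).1 *ᵥ v) = R v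

theorem conj_mem_iff {R : QuadraticForm F (Fin d ⊕ Fin d → F)} (hR : Polar R) (hd : 1 ≤ d)
    (g x : Cfsg.spGL d F) :
    g.1⁻¹ * x.1 * g.1 ∈ Cfsg.Geo.quadSimilarityGroup ⇑R ↔
      ∀ v, R (((spOf g)⁻¹ * spOf x * spOf g).1 *ᵥ v) = R v := by
  have h := mem_sim_iff hR hd (g⁻¹ * x * g)
  rw [Subgroup.coe_mul, Subgroup.coe_mul, Subgroup.coe_inv, spOf_mul, spOf_mul, spOf_inv] at h
  exact h

theorem spOf_gl (y : Matrix.symplecticGroup (Fin d) F) : spOf (⟨gl y, gl_mem y⟩ : Cfsg.spGL d F) = y :=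
  Subtype.ext rfl

variable {R : QuadraticForm F (Fin (k + 1) ⊕ Fin (k + 1) → F)}

theorem allConj_of (hR : Polar R) {r : ℕ}
    (H : ∀ x ∈ Cfsg.spGL (k + 1) F, (∃ z : F, ((x ^ r : GL (Fin (k + 1) ⊕ Fin (k + 1)) F) : Matrix (Fin (k + 1) ⊕ Fin (k + 1)) (Fin (k + 1) ⊕ Fin (k + 1)) F) = z • (1 : Matrix (Fin (k + 1) ⊕ Fin (k + 1)) (Fin (k + 1) ⊕ Fin (k + 1)) F)) →
      (∀ z : F, (x : Matrix (Fin (k + 1) ⊕ Fin (k + 1)) (Fin (k + 1) ⊕ Fin (k + 1)) F) ≠ z • (1 : Matrix (Fin (k + 1) ⊕ Fin (k + 1)) (Fin (k + 1) ⊕ Fin (k + 1)) F)) →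
      ∃ g ∈ Cfsg.spGL (k + 1) F, g⁻¹ * x * g ∈ Cfsg.Geo.quadSimilarityGroup ⇑R) : AllConj R r := by
  intro y hy hns
  obtain ⟨g, hg, hgy⟩ := H (gl y) (gl_mem y) ⟨1, by rw [← map_pow, hy, map_one, one_smul, Units.val_one]⟩
    fun z hz => hns (scalar_eq_one y hz)
  obtain ⟨g', rfl⟩ : ∃ g' : Cfsg.spGL (k + 1) F, g'.1 = g := ⟨⟨g, hg⟩, rfl⟩
  refine ⟨spOf g', ?_⟩
  have h2 := (conj_mem_iff hR (by omega) g' ⟨gl y, gl_mem y⟩).1 hgy
  rw [spOf_gl] at h2
  exact h2

/-- An isometry without fixed vectors of the given order forces the class of its form. -/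
theorem same_class (hR : Polar R) {r : ℕ} (H : AllConj R r)
    (S : QuadraticForm F (Fin (k + 1) ⊕ Fin (k + 1) → F)) (hS : Polar S)
    (y : Cfsg.isometryGroup F ⇑S) (hy : y ^ r = 1) (hfix : ∀ v, y.1.1 *ᵥ v = v → v = 0) :
    ∃ g : Matrix.symplecticGroup (Fin (k + 1)) F, ∀ v, S (g.1 *ᵥ v) = R v := by
  obtain ⟨h, hh⟩ := H (toSp hS y) (by rw [← map_pow, hy, map_one]) fun h1 => by
    have := hfix (Pi.single (Sum.inl 0) 1)
      (by rw [← toSp_val hS y, h1]; exact SympGen.one_apply _)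
    simpa using congrFun this (Sum.inl 0)
  refine ⟨h, fun v => ?_⟩
  have hS' : Polar (S.comp (Matrix.toLin' h.1)) := fun a b => by
    rw [← B_map h a b, ← hS]
    simp [polar, Matrix.mulVec_add]
  refine unique_of_fpf (R := S.comp (Matrix.toLin' h.1)) hS' hR (y := h⁻¹ * toSp hS y * h) ?_ ?_ hh v
  · intro w hw
    have h1 : (h * (h⁻¹ * toSp hS y * h)).1 *ᵥ w = h.1 *ᵥ w := by rw [SympGen.mul_apply, hw]
    rw [show h * (h⁻¹ * toSp hS y * h) = toSp hS y * h by group, SympGen.mul_apply] at h1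
    have := hfix _ h1
    rw [← SympGen.one_apply w, ← inv_mul_cancel h, SympGen.mul_apply, this, Matrix.mulVec_zero]
  · intro w
    show S (h.1 *ᵥ ((h⁻¹ * toSp hS y * h).1 *ᵥ w)) = S (h.1 *ᵥ w)
    rw [← SympGen.mul_apply, show h * (h⁻¹ * toSp hS y * h) = toSp hS y * h by group,
      SympGen.mul_apply, toSp_Q]

/-- An element as a permutation of the space. -/
def moveE (g : Matrix.symplecticGroup (Fin (k + 1)) F) :
    (Fin (k + 1) ⊕ Fin (k + 1) → F) ≃ (Fin (k + 1) ⊕ Fin (k + 1) → F) where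
  toFun v := g.1 *ᵥ v
  invFun v := (g⁻¹).1 *ᵥ v
  left_inv v := by
    show (g⁻¹).1 *ᵥ (g.1 *ᵥ v) = v
    rw [← SympGen.mul_apply, inv_mul_cancel, SympGen.one_apply]
  right_inv v := by
    show g.1 *ᵥ ((g⁻¹).1 *ᵥ v) = v
    rw [← SympGen.mul_apply, mul_inv_cancel, SympGen.one_apply]

/-- The residue of the field order forced by an odd prime dividing the index. -/
theorem pow_eq (hR : Polar R) {r : ℕ} (hr : r.Prime) (hr2 : r ≠ 2) {ε : ℤ}
    (hΩ : r ∣ (Cfsg.Geo.quadSimilarityGroup ⇑R).relIndex (Cfsg.spGL (k + 1) F))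
    (hZ : (Nat.card {v // R v = 0} : ℤ) = (Fintype.card F : ℤ) ^ (2 * (k + 1) - 1) +
      ε * ((Fintype.card F : ℤ) ^ (k + 1) - (Fintype.card F : ℤ) ^ (k + 1 - 1))) :
    (Fintype.card F : ZMod r) ^ (k + 1) = -(ε : ZMod r) := by
  haveI := Fact.mk hr
  have hN := two_card_P2 R (ε := ε) (d := k + 1) (by omega) hZ
  rw [← relIndex_eq hR (by omega)] at hN
  obtain ⟨c, hc⟩ := hΩ
  have h0 : ((((Fintype.card F : ℤ) ^ (2 * (k + 1)) + ε * (Fintype.card F : ℤ) ^ (k + 1) : ℤ)) : ZMod r) = 0 := by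
    rw [← hN, hc]; push_cast; simp
  push_cast at h0
  have hq0 : (Fintype.card F : ZMod r) ≠ 0 := by
    intro h
    obtain ⟨n, -, hn⟩ := FiniteField.card F 2
    rw [hn, ZMod.natCast_eq_zero_iff] at h
    exact hr2 ((Nat.prime_dvd_prime_iff_eq hr Nat.prime_two).1 (hr.dvd_of_dvd_pow h))
  refine mul_left_cancel₀ (pow_ne_zero (k + 1) hq0) ?_
  linear_combination h0

include hζ

theorem plus_case (hR : Polar R) {r : ℕ} (hr : r.Prime)
    (hΩ : r ∣ (Cfsg.Geo.quadSimilarityGroup ⇑R).relIndex (Cfsg.spGL (k + 1) F)) (H : AllConj R r)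
    (g : Matrix.symplecticGroup (Fin (k + 1)) F) (hg : ∀ x, Qp (k + 1) F (g.1 *ᵥ x) = R x) : r = 2 := by
  classical
  by_contra hr2
  have hcard : Nat.card {v // R v = 0} = Nat.card {v : Fin (k + 1) ⊕ Fin (k + 1) → F //
      Cfsg.quadFormPlus (k + 1) F v = 0} := by
    refine Nat.card_congr ((moveE g).subtypeEquiv fun v => ?_)
    rw [← hg, Qp_apply]; rfl
  have hq := pow_eq hR hr hr2 (ε := 1) hΩ (by
    rw [hcard, QuadCount.card_plus (k + 1) (by omega), Nat.cast_sub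
      ((Nat.pow_le_pow_right Fintype.card_pos (by omega : k + 1 - 1 ≤ k + 1)).trans (Nat.le_add_left _ _))]
    push_cast; ring)
  rw [Int.cast_one] at hq
  obtain ⟨y, hy, hfix⟩ := minus_fpf (d := k + 1) (by omega) hr hr2 hq (FiniteForms.anisotropic_of_no_root hζ)
  obtain ⟨g', hg'⟩ := same_class hR H (Mq k ζ) (Mq_polar ζ) (isoE _ (minusT_form (one_ne_zero (α := F))) y)
    (by rw [← map_pow, show y ^ r = 1 from Subtype.ext hy, map_one]) (fun v hv => by
      obtain ⟨u, rfl⟩ := (minusT (k := k) (a := (1 : F)) one_ne_zero).surjective v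
      change (conjGL _ y.1).1 *ᵥ _ = _ at hv
      rw [conjGL_apply] at hv
      rw [hfix u ((minusT (k := k) (a := (1 : F)) one_ne_zero).injective hv), map_zero])
  exact not_plus hζ g' hg' (plus_of_model g hg)

theorem minus_case (hR : Polar R) {r : ℕ} (hr : r.Prime)
    (hΩ : r ∣ (Cfsg.Geo.quadSimilarityGroup ⇑R).relIndex (Cfsg.spGL (k + 1) F)) (H : AllConj R r)
    (g : Matrix.symplecticGroup (Fin (k + 1)) F) (hg : ∀ x, Mq k ζ (g.1 *ᵥ x) = R x) :
    r = 2 ∧ Odd (k + 1) := by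
  classical
  have hab := FiniteForms.anisotropic_of_no_root hζ
  by_cases hr2 : r = 2
  · refine ⟨hr2, ?_⟩
    by_contra hodd
    rw [Nat.not_odd_iff_even] at hodd
    obtain ⟨j, hj⟩ := hodd
    obtain ⟨a, ha, hark, halt⟩ := plus_alt (F := F) (m := k + 1) (r := j) (by omega)
    obtain ⟨h, hh⟩ := H (toSp Qp_polar a) (by rw [hr2, pow_two, toSp_sq Qp_polar ha]) fun h1 => by
      rw [h1, show rk (1 : Matrix.symplecticGroup (Fin (k + 1)) F) = 0 from SympInv.rk_one] at hark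
      omega
    let b : Cfsg.isometryGroup F ⇑(Mq k ζ) := ofSp (g * (h⁻¹ * toSp Qp_polar a * h) * g⁻¹) fun v => by
      have := hh ((g⁻¹).1 *ᵥ v)
      rw [← hg, ← hg, ← SympGen.mul_apply, ← SympGen.mul_apply, ← SympGen.mul_apply,
        mul_inv_cancel, SympGen.one_apply] at this
      exact this
    have hb1 : toSp (Mq_polar ζ) b = g * (h⁻¹ * toSp Qp_polar a * h) * g⁻¹ := toSp_ofSp (Mq_polar ζ) _ _
    have hbb : b * b = 1 := toSp_injective (Mq_polar ζ) (by
      rw [map_mul, map_one, hb1,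
        show g * (h⁻¹ * toSp Qp_polar a * h) * g⁻¹ * (g * (h⁻¹ * toSp Qp_polar a * h) * g⁻¹) =
          g * h⁻¹ * (toSp Qp_polar a * toSp Qp_polar a) * (g * h⁻¹)⁻¹ by group, toSp_sq Qp_polar ha]
      group)
    obtain ⟨e1, e2⟩ := (SympInv.isConj_iff (toSp_sq Qp_polar ha) (toSp_sq (Mq_polar ζ) hbb)).1
      (_root_.isConj_iff.2 ⟨g * h⁻¹, by rw [hb1]; group⟩)
    have : rk (toSp (Mq_polar ζ) b) ≤ k := minus_bd (k := k) (a := (1 : F)) (b := ζ) hab b hbb (e2.1 halt)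
    omega
  · exfalso
    have hcard : Nat.card {v // R v = 0} = Nat.card {v : (Fin k ⊕ Fin k) ⊕ Fin 2 → F //
        Cfsg.quadFormMinus k F 1 ζ v = 0} := by
      refine (Nat.card_congr ((moveE g).subtypeEquiv (q := fun v => Mq k ζ v = 0) fun v => ?_)).trans
        (Nat.card_congr ((minusT (k := k) (a := (1 : F)) one_ne_zero).toEquiv.subtypeEquiv fun v => ?_)).symm
      · rw [← hg]; rfl
      · show _ ↔ Mq k ζ (minusT one_ne_zero v) = 0
        rw [show Mq k ζ (minusT one_ne_zero v) = Cfsg.quadFormMinus k F 1 ζ v from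
          minusT_form (one_ne_zero (α := F)) v]
    have hcm := QuadCount.card_minus (k + 1) (by omega) (1 : F) ζ hab
    have hle : Fintype.card F ^ (k + 1) ≤
        Fintype.card F ^ (2 * (k + 1) - 1) + Fintype.card F ^ (k + 1 - 1) :=
      (Nat.pow_le_pow_right Fintype.card_pos (by omega)).trans (Nat.le_add_right _ _)
    have hq := pow_eq hR hr hr2 (ε := -1) hΩ (by
      rw [hcard]
      refine (congrArg (fun n : ℕ => (n : ℤ)) hcm).trans ?_
      rw [Nat.cast_sub hle]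
      push_cast; ring)
    rw [Int.cast_neg, Int.cast_one, neg_neg] at hq
    obtain ⟨y, hy, hfix⟩ := plus_fpf (d := k + 1) (by omega) hr hr2 hq
    obtain ⟨g', hg'⟩ := same_class hR H (Qp (k + 1) F) Qp_polar (isoE _ (plus_hT (F := F) (m := k + 1)) y)
      (by rw [← map_pow, show y ^ r = 1 from Subtype.ext hy, map_one]) (fun v hv => hfix v (by
        have h := conjGL_apply (LinearEquiv.refl F (Fin (k + 1) ⊕ Fin (k + 1) → F)) y.1 v
        exact h.symm.trans hv))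
    exact not_plus hζ g hg (plus_of_model g' hg')

theorem conj_two (hR : Polar R) (hcond : Cfsg.Geo.IsPlusTypeOn ⇑R ⊤ ∨ Odd (k + 1))
    (xs : Matrix.symplecticGroup (Fin (k + 1)) F) (hxx : xs * xs = 1) (hne : xs ≠ 1) :
    ∃ h : Matrix.symplecticGroup (Fin (k + 1)) F, ∀ v, R ((h⁻¹ * xs * h).1 *ᵥ v) = R v := by
  have hrk0 : 1 ≤ rk xs := Nat.pos_of_ne_zero fun h0 => hne (SympInv.eq_one_of_rk h0)
  have hrkle := SympInv.rk_le hxx
  rcases exists_model hζ R hR with ⟨g, hg⟩ | ⟨g, hg⟩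
  · by_cases ha : Alt xs
    · obtain ⟨j, hj, -⟩ := SympInv.rk_alt hxx ha
      obtain ⟨a, h1, h2, h3⟩ := plus_alt (F := F) (m := k + 1) (r := j) (by omega)
      exact conj_of_invariants Qp_polar g hg hxx a h1 (by omega) (iff_of_true h3 ha)
    · obtain ⟨a, h1, h2, h3⟩ := plus_not_alt (F := F) hrkle hrk0
      exact conj_of_invariants Qp_polar g hg hxx a h1 h2 (iff_of_false h3 ha)
  · have hodd : Odd (k + 1) := hcond.resolve_left (not_plus hζ g hg)
    obtain ⟨i, hi⟩ := hodd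
    by_cases ha : Alt xs
    · obtain ⟨j, hj, -⟩ := SympInv.rk_alt hxx ha
      obtain ⟨a, h1, h2, h3⟩ := minus_alt (F := F) (k := k) (r := j) (by omega) (ζ / (1 : F) ^ 2)
      exact conj_of_invariants (Mq_polar ζ) g hg hxx a h1 (h2.trans (by omega)) (iff_of_true h3 ha)
    · obtain ⟨a, h1, h2, h3⟩ := minus_not_alt (F := F) (k := k) hrkle hrk0 (ζ / (1 : F) ^ 2)
      exact conj_of_invariants (Mq_polar ζ) g hg hxx a h1 h2 (iff_of_false h3 ha)

omit hζ

/-- The criterion. -/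
theorem main (hR : Polar R) {r : ℕ} (hr : r.Prime)
    (hΩ : r ∣ (Cfsg.Geo.quadSimilarityGroup ⇑R).relIndex (Cfsg.spGL (k + 1) F)) :
    (∀ x ∈ Cfsg.spGL (k + 1) F, (∃ z : F, ((x ^ r : GL (Fin (k + 1) ⊕ Fin (k + 1)) F) : Matrix (Fin (k + 1) ⊕ Fin (k + 1)) (Fin (k + 1) ⊕ Fin (k + 1)) F) = z • (1 : Matrix (Fin (k + 1) ⊕ Fin (k + 1)) (Fin (k + 1) ⊕ Fin (k + 1)) F)) →
      (∀ z : F, (x : Matrix (Fin (k + 1) ⊕ Fin (k + 1)) (Fin (k + 1) ⊕ Fin (k + 1)) F) ≠ z • (1 : Matrix (Fin (k + 1) ⊕ Fin (k + 1)) (Fin (k + 1) ⊕ Fin (k + 1)) F)) →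
      ∃ g ∈ Cfsg.spGL (k + 1) F, g⁻¹ * x * g ∈ Cfsg.Geo.quadSimilarityGroup ⇑R) ↔
    (r = 2 ∧ (Cfsg.Geo.IsPlusTypeOn ⇑R ⊤ ∨ Odd (k + 1))) := by
  obtain ⟨ζ, hζ⟩ := exists_zeta (F := F)
  constructor
  · intro H
    rcases exists_model hζ R hR with ⟨g, hg⟩ | ⟨g, hg⟩
    · exact ⟨plus_case hζ hR hr hΩ (allConj_of hR H) g hg, Or.inl (plus_of_model g hg)⟩
    · exact (minus_case hζ hR hr hΩ (allConj_of hR H) g hg).imp id Or.inr
  · rintro ⟨hr2, hcond⟩ x hx ⟨z, hz⟩ hns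
    subst hr2
    obtain ⟨xs, hxs⟩ : ∃ xs, xs = spOf ⟨x, hx⟩ := ⟨_, rfl⟩
    have hxx : xs * xs = 1 := scalar_eq_one _ (z := z) (by
      rw [← hz, pow_two, Units.val_mul, hxs]; rfl)
    obtain ⟨h, hh⟩ := conj_two hζ hR hcond xs hxx fun h1 => hns 1 (by
      rw [one_smul, show (x : Matrix _ _ F) = xs.1 by rw [hxs]; rfl, h1]; rfl)
    refine ⟨gl h, gl_mem h, (conj_mem_iff hR (by omega) ⟨gl h, gl_mem h⟩ ⟨x, hx⟩).2 ?_⟩
    rw [spOf_gl, ← hxs]
    exact hh

end CfsgLib.MaxSub.SpQuad
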