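/-
Involutions of `PSL n` inside subfield subgroups.
-/
import Cfsg.Agent.Lib.MaxSub.ElusiveField
import Cfsg.Agent.Lib.Aschbacher.Subfield
import Cfsg.Agent.Lib.SLCard

set_option autoImplicit false
set_option linter.unusedSectionVars false

namespace CfsgLib.MaxSub.Elusive

open Polynomial Module

universe u

variable {F : Type u} [Field F] [Fintype F] {n : ℕ}

theorem mem_subfield_one_iff (F₀ : Subfield F) (g : GL (Fin n) F) :
    g ∈ Cfsg.Geo.subfieldSubgroup F₀ 1 ↔ ∃ (c : F) (y : Matrix (Fin n) (Fin n) F),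
      c ≠ 0 ∧ (∀ i j, y i j ∈ F₀) ∧ (g : Matrix (Fin n) (Fin n) F) = c • y := by
  classical
  rw [Cfsg.Geo.subfieldSubgroup, map_one, MulEquiv.toMonoidHom_eq_coe]
  simp only [Subgroup.mem_map, MonoidHom.coe_coe, MulAut.one_apply, exists_eq_right]
  haveI : (Cfsg.Geo.scalars (Fin n) F).Normal := ⟨fun a ha b => by
    obtain ⟨c, hc⟩ := (Cfsg.Geo.mem_scalars_iff a).mp ha
    rw [Cfsg.Geo.mem_scalars_iff]
    refine ⟨c, ?_⟩
    rw [Units.val_mul, Units.val_mul, hc, Algebra.mul_smul_comm, mul_one, Algebra.smul_mul_assoc, ← Units.val_mul,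
      mul_inv_cancel, Units.val_one]⟩
  rw [Subgroup.mem_sup_of_normal_right]
  constructor
  · rintro ⟨_, ⟨y, rfl⟩, s, hs, rfl⟩
    obtain ⟨c, hc⟩ := (Cfsg.Geo.mem_scalars_iff s).mp hs
    refine ⟨c, (y : Matrix (Fin n) (Fin n) F₀).map F₀.subtype, c.ne_zero, fun i j => ((y : Matrix (Fin n) (Fin n) F₀) i j).2, ?_⟩
    rw [Units.val_mul, hc, Algebra.mul_smul_comm, mul_one]
    rfl
  · rintro ⟨c, y, hc, hy, hg⟩
    have hdet : y.det ≠ 0 := fun h => g.det_ne_zero (by rw [hg, Matrix.det_smul, h, mul_zero])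
    refine ⟨Matrix.GeneralLinearGroup.mkOfDetNeZero y hdet, CfsgLib.Aschbacher.mem_range_map _ hy,
      Units.map (Matrix.scalar (Fin n) : F →+* Matrix (Fin n) (Fin n) F).toMonoidHom (Units.mk0 c hc), ⟨_, rfl⟩, Units.ext ?_⟩
    rw [Units.val_mul, hg]
    show y * Matrix.scalar (Fin n) c = _
    rw [Matrix.scalar_apply, ← Matrix.smul_one_eq_diagonal, Algebra.mul_smul_comm, mul_one]

/-- A map with a rational matrix in some basis, up to a scalar. -/
theorem mem_of_rational {ι : Type*} [Fintype ι] [DecidableEq ι] (F₀ : Subfield F) (x : Matrix.SpecialLinearGroup (Fin n) F)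
    (B : Basis ι F (Fin n → F)) (c : F) (hc : c ≠ 0) (M : Matrix ι ι F) (hM : ∀ i j, M i j ∈ F₀)
    (hx : ∀ i, Matrix.toLinAlgEquiv' (x : Matrix (Fin n) (Fin n) F) (B i) = c • ∑ j, M j i • B j)
    (hS : ∀ δ : F, δ ≠ 0 → ∃ S : Module.End F (Fin n → F),
      S * Matrix.toLinAlgEquiv' (x : Matrix (Fin n) (Fin n) F) = Matrix.toLinAlgEquiv' (x : Matrix (Fin n) (Fin n) F) * S ∧
        LinearMap.det S = δ) :
    ∃ P : Matrix.SpecialLinearGroup (Fin n) F, P⁻¹ * x * P ∈
      (Cfsg.Geo.subfieldSubgroup F₀ 1).comap (Matrix.SpecialLinearGroup.toGL : Matrix.SpecialLinearGroup (Fin n) F →* GL (Fin n) F) := by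
  classical
  let e : ι ≃ Fin n := Fintype.equivFinOfCardEq (by rw [← Module.finrank_eq_card_basis B, Module.finrank_fin_fun])
  let M' : Matrix (Fin n) (Fin n) F := c • M.submatrix e.symm e.symm
  let φ := (Pi.basisFun F (Fin n)).equiv (B.reindex e) (Equiv.refl _)
  refine mem_of_intertwine x _ (Matrix.toLin' M') φ (fun v => ?_) hS fun g hg => ?_
  · refine LinearMap.congr_fun ((Pi.basisFun F (Fin n)).ext (f₁ := Matrix.toLin' (x : Matrix (Fin n) (Fin n) F) ∘ₗ φ.toLinearMap)
      (f₂ := φ.toLinearMap ∘ₗ Matrix.toLin' M') fun i => ?_) v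
    show (x : Matrix (Fin n) (Fin n) F).mulVec (φ (Pi.basisFun F (Fin n) i)) = φ (M'.mulVec (Pi.basisFun F (Fin n) i))
    rw [show M'.mulVec (Pi.basisFun F (Fin n) i) = ∑ j, M' j i • Pi.basisFun F (Fin n) j by
      funext k; simp [Pi.single_apply], map_sum]
    simp only [map_smul, φ, Basis.equiv_apply, Equiv.refl_apply, Basis.reindex_apply]
    refine (hx (e.symm i)).trans ?_
    rw [Finset.smul_sum, ← Equiv.sum_comp e]
    refine Finset.sum_congr rfl fun j _ => ?_
    simp [M', smul_smul]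
  · rw [LinearMap.toMatrix'_toLin'] at hg
    exact (mem_subfield_one_iff F₀ g).mpr ⟨c, _, hc, fun i j => hM _ _, hg⟩

theorem constr_diag_det {ι : Type*} [Fintype ι] [DecidableEq ι] (B : Basis ι F (Fin n → F)) (d : ι → F) :
    LinearMap.det (B.constr F fun i => d i • B i) = ∏ i, d i := by
  rw [← LinearMap.det_toMatrix B, show LinearMap.toMatrix B B (B.constr F fun i => d i • B i) = Matrix.diagonal d by
    ext u v
    rw [LinearMap.toMatrix_apply, Basis.constr_basis, map_smul, Basis.repr_self, Finsupp.smul_single, smul_eq_mul,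
      mul_one, Finsupp.single_apply, Matrix.diagonal_apply]
    by_cases h : u = v
    · subst h; simp
    · simp [h, Ne.symm h], Matrix.det_diagonal]

theorem semisimple_rational (p : ℕ) [Fact p.Prime] [CharP F p] (h2 : p ≠ 2) (F₀ : Subfield F) (hn : 1 ≤ n)
    (x : Matrix.SpecialLinearGroup (Fin n) F) {b : F} (hb : b ≠ 0)
    (hT : (Matrix.toLinAlgEquiv' (x : Matrix (Fin n) (Fin n) F)) ^ 2 = b ^ 2 • 1) :
    ∃ P : Matrix.SpecialLinearGroup (Fin n) F, P⁻¹ * x * P ∈
      (Cfsg.Geo.subfieldSubgroup F₀ 1).comap (Matrix.SpecialLinearGroup.toGL : Matrix.SpecialLinearGroup (Fin n) F →* GL (Fin n) F) := by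
  classical
  set T := Matrix.toLinAlgEquiv' (x : Matrix (Fin n) (Fin n) F)
  set U := b⁻¹ • T with hUdef
  have hU : U ^ 2 = 1 := by rw [hUdef, _root_.smul_pow, hT, smul_smul, ← mul_pow, inv_mul_cancel₀ hb, one_pow, one_smul]
  have hc : IsCompl (LinearMap.ker (U - 1)) (LinearMap.range (U - 1)) := by
    have hinf := ker_inf_range (p := p) U Nat.prime_two h2.symm hU
    refine ⟨disjoint_iff.mpr hinf, codisjoint_iff.mpr (Submodule.eq_top_of_finrank_eq ?_)⟩
    have h := Submodule.finrank_sup_add_finrank_inf_eq (LinearMap.ker (U - 1)) (LinearMap.range (U - 1))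
    rw [hinf, finrank_bot, add_zero] at h
    have h' := LinearMap.finrank_range_add_finrank_ker (U - 1)
    omega
  let B := ((Module.finBasis F (LinearMap.ker (U - 1))).prod (Module.finBasis F (LinearMap.range (U - 1)))).map
    (Submodule.prodEquivOfIsCompl _ _ hc)
  let s : Fin (finrank F (LinearMap.ker (U - 1))) ⊕ Fin (finrank F (LinearMap.range (U - 1))) → F :=
    Sum.elim (fun _ => 1) fun _ => -1
  have hUB : ∀ i, U (B i) = s i • B i := by
    rintro (i | i)
    · simpa [B, s] using sub_eq_zero.mp (Module.finBasis F (LinearMap.ker (U - 1)) i).2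
    · obtain ⟨w, hw⟩ := (Module.finBasis F (LinearMap.range (U - 1)) i).2
      have : U ((U - 1) w) = -((U - 1) w) := by
        have h := LinearMap.congr_fun hU w
        rw [pow_two, Module.End.mul_apply, Module.End.one_apply] at h
        simp [h]
      rw [hw] at this
      simpa [B, s] using this
  have hTB : ∀ i, T (B i) = b • s i • B i := fun i => by
    have h := hUB i
    rw [show U (B i) = b⁻¹ • T (B i) from rfl, inv_smul_eq_iff₀ hb] at h
    exact h
  refine mem_of_rational F₀ x B b hb (Matrix.diagonal s) (fun i j => ?_) (fun i => ?_) fun δ _ => ?_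
  · rw [Matrix.diagonal_apply]
    split_ifs
    · rcases i with _ | _ <;> simp [s, one_mem, neg_mem]
    · exact zero_mem _
  · show T (B i) = _
    rw [hTB, Finset.sum_eq_single i (fun j _ hj => by simp [Matrix.diagonal_apply_ne _ hj]) (by simp),
      Matrix.diagonal_apply_eq]
  · obtain ⟨i0⟩ : Nonempty (Fin (finrank F (LinearMap.ker (U - 1))) ⊕ Fin (finrank F (LinearMap.range (U - 1)))) := by
      rw [← Fintype.card_pos_iff, ← Module.finrank_eq_card_basis B, Module.finrank_fin_fun]; omega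
    refine ⟨B.constr F fun i => (if i = i0 then δ else 1) • B i, B.ext fun i => ?_, ?_⟩
    · rw [Module.End.mul_apply, Module.End.mul_apply]
      show (B.constr F fun i => (if i = i0 then δ else 1) • B i) (T (B i)) = T _
      rw [hTB, map_smul, map_smul, Basis.constr_basis, map_smul, hTB]
      module
    · rw [constr_diag_det, Finset.prod_ite_eq' Finset.univ i0, if_pos (Finset.mem_univ _)]

theorem unipotent_rational [CharP F 2] (F₀ : Subfield F) (x : Matrix.SpecialLinearGroup (Fin n) F) {b : F} (hb : b ≠ 0)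
    (hT : (Matrix.toLinAlgEquiv' (x : Matrix (Fin n) (Fin n) F)) ^ 2 = b ^ 2 • 1)
    (hns : ∀ z : F, (x : Matrix (Fin n) (Fin n) F) ≠ z • 1) :
    ∃ P : Matrix.SpecialLinearGroup (Fin n) F, P⁻¹ * x * P ∈
      (Cfsg.Geo.subfieldSubgroup F₀ 1).comap (Matrix.SpecialLinearGroup.toGL : Matrix.SpecialLinearGroup (Fin n) F →* GL (Fin n) F) := by
  classical
  set T := Matrix.toLinAlgEquiv' (x : Matrix (Fin n) (Fin n) F) with hTdef
  set N := b⁻¹ • T - 1 with hNdef
  have hN : N * N = 0 := by
    have h20 : (2 : Module.End F (Fin n → F)) = 0 := by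
      rw [← map_ofNat (algebraMap F (Module.End F (Fin n → F))) 2, show (2 : F) = 0 from CharP.cast_eq_zero F 2, map_zero]
    have hU : (b⁻¹ • T) ^ 2 = 1 := by rw [_root_.smul_pow, hT, smul_smul, ← mul_pow, inv_mul_cancel₀ hb, one_pow, one_smul]
    calc N * N = (b⁻¹ • T) ^ 2 + 1 - 2 * (b⁻¹ • T) := by
          rw [hNdef]; generalize b⁻¹ • T = S'; simp only [sub_mul, mul_sub, one_mul, mul_one, pow_two, two_mul]; abel
      _ = 0 := by rw [hU, h20, zero_mul, sub_zero, show (1 : Module.End F (Fin n → F)) + 1 = 2 by norm_num, h20]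
  obtain ⟨W, hW⟩ := (LinearMap.ker N).exists_isCompl
  set NW := W.map N
  have hNW' : NW ≤ LinearMap.ker N := by
    rintro _ ⟨w, -, rfl⟩
    show (N * N) w = 0
    rw [hN, LinearMap.zero_apply]
  obtain ⟨C', hC'⟩ := NW.exists_isCompl
  set C := LinearMap.ker N ⊓ C' with hCdef
  have hker : NW ⊔ C = LinearMap.ker N := by
    rw [hCdef, inf_comm, ← sup_inf_assoc_of_le C' hNW', hC'.sup_eq_top, top_inf_eq]
  set bW := Module.finBasis F W
  set bC := Module.finBasis F C
  let fam : (Fin (finrank F W) × Fin 2) ⊕ Fin (finrank F C) → (Fin n → F) :=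
    Sum.elim (fun i => ![(bW i.1 : Fin n → F), N (bW i.1 : Fin n → F)] i.2) fun i => (bC i : Fin n → F)
  have hspan : ⊤ ≤ Submodule.span F (Set.range fam) := by
    have h1 : W ≤ Submodule.span F (Set.range fam) := by
      intro v hv
      have : (⟨v, hv⟩ : W) ∈ Submodule.span F (Set.range bW) := by rw [bW.span_eq]; trivial
      refine (Submodule.span_le.mpr ?_ : Submodule.span F (Set.range bW) ≤ (Submodule.span F (Set.range fam)).comap W.subtype) this
      rintro _ ⟨j, rfl⟩
      exact Submodule.subset_span ⟨Sum.inl (j, 0), by simp [fam]⟩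
    have h2' : NW ≤ Submodule.span F (Set.range fam) := by
      rintro _ ⟨v, hv, rfl⟩
      have : (⟨v, hv⟩ : W) ∈ Submodule.span F (Set.range bW) := by rw [bW.span_eq]; trivial
      refine (Submodule.span_le.mpr ?_ : Submodule.span F (Set.range bW) ≤ ((Submodule.span F (Set.range fam)).comap N).comap W.subtype) this
      rintro _ ⟨j, rfl⟩
      exact Submodule.subset_span ⟨Sum.inl (j, 1), by simp [fam]⟩
    have h3 : C ≤ Submodule.span F (Set.range fam) := by
      intro v hv
      have : (⟨v, hv⟩ : C) ∈ Submodule.span F (Set.range bC) := by rw [bC.span_eq]; trivial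
      refine (Submodule.span_le.mpr ?_ : Submodule.span F (Set.range bC) ≤ (Submodule.span F (Set.range fam)).comap C.subtype) this
      rintro _ ⟨j, rfl⟩
      exact Submodule.subset_span ⟨Sum.inr j, rfl⟩
    rw [← hW.sup_eq_top, ← hker]
    exact sup_le (sup_le h2' h3) h1
  have hcard : Fintype.card ((Fin (finrank F W) × Fin 2) ⊕ Fin (finrank F C)) = finrank F (Fin n → F) := by
    have hdis : NW ⊓ C = ⊥ := le_bot_iff.mp ((inf_le_inf_left _ inf_le_right).trans hC'.inf_eq_bot.le)
    have h2 := Submodule.finrank_sup_add_finrank_inf_eq NW C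
    rw [hker, hdis, finrank_bot, add_zero] at h2
    have hsum := Submodule.finrank_add_eq_of_isCompl hW
    have hle : finrank F NW = finrank F W := by
      have h := LinearMap.finrank_range_add_finrank_ker (N.comp W.subtype)
      have h0 : LinearMap.ker (N.comp W.subtype) = ⊥ := by
        rw [LinearMap.ker_comp, ← Submodule.map_injective_of_injective W.subtype_injective |>.eq_iff,
          Submodule.map_comap_subtype, Submodule.map_bot, hW.disjoint.symm.eq_bot]
      rw [h0, finrank_bot, add_zero, LinearMap.range_comp, Submodule.range_subtype] at h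
      exact h
    simp only [Fintype.card_sum, Fintype.card_prod, Fintype.card_fin]
    omega
  let B := basisOfTopLeSpanOfCardEqFinrank fam hspan hcard
  have hk : finrank F W ≠ 0 := fun h => by
    have hWb := Submodule.finrank_eq_zero.mp h
    have hNtop : LinearMap.ker N = ⊤ := by rw [← hW.sup_eq_top, hWb, sup_bot_eq]
    have hN0 : N = 0 := LinearMap.ker_eq_top.mp hNtop
    refine hns b (Matrix.toLinAlgEquiv'.injective ?_)
    rw [map_smul, map_one, ← hTdef]
    have := sub_eq_zero.mp hN0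
    rw [inv_smul_eq_iff₀ hb] at this
    exact this
  let M : Matrix ((Fin (finrank F W) × Fin 2) ⊕ Fin (finrank F C)) ((Fin (finrank F W) × Fin 2) ⊕ Fin (finrank F C)) F :=
    fun u v => (if u = v then 1 else 0) + match v with
      | Sum.inl (j, a) => if a = 0 ∧ u = Sum.inl (j, 1) then 1 else 0
      | Sum.inr _ => 0
  have hNB : ∀ v, N (B v) = match v with
      | Sum.inl (j, a) => if a = 0 then B (Sum.inl (j, 1)) else 0
      | Sum.inr _ => 0 := by
    rintro (⟨j, a⟩ | i) <;> simp only [B, coe_basisOfTopLeSpanOfCardEqFinrank, fam, Sum.elim_inl, Sum.elim_inr]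
    · fin_cases a
      · simp
      · simp only [Fin.mk_one, Fin.isValue, Matrix.cons_val_one, Matrix.cons_val_zero, if_neg (one_ne_zero (α := Fin 2))]
        show (N * N) (bW j : Fin n → F) = 0
        rw [hN, LinearMap.zero_apply]
    · exact (bC i).2.1
  have hTB : ∀ v, T v = b • (N v + v) := fun v => by
    rw [hNdef, LinearMap.sub_apply, Module.End.one_apply, sub_add_cancel, LinearMap.smul_apply, smul_smul,
      mul_inv_cancel₀ hb, one_smul]
  refine mem_of_rational F₀ x B b hb M (fun u v => ?_) (fun v => ?_) fun δ _ => ?_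
  · refine add_mem ?_ ?_
    · split_ifs <;> simp [one_mem, zero_mem]
    · rcases v with ⟨j, a⟩ | i
      · dsimp only; split_ifs <;> simp [one_mem, zero_mem]
      · exact zero_mem _
  · show T (B v) = _
    rw [hTB, hNB]
    congr 1
    simp only [M, add_smul, ite_smul, one_smul, zero_smul, Finset.sum_add_distrib, Finset.sum_ite_eq', Finset.mem_univ, if_true]
    rw [add_comm]
    congr 1
    rcases v with ⟨j, a⟩ | i
    · by_cases ha : a = 0 <;> simp [ha, Finset.sum_ite_eq', ite_smul]
    · simp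
  · obtain ⟨t, ht⟩ := FiniteField.isSquare_of_char_two (ringChar.eq F 2) δ
    let j0 : Fin (finrank F W) := ⟨0, Nat.pos_of_ne_zero hk⟩
    let d : (Fin (finrank F W) × Fin 2) ⊕ Fin (finrank F C) → F :=
      Sum.elim (fun i => if i.1 = j0 then t else 1) fun _ => 1
    have hSN : ∀ v, (B.constr F fun i => d i • B i) (N (B v)) = d v • N (B v) := by
      intro v
      rw [hNB]
      rcases v with ⟨j, a⟩ | i
      · by_cases ha : a = 0 <;> simp [ha, d]
      · simp
    refine ⟨B.constr F fun i => d i • B i, B.ext fun v => ?_, ?_⟩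
    · rw [Module.End.mul_apply, Module.End.mul_apply]
      show (B.constr F fun i => d i • B i) (T (B v)) = T _
      rw [hTB, map_smul, map_add, hSN, Basis.constr_basis, hTB, map_smul]
      try module
    · rw [constr_diag_det, Fintype.prod_sum_type]
      simp only [d, Sum.elim_inl, Sum.elim_inr, Finset.prod_const_one, mul_one, Fintype.prod_prod_type, Fin.prod_univ_two]
      rw [Finset.prod_mul_distrib, Finset.prod_ite_eq', if_pos (Finset.mem_univ _)]
      exact ht.symm

theorem twisted_not_rational (F₀ : Subfield F) (hsq : ∀ a : F, a ∈ F₀ → IsSquare a) (hn : 1 ≤ n)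
    (x P : Matrix.SpecialLinearGroup (Fin n) F) {z : F}
    (hx : ((x ^ 2 : Matrix.SpecialLinearGroup (Fin n) F) : Matrix (Fin n) (Fin n) F) = z • 1) (hz : ∀ b : F, b ^ 2 ≠ z)
    (hP : P⁻¹ * x * P ∈ (Cfsg.Geo.subfieldSubgroup F₀ 1).comap (Matrix.SpecialLinearGroup.toGL : Matrix.SpecialLinearGroup (Fin n) F →* GL (Fin n) F)) :
    False := by
  obtain ⟨c, y, hc, hy, hg⟩ := (mem_subfield_one_iff F₀ _).mp hP
  change ((P⁻¹ * x * P : Matrix.SpecialLinearGroup (Fin n) F) : Matrix (Fin n) (Fin n) F) = c • y at hg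
  have hy2 : (c • y) * (c • y) = z • (1 : Matrix (Fin n) (Fin n) F) := by
    rw [← hg, ← Matrix.SpecialLinearGroup.coe_mul, show (P⁻¹ * x * P) * (P⁻¹ * x * P) = P⁻¹ * x ^ 2 * P by
      rw [pow_two]; group, Matrix.SpecialLinearGroup.coe_mul,
      Matrix.SpecialLinearGroup.coe_mul, hx, Algebra.mul_smul_comm, mul_one, Algebra.smul_mul_assoc,
      ← Matrix.SpecialLinearGroup.coe_mul, inv_mul_cancel, Matrix.SpecialLinearGroup.coe_one]
  let i0 : Fin n := ⟨0, hn⟩
  have h0 : c ^ 2 * (y * y) i0 i0 = z := by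
    have := congrFun (congrFun hy2 i0) i0
    rw [smul_mul_smul_comm, Matrix.smul_apply, Matrix.smul_apply, Matrix.one_apply_eq, smul_eq_mul, smul_eq_mul, mul_one] at this
    rw [pow_two]; exact this
  obtain ⟨r, hr⟩ := hsq ((y * y) i0 i0) (by
    rw [Matrix.mul_apply]; exact sum_mem fun j _ => mul_mem (hy _ _) (hy _ _))
  exact hz (c * r) (by rw [← h0, hr]; ring)

theorem geom_quotient_odd {a k : ℕ} (ha : Odd a) (hk : Odd k) : Odd (∑ i ∈ Finset.range k, a ^ i) := by
  rw [Nat.odd_iff, Finset.sum_nat_mod, Finset.sum_congr rfl fun i _ => (Nat.odd_iff.mp (ha.pow (n := i))),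
    Finset.sum_const, Finset.card_range, smul_eq_mul, mul_one, Nat.odd_iff.mp hk]

theorem padic_two_pow_sub_one {a k : ℕ} (ha : Odd a) (hk : Odd k) (ha1 : 1 < a) :
    padicValNat 2 (a ^ k - 1) = padicValNat 2 (a - 1) := by
  haveI : Fact (Nat.Prime 2) := ⟨Nat.prime_two⟩
  have h : a ^ k - 1 = (∑ i ∈ Finset.range k, a ^ i) * (a - 1) := by
    have := Nat.geomSum_eq ha1 k
    rw [this, Nat.div_mul_cancel (Nat.sub_one_dvd_pow_sub_one a k)]
  rw [h, padicValNat.mul (by have := geom_quotient_odd ha hk; rcases this with ⟨c, hc⟩; omega) (by omega),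
    padicValNat.eq_zero_of_not_dvd (fun h2 => by
      have := Nat.odd_iff.mp (geom_quotient_odd ha hk); omega), zero_add]

theorem padic_prod {α : Type*} (s : Finset α) (f : α → ℕ) (hf : ∀ i ∈ s, f i ≠ 0) :
    padicValNat 2 (∏ i ∈ s, f i) = ∑ i ∈ s, padicValNat 2 (f i) := by
  classical
  haveI : Fact (Nat.Prime 2) := ⟨Nat.prime_two⟩
  induction s using Finset.induction_on with
  | empty => simp
  | insert a s ha ih =>
    rw [Finset.prod_insert ha, Finset.sum_insert ha,
      padicValNat.mul (hf a (Finset.mem_insert_self _ _))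
        (Finset.prod_ne_zero_iff.mpr fun i hi => hf i (Finset.mem_insert_of_mem hi)),
      ih fun i hi => hf i (Finset.mem_insert_of_mem hi)]

theorem two_val_SL (F₁ : Type u) [Field F₁] [Fintype F₁] {k : ℕ} (hk : Odd k)
    (hq : Fintype.card F = Fintype.card F₁ ^ k) (ho : Odd (Fintype.card F₁)) (hn : 1 ≤ n) :
    padicValNat 2 (Nat.card (Matrix.SpecialLinearGroup (Fin n) F)) =
      padicValNat 2 (Nat.card (Matrix.SpecialLinearGroup (Fin n) F₁)) := by
  classical
  haveI : Fact (Nat.Prime 2) := ⟨Nat.prime_two⟩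
  have h1 := Fintype.one_lt_card (α := F₁)
  have hqo : Odd (Fintype.card F) := hq ▸ ho.pow
  have hqq := Fintype.one_lt_card (α := F)
  have hval : ∀ (K : Type _) [Field K] [Fintype K], Odd (Fintype.card K) →
      padicValNat 2 (Fintype.card K - 1) + padicValNat 2 (Nat.card (Matrix.SpecialLinearGroup (Fin n) K)) =
        ∑ i : Fin n, padicValNat 2 (Fintype.card K ^ (n - (i : ℕ)) - 1) := by
    intro K _ _ hK
    have hK1 := Fintype.one_lt_card (α := K)
    have h := CfsgLib.SLCard.card_units_mul_card_SL (F := K) hn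
    rw [Matrix.card_GL_field] at h
    have hne : ∀ i : Fin n, Fintype.card K ^ (n - (i : ℕ)) - 1 ≠ 0 := fun i => by
      have := Nat.one_lt_pow (show n - (i : ℕ) ≠ 0 by omega) hK1
      omega
    rw [← padicValNat.mul (by omega) Nat.card_pos.ne', h,
      Finset.prod_congr rfl fun (i : Fin n) _ => q_pow_factor (n := n) i.2.le _, Finset.prod_mul_distrib,
      padicValNat.mul (Finset.prod_ne_zero_iff.mpr fun i _ => pow_ne_zero _ (by omega))
        (Finset.prod_ne_zero_iff.mpr fun i _ => hne i),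
      padicValNat.eq_zero_of_not_dvd (fun h2 => by
        obtain ⟨i, -, hi⟩ := (Prime.dvd_finset_prod_iff Nat.prime_two.prime _).mp h2
        have := Nat.prime_two.dvd_of_dvd_pow hi
        have := Nat.odd_iff.mp hK
        omega), zero_add]
    exact padic_prod _ _ fun i _ => hne i
  have hFv := hval F hqo
  have hF₁ := hval F₁ ho
  rw [Finset.sum_congr rfl fun (i : Fin n) _ => ?_, ← hF₁, hq, padic_two_pow_sub_one ho hk h1] at hFv
  · omega
  · rw [hq, ← pow_mul, mul_comm, pow_mul,
      padic_two_pow_sub_one ho.pow hk (Nat.one_lt_pow (by omega) h1)]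

theorem index_odd_of_odd_degree (F₀ : Subfield F) {k : ℕ} (hk : Odd k)
    (hq : Fintype.card F = Nat.card F₀ ^ k) (ho : Odd (Nat.card F₀)) (hn : 1 ≤ n) :
    ¬ 2 ∣ ((Cfsg.Geo.subfieldSubgroup F₀ 1).comap (Matrix.SpecialLinearGroup.toGL : Matrix.SpecialLinearGroup (Fin n) F →* GL (Fin n) F)).index := by
  classical
  haveI : Fact (Nat.Prime 2) := ⟨Nat.prime_two⟩
  rw [Nat.card_eq_fintype_card] at hq ho
  set H := (Cfsg.Geo.subfieldSubgroup F₀ 1).comap (Matrix.SpecialLinearGroup.toGL : Matrix.SpecialLinearGroup (Fin n) F →* GL (Fin n) F) with hH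
  let ι : Matrix.SpecialLinearGroup (Fin n) F₀ →* Matrix.SpecialLinearGroup (Fin n) F := Matrix.SpecialLinearGroup.map F₀.subtype
  have hle : ι.range ≤ H := by
    rintro _ ⟨y, rfl⟩
    exact (mem_subfield_one_iff F₀ _).mpr ⟨1, (y : Matrix (Fin n) (Fin n) F₀).map F₀.subtype, one_ne_zero,
      fun i j => ((y : Matrix (Fin n) (Fin n) F₀) i j).2, by rw [one_smul]; rfl⟩
  have hinj : Function.Injective ι := fun a b h => Subtype.ext (Matrix.map_injective Subtype.val_injective (congrArg Subtype.val h))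
  intro h2
  have hd : Nat.card (Matrix.SpecialLinearGroup (Fin n) F₀) * H.index ∣ Nat.card (Matrix.SpecialLinearGroup (Fin n) F) := by
    rw [← H.card_mul_index, Nat.card_congr (MonoidHom.ofInjective hinj).toEquiv]
    exact mul_dvd_mul_right (Subgroup.card_dvd_of_le hle) _
  have hv := two_val_SL (F := F) F₀ hk hq ho hn
  have hle2 : padicValNat 2 (Nat.card (Matrix.SpecialLinearGroup (Fin n) F₀) * H.index) ≤
      padicValNat 2 (Nat.card (Matrix.SpecialLinearGroup (Fin n) F)) :=
    (padicValNat_dvd_iff_le Nat.card_pos.ne').mp (pow_padicValNat_dvd.trans hd)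
  rw [padicValNat.mul Nat.card_pos.ne' Subgroup.index_ne_zero_of_finite, hv] at hle2
  have := one_le_padicValNat_of_dvd Subgroup.index_ne_zero_of_finite h2
  omega

theorem subfield_involution_iff (p : ℕ) [Fact p.Prime] [CharP F p] (hn : 2 ≤ n) (F₀ : Subfield F) {k : ℕ} (hk : k.Prime)
    (hq : Fintype.card F = Nat.card F₀ ^ k)
    (hΩ : 2 ∣ ((Cfsg.Geo.subfieldSubgroup F₀ 1).comap (Matrix.SpecialLinearGroup.toGL : Matrix.SpecialLinearGroup (Fin n) F →* GL (Fin n) F)).index) :
    (∀ x : Matrix.SpecialLinearGroup (Fin n) F,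
      (∃ z : F, ((x ^ 2 : Matrix.SpecialLinearGroup (Fin n) F) : Matrix (Fin n) (Fin n) F) = z • (1 : Matrix (Fin n) (Fin n) F)) →
      (∀ z : F, (x : Matrix (Fin n) (Fin n) F) ≠ z • (1 : Matrix (Fin n) (Fin n) F)) →
      ∃ P : Matrix.SpecialLinearGroup (Fin n) F, P⁻¹ * x * P ∈ ((Cfsg.Geo.subfieldSubgroup F₀ 1).comap (Matrix.SpecialLinearGroup.toGL : Matrix.SpecialLinearGroup (Fin n) F →* GL (Fin n) F))) ↔
    (Odd (Fintype.card F) → (k = 2 ∧ padicValNat 2 n ≤ padicValNat 2 (Fintype.card F - 1))) := by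
  classical
  haveI : Fact (Nat.Prime 2) := ⟨Nat.prime_two⟩
  have hq0 : ∀ a : F, a ∈ F₀ → k = 2 → IsSquare a := by
    intro a ha hk2
    by_cases h2 : ringChar F = 2
    · exact FiniteField.isSquare_of_char_two h2 a
    by_cases ha0 : a = 0
    · exact ⟨0, by rw [ha0, mul_zero]⟩
    rw [FiniteField.isSquare_iff h2 ha0, hq, hk2, Nat.card_eq_fintype_card]
    have hodd : Odd (Fintype.card F₀) := by
      have := FiniteField.odd_card_of_char_ne_two h2
      rw [← Nat.odd_iff, hq, Nat.card_eq_fintype_card, Nat.odd_pow_iff hk.ne_zero] at this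
      exact this
    obtain ⟨c, hc⟩ := hodd
    have h1 : (⟨a, ha⟩ : F₀) ^ (2 * c) = 1 := by
      have := FiniteField.pow_card_sub_one_eq_one (⟨a, ha⟩ : F₀) (fun h => ha0 (congrArg Subtype.val h))
      rwa [hc, Nat.add_sub_cancel] at this
    have h1' : a ^ (2 * c) = 1 := congrArg Subtype.val h1
    rw [hc, show (2 * c + 1) ^ 2 / 2 = 2 * c * (c + 1) by
      rw [show (2 * c + 1) ^ 2 = 2 * (2 * c * (c + 1)) + 1 by ring]; omega, pow_mul, h1', one_pow]
  constructor
  · intro H hodd
    have hk2 : k = 2 := by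
      rcases hk.eq_two_or_odd' with h | h
      · exact h
      · exfalso
        refine index_odd_of_odd_degree F₀ h hq ?_ (by omega) hΩ
        rw [hq, Nat.odd_pow_iff hk.ne_zero] at hodd
        exact hodd
    refine ⟨hk2, ?_⟩
    by_contra hlt
    push Not at hlt
    have h2n : 2 ∣ n := dvd_of_one_le_padicValNat (by omega)
    have h2M : 2 ∣ Fintype.card F - 1 := by
      have := Nat.odd_iff.mp hodd
      omega
    obtain ⟨u, hu0, huk, hu⟩ := exists_not_pow (F := F) Nat.prime_two h2M (k := n / 2)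
      (by rw [padicValNat.div h2n]; omega)
    obtain ⟨m, hm⟩ := hq0 (-1) (neg_mem (one_mem _)) hk2
    have hm0 : m ≠ 0 := by
      rintro rfl
      rw [mul_zero] at hm
      exact one_ne_zero (neg_eq_zero.mp hm)
    have hnu : ∀ b : F, b ^ 2 ≠ -u := fun b hb => hu (b / m) (by rw [div_pow, pow_two m, ← hm, hb, neg_div_neg_eq, div_one])
    obtain ⟨x, hx, hxns, -⟩ := exists_twisted Nat.prime_two hnu h2n (by omega) (by rw [neg_one_sq, one_mul, neg_neg]; exact huk)
    obtain ⟨P, hP⟩ := H x ⟨_, hx⟩ hxns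
    exact twisted_not_rational F₀ (fun a ha => hq0 a ha hk2) (by omega) x P hx hnu hP
  · intro hc x ⟨z, hz⟩ hns
    set T := Matrix.toLinAlgEquiv' (x : Matrix (Fin n) (Fin n) F) with hTdef
    have hT : T ^ 2 = z • 1 := pow_scalar 2 hz
    obtain ⟨b, rfl⟩ : ∃ b : F, b ^ 2 = z := by
      by_cases hodd : Odd (Fintype.card F)
      · obtain ⟨hk2, hle⟩ := hc hodd
        by_contra hsq
        push Not at hsq
        obtain ⟨h2n, hdet, -⟩ := twisted_dims Nat.prime_two T hsq hT
        have h1 : LinearMap.det T = 1 := by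
          show LinearMap.det (Matrix.toLin' (x : Matrix (Fin n) (Fin n) F)) = 1
          rw [LinearMap.det_toLin', x.2]
        rw [h1, neg_one_sq, one_mul] at hdet
        obtain ⟨m, hm⟩ := hq0 (-1) (neg_mem (one_mem _)) hk2
        have hnz : -z ≠ 0 := fun h => by
          rw [h, zero_pow (by omega)] at hdet; exact one_ne_zero hdet
        have hnu : ∀ b : F, b ^ 2 ≠ -z := fun b hb => hsq (b * m) (by
          rw [mul_pow, hb, pow_two, ← hm]; ring)
        have := factor_le_of_not_pow hnz hnu Nat.prime_two (k := n / 2) (by omega) hdet.symm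
        rw [padicValNat.div h2n] at this
        have := one_le_padicValNat_of_dvd (by omega) h2n
        omega
      · obtain ⟨b, hb⟩ := FiniteField.isSquare_of_char_two (F := F) (by
          by_contra h
          exact hodd (Nat.odd_iff.mpr (FiniteField.odd_card_of_char_ne_two h))) z
        exact ⟨b, by rw [hb, pow_two]⟩
    have hb : b ≠ 0 := fun e => by
      have h := congrArg Matrix.det hz
      have hne : Nonempty (Fin n) := ⟨⟨0, by omega⟩⟩
      rw [e, zero_pow two_ne_zero, zero_smul, Matrix.det_zero, (x ^ 2).2] at h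
      exact one_ne_zero h
    by_cases h2 : p = 2
    · subst h2
      exact unipotent_rational F₀ x hb hT hns
    · exact semisimple_rational p h2 F₀ (by omega) x hb hT

end CfsgLib.MaxSub.Elusive
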