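/-
Elements of order three of `PSL n` in characteristic three inside subfield subgroups.
-/
import Cfsg.Agent.Lib.MaxSub.ElusiveSubfield
import Cfsg.Agent.Lib.MaxSub.ElusiveSpTwo
import Cfsg.Agent.Lib.GLClassNumber.Unipotent

set_option autoImplicit false
set_option linter.unusedSectionVars false

namespace CfsgLib.MaxSub.Elusive

open Polynomial Module CfsgLib.GLClassNumber

universe u

variable {F : Type u} [Field F] [Fintype F] {n : ℕ}

/-- A basis of chains for a unipotent matrix. -/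
theorem chain_basis (p : ℕ) [Fact p.Prime] [CharP F p] (g : GL (Fin n) F) (hg : g ^ p = 1) :
    ∃ (ι : Type u) (_ : Fintype ι) (e : ι → ℕ) (B : Basis ((i : ι) × Fin (e i)) F (Fin n → F)),
      (∀ i, 1 ≤ e i ∧ e i ≤ p) ∧ ∀ i (j : Fin (e i)), (toEnd g - 1) (B ⟨i, j⟩) =
        if h : (j : ℕ) + 1 < e i then B ⟨i, ⟨(j : ℕ) + 1, h⟩⟩ else 0 := by
  classical
  obtain ⟨ι, fι, e, he, hd⟩ := exists_unipotent_decomp p g (k := 1) (by rwa [pow_one])
  have hsum := finrank_decomp (fun _ => X_sub_C_ne_zero (1 : F)) hd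
  simp only [natDegree_rho, mul_one] at hsum
  obtain ⟨E⟩ := hd
  let v : ι → (Fin n → F) := fun i =>
    (Module.AEval'.of (toEnd g)).symm (E.symm (Pi.single i (Ideal.Quotient.mk _ (1 : F[X]))))
  set N := toEnd g - 1 with hN
  have haev : ∀ (P : F[X]) i, aeval (toEnd g) P (v i) =
      (Module.AEval'.of (toEnd g)).symm (E.symm (Pi.single i (Ideal.Quotient.mk _ P))) := by
    intro P i
    show aeval (toEnd g) P ((Module.AEval'.of (toEnd g)).symm _) = _
    rw [← Module.End.smul_def, ← Module.AEval.of_symm_smul, ← map_smul, ← Pi.single_smul]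
    congr 3
    show Ideal.Quotient.mk _ (P * 1) = _
    rw [mul_one]
  have hNr : N = aeval (toEnd g) (rho F) := by simp [hN, rho]
  have hpow : ∀ (j : ℕ) i, (N ^ j) (v i) = (Module.AEval'.of (toEnd g)).symm
      (E.symm (Pi.single i (Ideal.Quotient.mk _ ((rho F) ^ j)))) := fun j i => by
    rw [hNr, ← map_pow, haev]
  have hkill : ∀ i (j : ℕ), e i ≤ j → (N ^ j) (v i) = 0 := fun i j hij => by
    rw [hpow, Ideal.Quotient.eq_zero_iff_mem.mpr (Ideal.mem_span_singleton.mpr (pow_dvd_pow _ hij)), Pi.single_zero,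
      map_zero, map_zero]
  let fam : (i : ι) × Fin (e i) → (Fin n → F) := fun x => (N ^ (x.2 : ℕ)) (v x.1)
  have hspan : ⊤ ≤ Submodule.span F (Set.range fam) := by
    set S := Submodule.span F (Set.range fam) with hS
    have hNS : ∀ w ∈ S, N w ∈ S := by
      intro w hw
      refine (Submodule.span_le.mpr ?_ : S ≤ S.comap N) hw
      rintro _ ⟨⟨i, j⟩, rfl⟩
      show N ((N ^ (j : ℕ)) (v i)) ∈ S
      rw [← Module.End.mul_apply, ← pow_succ']
      by_cases h : (j : ℕ) + 1 < e i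
      · exact Submodule.subset_span ⟨⟨i, ⟨_, h⟩⟩, rfl⟩
      · rw [hkill i _ (by omega)]; exact zero_mem _
    have hgS : ∀ w ∈ S, toEnd g w ∈ S := fun w hw => by
      have := add_mem (hNS w hw) hw
      simpa [hN] using this
    have hP : ∀ (P : F[X]), ∀ w ∈ S, aeval (toEnd g) P w ∈ S := by
      intro P
      induction P using Polynomial.induction_on with
      | C a => intro w hw; simpa using S.smul_mem a hw
      | add a b ha hb => intro w hw; rw [map_add, LinearMap.add_apply]; exact add_mem (ha w hw) (hb w hw)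
      | monomial m a ih =>
        intro w hw
        rw [show (Polynomial.C a * X ^ (m + 1) : F[X]) = Polynomial.C a * X ^ m * X by ring, map_mul _ _ X,
          Module.End.mul_apply, aeval_X]
        exact ih _ (hgS w hw)
    intro w _
    have hv : ∀ i, v i ∈ S := fun i => Submodule.subset_span ⟨⟨i, ⟨0, he i⟩⟩, by simp [fam]⟩
    obtain ⟨f, rfl⟩ : ∃ f, (Module.AEval'.of (toEnd g)).symm (E.symm f) = w :=
      ⟨E (Module.AEval'.of (toEnd g) w), by simp⟩
    rw [← Finset.univ_sum_single f, map_sum, map_sum]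
    refine sum_mem fun i _ => ?_
    obtain ⟨P, hP'⟩ := Ideal.Quotient.mk_surjective (f i)
    rw [← hP', ← haev]
    exact hP P _ (hv i)
  let B := basisOfTopLeSpanOfCardEqFinrank fam hspan (by simp [Fintype.card_sigma, hsum])
  have hB : ∀ i (j : Fin (e i)), B ⟨i, j⟩ = (N ^ (j : ℕ)) (v i) := fun i j => by
    simp [B, fam]
  refine ⟨ι, fι, e, B, fun i => ⟨he i, ?_⟩, fun i j => ?_⟩
  · by_contra hlt
    push Not at hlt
    refine B.ne_zero ⟨i, ⟨p, hlt⟩⟩ ?_
    rw [hB]
    show (N ^ p) (v i) = 0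
    rw [hNr, ← map_pow, show (rho F) ^ p = X ^ p - C 1 by rw [rho, sub_pow_char, map_one, one_pow], map_sub, map_pow,
      aeval_X, map_one, map_one, toEnd]
    have h1 : (Matrix.toLin' g.val : Module.End F (Fin n → F)) ^ p = 1 := by
      have := (map_pow (Matrix.toLinAlgEquiv' : Matrix (Fin n) (Fin n) F ≃ₐ[F] _) g.val p).symm
      rw [← Units.val_pow_eq_pow_val, hg, Units.val_one, map_one] at this
      exact this
    rw [h1, sub_self, LinearMap.zero_apply]
  · rw [hB, ← Module.End.mul_apply, ← pow_succ']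
    split_ifs with h
    · rw [hB]
    · exact hkill i _ (by omega)

/-- Intertwined maps, with a prescribed element of the centraliser. -/
theorem mem_of_intertwine' (x : Matrix.SpecialLinearGroup (Fin n) F) (H : Subgroup (GL (Fin n) F))
    (Y : Module.End F (Fin n → F)) (φ : (Fin n → F) ≃ₗ[F] (Fin n → F))
    (hφ : ∀ v, (x : Matrix (Fin n) (Fin n) F).mulVec (φ v) = φ (Y v))
    (S : Module.End F (Fin n → F))
    (hSx : S * Matrix.toLinAlgEquiv' (x : Matrix (Fin n) (Fin n) F) = Matrix.toLinAlgEquiv' (x : Matrix (Fin n) (Fin n) F) * S)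
    (hdet : LinearMap.det S * LinearMap.det φ.toLinearMap = 1)
    (hY : ∀ g : GL (Fin n) F, (g : Matrix (Fin n) (Fin n) F) = LinearMap.toMatrix' Y → g ∈ H) :
    ∃ P : Matrix.SpecialLinearGroup (Fin n) F,
      P⁻¹ * x * P ∈ H.comap (Matrix.SpecialLinearGroup.toGL : Matrix.SpecialLinearGroup (Fin n) F →* GL (Fin n) F) := by
  let P : Matrix.SpecialLinearGroup (Fin n) F := ⟨LinearMap.toMatrix' (S ∘ₗ φ.toLinearMap), by
    rw [LinearMap.det_toMatrix', LinearMap.det_comp, hdet]⟩
  refine ⟨P, hY _ ?_⟩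
  have hxP : (x : Matrix (Fin n) (Fin n) F) * (P : Matrix (Fin n) (Fin n) F) =
      (P : Matrix (Fin n) (Fin n) F) * LinearMap.toMatrix' Y := by
    apply Matrix.toLin'.injective
    refine LinearMap.ext fun v => ?_
    rw [Matrix.toLin'_mul, Matrix.toLin'_mul, Matrix.toLin'_toMatrix', Matrix.toLin'_toMatrix', LinearMap.comp_apply,
      LinearMap.comp_apply, LinearMap.comp_apply, LinearMap.comp_apply]
    exact ((LinearMap.congr_fun hSx (φ v)).symm).trans (congrArg S (hφ v))
  show (((P⁻¹ * x * P : Matrix.SpecialLinearGroup (Fin n) F)) : Matrix (Fin n) (Fin n) F) = _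
  rw [mul_assoc, Matrix.SpecialLinearGroup.coe_mul, Matrix.SpecialLinearGroup.coe_mul, hxP, ← mul_assoc,
    ← Matrix.SpecialLinearGroup.coe_mul, inv_mul_cancel, Matrix.SpecialLinearGroup.coe_one, one_mul]

/-- As `mem_of_rational`, allowing a rescaling of the basis over the subfield. -/
theorem mem_of_rational' {ι : Type*} [Fintype ι] [DecidableEq ι] (F₀ : Subfield F) (x : Matrix.SpecialLinearGroup (Fin n) F)
    (B : Basis ι F (Fin n → F)) (c : F) (hc : c ≠ 0) (M : Matrix ι ι F) (hM : ∀ i j, M i j ∈ F₀)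
    (hx : ∀ i, Matrix.toLinAlgEquiv' (x : Matrix (Fin n) (Fin n) F) (B i) = c • ∑ j, M j i • B j)
    (hS : ∀ δ : F, δ ≠ 0 → ∃ (d : ι → Fˣ) (S : Module.End F (Fin n → F)), (∀ i, (d i : F) ∈ F₀) ∧
      S * Matrix.toLinAlgEquiv' (x : Matrix (Fin n) (Fin n) F) = Matrix.toLinAlgEquiv' (x : Matrix (Fin n) (Fin n) F) * S ∧
        LinearMap.det S * ∏ i, (d i : F) = δ) :
    ∃ P : Matrix.SpecialLinearGroup (Fin n) F, P⁻¹ * x * P ∈
      (Cfsg.Geo.subfieldSubgroup F₀ 1).comap (Matrix.SpecialLinearGroup.toGL : Matrix.SpecialLinearGroup (Fin n) F →* GL (Fin n) F) := by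
  classical
  let e : ι ≃ Fin n := Fintype.equivFinOfCardEq (by rw [← Module.finrank_eq_card_basis B, Module.finrank_fin_fun])
  let φ0 := (Pi.basisFun F (Fin n)).equiv (B.reindex e) (Equiv.refl _)
  obtain ⟨d, S, hd, hSx, hdet⟩ := hS (LinearMap.det φ0.toLinearMap)⁻¹ (inv_ne_zero φ0.isUnit_det'.ne_zero)
  let B' := B.unitsSMul d
  let M1 : Matrix ι ι F := Matrix.of fun i j => ((d i)⁻¹ : Fˣ) * M i j * (d j : F)
  let M' : Matrix (Fin n) (Fin n) F := c • M1.submatrix e.symm e.symm
  let φ := (Pi.basisFun F (Fin n)).equiv (B'.reindex e) (Equiv.refl _)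
  refine mem_of_intertwine' x _ (Matrix.toLin' M') φ (fun v => ?_) S hSx ?_ fun g hg => ?_
  · refine LinearMap.congr_fun ((Pi.basisFun F (Fin n)).ext (f₁ := Matrix.toLin' (x : Matrix (Fin n) (Fin n) F) ∘ₗ φ.toLinearMap)
      (f₂ := φ.toLinearMap ∘ₗ Matrix.toLin' M') fun i => ?_) v
    show (x : Matrix (Fin n) (Fin n) F).mulVec (φ (Pi.basisFun F (Fin n) i)) = φ (M'.mulVec (Pi.basisFun F (Fin n) i))
    rw [show M'.mulVec (Pi.basisFun F (Fin n) i) = ∑ j, M' j i • Pi.basisFun F (Fin n) j by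
      funext k; simp [Pi.single_apply], map_sum]
    simp only [map_smul, φ, Basis.equiv_apply, Equiv.refl_apply, Basis.reindex_apply, B', Basis.unitsSMul_apply,
      Units.smul_def, Matrix.mulVec_smul]
    rw [show (x : Matrix (Fin n) (Fin n) F).mulVec (B (e.symm i)) = _ from hx (e.symm i), Finset.smul_sum, Finset.smul_sum,
      ← Equiv.sum_comp e]
    refine Finset.sum_congr rfl fun j _ => ?_
    simp only [M', M1, Matrix.smul_apply, Matrix.submatrix_apply, Matrix.of_apply, Equiv.symm_apply_apply, smul_smul, smul_eq_mul]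
    congr 1
    simp only [Units.val_inv_eq_inv_val]
    field_simp
  · have e1 : φ.toLinearMap = (B.constr F fun i => (d i : F) • B i) ∘ₗ φ0.toLinearMap :=
      (Pi.basisFun F (Fin n)).ext fun i => by
        show φ (Pi.basisFun F (Fin n) i) = (B.constr F fun i => (d i : F) • B i) (φ0 (Pi.basisFun F (Fin n) i))
        simp only [φ, φ0, Basis.equiv_apply, Equiv.refl_apply, Basis.reindex_apply, B', Basis.unitsSMul_apply,
          Units.smul_def, Basis.constr_basis]
    rw [e1, LinearMap.det_comp, constr_diag_det, ← mul_assoc, hdet, inv_mul_cancel₀ φ0.isUnit_det'.ne_zero]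
  · rw [LinearMap.toMatrix'_toLin'] at hg
    refine (mem_subfield_one_iff F₀ g).mpr ⟨c, _, hc, fun i j => ?_, hg⟩
    show ((d _)⁻¹ : Fˣ) * M _ _ * (d _ : F) ∈ F₀
    rw [Units.val_inv_eq_inv_val]
    exact mul_mem (mul_mem (inv_mem (hd _)) (hM _ _)) (hd _)

theorem exists_cube_root [CharP F 3] (z : F) : ∃ b : F, b ^ 3 = z := by
  obtain ⟨f, -, hf⟩ := FiniteField.card F 3
  refine ⟨z ^ 3 ^ ((f : ℕ) - 1), ?_⟩
  rw [← pow_mul, ← pow_succ, Nat.sub_add_cancel f.pos, ← hf, FiniteField.pow_card]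

theorem subfield_three_positive [CharP F 3] (F₀ : Subfield F) (x : Matrix.SpecialLinearGroup (Fin n) F) (hn : 1 ≤ n)
    {z : F} (hz : ((x ^ 3 : Matrix.SpecialLinearGroup (Fin n) F) : Matrix (Fin n) (Fin n) F) = z • 1)
    (hc : Odd n ∨ ∃ ν : F, ν ∈ F₀ ∧ ¬ IsSquare ν) :
    ∃ P : Matrix.SpecialLinearGroup (Fin n) F, P⁻¹ * x * P ∈
      (Cfsg.Geo.subfieldSubgroup F₀ 1).comap (Matrix.SpecialLinearGroup.toGL : Matrix.SpecialLinearGroup (Fin n) F →* GL (Fin n) F) := by
  classical
  haveI : Fact (Nat.Prime 3) := ⟨Nat.prime_three⟩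
  obtain ⟨b, rfl⟩ := exists_cube_root z
  have hb : b ≠ 0 := fun e => by
    have h := congrArg Matrix.det hz
    have hne : Nonempty (Fin n) := ⟨⟨0, hn⟩⟩
    rw [e, zero_pow (by norm_num), zero_smul, Matrix.det_zero, (x ^ 3).2] at h
    exact one_ne_zero h
  have hU : (b⁻¹ • (x : Matrix (Fin n) (Fin n) F)) ^ 3 = 1 := by
    rw [_root_.smul_pow, ← Matrix.SpecialLinearGroup.coe_pow, hz, smul_smul, ← mul_pow, inv_mul_cancel₀ hb, one_pow, one_smul]
  obtain ⟨ι, fι, e, B, he, hB⟩ := chain_basis 3 (Units.ofPowEqOne _ 3 hU (by norm_num))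
    (Units.pow_ofPowEqOne hU (by norm_num))
  have hU' : ∀ v, Matrix.toLinAlgEquiv' (x : Matrix (Fin n) (Fin n) F) v = b • ((toEnd (Units.ofPowEqOne _ 3 hU (by norm_num)) - 1) v + v) := fun v => by
    rw [LinearMap.sub_apply, Module.End.one_apply, sub_add_cancel]
    show (x : Matrix (Fin n) (Fin n) F).mulVec v = b • (b⁻¹ • (x : Matrix (Fin n) (Fin n) F)).mulVec v
    rw [Matrix.smul_mulVec, smul_smul, mul_inv_cancel₀ hb, one_smul]
  let M : Matrix ((i : ι) × Fin (e i)) ((i : ι) × Fin (e i)) F := fun u v =>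
    (if u = v then 1 else 0) + if h : (v.2 : ℕ) + 1 < e v.1 then (if u = ⟨v.1, ⟨_, h⟩⟩ then 1 else 0) else 0
  have hM : ∀ u v, M u v ∈ F₀ := fun u v => by
    refine add_mem ?_ ?_ <;> split_ifs <;> simp [one_mem, zero_mem]
  refine mem_of_rational' F₀ x B b hb M hM (fun v => ?_) fun δ hδ => ?_
  · obtain ⟨i, j⟩ := v
    rw [hU', hB]
    congr 1
    simp only [M, add_smul, Finset.sum_add_distrib, ite_smul, one_smul, zero_smul, Finset.sum_ite_eq', Finset.mem_univ, if_true]
    rw [add_comm]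
    congr 1
    split_ifs with h
    · simp [ite_smul]
    · simp
  · -- scale one chain
    have hscale : ∀ (i0 : ι) (t : F), ∃ S : Module.End F (Fin n → F),
        S * Matrix.toLinAlgEquiv' (x : Matrix (Fin n) (Fin n) F) = Matrix.toLinAlgEquiv' (x : Matrix (Fin n) (Fin n) F) * S ∧
          LinearMap.det S = t ^ e i0 := by
      intro i0 t
      let w : ((i : ι) × Fin (e i)) → F := fun u => if u.1 = i0 then t else 1
      have hSN : ∀ i j, (B.constr F fun u => w u • B u) ((toEnd (Units.ofPowEqOne _ 3 hU (by norm_num)) - 1) (B ⟨i, j⟩)) =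
          w ⟨i, j⟩ • (toEnd (Units.ofPowEqOne _ 3 hU (by norm_num)) - 1) (B ⟨i, j⟩) := fun i j => by
        rw [hB]
        split_ifs with h
        · rw [Basis.constr_basis]
        · simp
      refine ⟨B.constr F fun u => w u • B u, B.ext fun ⟨i, j⟩ => ?_, ?_⟩
      · rw [Module.End.mul_apply, Module.End.mul_apply, hU', map_smul, map_add, hSN, Basis.constr_basis, hU', map_smul]
      · rw [constr_diag_det, Fintype.prod_sigma]
        simp only [w]
        rw [Finset.prod_eq_single i0 (fun i _ hi => by simp [hi]) (fun h => absurd (Finset.mem_univ _) h)]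
        simp [Finset.prod_const]
    by_cases hodd : ∃ i, e i = 1 ∨ e i = 3
    · obtain ⟨i0, hi0⟩ := hodd
      obtain ⟨t, ht⟩ : ∃ t : F, t ^ e i0 = δ := by
        rcases hi0 with h | h <;> rw [h]
        · exact ⟨δ, pow_one δ⟩
        · exact exists_cube_root δ
      obtain ⟨S, hS, hdet⟩ := hscale i0 t
      exact ⟨1, S, fun i => by simp [one_mem], hS, by rw [hdet, ht]; simp⟩
    · push Not at hodd
      have he2 : ∀ i, e i = 2 := fun i => by
        have := he i; have := hodd i; omega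
      have hsum : n = ∑ i, e i := by
        rw [← Module.finrank_fin_fun (R := F) (n := n), Module.finrank_eq_card_basis B]
        simp
      obtain ⟨i0⟩ : Nonempty ι := by
        by_contra h
        rw [not_nonempty_iff] at h
        simp at hsum
        omega
      obtain ⟨ν, hν, hνs⟩ := hc.resolve_left fun h => by
        rw [hsum, Finset.sum_congr rfl fun i _ => he2 i, Finset.sum_const, smul_eq_mul, mul_comm] at h
        exact (Nat.not_odd_iff_even.mpr (even_two_mul _)) h
      by_cases hsq : IsSquare δ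
      · obtain ⟨t, ht⟩ := hsq
        obtain ⟨S, hS, hdet⟩ := hscale i0 t
        exact ⟨1, S, fun i => by simp [one_mem], hS, by rw [hdet, he2, pow_two, ← ht]; simp⟩
      · have h2 : ringChar F ≠ 2 := by rw [ringChar.eq F 3]; norm_num
        have hν0 : ν ≠ 0 := fun h => hνs (h ▸ IsSquare.zero)
        obtain ⟨t, ht⟩ : IsSquare (δ / ν) := by
          rw [FiniteField.isSquare_iff h2 (div_ne_zero hδ hν0), div_pow,
            (FiniteField.pow_dichotomy h2 hδ).resolve_left fun h => hsq ((FiniteField.isSquare_iff h2 hδ).mpr h),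
            (FiniteField.pow_dichotomy h2 hν0).resolve_left fun h => hνs ((FiniteField.isSquare_iff h2 hν0).mpr h),
            div_self (neg_ne_zero.mpr one_ne_zero)]
        obtain ⟨S, hS, hdet⟩ := hscale i0 t
        let u0 : (i : ι) × Fin (e i) := ⟨i0, ⟨0, by rw [he2]; norm_num⟩⟩
        refine ⟨fun u => if u = u0 then Units.mk0 ν hν0 else 1, S, fun u => by simp only []; split_ifs <;> simp [hν, one_mem], hS, ?_⟩
        rw [hdet, he2, pow_two, ← ht, Finset.prod_eq_single u0 (fun u _ hu => by simp [hu])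
          (fun h => absurd (Finset.mem_univ _) h)]
        simp only [if_pos, Units.val_mk0]
        exact div_mul_cancel₀ _ hν0

/-- The twisted class avoids the subfield group. -/
theorem subfield_three_negative [CharP F 3] (F₀ : Subfield F) (hsq : ∀ a : F, a ∈ F₀ → IsSquare a) {d : ℕ}
    (hd : n = 2 * d) (hd0 : 0 < d) :
    ∃ x : Matrix.SpecialLinearGroup (Fin n) F,
      (∃ z : F, ((x ^ 3 : Matrix.SpecialLinearGroup (Fin n) F) : Matrix (Fin n) (Fin n) F) = z • 1) ∧
      (∀ z : F, (x : Matrix (Fin n) (Fin n) F) ≠ z • 1) ∧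
      ∀ P : Matrix.SpecialLinearGroup (Fin n) F, P⁻¹ * x * P ∉
        (Cfsg.Geo.subfieldSubgroup F₀ 1).comap (Matrix.SpecialLinearGroup.toGL : Matrix.SpecialLinearGroup (Fin n) F →* GL (Fin n) F) := by
  classical
  haveI : Fact (Nat.Prime 3) := ⟨Nat.prime_three⟩
  have h2 : ringChar F ≠ 2 := by rw [ringChar.eq F 3]; norm_num
  obtain ⟨ν, hν⟩ := FiniteField.exists_nonsquare h2
  let j0 : Fin d := ⟨0, hd0⟩
  let e : Fin d ⊕ Fin d ≃ Fin n := finSumFinEquiv.trans (finCongr (by omega))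
  let r := Matrix.reindexAlgEquiv F F e
  let w : Fin d → F := fun j => if j = j0 then ν else 1
  let J : Matrix (Fin d ⊕ Fin d) (Fin d ⊕ Fin d) F := Matrix.fromBlocks 0 0 1 0
  let N : Matrix (Fin d ⊕ Fin d) (Fin d ⊕ Fin d) F := Matrix.fromBlocks 0 0 (Matrix.diagonal w) 0
  have hN2 : N * N = 0 := by simp [N, Matrix.fromBlocks_multiply]
  have hdet1 : (r (1 + N)).det = 1 := by
    rw [show (r (1 + N)).det = (1 + N).det from Matrix.det_reindexAlgEquiv F F e _]
    rw [← Matrix.fromBlocks_one, Matrix.fromBlocks_add]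
    simp
  let x : Matrix.SpecialLinearGroup (Fin n) F := ⟨r (1 + N), hdet1⟩
  have hx3 : ((x ^ 3 : Matrix.SpecialLinearGroup (Fin n) F) : Matrix (Fin n) (Fin n) F) = 1 := by
    rw [Matrix.SpecialLinearGroup.coe_pow]
    show (r (1 + N)) ^ 3 = 1
    rw [← map_pow, ← map_one r]
    congr 1
    have h30 : (3 : Matrix (Fin d ⊕ Fin d) (Fin d ⊕ Fin d) F) = 0 := by
      rw [← map_ofNat (algebraMap F (Matrix (Fin d ⊕ Fin d) (Fin d ⊕ Fin d) F)) 3, show (3 : F) = 0 from CharP.cast_eq_zero F 3, map_zero]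
    calc (1 + N) ^ 3 = 1 + 3 * N + 3 * (N * N) + N * (N * N) := by noncomm_ring
      _ = 1 := by rw [hN2, h30]; simp
  refine ⟨x, ⟨1, by rw [hx3, one_smul]⟩, fun z hz => ?_, fun P hP => ?_⟩
  · have h1 := congrFun (congrFun hz (e (Sum.inr j0))) (e (Sum.inl j0))
    simp [x, r, N, w, Matrix.reindexAlgEquiv_apply] at h1
    exact hν (h1 ▸ IsSquare.zero)
  obtain ⟨c, y, hc, hy, hg⟩ := (mem_subfield_one_iff F₀ _).mp hP
  change ((P⁻¹ * x * P : Matrix.SpecialLinearGroup (Fin n) F) : Matrix (Fin n) (Fin n) F) = c • y at hg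
  have hcy3 : (c • y) ^ 3 = 1 := by
    rw [← hg, ← Matrix.SpecialLinearGroup.coe_pow, show (P⁻¹ * x * P) ^ 3 = P⁻¹ * x ^ 3 * P by
      simp only [pow_succ, pow_zero, one_mul]; group, Matrix.SpecialLinearGroup.coe_mul, Matrix.SpecialLinearGroup.coe_mul, hx3,
      mul_one, ← Matrix.SpecialLinearGroup.coe_mul, inv_mul_cancel, Matrix.SpecialLinearGroup.coe_one]
  -- the scalar is in the subfield
  have hcF : c ∈ F₀ := by
    let i0 : Fin n := ⟨0, by omega⟩
    rw [_root_.smul_pow] at hcy3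
    have h := congrFun (congrFun hcy3 i0) i0
    rw [Matrix.smul_apply, Matrix.one_apply_eq, smul_eq_mul] at h
    have hmem : ∀ m i j, (y ^ m) i j ∈ F₀ := by
      intro m
      induction m with
      | zero => intro i j; rw [pow_zero, Matrix.one_apply]; split_ifs <;> simp [one_mem, zero_mem]
      | succ m ih => intro i j; rw [pow_succ, Matrix.mul_apply]; exact sum_mem fun k _ => mul_mem (ih _ _) (hy _ _)
    have hc3 : c ^ 3 ∈ F₀ := by
      rw [eq_inv_of_mul_eq_one_left h]; exact inv_mem (hmem 3 _ _)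
    obtain ⟨a, ha⟩ := exists_cube_root (F := F₀) ⟨c ^ 3, hc3⟩
    have ha' : (a : F) ^ 3 = c ^ 3 := congrArg Subtype.val ha
    have : ((a : F) - c) ^ 3 = 0 := by rw [sub_pow_char, ha', sub_self]
    rw [← sub_eq_zero.mp (eq_zero_of_pow_eq_zero this)]
    exact a.2
  -- the square zero part over the subfield
  let N0 : Matrix (Fin n) (Fin n) F₀ := fun i j => ⟨(c • y - 1 : Matrix (Fin n) (Fin n) F) i j, by
    rw [Matrix.sub_apply, Matrix.smul_apply, smul_eq_mul, Matrix.one_apply]
    refine sub_mem (mul_mem hcF (hy i j)) ?_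
    split_ifs <;> simp [one_mem, zero_mem]⟩
  have hN0map : N0.map F₀.subtype = c • y - 1 := rfl
  have hxP : r N * (P : Matrix (Fin n) (Fin n) F) = (P : Matrix (Fin n) (Fin n) F) * (c • y - 1) := by
    rw [← hg, mul_sub, mul_one, ← Matrix.SpecialLinearGroup.coe_mul, mul_assoc, mul_inv_cancel_left,
      Matrix.SpecialLinearGroup.coe_mul]
    show r N * _ = r (1 + N) * _ - _
    rw [map_add, map_one, add_mul, one_mul, add_sub_cancel_left]
  have hN00 : N0 * N0 = 0 := by
    apply Matrix.map_injective (f := F₀.subtype) Subtype.val_injective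
    show RingHom.mapMatrix F₀.subtype (N0 * N0) = RingHom.mapMatrix F₀.subtype 0
    rw [map_mul, map_zero]
    show (N0.map F₀.subtype) * (N0.map F₀.subtype) = 0
    rw [hN0map]
    have : (P : Matrix (Fin n) (Fin n) F) * ((c • y - 1) * (c • y - 1)) = 0 := by
      rw [← mul_assoc, ← hxP, mul_assoc, ← hxP, ← mul_assoc, ← map_mul, hN2, map_zero, zero_mul]
    calc (c • y - 1) * (c • y - 1) = ((P⁻¹ : Matrix.SpecialLinearGroup (Fin n) F) : Matrix (Fin n) (Fin n) F) *
          ((P : Matrix (Fin n) (Fin n) F) * ((c • y - 1) * (c • y - 1))) := by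
          rw [← mul_assoc, ← Matrix.SpecialLinearGroup.coe_mul, inv_mul_cancel, Matrix.SpecialLinearGroup.coe_one, one_mul]
      _ = 0 := by rw [this, mul_zero]
  obtain ⟨B, s, hB⟩ := planes_square_zero (F := F₀) hd (Matrix.toLinAlgEquiv' N0) (by rw [← map_mul, hN00, map_zero])
  let σ : Fin d ⊕ Fin d → Fin d × Fin 2 := Sum.elim (fun j => (j, 0)) fun j => (j, 1)
  let R0 : Matrix (Fin n) (Fin d ⊕ Fin d) F₀ := fun i u => B (σ u) i
  let J' : Matrix (Fin d ⊕ Fin d) (Fin d ⊕ Fin d) F₀ := Matrix.fromBlocks 0 0 (Matrix.diagonal s) 0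
  have hR0 : N0 * R0 = R0 * J' := by
    ext1; ext1
    rename_i i u
    have h : (N0 * R0) i u = (N0.mulVec (B (σ u))) i := rfl
    rw [h, Matrix.mul_apply, Fintype.sum_sum_type]
    rcases u with j | j
    · rw [show N0.mulVec (B (σ (Sum.inl j))) = s j • B (j, 1) from (hB j).1]
      simp [R0, J', σ, Matrix.diagonal_apply, mul_comm]
    · rw [show N0.mulVec (B (σ (Sum.inr j))) = 0 from (hB j).2]
      simp [J']
  let R : Matrix (Fin d ⊕ Fin d) (Fin d ⊕ Fin d) F := (R0.map F₀.subtype).submatrix e id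
  have hRdet : R.det ∈ F₀ ∧ R.det ≠ 0 := by
    have h1 : R.det = F₀.subtype (R0.submatrix e id).det := by
      rw [RingHom.map_det]; rfl
    refine ⟨h1 ▸ SetLike.coe_mem _, ?_⟩
    rw [h1]
    simp only [ne_eq, map_eq_zero]
    have hσ : Function.Injective σ := by
      rintro (a | a) (b | b) h <;> simp [σ] at h ⊢ <;> exact h
    have hli : LinearIndependent F₀ (R0.submatrix e id).col :=
      (B.linearIndependent.comp σ hσ).map' (LinearEquiv.funCongrLeft F₀ F₀ e).toLinearMap (LinearEquiv.ker _)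
    exact ((Matrix.isUnit_iff_isUnit_det _).mp (Matrix.linearIndependent_cols_iff_isUnit.mp hli)).ne_zero
  have hS : ∃ S : Matrix (Fin d ⊕ Fin d) (Fin d ⊕ Fin d) F, J * S = S * (J'.map F₀.subtype) ∧ ν * S.det = R.det := by
    let D : Matrix (Fin d ⊕ Fin d) (Fin d ⊕ Fin d) F := Matrix.fromBlocks 1 0 0 (Matrix.diagonal fun j => (w j)⁻¹)
    refine ⟨D * r.symm (P : Matrix (Fin n) (Fin n) F) * R, ?_, ?_⟩
    · have hDN : D * N = J * D := by
        simp only [D, N, J, Matrix.fromBlocks_multiply]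
        simp only [mul_zero, zero_mul, add_zero, zero_add, mul_one, one_mul, Matrix.diagonal_mul_diagonal]
        congr 1
        rw [← Matrix.diagonal_one]; congr 1; funext j
        exact inv_mul_cancel₀ (by simp only [w]; split_ifs <;> [exact fun h => hν (h ▸ IsSquare.zero); exact one_ne_zero])
      have hRJ : r.symm (c • y - 1) * R = R * J'.map F₀.subtype := by
        rw [← hN0map]
        show (N0.map F₀.subtype).submatrix e e * (R0.map F₀.subtype).submatrix e id = _
        rw [Matrix.submatrix_mul_equiv, ← Matrix.map_mul, hR0, Matrix.map_mul]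
        rfl
      calc J * (D * r.symm (P : Matrix (Fin n) (Fin n) F) * R) = D * (r.symm (r N) * r.symm (P : Matrix (Fin n) (Fin n) F)) * R := by
            rw [r.symm_apply_apply]; simp only [← mul_assoc]; rw [hDN]
        _ = _ := by rw [← map_mul, hxP, map_mul]; simp only [mul_assoc, hRJ]
    · rw [Matrix.det_mul, Matrix.det_mul, Matrix.det_fromBlocks_zero₂₁, Matrix.det_one, one_mul, Matrix.det_diagonal,
        show (r.symm (P : Matrix (Fin n) (Fin n) F)).det = 1 by
          rw [show (r.symm (P : Matrix (Fin n) (Fin n) F)).det = (P : Matrix (Fin n) (Fin n) F).det from Matrix.det_reindexAlgEquiv F F e.symm _]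
          exact P.2,
        Finset.prod_inv_distrib, Finset.prod_ite_eq', if_pos (Finset.mem_univ _)]
      have hν0 : ν ≠ 0 := fun h => hν (h ▸ IsSquare.zero)
      field_simp
  obtain ⟨S, hS, hSdet⟩ := hS
  rw [← Matrix.fromBlocks_toBlocks S, show J'.map F₀.subtype = Matrix.fromBlocks 0 0 (Matrix.diagonal fun j => (s j : F)) 0 by
    simp only [J', Matrix.fromBlocks_map, Matrix.map_zero _ (map_zero _), Matrix.diagonal_map (map_zero _)]; rfl] at hS
  simp only [J, Matrix.fromBlocks_multiply, zero_mul, mul_zero, add_zero, zero_add, one_mul, Matrix.fromBlocks_inj] at hS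
  obtain ⟨-, -, h21, h22⟩ := hS
  have hdetS : S.det = S.toBlocks₂₂.det ^ 2 * ∏ j, (s j : F) := by
    conv_lhs => rw [← Matrix.fromBlocks_toBlocks S]
    rw [h22, Matrix.det_fromBlocks_zero₁₂, h21, Matrix.det_mul, Matrix.det_diagonal]
    ring
  obtain ⟨m, hm⟩ := hsq _ hRdet.1
  obtain ⟨l, hl⟩ := hsq (∏ j, (s j : F)) (prod_mem fun j _ => (s j).2)
  have h0 : S.toBlocks₂₂.det * l ≠ 0 := fun h => hRdet.2 (by rw [← hSdet, hdetS, hl, show S.toBlocks₂₂.det ^ 2 * (l * l) = (S.toBlocks₂₂.det * l) ^ 2 by ring, h]; ring)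
  refine hν ⟨m / (S.toBlocks₂₂.det * l), ?_⟩
  rw [div_mul_div_comm, eq_div_iff (mul_ne_zero h0 h0), ← hm, ← hSdet, hdetS, hl]
  ring

theorem subfield_three_iff [CharP F 3] (hn : 2 ≤ n) (F₀ : Subfield F) {k : ℕ} (hk : k.Prime)
    (hq : Fintype.card F = Nat.card F₀ ^ k) :
    (∀ x : Matrix.SpecialLinearGroup (Fin n) F,
      (∃ z : F, ((x ^ 3 : Matrix.SpecialLinearGroup (Fin n) F) : Matrix (Fin n) (Fin n) F) = z • (1 : Matrix (Fin n) (Fin n) F)) →
      (∀ z : F, (x : Matrix (Fin n) (Fin n) F) ≠ z • (1 : Matrix (Fin n) (Fin n) F)) →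
      ∃ P : Matrix.SpecialLinearGroup (Fin n) F, P⁻¹ * x * P ∈ ((Cfsg.Geo.subfieldSubgroup F₀ 1).comap (Matrix.SpecialLinearGroup.toGL : Matrix.SpecialLinearGroup (Fin n) F →* GL (Fin n) F))) ↔
    (Odd n ∨ (Even n ∧ 2 < k)) := by
  classical
  haveI : Fact (Nat.Prime 3) := ⟨Nat.prime_three⟩
  have h2 : ringChar F ≠ 2 := by rw [ringChar.eq F 3]; norm_num
  rw [Nat.card_eq_fintype_card] at hq
  have hodd0 : Odd (Fintype.card F₀) := by
    have := FiniteField.odd_card_of_char_ne_two h2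
    rwa [← Nat.odd_iff, hq, Nat.odd_pow_iff hk.ne_zero] at this
  constructor
  · intro H
    by_contra hc
    push Not at hc
    have hev : Even n := Nat.not_odd_iff_even.mp hc.1
    have hk2 : k = 2 := le_antisymm (hc.2 hev) hk.two_le
    obtain ⟨d, hd⟩ := hev
    have hsq : ∀ a : F, a ∈ F₀ → IsSquare a := by
      intro a ha
      by_cases ha0 : a = 0
      · exact ⟨0, by rw [ha0, mul_zero]⟩
      rw [FiniteField.isSquare_iff h2 ha0, hq, hk2]
      obtain ⟨c, hc⟩ := hodd0
      have h1 : (⟨a, ha⟩ : F₀) ^ (2 * c) = 1 := by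
        have := FiniteField.pow_card_sub_one_eq_one (⟨a, ha⟩ : F₀) (fun h => ha0 (congrArg Subtype.val h))
        rwa [hc, Nat.add_sub_cancel] at this
      have h1' : a ^ (2 * c) = 1 := congrArg Subtype.val h1
      rw [hc, show (2 * c + 1) ^ 2 / 2 = 2 * c * (c + 1) by
        rw [show (2 * c + 1) ^ 2 = 2 * (2 * c * (c + 1)) + 1 by ring]; omega, pow_mul, h1', one_pow]
    obtain ⟨x, hx, hns, hno⟩ := subfield_three_negative F₀ hsq (n := n) (d := d) (by omega) (by omega)
    obtain ⟨P, hP⟩ := H x hx hns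
    exact hno P hP
  · rintro hc x ⟨z, hz⟩ _
    refine subfield_three_positive F₀ x (by omega) hz (hc.imp_right fun ⟨_, hk2⟩ => ?_)
    have hkodd : Odd k := hk.eq_two_or_odd'.resolve_left (by omega)
    haveI : CharP F₀ 3 := (RingHom.charP_iff F₀.subtype Subtype.val_injective 3).mpr inferInstance
    have h20 : ringChar F₀ ≠ 2 := by rw [ringChar.eq F₀ 3]; norm_num
    obtain ⟨ν, hν⟩ := FiniteField.exists_nonsquare h20
    have hν0 : ν ≠ 0 := fun h => hν (h ▸ IsSquare.zero)
    refine ⟨ν, ν.2, fun hsq => ?_⟩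
    have h1 := (FiniteField.pow_dichotomy h20 hν0).resolve_left fun h => hν ((FiniteField.isSquare_iff h20 hν0).mpr h)
    have h1' : (ν : F) ^ (Fintype.card F₀ / 2) = -1 := congrArg Subtype.val h1
    have hν0' : (ν : F) ≠ 0 := fun h => hν0 (Subtype.ext h)
    rw [FiniteField.isSquare_iff h2 hν0', hq] at hsq
    obtain ⟨c, hc'⟩ := hodd0
    have hgeo : Fintype.card F₀ ^ k / 2 = (Fintype.card F₀ / 2) * ∑ i ∈ Finset.range k, Fintype.card F₀ ^ i := by
      have := geom_sum_mul_of_one_le (x := Fintype.card F₀) (by omega) k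
      rw [hc', show 2 * c + 1 - 1 = c * 2 by omega, ← mul_assoc] at this
      rw [hc', show (2 * c + 1) / 2 = c by omega, mul_comm c]
      have h1le : 1 ≤ (2 * c + 1) ^ k := Nat.one_le_pow _ _ (by omega)
      omega
    rw [hgeo, pow_mul, h1', (geom_quotient_odd ⟨c, hc'⟩ hkodd).neg_one_pow] at hsq
    exact Ring.neg_one_ne_one_of_char_ne_two h2 hsq

end CfsgLib.MaxSub.Elusive
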