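/-
Similarity groups of quadratic forms are maximal in `SL_n`, odd characteristic: a commutator of two
Eichler transformations at a common singular vector is a transvection.
-/
import Cfsg.Agent.Lib.MaxSub.FormMaximalSL
import Cfsg.Agent.Lib.MaxSub.SubspaceMaximalOrthBasic
import Cfsg.Agent.Lib.MaxSub.ExtOrthMax.Meet

set_option autoImplicit false
set_option maxHeartbeats 800000

namespace CfsgLib.MaxSub

open Matrix Module Cfsg Cfsg.Geo
open CfsgLib.SLCentre CfsgLib.PSLn
open QuadraticMap (polar polarBilin)

variable {F : Type*} [Field F] [Finite F] {n : ℕ}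

local notation "V" => Fin n → F
local notation "SL" => Matrix.SpecialLinearGroup (Fin n) F
local notation "Mn" => Matrix (Fin n) (Fin n) F

variable {R : QuadraticForm F (Fin n → F)}

/-- The vectors perpendicular to all members of a list. -/
def perpTo (R : QuadraticForm F (Fin n → F)) {k : ℕ} (u : Fin k → V) : Submodule F V :=
  LinearMap.ker (LinearMap.pi fun i => (polarBilin R).flip (u i))

omit [Finite F] in
theorem mem_perpTo {k : ℕ} {u : Fin k → V} {x : V} :
    x ∈ perpTo R u ↔ ∀ i, polar R x (u i) = 0 :=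
  ⟨fun h i => congrFun h i, fun h => funext h⟩

omit [Finite F] in
theorem finrank_perpTo {k : ℕ} (u : Fin k → V) : n ≤ finrank F (perpTo R u) + k := by
  have h1 := LinearMap.finrank_range_add_finrank_ker (LinearMap.pi fun i => (polarBilin R).flip (u i))
  have h2 := Submodule.finrank_le (LinearMap.range (LinearMap.pi fun i => (polarBilin R).flip (u i)))
  rw [Module.finrank_fin_fun] at h1 h2
  show n ≤ finrank F (LinearMap.ker (LinearMap.pi fun i => (polarBilin R).flip (u i))) + k
  omega

omit [Finite F] in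
/-- A vector killed by the perpendicular of some vectors is one of their combinations. -/
theorem mem_span_of_perpTo (hR : (polarBilin R).Nondegenerate) {k : ℕ} {u : Fin k → V} {a : V}
    (h : ∀ x ∈ perpTo R u, polar R x a = 0) : a ∈ Submodule.span F (Set.range u) := by
  rw [← Orth.orth_orth hR (Submodule.span F (Set.range u))]
  refine fun y hy => h y (mem_perpTo.2 fun i => ?_)
  rw [QuadraticMap.polar_comm]
  exact hy _ (Submodule.subset_span ⟨i, rfl⟩)

/-- A subspace with small radical is spanned by its singular vectors. -/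
theorem exists_singular_avoiding_rad (hR : (polarBilin R).Nondegenerate) {S T : Submodule F V}
    (hS : finrank F (Submodule.comap S.subtype (Orth.orth R S)) + 3 ≤ finrank F S)
    (hT : ¬ S ≤ T) : ∃ x ∈ S, R x = 0 ∧ x ∉ T := by
  by_contra hc
  push Not at hc
  obtain ⟨C, hC⟩ := (Submodule.comap S.subtype (Orth.orth R S)).exists_isCompl
  have hCd : 3 ≤ finrank F C := by
    have h1 := Submodule.finrank_add_eq_of_isCompl hC
    omega
  obtain ⟨e, heC, he0, he⟩ := Orth.exists_singular_in (Q := R.comp S.subtype) hCd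
  obtain ⟨f, hf, hef⟩ : ∃ f ∈ S, polar R (e : V) f ≠ 0 := by
    by_contra h
    push Not at h
    have : e ∈ Submodule.comap S.subtype (Orth.orth R S) := fun y hy => by
      show polar R y (e : V) = 0
      rw [QuadraticMap.polar_comm]; exact h y hy
    exact he0 (Submodule.disjoint_def.1 hC.disjoint _ this heC)
  have key : ∀ x ∈ S, polar R (e : V) x ≠ 0 → x ∈ T := fun x hx h0 => by
    have h1 : R (x + (-(R x) / polar R (e : V) x) • (e : V)) = 0 := by
      rw [QuadraticMap.map_add (⇑R), QuadraticMap.map_smul, QuadraticMap.polar_smul_right,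
        QuadraticMap.polar_comm R x, show R (e : V) = 0 from he, smul_eq_mul, smul_eq_mul,
        div_mul_cancel₀ _ h0]
      ring
    have h2 := hc _ (S.add_mem hx (S.smul_mem _ e.2)) h1
    have h3 := T.sub_mem h2 (T.smul_mem (-(R x) / polar R (e : V) x) (hc _ e.2 he))
    rwa [add_sub_cancel_right] at h3
  refine hT fun x hx => ?_
  by_cases h0 : polar R (e : V) x = 0
  · have := T.sub_mem (key (x + f) (S.add_mem hx hf)
      (by rw [QuadraticMap.polar_add_right, h0, zero_add]; exact hef)) (key f hf hef)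
    rwa [add_sub_cancel_right] at this
  · exact key x hx h0

/-- A large subspace is spanned by its singular vectors. -/
theorem exists_singular_avoiding_or (hR : (polarBilin R).Nondegenerate) {S T : Submodule F V}
    (hS : n + 3 ≤ 2 * finrank F S ∨ ((2 : F) ≠ 0 ∧ finrank F T + 3 ≤ finrank F S))
    (hT : ¬ S ≤ T) : ∃ x ∈ S, R x = 0 ∧ x ∉ T := by
  by_contra hc
  refine hc (exists_singular_avoiding_rad hR ?_ hT)
  push Not at hc
  have hrad : finrank F (Submodule.comap S.subtype (Orth.orth R S)) + 3 ≤ finrank F S := by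
    have h2 := Orth.finrank_orth hR S
    have h3 := LinearMap.finrank_le_finrank_of_injective (f := (S.subtype.restrict (p :=
      Submodule.comap S.subtype (Orth.orth R S)) (q := Orth.orth R S) fun x hx => hx))
      (fun x y h => Subtype.ext (Subtype.ext (congrArg Subtype.val h :)))
    rw [Module.finrank_fin_fun] at h2
    rcases hS with hS | ⟨htwo, hST⟩
    · omega
    · -- the radical consists of singular vectors
      have h4 := LinearMap.finrank_le_finrank_of_injective (f := (S.subtype.restrict (p :=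
        Submodule.comap S.subtype (Orth.orth R S)) (q := T) fun x hx => hc _ x.2
          ((mul_eq_zero.1 (show (2 : F) * R (x : V) = 0 by
            rw [← Nat.cast_ofNat, ← nsmul_eq_mul, ← QuadraticMap.polar_self]
            exact hx x x.2)).resolve_left htwo)))
        (fun x y h => Subtype.ext (Subtype.ext (congrArg Subtype.val h :)))
      omega
  exact hrad

theorem exists_singular_avoiding (hR : (polarBilin R).Nondegenerate) {S T : Submodule F V}
    (hS : n + 3 ≤ 2 * finrank F S) (hT : ¬ S ≤ T) : ∃ x ∈ S, R x = 0 ∧ x ∉ T :=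
  exists_singular_avoiding_or hR (Or.inl hS) hT

/-- The similarities of a quadratic form are maximal in `SL_n`, odd characteristic. -/
theorem sl_quadratic_maximal (hn : 6 ≤ n) (h2 : (2 : F) ≠ 0) {Q : V → F}
    (hQ : IsNondegenerateQuadraticForm Q) (R : QuadraticForm F (Fin n → F)) (hQR : ⇑R = Q) :
    IsMaximalIn (specialLinear (Fin n) F) (quadSimilarityGroup Q ⊓ specialLinear (Fin n) F) := by
  subst hQR
  have hR : (polarBilin R).Nondegenerate := by
    refine ⟨fun x h => ?_, fun y h => ?_⟩ <;> by_contra h0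
    · obtain ⟨-, z, hz⟩ := hQ.nondegenerate x h0
      exact hz (h z)
    · obtain ⟨⟨z, hz⟩, -⟩ := hQ.nondegenerate y h0
      exact hz (h z)
  have hadd := hQ.polar_bilinear.add_left
  have hsl := hQ.polar_bilinear.smul_left
  refine ⟨lt_of_le_of_ne inf_le_right fun e => sl_not_le_similarity (by omega) hadd hsl
    hQ.nondegenerate fun g hg => ?_, fun K hK hKS => ?_⟩
  · rw [← e] at hg
    obtain ⟨c, hc⟩ := hg.1
    refine ⟨c, fun x y => ?_⟩
    show polar R _ _ = _
    simp only [polar, ← Matrix.mulVec_add, hc]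
    ring
  by_cases hle : K ≤ quadSimilarityGroup ⇑R
  · exact Or.inl (le_antisymm (le_inf hle hKS) hK)
  obtain ⟨g, hg, hgf⟩ := Set.not_subset.1 hle
  refine Or.inr (le_antisymm hKS (specialLinear_le_of_top (eq_top_of_full (by omega) ?_)))
  set K' : Subgroup SL := K.comap Matrix.SpecialLinearGroup.toGL with hK'
  let β : V →ₗ[F] V :=
    { toFun := rowVec (polar R)
      map_add' := fun a b => funext fun i => QuadraticMap.polar_add_right R _ a b
      map_smul' := fun c a => funext fun i => QuadraticMap.polar_smul_right R c _ a }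
  have hβ : ∀ v x : V, β v ⬝ᵥ x = polar R x v := fun v x => rowVec_dot hadd hsl v x
  have hβi : Function.Injective β := by
    refine (injective_iff_map_eq_zero β).2 fun v hv => ?_
    by_contra h0
    obtain ⟨⟨x, hx⟩, -⟩ := hQ.nondegenerate v h0
    exact hx (by rw [← hβ, hv, zero_dotProduct])
  have hβb : Function.Surjective β := LinearMap.surjective_of_injective hβi
  haveI := Fintype.ofFinite F
  let βe : V ≃ₗ[F] V := LinearEquiv.ofBijective β ⟨hβi, hβb⟩
  have hrow : ∀ φ : V, ∃ a : V, β a = φ := hβb
  -- Eichler transformations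
  have hroot : ∀ p q : V, R p = 0 → polar R p q = 0 →
      ∃ E : SL, E ∈ K' ∧ ∀ x, E.1 *ᵥ x =
        x + polar R x q • p - polar R x p • q - (R q * polar R x p) • p := by
    intro p q hp hpq
    have hpp : polar R p p = 0 := by rw [QuadraticMap.polar_self, hp, smul_zero]
    have e1 : β q ⬝ᵥ p = 0 := by rw [hβ]; exact hpq
    have e2 : (-β p) ⬝ᵥ q = 0 := by
      rw [neg_dotProduct, hβ, QuadraticMap.polar_comm, hpq, neg_zero]
    have e3 : (β q + R q • β p) ⬝ᵥ p = 0 := by
      rw [add_dotProduct, e1, smul_dotProduct, hβ, hpp, smul_zero, add_zero]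
    have hact : ∀ x, (tv p (β q + R q • β p) e3 * tv q (-β p) e2).1 *ᵥ x =
        x + polar R x q • p - polar R x p • q - (R q * polar R x p) • p := fun x => by
      rw [Matrix.SpecialLinearGroup.coe_mul, ← Matrix.mulVec_mulVec, tv_mulVec, tv_mulVec]
      simp only [add_dotProduct, smul_dotProduct, dotProduct_add, dotProduct_smul, neg_dotProduct, hβ,
        hpp, QuadraticMap.polar_comm R q p, hpq, QuadraticMap.polar_self, nsmul_eq_mul, smul_eq_mul,
        Nat.cast_ofNat]
      module
    refine ⟨tv p (β q + R q • β p) e3 * tv q (-β p) e2,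
      hK ⟨⟨1, ?_⟩, Units.ext (tv p (β q + R q • β p) e3 * tv q (-β p) e2).2⟩, hact⟩
    intro x
    show R ((tv p (β q + R q • β p) e3 * tv q (-β p) e2).1 *ᵥ x) = ((1 : Fˣ) : F) * R x
    rw [hact, show x + polar R x q • p - polar R x p • q - (R q * polar R x p) • p =
      x + ((polar R x q - R q * polar R x p) • p + (-polar R x p) • q) by module,
      QuadraticMap.map_add (⇑R), QuadraticMap.map_add (⇑R), QuadraticMap.map_smul,
      QuadraticMap.map_smul, QuadraticMap.polar_add_right, QuadraticMap.polar_smul_right,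
      QuadraticMap.polar_smul_right, QuadraticMap.polar_smul_left, QuadraticMap.polar_smul_right,
      hp, hpq, Units.val_one]
    simp only [smul_eq_mul]
    ring
  have hexn : ∀ S : Submodule F V, n < 2 * finrank F S → ∃ a ∈ S, R a ≠ 0 := by
    intro S hS
    by_contra hc
    push Not at hc
    have hle : S ≤ Orth.orth R S := fun x hx y hy => by
      show polar R y x = 0
      rw [polar, hc _ (S.add_mem hy hx), hc y hy, hc x hx]
      ring
    have h1 := Submodule.finrank_mono hle
    have h2 := Orth.finrank_orth hR S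
    rw [Module.finrank_fin_fun] at h2
    omega
  -- commutators of two Eichler transformations, one conjugated
  have hcomm : ∀ g' : SL, g' ∈ K' → ∀ v a u b : V, R v = 0 → R (g'.1 *ᵥ v) = 0 →
      (∀ x, polar R x a = polar R (g'.1 *ᵥ x) (g'.1 *ᵥ v)) →
      polar R u v = 0 → polar R u a = 0 → polar R b v = 0 → polar R b a = 0 →
      HasTv K' v (β (polar R (g'.1 *ᵥ u) (g'.1 *ᵥ b) • v - polar R u b • a)) := by
    intro g' hg' v a u b hv hgv hA huv hua hbv hba
    rw [hA] at hua hba
    obtain ⟨E, hE, hEx⟩ := hroot v u hv (by rw [QuadraticMap.polar_comm, huv])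
    obtain ⟨E', hE', hE'x⟩ := hroot (g'.1 *ᵥ v) (g'.1 *ᵥ b) hgv (by rw [QuadraticMap.polar_comm, hba])
    set M : SL := g'⁻¹ * E' * g' with hMdef
    have hginj' := Matrix.mulVec_injective_iff_isUnit.2
      ((Matrix.isUnit_iff_isUnit_det g'.1).2 (by rw [g'.2]; exact isUnit_one))
    have hMx : ∀ x, M.1 *ᵥ x = x + polar R (g'.1 *ᵥ x) (g'.1 *ᵥ b) • v
        - polar R (g'.1 *ᵥ x) (g'.1 *ᵥ v) • b
        - (R (g'.1 *ᵥ b) * polar R (g'.1 *ᵥ x) (g'.1 *ᵥ v)) • v := fun x => by
      refine hginj' ?_
      have e : g'.1 *ᵥ (M.1 *ᵥ x) = E'.1 *ᵥ (g'.1 *ᵥ x) := by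
        rw [Matrix.mulVec_mulVec, Matrix.mulVec_mulVec, ← Matrix.SpecialLinearGroup.coe_mul,
          ← Matrix.SpecialLinearGroup.coe_mul, hMdef, ← mul_assoc, ← mul_assoc, mul_inv_cancel,
          one_mul]
      simp only [e, hE'x, Matrix.mulVec_sub, Matrix.mulVec_add, Matrix.mulVec_smul]
    have hvv : polar R v v = 0 := by rw [QuadraticMap.polar_self, hv, smul_zero]
    have hgg : polar R (g'.1 *ᵥ v) (g'.1 *ᵥ v) = 0 := by rw [QuadraticMap.polar_self, hgv, smul_zero]
    have hav : polar R v a = 0 := by rw [hA, hgg]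
    have hdot : β (polar R (g'.1 *ᵥ u) (g'.1 *ᵥ b) • v - polar R u b • a) ⬝ᵥ v = 0 := by
      rw [hβ, QuadraticMap.polar_sub_right, QuadraticMap.polar_smul_right,
        QuadraticMap.polar_smul_right, hvv, hav, smul_zero, smul_zero, sub_zero]
    have key : E * M = tv v (β (polar R (g'.1 *ᵥ u) (g'.1 *ᵥ b) • v - polar R u b • a)) hdot * M * E := by
      apply Subtype.ext
      refine Matrix.ext_of_mulVec_single fun i => ?_
      simp only [Matrix.SpecialLinearGroup.coe_mul, ← Matrix.mulVec_mulVec, hEx, hMx, tv_mulVec, hβ]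
      simp only [Matrix.mulVec_sub, Matrix.mulVec_add, Matrix.mulVec_smul, QuadraticMap.polar_add_left,
        QuadraticMap.polar_sub_left, QuadraticMap.polar_smul_left, QuadraticMap.polar_sub_right,
        QuadraticMap.polar_smul_right, hA, hvv, hgg, huv, hua, hbv, hba,
        QuadraticMap.polar_comm R v u, QuadraticMap.polar_comm R v b, QuadraticMap.polar_comm R b u,
        QuadraticMap.polar_comm R (g'.1 *ᵥ v) (g'.1 *ᵥ b),
        QuadraticMap.polar_comm R (g'.1 *ᵥ v) (g'.1 *ᵥ u), smul_eq_mul]
      module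
    refine ⟨hdot, ?_⟩
    rw [show tv v (β (polar R (g'.1 *ᵥ u) (g'.1 *ᵥ b) • v - polar R u b • a)) hdot = E * M * E⁻¹ * M⁻¹ by
      rw [key]; group]
    have hM := mul_mem (mul_mem (inv_mem hg') hE') hg'
    exact mul_mem (mul_mem (mul_mem hE hM) (inv_mem hE)) (inv_mem hM)
  have hA : ∀ (g' : SL) (v : V), ∃ a, ∀ x, polar R x a = polar R (g'.1 *ᵥ x) (g'.1 *ᵥ v) := by
    intro g' v
    obtain ⟨a, ha⟩ := hrow (β (g'.1 *ᵥ v) ᵥ* g'.1)
    exact ⟨a, fun x => by rw [← hβ a x, ha, ← dotProduct_mulVec, hβ]⟩
  -- a common singular vector that is not fixed gives a transvection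
  have core : ∀ g' : SL, g' ∈ K' → ∀ v : V, v ≠ 0 → R v = 0 → R (g'.1 *ᵥ v) = 0 →
      (∃ y, polar R y v = 0 ∧ polar R (g'.1 *ᵥ y) (g'.1 *ᵥ v) ≠ 0) →
      ∃ v w : V, R v = 0 ∧ polar R v w = 0 ∧ w ∉ Submodule.span F {v} ∧ v ≠ 0 ∧ HasTv K' v (β w) := by
    intro g' hg' v hv0 hv hgv ⟨y, hy, hgy⟩
    obtain ⟨a, ha⟩ := hA g' v
    obtain ⟨u, hu, hu0⟩ := hexn (perpTo R ![v, a]) (by
      have := finrank_perpTo (R := R) ![v, a]; omega)
    have hu' : polar R u v = 0 ∧ polar R u a = 0 := ⟨mem_perpTo.1 hu 0, mem_perpTo.1 hu 1⟩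
    have h := hcomm g' hg' v a u u hv hgv ha hu'.1 hu'.2 hu'.1 hu'.2
    refine ⟨v, _, hv, ?_, fun hmem => ?_, hv0, h⟩
    · rw [← hβ]; exact h.dot
    obtain ⟨k, hk⟩ := Submodule.mem_span_singleton.1 hmem
    have h1 := congrArg (polar R y) hk
    rw [QuadraticMap.polar_sub_right, QuadraticMap.polar_smul_right, QuadraticMap.polar_smul_right,
      QuadraticMap.polar_smul_right, hy, ha, smul_zero, smul_zero, zero_sub, eq_comm, neg_eq_zero,
      smul_eq_zero, QuadraticMap.polar_self, nsmul_eq_mul, Nat.cast_ofNat] at h1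
    exact h1.elim (mul_ne_zero h2 hu0) hgy
  -- a form changed by the square of a singular functional
  have rankone : ∀ g' : SL, g' ∈ K' → ∀ (v : V) (lam α : F), v ≠ 0 → R v = 0 → lam ≠ 0 → α ≠ 0 →
      (∀ x, R (g'.1 *ᵥ x) = lam * R x + α * (polar R x v * polar R x v)) →
      ∃ v w : V, R v = 0 ∧ polar R v w = 0 ∧ w ∉ Submodule.span F {v} ∧ v ≠ 0 ∧ HasTv K' v (β w) := by
    intro g' hg' v lam α hv0 hv hlam hα hid
    have hpol : ∀ x y, polar R (g'.1 *ᵥ x) (g'.1 *ᵥ y) =
        lam * polar R x y + α * (2 * (polar R x v * polar R y v)) := fun x y => by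
      have h := QuadraticMap.map_add (⇑R) (g'.1 *ᵥ x) (g'.1 *ᵥ y)
      rw [← Matrix.mulVec_add, hid, hid, hid, QuadraticMap.map_add (⇑R) x y,
        QuadraticMap.polar_add_left] at h
      linear_combination -h
    have hvv : polar R v v = 0 := by rw [QuadraticMap.polar_self, hv, smul_zero]
    set p := g'.1 *ᵥ v with hpdef
    have hp : R p = 0 := by rw [hpdef, hid, hv, hvv]; ring
    have hpv : p ≠ 0 := fun h => hv0 (by
      apply Matrix.mulVec_injective_iff_isUnit.2
        ((Matrix.isUnit_iff_isUnit_det g'.1).2 (by rw [g'.2]; exact isUnit_one))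
      rw [Matrix.mulVec_zero]; exact h)
    obtain ⟨e, -, he, hep⟩ := exists_singular_avoiding hR (S := (⊤ : Submodule F V))
      (T := LinearMap.ker ((polarBilin R).flip p))
      (by rw [finrank_top, Module.finrank_fin_fun]; omega) (fun h => by
        obtain ⟨⟨z, hz⟩, -⟩ := hQ.nondegenerate p hpv
        exact hz (h Submodule.mem_top))
    change ¬ polar R e p = 0 at hep
    obtain ⟨u, hu, hu0⟩ := hexn (perpTo R ![e]) (by have := finrank_perpTo (R := R) ![e]; omega)
    have hue : polar R u e = 0 := mem_perpTo.1 hu 0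
    obtain ⟨E, hE, hEx⟩ := hroot e u he (by rw [QuadraticMap.polar_comm, hue])
    set m : SL := g'⁻¹ * E * g' with hmdef
    have hm : m ∈ K' := mul_mem (mul_mem (inv_mem hg') hE) hg'
    have hgm : ∀ x, g'.1 *ᵥ (m.1 *ᵥ x) = E.1 *ᵥ (g'.1 *ᵥ x) := fun x => by
      rw [Matrix.mulVec_mulVec, Matrix.mulVec_mulVec, ← Matrix.SpecialLinearGroup.coe_mul,
        ← Matrix.SpecialLinearGroup.coe_mul, hmdef, ← mul_assoc, ← mul_assoc, mul_inv_cancel, one_mul]
    have hRE : ∀ x, R (E.1 *ᵥ x) = R x := fun x => by
      rw [hEx, show x + polar R x u • e - polar R x e • u - (R u * polar R x e) • e =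
        x + ((polar R x u - R u * polar R x e) • e + (-polar R x e) • u) by module,
        QuadraticMap.map_add (⇑R), QuadraticMap.map_add (⇑R), QuadraticMap.map_smul,
        QuadraticMap.map_smul, QuadraticMap.polar_add_right, QuadraticMap.polar_smul_right,
        QuadraticMap.polar_smul_right, QuadraticMap.polar_smul_left, QuadraticMap.polar_smul_right,
        he, QuadraticMap.polar_comm R e u, hue]
      simp only [smul_eq_mul]
      ring
    obtain ⟨w, hw⟩ := hrow (β v ᵥ* m.1)
    have hw' : ∀ x, polar R (m.1 *ᵥ x) v = polar R x w := fun x => by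
      rw [← hβ w x, hw, ← dotProduct_mulVec, hβ]
    have hvw : polar R v w ≠ 0 := fun h0 => by
      have h1 := hpol (m.1 *ᵥ v) v
      rw [hgm, hw', h0, ← hpdef, hEx, hvv] at h1
      simp only [QuadraticMap.polar_sub_left, QuadraticMap.polar_add_left, QuadraticMap.polar_smul_left,
        QuadraticMap.polar_self, hp, smul_zero, QuadraticMap.polar_comm R p e,
        QuadraticMap.polar_comm R u p, smul_eq_mul, mul_zero, add_zero] at h1
      refine mul_ne_zero (mul_ne_zero hu0 hep) hep ?_
      linear_combination -h1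
    obtain ⟨ε, hε, hz⟩ : ∃ ε : F, ε * ε = 1 ∧ R (v - ε • w) ≠ 0 := by
      by_contra hc
      push Not at hc
      have e1 := hc 1 (one_mul 1)
      have e2 := hc (-1) (by ring)
      rw [sub_eq_add_neg, ← neg_smul, QuadraticMap.map_add (⇑R), QuadraticMap.map_smul, hv,
        QuadraticMap.polar_smul_right, smul_eq_mul, smul_eq_mul] at e1 e2
      exact mul_ne_zero h2 hvw (by linear_combination e2 - e1)
    set z := v - ε • w with hzdef
    obtain ⟨x, hxS, hx, hxv⟩ := exists_singular_avoiding hR (S := perpTo R ![z])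
      (T := LinearMap.ker ((polarBilin R).flip v))
      (by have := finrank_perpTo (R := R) ![z]; omega) (fun h => by
        have hm := mem_span_of_perpTo hR (u := ![z]) (a := v) fun y hy => h hy
        rw [show Set.range ![z] = {z} by simp, Submodule.mem_span_singleton] at hm
        obtain ⟨k, hk⟩ := hm
        have h3 := congrArg R hk
        rw [QuadraticMap.map_smul, hv, smul_eq_zero, mul_eq_zero, or_self] at h3
        rw [h3.resolve_right hz, zero_smul] at hk
        exact hv0 hk.symm)
    change ¬ polar R x v = 0 at hxv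
    have hxz : polar R x v = ε * polar R x w := by
      have := mem_perpTo.1 hxS 0
      simp only [Matrix.cons_val_zero, hzdef, QuadraticMap.polar_sub_right,
        QuadraticMap.polar_smul_right, smul_eq_mul] at this
      linear_combination this
    have hRm : ∀ x, lam * R (m.1 *ᵥ x) =
        lam * R x + α * (polar R x v * polar R x v - polar R x w * polar R x w) := fun x => by
      have h1 := hid (m.1 *ᵥ x)
      rw [hgm, hRE, hid, hw'] at h1
      linear_combination -h1
    have hmx : R (m.1 *ᵥ x) = 0 := by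
      have h1 := hRm x
      rw [hx, hxz] at h1
      refine (mul_eq_zero.1 (?_ : lam * R (m.1 *ᵥ x) = 0)).resolve_left hlam
      linear_combination h1 + α * (polar R x w * polar R x w) * hε
    obtain ⟨y, hy, hyz⟩ : ∃ y ∈ perpTo R ![x], polar R y z ≠ 0 := by
      by_contra hc
      push Not at hc
      have hm := mem_span_of_perpTo hR hc
      rw [show Set.range ![x] = {x} by simp, Submodule.mem_span_singleton] at hm
      obtain ⟨k, hk⟩ := hm
      exact hz (by rw [← hk, QuadraticMap.map_smul, hx, smul_zero])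
    have hyx : polar R y x = 0 := mem_perpTo.1 hy 0
    have hx0 : x ≠ 0 := fun h => hxv (by rw [h, QuadraticMap.polar_zero_left])
    refine core m hm x hx0 hx hmx ⟨y, hyx, fun h0 => ?_⟩
    have h1 : lam * polar R (m.1 *ᵥ y) (m.1 *ᵥ x) =
        lam * polar R y x + α * (2 * (polar R y v * polar R x v - polar R y w * polar R x w)) := by
      have e3 := hRm (y + x)
      rw [Matrix.mulVec_add, QuadraticMap.map_add (⇑R), QuadraticMap.map_add (⇑R) y x,
        QuadraticMap.polar_add_left, QuadraticMap.polar_add_left] at e3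
      linear_combination e3 - hRm y - hRm x
    rw [h0, hyx, hxz] at h1
    have hyz' : polar R y z = polar R y v - ε * polar R y w := by
      rw [hzdef, QuadraticMap.polar_sub_right, QuadraticMap.polar_smul_right, smul_eq_mul]
    refine mul_ne_zero (mul_ne_zero (mul_ne_zero hα h2) hxv) hyz ?_
    rw [hyz', hxz]
    linear_combination -h1 - 2 * α * polar R y w * polar R x w * hε
  obtain ⟨gs, hgs, hgse⟩ := exists_sl_of hKS hg
  have hginj := Matrix.mulVec_injective_iff_isUnit.2 g.isUnit
  -- a transvection of `K`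
  obtain ⟨v, w0, hvR, hw0v, hw0, hv0, hvw⟩ :
      ∃ v w : V, R v = 0 ∧ polar R v w = 0 ∧ w ∉ Submodule.span F {v} ∧ v ≠ 0 ∧ HasTv K' v (β w) := by
    by_cases hne : ∃ v : V, v ≠ 0 ∧ R v = 0 ∧ R (gs.1 *ᵥ v) = 0 ∧
        ∃ y, polar R y v = 0 ∧ polar R (gs.1 *ᵥ y) (gs.1 *ᵥ v) ≠ 0
    · obtain ⟨v, h0, h1, h3, h4⟩ := hne
      exact core gs hgs v h0 h1 h3 h4
    push Not at hne
    obtain ⟨v, hv0, hvR, hgvR⟩ : ∃ v : V, v ≠ 0 ∧ R v = 0 ∧ R (gs.1 *ᵥ v) = 0 := by
      obtain ⟨v, hv0, hv⟩ := ExtOrthMax.exists_zero (F := F) (A := V) (m := 2)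
        (by rw [Module.finrank_fin_fun]; omega)
        ![polarBilin R, (polarBilin R).compl₁₂ (Matrix.mulVecLin gs.1) (Matrix.mulVecLin gs.1)] 0
      have hz : ∀ x, polar R x x = 0 → R x = 0 := fun x hx => by
        rw [QuadraticMap.polar_self, nsmul_eq_mul, Nat.cast_ofNat] at hx
        exact (mul_eq_zero.1 hx).resolve_left h2
      exact ⟨v, hv0, hz _ (by simpa using hv 0), hz _ (by simpa using hv 1)⟩
    obtain ⟨s, hs⟩ : ∃ s, polar R s v = 1 := by
      obtain ⟨⟨z, hz⟩, -⟩ := hQ.nondegenerate v hv0
      exact ⟨(polar R z v)⁻¹ • z, by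
        rw [QuadraticMap.polar_smul_left, smul_eq_mul, inv_mul_cancel₀ hz]⟩
    set lam := polar R (gs.1 *ᵥ s) (gs.1 *ᵥ v) with hlamdef
    have hproj : ∀ x, polar R (x - polar R x v • s) v = 0 := fun x => by
      rw [QuadraticMap.polar_sub_left, QuadraticMap.polar_smul_left, hs, smul_eq_mul, mul_one, sub_self]
    have hlinv : ∀ x, polar R (gs.1 *ᵥ x) (gs.1 *ᵥ v) = lam * polar R x v := fun x => by
      have h := hne v hv0 hvR hgvR _ (hproj x)
      rw [Matrix.mulVec_sub, Matrix.mulVec_smul, QuadraticMap.polar_sub_left,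
        QuadraticMap.polar_smul_left, sub_eq_zero, smul_eq_mul] at h
      rw [h, mul_comm]
    by_cases hab : ∃ a b, polar R a v = 0 ∧ polar R b v = 0 ∧
        polar R (gs.1 *ᵥ a) (gs.1 *ᵥ b) ≠ lam * polar R a b
    · obtain ⟨a, b, ha, hb, hne'⟩ := hab
      have hlv : ∀ x, polar R x (lam • v) = polar R (gs.1 *ᵥ x) (gs.1 *ᵥ v) := fun x => by
        rw [hlinv, QuadraticMap.polar_smul_right, smul_eq_mul]
      obtain ⟨hd, hm⟩ := hcomm gs hgs v (lam • v) a b hvR hgvR hlv ha
        (by rw [QuadraticMap.polar_smul_right, ha, smul_zero]) hb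
        (by rw [QuadraticMap.polar_smul_right, hb, smul_zero])
      refine rankone _ hm v 1 (polar R (gs.1 *ᵥ a) (gs.1 *ᵥ b) - lam * polar R a b) hv0 hvR
        one_ne_zero (sub_ne_zero.2 hne') fun x => ?_
      rw [tv_mulVec, hβ, QuadraticMap.map_add (⇑R), QuadraticMap.map_smul, QuadraticMap.polar_smul_right,
        hvR, QuadraticMap.polar_sub_right, QuadraticMap.polar_smul_right, QuadraticMap.polar_smul_right,
        QuadraticMap.polar_smul_right]
      simp only [smul_eq_mul]
      ring
    push Not at hab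
    obtain ⟨as, has⟩ := hA gs s
    set μ := R (gs.1 *ᵥ s) - lam * R s with hμdef
    set z := as - lam • s - μ • v with hzdef
    have hxz' : ∀ x, polar R x z =
        polar R (gs.1 *ᵥ x) (gs.1 *ᵥ s) - lam * polar R x s - μ * polar R x v := fun x => by
      rw [hzdef, QuadraticMap.polar_sub_right, QuadraticMap.polar_sub_right,
        QuadraticMap.polar_smul_right, QuadraticMap.polar_smul_right, has, smul_eq_mul, smul_eq_mul]
    have hid : ∀ x, R (gs.1 *ᵥ x) = lam * R x + polar R x v * polar R x z := fun x => by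
      have h := hab (x - polar R x v • s) (x - polar R x v • s) (hproj x) (hproj x)
      refine mul_left_cancel₀ h2 ?_
      rw [hxz', hμdef]
      simp only [Matrix.mulVec_sub, Matrix.mulVec_smul, QuadraticMap.polar_sub_left,
        QuadraticMap.polar_sub_right, QuadraticMap.polar_smul_left, QuadraticMap.polar_smul_right,
        smul_eq_mul, QuadraticMap.polar_comm R (gs.1 *ᵥ s) (gs.1 *ᵥ x),
        QuadraticMap.polar_comm R s x] at h
      simp only [QuadraticMap.polar_self, nsmul_eq_mul, Nat.cast_ofNat] at h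
      linear_combination h
    have hlam : lam ≠ 0 := fun h0 => by
      have hgv0 : gs.1 *ᵥ v ≠ 0 := fun h => hv0 (hginj (by rw [Matrix.mulVec_zero, ← hgse, h]))
      obtain ⟨⟨y, hy⟩, -⟩ := hQ.nondegenerate _ hgv0
      refine hy ?_
      rw [show y = gs.1 *ᵥ ((gs⁻¹).1 *ᵥ y) by
        rw [Matrix.mulVec_mulVec, ← Matrix.SpecialLinearGroup.coe_mul, mul_inv_cancel]
        exact (Matrix.one_mulVec y).symm, hlinv, h0, zero_mul]
    by_cases hzv : z ∈ Submodule.span F {v}
    · obtain ⟨α, hα⟩ := Submodule.mem_span_singleton.1 hzv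
      have hid' : ∀ x, R (gs.1 *ᵥ x) = lam * R x + α * (polar R x v * polar R x v) := fun x => by
        rw [hid, ← hα, QuadraticMap.polar_smul_right, smul_eq_mul]; ring
      refine rankone gs hgs v lam α hv0 hvR hlam (fun h0 => hgf ⟨Units.mk0 lam hlam, fun x => ?_⟩) hid'
      show R ((g : Mn) *ᵥ x) = lam * R x
      rw [← hgse, hid', h0, zero_mul, add_zero]
    have hpol : ∀ x y, polar R (gs.1 *ᵥ x) (gs.1 *ᵥ y) =
        lam * polar R x y + polar R x v * polar R y z + polar R y v * polar R x z := fun x y => by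
      have h := QuadraticMap.map_add (⇑R) (gs.1 *ᵥ x) (gs.1 *ᵥ y)
      rw [← Matrix.mulVec_add, hid, hid, hid, QuadraticMap.map_add (⇑R) x y,
        QuadraticMap.polar_add_left, QuadraticMap.polar_add_left] at h
      linear_combination -h
    by_cases hcase : R z = 0 ∧ polar R z v ≠ 0
    · obtain ⟨hzR, hzv'⟩ := hcase
      obtain ⟨y₀, hy₀S, hy₀R, hy₀0⟩ := exists_singular_avoiding_or hR (S := perpTo R ![v, z]) (T := ⊥)
        (Or.inr ⟨h2, by rw [finrank_bot]; have := finrank_perpTo (R := R) ![v, z]; omega⟩) (fun h => by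
          have := Submodule.finrank_mono h
          have := finrank_perpTo (R := R) ![v, z]
          rw [finrank_bot] at *
          omega)
      rw [Submodule.mem_bot] at hy₀0
      have hy₀v : polar R y₀ v = 0 := mem_perpTo.1 hy₀S 0
      have hy₀z : polar R y₀ z = 0 := mem_perpTo.1 hy₀S 1
      have hvy : v ∉ Submodule.span F ({v + y₀} : Set V) := fun hm => by
        obtain ⟨k, hk⟩ := Submodule.mem_span_singleton.1 hm
        have h := congrArg (polar R z) hk
        rw [QuadraticMap.polar_smul_right, QuadraticMap.polar_add_right, QuadraticMap.polar_comm R z y₀,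
          hy₀z, add_zero, smul_eq_mul, mul_eq_right₀ hzv'] at h
        rw [h, one_smul, add_eq_left] at hk
        exact hy₀0 hk
      have hxv' : polar R (v + y₀) v = 0 := by
        rw [QuadraticMap.polar_add_left, QuadraticMap.polar_self, hvR, smul_zero, hy₀v, add_zero]
      have hxR : R (v + y₀) = 0 := by
        rw [QuadraticMap.map_add (⇑R), hvR, hy₀R, QuadraticMap.polar_comm R v y₀, hy₀v]; simp
      have hx0 : v + y₀ ≠ 0 := fun h => hvy (by
        have hy : y₀ = -v := eq_neg_of_add_eq_zero_right h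
        exact absurd (by rw [hy, QuadraticMap.polar_neg_left, neg_eq_zero, QuadraticMap.polar_comm] at hy₀z
                         exact hy₀z) hzv')
      obtain ⟨y, hy, hyv⟩ : ∃ y ∈ perpTo R ![v + y₀], polar R y v ≠ 0 := by
        by_contra hc
        push Not at hc
        exact hvy (by simpa using mem_span_of_perpTo hR hc)
      have hyx : polar R y (v + y₀) = 0 := mem_perpTo.1 hy 0
      refine core gs hgs (v + y₀) hx0 hxR (by rw [hid, hxR, hxv']; ring) ⟨y, hyx, ?_⟩
      rw [hpol, hyx, hxv', QuadraticMap.polar_add_left, hy₀z, QuadraticMap.polar_comm R v z]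
      simp [hyv, hzv']
    · obtain ⟨x, hxS, hxR, hxv⟩ := exists_singular_avoiding hR (S := perpTo R ![z])
        (T := LinearMap.ker ((polarBilin R).flip v))
        (by have := finrank_perpTo (R := R) ![z]; omega) (fun h => by
          have hm := mem_span_of_perpTo hR (u := ![z]) (a := v) fun y hy => h hy
          rw [show Set.range ![z] = {z} by simp, Submodule.mem_span_singleton] at hm
          obtain ⟨k, hk⟩ := hm
          have hk0 : k ≠ 0 := fun h0 => hv0 (by rw [← hk, h0, zero_smul])
          exact hzv (Submodule.mem_span_singleton.2 ⟨k⁻¹, by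
            rw [← hk, smul_smul, inv_mul_cancel₀ hk0, one_smul]⟩))
      change ¬ polar R x v = 0 at hxv
      have hxz : polar R x z = 0 := mem_perpTo.1 hxS 0
      have hx0 : x ≠ 0 := fun h => hxv (by rw [h, QuadraticMap.polar_zero_left])
      obtain ⟨y, hy, hyz⟩ : ∃ y ∈ perpTo R ![x], polar R y z ≠ 0 := by
        by_contra hc
        push Not at hc
        have hm := mem_span_of_perpTo hR hc
        rw [show Set.range ![x] = {x} by simp, Submodule.mem_span_singleton] at hm
        obtain ⟨k, hk⟩ := hm
        refine hcase ⟨by rw [← hk, QuadraticMap.map_smul, hxR, smul_zero], ?_⟩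
        rw [← hk, QuadraticMap.polar_smul_left, smul_eq_mul]
        refine mul_ne_zero (fun h0 => hzv ?_) hxv
        rw [← hk, h0, zero_smul]
        exact zero_mem _
      have hyx : polar R y x = 0 := mem_perpTo.1 hy 0
      refine core gs hgs x hx0 hxR (by rw [hid, hxR, hxz]; ring) ⟨y, hyx, ?_⟩
      rw [hpol, hyx, hxz]
      simp [hyz, hxv]
  -- all transvections at `v`
  have hstep : ∀ w, polar R v w = 0 → HasTv K' v (β w) → ∀ e, R e = 0 → polar R e v = 0 →
      polar R e w = 0 → w ∉ Submodule.span F (Set.range ![v, e]) → HasTv K' v (β e) := by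
    intro w hwv hw e he hev hew hwn
    obtain ⟨x, hxS, hxw⟩ : ∃ x ∈ perpTo R ![v, e], polar R x w ≠ 0 := by
      by_contra hc
      push Not at hc
      exact hwn (mem_span_of_perpTo hR hc)
    rw [mem_perpTo] at hxS
    have hxv : polar R x v = 0 := hxS 0
    have hxe : polar R x e = 0 := hxS 1
    set c := polar R x w with hc
    obtain ⟨E, hE, hEx⟩ := hroot e ((-c⁻¹) • x) he
      (by rw [QuadraticMap.polar_smul_right, QuadraticMap.polar_comm, hxe, smul_zero])
    have hEv : E.1 *ᵥ v = v := by
      rw [hEx, QuadraticMap.polar_comm R v e, hev, QuadraticMap.polar_smul_right,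
        QuadraticMap.polar_comm R v x, hxv]
      simp
    have h1 := hw.conj' hE (c' := v) hEv
    have h3 : β w ᵥ* E.1 = β (w + e) := by
      refine dotProduct_eq _ _ fun z => ?_
      rw [← dotProduct_mulVec, hβ, hβ, hEx]
      simp only [QuadraticMap.polar_sub_left, QuadraticMap.polar_add_left,
        QuadraticMap.polar_smul_left, QuadraticMap.polar_add_right,
        QuadraticMap.polar_smul_right, hew, ← hc, smul_eq_mul]
      field_simp
      ring
    rw [h3] at h1
    have h4 := h1.sub hw
    rwa [← map_sub, add_sub_cancel_left] at h4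
  have hperpw : ∀ e', R e' = 0 → polar R e' v = 0 → polar R e' w0 ≠ 0 →
      ∀ u ∈ perpTo R ![v, e', w0], HasTv K' v (β u) := by
    intro e' he' he'v he'w u hu
    have huv : polar R u v = 0 := mem_perpTo.1 hu 0
    have hue : polar R u e' = 0 := mem_perpTo.1 hu 1
    have huw : polar R u w0 = 0 := mem_perpTo.1 hu 2
    set t := (2 * polar R e' w0)⁻¹ with ht
    have hmove : ∀ r : F, HasTv K' v (β (w0 + (r * polar R e' w0) • u
        - (R u * (r * r) * polar R e' w0) • e')) := by
      intro r
      obtain ⟨E, hE, hEx⟩ := hroot e' (r • u) he'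
        (by rw [QuadraticMap.polar_smul_right, QuadraticMap.polar_comm, hue, smul_zero])
      have hEv : E.1 *ᵥ v = v := by
        rw [hEx, QuadraticMap.polar_comm R v e', he'v, QuadraticMap.polar_smul_right,
          QuadraticMap.polar_comm R v u, huv]
        simp
      have h1 := hvw.conj' hE (c' := v) hEv
      have h3 : β w0 ᵥ* E.1 = β (w0 + (r * polar R e' w0) • u
          - (R u * (r * r) * polar R e' w0) • e') := by
        refine dotProduct_eq _ _ fun z => ?_
        rw [← dotProduct_mulVec, hβ, hβ, hEx]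
        simp only [QuadraticMap.polar_sub_left, QuadraticMap.polar_add_left, QuadraticMap.polar_smul_left,
          QuadraticMap.polar_sub_right, QuadraticMap.polar_add_right, QuadraticMap.polar_smul_right,
          QuadraticMap.map_smul, huw, smul_eq_mul]
        ring
      rwa [h3] at h1
    have h := (hmove t).sub (hmove (-t))
    rwa [← map_sub, show w0 + (t * polar R e' w0) • u - (R u * (t * t) * polar R e' w0) • e' -
        (w0 + (-t * polar R e' w0) • u - (R u * (-t * -t) * polar R e' w0) • e') =
        (2 * polar R e' w0 * t) • u by module, ht,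
      mul_inv_cancel₀ (mul_ne_zero h2 he'w), one_smul] at h
  have hsing : ∀ e, R e = 0 → polar R e v = 0 → HasTv K' v (β e) := by
    intro e he hev
    by_cases hgood : polar R e w0 = 0 ∧ w0 ∉ Submodule.span F (Set.range ![v, e])
    · exact hstep w0 hw0v hvw e he hev hgood.1 hgood.2
    obtain ⟨e', he', he'v, he'w, hle⟩ : ∃ e', R e' = 0 ∧ polar R e' v = 0 ∧ polar R e' w0 ≠ 0 ∧
        ∀ u ∈ perpTo R ![v, e', w0], polar R u e = 0 := by
      by_cases hew : polar R e w0 = 0
      · have hwm : w0 ∈ Submodule.span F (Set.range ![v, e]) := by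
          by_contra hc; exact hgood ⟨hew, hc⟩
        obtain ⟨e', he'S, he', he'w⟩ := exists_singular_avoiding hR (S := perpTo R ![v])
          (T := LinearMap.ker ((polarBilin R).flip w0))
          (by have := finrank_perpTo (R := R) ![v]; omega) (fun h => hw0 (by
            simpa using mem_span_of_perpTo hR (u := ![v]) (a := w0) fun y hy => h hy))
        refine ⟨e', he', mem_perpTo.1 he'S 0, he'w, fun u hu => ?_⟩
        rw [show Set.range ![v, e] = {v, e} by simp [Set.pair_comm], Submodule.mem_span_pair] at hwm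
        obtain ⟨p, q, hpq⟩ := hwm
        have hq : q ≠ 0 := fun h0 => hw0 (by
          rw [← hpq, h0, zero_smul, add_zero]
          exact Submodule.smul_mem _ _ (Submodule.mem_span_singleton_self v))
        have huw : polar R u w0 = 0 := mem_perpTo.1 hu 2
        rw [← hpq, QuadraticMap.polar_add_right, QuadraticMap.polar_smul_right,
          QuadraticMap.polar_smul_right, show polar R u v = 0 from mem_perpTo.1 hu 0, smul_zero,
          zero_add, smul_eq_zero] at huw
        exact huw.resolve_left hq
      · exact ⟨e, he, hev, hew, fun u hu => mem_perpTo.1 hu 1⟩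
    obtain ⟨w1, hw1, hw1n⟩ : ∃ w1 ∈ perpTo R ![v, e', w0], w1 ∉ Submodule.span F (Set.range ![v, e]) := by
      by_contra hc
      push Not at hc
      have h1 := Submodule.finrank_mono (show perpTo R ![v, e', w0] ≤ Submodule.span F (Set.range ![v, e])
        from hc)
      have h4 : finrank F (Submodule.span F (Set.range ![v, e])) ≤ 2 :=
        (finrank_range_le_card ![v, e]).trans (by simp)
      have := finrank_perpTo (R := R) ![v, e', w0]
      omega
    exact hstep w1 (by rw [QuadraticMap.polar_comm]; exact mem_perpTo.1 hw1 0)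
      (hperpw e' he' he'v he'w w1 hw1) e he hev
      (by rw [QuadraticMap.polar_comm]; exact hle w1 hw1) hw1n
  have hperp : finrank F (perpTo R ![v]) + 1 ≥ n := finrank_perpTo (R := R) ![v]
  have hfull : Full K' v := fun ψ hψ => by
    obtain ⟨x, rfl⟩ := hβb ψ
    rw [hβ] at hψ
    let U : AddSubgroup V :=
      { carrier := {x | HasTv K' v (β x)}
        add_mem' := fun {a b} ha hb => by
          show HasTv K' v (β (a + b)); rw [map_add]; exact ha.add hb
        zero_mem' := by show HasTv K' v (β 0); rw [map_zero]; exact HasTv.zero v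
        neg_mem' := fun {a} ha => by show HasTv K' v (β (-a)); rw [map_neg]; exact ha.neg }
    have key : ∀ S : Set V, (∀ s ∈ S, R s = 0 ∧ polar R s v = 0) → ∀ x ∈ Submodule.span F S,
        HasTv K' v (β x) := fun S hS x hx =>
      Submodule.closure_induction (p := fun y _ => HasTv K' v (β y)) U.zero_mem
        (fun a b _ _ ha hb => U.add_mem ha hb)
        (fun r a ha => hsing _ (by rw [QuadraticMap.map_smul, (hS a ha).1, smul_zero])
          (by rw [QuadraticMap.polar_smul_left, (hS a ha).2, smul_zero])) hx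
    refine key {s | R s = 0 ∧ polar R s v = 0} (fun s hs => hs) x ?_
    by_contra hx
    obtain ⟨s, hsS, hs, hsn⟩ := exists_singular_avoiding hR (S := perpTo R ![v])
      (T := Submodule.span F {s | R s = 0 ∧ polar R s v = 0}) (by omega)
      (fun h => hx (h (mem_perpTo.2 fun i => by
        fin_cases i; show polar R x v = 0; rw [QuadraticMap.polar_comm]; exact hψ)))
    exact hsn (Submodule.subset_span ⟨hs, mem_perpTo.1 hsS 0⟩)
  -- spreading
  have hspread : ∀ v, Full K' v → R v = 0 → v ≠ 0 → ∀ y, polar R y v = 0 → y ∈ fullSubmodule K' := by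
    intro v hfull hvR hv0 y hy
    by_contra hyn
    obtain ⟨e, heS, he, hen⟩ := exists_singular_avoiding hR (S := perpTo R ![v])
      (T := fullSubmodule K') (by have := finrank_perpTo (R := R) ![v]; omega)
      (fun h => hyn (h (mem_perpTo.2 fun i => by fin_cases i; exact hy)))
    have hev : polar R e v = 0 := mem_perpTo.1 heS 0
    have he0 : e ≠ 0 := fun h => hen (h ▸ zero_mem _)
    have hvn : v ∉ Submodule.span F (Set.range ![e]) := fun h => by
      rw [show Set.range ![e] = {e} by simp, Submodule.mem_span_singleton] at h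
      obtain ⟨c, hc⟩ := h
      exact hen (((fullSubmodule K').smul_mem_iff (fun h0 : c = 0 => hv0 (by rw [← hc, h0, zero_smul]))).1
        (hc ▸ hfull))
    obtain ⟨x, hxS, hx, hxv⟩ := exists_singular_avoiding hR (S := perpTo R ![e])
      (T := LinearMap.ker ((polarBilin R).flip v))
      (by have := finrank_perpTo (R := R) ![e]; omega)
      (fun h => hvn (mem_span_of_perpTo hR fun y hy => h hy))
    have hxe : polar R x e = 0 := mem_perpTo.1 hxS 0
    obtain ⟨E, hE, hEx⟩ := hroot e x he (by rw [QuadraticMap.polar_comm, hxe])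
    have h2 : Full K' (E.1 *ᵥ v) := full_conj hE hfull
    rw [hEx, QuadraticMap.polar_comm R v e, hev, zero_smul, sub_zero, mul_zero, zero_smul,
      sub_zero] at h2
    have := Submodule.sub_mem _ (show _ ∈ fullSubmodule K' from h2)
      (show v ∈ fullSubmodule K' from hfull)
    rw [add_sub_cancel_left] at this
    exact hen (((fullSubmodule K').smul_mem_iff
      (fun h0 => hxv (by show polar R x v = 0; rw [QuadraticMap.polar_comm]; exact h0))).1 this)
  obtain ⟨e, heS, he, hen⟩ := exists_singular_avoiding hR (S := perpTo R ![v])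
    (T := Submodule.span F {v}) (by omega) (fun h => by
      have := Submodule.finrank_mono h
      rw [finrank_span_singleton hv0] at this
      omega)
  have hev : polar R e v = 0 := mem_perpTo.1 heS 0
  have hF := hspread v hfull hvR hv0
  have hG := hspread e (hF e hev) he (fun h => hen (h ▸ zero_mem _))
  obtain ⟨z, hzS, hzv⟩ : ∃ z ∈ perpTo R ![e], polar R z v ≠ 0 := by
    by_contra hc
    push Not at hc
    have := mem_span_of_perpTo hR hc
    rw [show Set.range ![e] = {e} by simp, Submodule.mem_span_singleton] at this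
    obtain ⟨c, hc'⟩ := this
    refine hen (Submodule.mem_span_singleton.2 ⟨c⁻¹, ?_⟩)
    rw [← hc', smul_smul, inv_mul_cancel₀ (fun h0 : c = 0 => hv0 (by rw [← hc', h0, zero_smul])),
      one_smul]
  refine eq_top_iff.2 fun y _ => ?_
  have h1 := hF (y - (polar R y v / polar R z v) • z) (by
    rw [QuadraticMap.polar_sub_left, QuadraticMap.polar_smul_left, smul_eq_mul, div_mul_cancel₀ _ hzv,
      sub_self])
  have h2 := (fullSubmodule K').smul_mem (polar R y v / polar R z v) (hG z (mem_perpTo.1 hzS 0))
  simpa using (fullSubmodule K').add_mem h1 h2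

end CfsgLib.MaxSub
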