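/-
Singular vectors with prescribed values of the polar form.
-/
import Cfsg.Agent.Lib.MaxSub.FormMaximalSLOrth

set_option autoImplicit false
set_option maxHeartbeats 600000

namespace CfsgLib.MaxSub.OrthVectors

open Module CfsgLib.MaxSub
open QuadraticMap (polar polarBilin)

variable {F : Type*} [Field F] [Finite F] {n : ℕ} {R : QuadraticForm F (Fin n → F)}

/-- The values of the polar form can be taken by a singular vector outside the span. -/
theorem exists_sing_of_le (hR : (polarBilin R).Nondegenerate) {k : ℕ} (hn : 2 * k + 3 ≤ n)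
    (v : Fin k → Fin n → F) (v₀ : Fin n → F) :
    ∃ z, R z = 0 ∧ (∀ i, polar R z (v i) = polar R v₀ (v i)) ∧
      z ∉ Submodule.span F (Set.range v) := by
  have hd := finrank_perpTo (R := R) v
  have hsp : finrank F (Submodule.span F (Set.range v)) ≤ k :=
    (finrank_range_le_card v).trans_eq (Fintype.card_fin k)
  obtain ⟨w, hwv, x₀, hx₀, hwx⟩ : ∃ w : Fin n → F, (∀ i, polar R w (v i) = polar R v₀ (v i)) ∧
      ∃ x ∈ perpTo R v, polar R x w ≠ 0 := by
    by_cases h : ∃ x ∈ perpTo R v, polar R x v₀ ≠ 0
    · exact ⟨v₀, fun _ => rfl, h⟩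
    push Not at h
    obtain ⟨u, hu, huout⟩ : ∃ u ∈ perpTo R v, u ∉ Submodule.span F (Set.range v) := by
      refine SetLike.not_le_iff_exists.1 fun hle => ?_
      have := Submodule.finrank_mono hle
      omega
    refine ⟨v₀ + u, fun i => by rw [QuadraticMap.polar_add_left, mem_perpTo.1 hu i, add_zero], ?_⟩
    by_contra hc
    push Not at hc
    refine huout (mem_span_of_perpTo hR fun x hx => ?_)
    have := hc x hx
    rwa [QuadraticMap.polar_add_right, h x hx, zero_add] at this
  obtain ⟨x, hx, hxx, hxT⟩ := exists_singular_avoiding hR (S := perpTo R v)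
    (T := LinearMap.ker ((polarBilin R).flip w)) (by omega) fun hle => hwx (hle hx₀)
  have hxw : polar R x w ≠ 0 := hxT
  refine ⟨w + (-(R w) / polar R x w) • x, ?_, fun i => ?_, fun hmem => ?_⟩
  · rw [QuadraticMap.map_add R, QuadraticMap.map_smul, hxx, smul_zero, add_zero,
      QuadraticMap.polar_smul_right, QuadraticMap.polar_comm R w x, smul_eq_mul, div_mul_cancel₀ _ hxw,
      add_neg_cancel]
  · rw [QuadraticMap.polar_add_left, QuadraticMap.polar_smul_left, mem_perpTo.1 hx i, smul_zero,
      add_zero, hwv]
  · have h0 : ∀ y ∈ Submodule.span F (Set.range v), polar R x y = 0 := fun y hy => by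
      induction hy using Submodule.span_induction with
      | mem y hy => obtain ⟨i, rfl⟩ := hy; exact mem_perpTo.1 hx i
      | zero => rw [QuadraticMap.polar_zero_right]
      | add y z _ _ hy hz => rw [QuadraticMap.polar_add_right, hy, hz, add_zero]
      | smul c y _ hy => rw [QuadraticMap.polar_smul_right, hy, smul_zero]
    have := h0 _ hmem
    rw [QuadraticMap.polar_add_right, QuadraticMap.polar_smul_right, QuadraticMap.polar_self, hxx,
      smul_zero, smul_zero, add_zero] at this
    exact hxw this


/-- The values of the polar form can be taken by a singular vector outside the span. -/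
theorem exists_sing_of (hR : (polarBilin R).Nondegenerate) (hn : 13 ≤ n) {k : ℕ} (hk : k ≤ 5)
    (v : Fin k → Fin n → F) (v₀ : Fin n → F) :
    ∃ z, R z = 0 ∧ (∀ i, polar R z (v i) = polar R v₀ (v i)) ∧
      z ∉ Submodule.span F (Set.range v) :=
  exists_sing_of_le hR (by omega) v v₀

/-- A singular vector perpendicular to few given ones, outside their span. -/
theorem exists_sing_perp_le (hR : (polarBilin R).Nondegenerate) {k : ℕ} (hn : 2 * k + 3 ≤ n)
    (v : Fin k → Fin n → F) :
    ∃ z, R z = 0 ∧ (∀ i, polar R z (v i) = 0) ∧ z ∉ Submodule.span F (Set.range v) := by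
  obtain ⟨z, h1, h2, h3⟩ := exists_sing_of_le hR hn v 0
  exact ⟨z, h1, fun i => by rw [h2, QuadraticMap.polar_zero_left], h3⟩

/-- A singular vector perpendicular to given ones, outside their span. -/
theorem exists_sing_perp (hR : (polarBilin R).Nondegenerate) (hn : 13 ≤ n) {k : ℕ} (hk : k ≤ 5)
    (v : Fin k → Fin n → F) :
    ∃ z, R z = 0 ∧ (∀ i, polar R z (v i) = 0) ∧ z ∉ Submodule.span F (Set.range v) := by
  obtain ⟨z, h1, h2, h3⟩ := exists_sing_of hR hn hk v 0
  exact ⟨z, h1, fun i => by rw [h2, QuadraticMap.polar_zero_left], h3⟩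

/-- A singular vector with prescribed values on independent vectors. -/
theorem exists_sing_le (hR : (polarBilin R).Nondegenerate) {k : ℕ} (hn : 2 * k + 3 ≤ n)
    {v : Fin k → Fin n → F} (hv : LinearIndependent F v) (c : Fin k → F) :
    ∃ z, R z = 0 ∧ (∀ i, polar R z (v i) = c i) ∧ z ∉ Submodule.span F (Set.range v) := by
  have hker : LinearMap.ker (LinearMap.pi fun i => (polarBilin R).flip (v i)) =
      Orth.orth R (Submodule.span F (Set.range v)) := by
    ext x
    refine ⟨fun h y hy => ?_, fun h => mem_perpTo.2 fun i => ?_⟩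
    · show polar R y x = 0
      induction hy using Submodule.span_induction with
      | mem y hy => obtain ⟨i, rfl⟩ := hy; rw [QuadraticMap.polar_comm]; exact mem_perpTo.1 h i
      | zero => rw [QuadraticMap.polar_zero_left]
      | add y z _ _ hy hz => rw [QuadraticMap.polar_add_left, hy, hz, add_zero]
      | smul s y _ hy => rw [QuadraticMap.polar_smul_left, hy, smul_zero]
    · rw [QuadraticMap.polar_comm]
      exact h _ (Submodule.subset_span ⟨i, rfl⟩)
  have h1 := LinearMap.finrank_range_add_finrank_ker
    (LinearMap.pi fun i => (polarBilin R).flip (v i))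
  have h2 := Orth.finrank_orth hR (Submodule.span F (Set.range v))
  rw [finrank_span_eq_card hv, Fintype.card_fin] at h2
  rw [hker] at h1
  have htop : LinearMap.range (LinearMap.pi fun i => (polarBilin R).flip (v i)) = ⊤ :=
    Submodule.eq_top_of_finrank_eq (by rw [Module.finrank_fin_fun]; omega)
  obtain ⟨v₀, hv₀⟩ : c ∈ LinearMap.range (LinearMap.pi fun i => (polarBilin R).flip (v i)) :=
    htop ▸ Submodule.mem_top
  obtain ⟨z, hz1, hz2, hz3⟩ := exists_sing_of_le hR hn v v₀
  exact ⟨z, hz1, fun i => (hz2 i).trans (congrFun hv₀ i), hz3⟩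

/-- A singular vector with prescribed values on independent vectors. -/
theorem exists_sing (hR : (polarBilin R).Nondegenerate) (hn : 13 ≤ n) {k : ℕ} (hk : k ≤ 5)
    {v : Fin k → Fin n → F} (hv : LinearIndependent F v) (c : Fin k → F) :
    ∃ z, R z = 0 ∧ (∀ i, polar R z (v i) = c i) ∧ z ∉ Submodule.span F (Set.range v) :=
  exists_sing_le hR (by omega) hv c

end CfsgLib.MaxSub.OrthVectors
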