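/-
Normalisers of a quadratic field for which the form is a norm form are maximal in `Ω`.
-/
import Cfsg.Agent.Lib.MaxSub.OrthVectors
import Cfsg.Agent.Lib.MaxSub.SubspaceMaximalOrthGL
import Cfsg.Agent.Lib.Aschbacher.HermField

set_option autoImplicit false
set_option maxHeartbeats 1000000

namespace CfsgLib.MaxSub.GUOrth

open Matrix Module Cfsg Cfsg.Geo CfsgLib.MaxSub.OrthVectors
open CfsgLib.Eichler (Sieg IsEich exists_eich sieg_eich eich_unique)
open CfsgLib.WittExtension (quadIso)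
open CfsgLib.MaxSub.Orth (InA)
open QuadraticMap (polar polarBilin)

variable {F : Type*} [Field F] [Fintype F] {n : ℕ}

local notation "V" => (Fin n → F)
local notation "Mn" => Matrix (Fin n) (Fin n) F

/-- A quadratic field with the norm property. -/
structure EX (R : QuadraticForm F (Fin n → F)) (θ : Matrix (Fin n) (Fin n) F) (d N : F) : Prop where
  dim : 9 ≤ n
  nd : (polarBilin R).Nondegenerate
  adj : ∀ x y, polar R (θ *ᵥ x) y = polar R x (d • y - θ *ᵥ y)
  sq : ∀ x, θ *ᵥ (θ *ᵥ x) = d • (θ *ᵥ x) - N • x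
  sing : ∀ x, R x = 0 → R (θ *ᵥ x) = 0
  self : ∀ x, R x = 0 → polar R x (θ *ᵥ x) = 0
  noeig : ∀ (α β : F) (v : Fin n → F), α • v + β • (θ *ᵥ v) = 0 → v ≠ 0 → α = 0 ∧ β = 0

variable {R : QuadraticForm F (Fin n → F)} {θ : Matrix (Fin n) (Fin n) F} {d N : F}

omit [Fintype F] in
theorem mem_of_comb (E : EX R θ d N) {S : Submodule F V} (hS : ∀ x ∈ S, θ *ᵥ x ∈ S) {y : V}
    (hy : y ∉ S) {α β : F} (h : α • y + β • (θ *ᵥ y) ∈ S) : α = 0 ∧ β = 0 := by
  have hy0 : y ≠ 0 := fun e => hy (e ▸ S.zero_mem)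
  obtain ⟨v, hv⟩ : ∃ v, v = (α + β * d) • y + (-β) • (θ *ᵥ y) := ⟨_, rfl⟩
  obtain ⟨ν, hν⟩ : ∃ ν, ν = α * α + α * β * d + β * β * N := ⟨_, rfl⟩
  have hmem : ν • y ∈ S := by
    have h1 := S.add_mem (S.smul_mem (α + β * d) h) (S.smul_mem (-β) (hS _ h))
    rw [Matrix.mulVec_add, Matrix.mulVec_smul, Matrix.mulVec_smul, E.sq] at h1
    convert h1 using 1
    rw [hν]; module
  have hν0 : ν = 0 := by
    by_contra hν0
    exact hy (by simpa [smul_smul, inv_mul_cancel₀ hν0] using S.smul_mem ν⁻¹ hmem)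
  have hv0 : α • v + β • (θ *ᵥ v) = 0 := by
    rw [hv, Matrix.mulVec_add, Matrix.mulVec_smul, Matrix.mulVec_smul, E.sq]
    calc _ = ν • y := by rw [hν]; module
      _ = 0 := by rw [hν0, zero_smul]
  by_cases hz : v = 0
  · rw [hv] at hz
    obtain ⟨h1, h2⟩ := E.noeig _ _ _ hz hy0
    rw [neg_eq_zero] at h2
    rw [h2, zero_mul, add_zero] at h1
    exact ⟨h1, h2⟩
  · exact E.noeig _ _ _ hv0 hz

/-- The line of a vector over the field. -/
def line (θ : Matrix (Fin n) (Fin n) F) (a : Fin n → F) : Submodule F (Fin n → F) :=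
  Submodule.span F (Set.range ![a, θ *ᵥ a])

omit [Fintype F] in
theorem mem_line {a x : V} : x ∈ line θ a ↔ ∃ α β : F, x = α • a + β • (θ *ᵥ a) := by
  rw [line, Submodule.mem_span_range_iff_exists_fun]
  refine ⟨fun ⟨c, h⟩ => ⟨c 0, c 1, by rw [← h, Fin.sum_univ_two]; rfl⟩, fun ⟨α, β, h⟩ =>
    ⟨![α, β], by rw [h, Fin.sum_univ_two]; rfl⟩⟩

omit [Fintype F] in
theorem line_self (a : V) : a ∈ line θ a := mem_line.2 ⟨1, 0, by simp⟩

omit [Fintype F] in
theorem line_theta (a : V) : θ *ᵥ a ∈ line θ a := mem_line.2 ⟨0, 1, by simp⟩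

omit [Fintype F] in
theorem line_inv (E : EX R θ d N) {a x : V} (h : x ∈ line θ a) : θ *ᵥ x ∈ line θ a := by
  obtain ⟨α, β, rfl⟩ := mem_line.1 h
  refine mem_line.2 ⟨-(β * N), α + β * d, ?_⟩
  rw [Matrix.mulVec_add, Matrix.mulVec_smul, Matrix.mulVec_smul, E.sq]
  module

omit [Fintype F] in
theorem line_symm (E : EX R θ d N) {a b : V} (ha : a ≠ 0) (hb : b ∉ line θ a) : a ∉ line θ b := by
  intro h
  obtain ⟨α, β, e⟩ := mem_line.1 h
  obtain ⟨h1, h2⟩ := mem_of_comb E (fun x => line_inv E) hb (α := α) (β := β) (e ▸ line_self a)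
  exact ha (by rw [e, h1, h2, zero_smul, zero_smul, add_zero])

omit [Fintype F] in
theorem li_two (E : EX R θ d N) {a : V} (ha : a ≠ 0) : LinearIndependent F ![a, θ *ᵥ a] :=
  LinearIndependent.pair_iff.2 fun s t h => E.noeig s t a h ha

omit [Fintype F] in
theorem li_three (E : EX R θ d N) {a y : V} (ha : a ≠ 0) (hy : y ∉ line θ a) :
    LinearIndependent F ![a, θ *ᵥ a, y] := by
  have e : ![a, θ *ᵥ a, y] = Fin.snoc ![a, θ *ᵥ a] y := by funext i; fin_cases i <;> rfl
  rw [e]; exact linearIndependent_finSnoc.2 ⟨li_two E ha, hy⟩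

omit [Fintype F] in
theorem li_four (E : EX R θ d N) {a y : V} (ha : a ≠ 0) (hy : y ∉ line θ a) :
    LinearIndependent F ![a, θ *ᵥ a, y, θ *ᵥ y] := by
  have h : θ *ᵥ y ∉ Submodule.span F (Set.range ![a, θ *ᵥ a, y]) := fun h => by
    obtain ⟨c, hc⟩ := (Submodule.mem_span_range_iff_exists_fun F).1 h
    rw [Fin.sum_univ_three] at hc
    refine one_ne_zero (α := F) (mem_of_comb E (fun x => line_inv E) hy (α := -(c 2)) (β := 1) ?_).2
    refine mem_line.2 ⟨c 0, c 1, ?_⟩
    rw [← hc]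
    simp
  have e : ![a, θ *ᵥ a, y, θ *ᵥ y] = Fin.snoc ![a, θ *ᵥ a, y] (θ *ᵥ y) := by
    funext i; fin_cases i <;> rfl
  rw [e]; exact linearIndependent_finSnoc.2 ⟨li_three E ha hy, h⟩

omit [Fintype F] in
theorem li_five (E : EX R θ d N) {a y z : V} (ha : a ≠ 0) (hy : y ∉ line θ a)
    (hz : z ∉ Submodule.span F (Set.range ![a, θ *ᵥ a, y, θ *ᵥ y])) :
    LinearIndependent F ![a, θ *ᵥ a, y, θ *ᵥ y, z] := by
  have e : ![a, θ *ᵥ a, y, θ *ᵥ y, z] = Fin.snoc ![a, θ *ᵥ a, y, θ *ᵥ y] z := by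
    funext i; fin_cases i <;> rfl
  rw [e]; exact linearIndependent_finSnoc.2 ⟨li_four E ha hy, hz⟩

omit [Fintype F] in
theorem span_four_inv (E : EX R θ d N) {a y x : V}
    (h : x ∈ Submodule.span F (Set.range ![a, θ *ᵥ a, y, θ *ᵥ y])) :
    θ *ᵥ x ∈ Submodule.span F (Set.range ![a, θ *ᵥ a, y, θ *ᵥ y]) := by
  obtain ⟨c, rfl⟩ := (Submodule.mem_span_range_iff_exists_fun F).1 h
  refine (Submodule.mem_span_range_iff_exists_fun F).2
    ⟨![-(c 1 * N), c 0 + c 1 * d, -(c 3 * N), c 2 + c 3 * d], ?_⟩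
  rw [Fin.sum_univ_four, Fin.sum_univ_four]
  simp [Matrix.mulVec_add, Matrix.mulVec_smul, E.sq]
  module

omit [Fintype F] in
/-- The root elements of the lines commute with the field. -/
theorem eich_comm (E : EX R θ d N) {e : V} {s : F} (he : R e = 0) {g : quadIso R}
    (hg : IsEich R e (s • (θ *ᵥ e)) g) (x : V) : g.1 (θ *ᵥ x) = θ *ᵥ g.1 x := by
  have hw : R (s • (θ *ᵥ e)) = 0 := by rw [QuadraticMap.map_smul, E.sing e he, smul_zero]
  have h1 : polar R e (θ *ᵥ x) = d * polar R e x - polar R (θ *ᵥ e) x := by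
    rw [QuadraticMap.polar_comm R e (θ *ᵥ x), E.adj, QuadraticMap.polar_sub_right,
      QuadraticMap.polar_smul_right, QuadraticMap.polar_comm R x e,
      QuadraticMap.polar_comm R x (θ *ᵥ e), smul_eq_mul]
  have h2 : polar R (θ *ᵥ e) (θ *ᵥ x) = N * polar R e x := by
    rw [E.adj, E.sq, sub_sub_cancel, QuadraticMap.polar_smul_right, smul_eq_mul]
  rw [hg (θ *ᵥ x), hg x, hw]
  simp only [QuadraticMap.polar_smul_left, h1, h2, Matrix.mulVec_add, Matrix.mulVec_smul, E.sq,
    smul_eq_mul, zero_mul, sub_zero]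
  module

/-- The hypothesis on an overgroup. -/
def Ov (R : QuadraticForm F (Fin n → F)) (θ : Matrix (Fin n) (Fin n) F)
    (K : Subgroup (quadIso R)) : Prop :=
  ∀ g : quadIso R, g ∈ Subgroup.closure (Sieg R) → (∀ x, g.1 (θ *ᵥ x) = θ *ᵥ g.1 x) → g ∈ K

variable {K : Subgroup (quadIso R)}

omit [Fintype F] in
theorem mem_eich_theta (E : EX R θ d N) (O : Ov R θ K) {e : V} {s : F} (he : R e = 0)
    {g : quadIso R} (hg : IsEich R e (s • (θ *ᵥ e)) g) : g ∈ K :=
  O g (Subgroup.subset_closure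
    ⟨e, θ *ᵥ e, s, he, E.sing e he, E.self e he, (sieg_eich R (E.sing e he) g).2 hg⟩)
    (eich_comm E he hg)

/-- The vectors whose Eichler transformations at `a` lie in `K`. -/
def W (K : Subgroup (quadIso R)) (a : Fin n → F) (ha : R a = 0) : Submodule F (Fin n → F) where
  carrier := {x | polar R a x = 0 ∧ ∀ s : F, InA K a (s • x)}
  zero_mem' := ⟨QuadraticMap.polar_zero_right _ _, fun s => by
    rw [smul_zero]; exact Orth.inA_zero a⟩
  add_mem' {x y} hx hy := ⟨by rw [QuadraticMap.polar_add_right, hx.1, hy.1, add_zero], fun s => by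
    rw [smul_add]
    exact Orth.InA.add ha (by rw [QuadraticMap.polar_smul_right, hx.1, smul_zero])
      (by rw [QuadraticMap.polar_smul_right, hy.1, smul_zero]) (hx.2 s) (hy.2 s)⟩
  smul_mem' c x hx := ⟨by rw [QuadraticMap.polar_smul_right, hx.1, smul_zero], fun s => by
    rw [smul_smul]; exact hx.2 _⟩

omit [Fintype F] in
theorem theta_mem (E : EX R θ d N) (O : Ov R θ K) {a : V} (ha : R a = 0) : θ *ᵥ a ∈ W K a ha :=
  ⟨E.self a ha, fun _ _ hg => mem_eich_theta E O ha hg⟩

omit [Fintype F] in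
theorem mem_conj {a x : V} {ha : R a = 0} (hx : x ∈ W K a ha) {k : quadIso R} (hk : k ∈ K)
    (hka : k.1 a = a) : k.1 x ∈ W K a ha := by
  refine ⟨?_, fun s => ?_⟩
  · conv_lhs => rw [← hka]
    rw [OrthOrder.polar_map k.2, hx.1]
  · have := (hx.2 s).conj hk
    rwa [hka, map_smul] at this

omit [Fintype F] in
/-- The move by the root element of the line of `c`. -/
theorem move_mem (E : EX R θ d N) (O : Ov R θ K) {a x c : V} {ha : R a = 0} (hx : x ∈ W K a ha)
    (hc : R c = 0) (h1 : polar R c a = 0) (h2 : polar R c (θ *ᵥ a) = 0) :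
    polar R c x • (θ *ᵥ c) - polar R (θ *ᵥ c) x • c ∈ W K a ha := by
  obtain ⟨k, hk⟩ := exists_eich R (e := c) (w := (1 : F) • (θ *ᵥ c)) hc
    (by rw [one_smul]; exact E.self c hc)
  have hkK := mem_eich_theta E O hc hk
  have hval : ∀ y, k.1 y = y + (polar R c y • (θ *ᵥ c) - polar R (θ *ᵥ c) y • c) := fun y => by
    rw [hk y, one_smul, E.sing c hc]
    module
  have hka : k.1 a = a := by
    rw [hval, h1, E.adj, QuadraticMap.polar_sub_right, QuadraticMap.polar_smul_right, h1, h2]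
    simp
  have := (W K a ha).sub_mem (mem_conj hx hkK hka) hx
  rwa [hval, add_sub_cancel_left] at this

omit [Fintype F] in
theorem polar_theta_left (E : EX R θ d N) (x y : V) :
    polar R (θ *ᵥ x) y = d * polar R x y - polar R x (θ *ᵥ y) := by
  rw [E.adj, QuadraticMap.polar_sub_right, QuadraticMap.polar_smul_right, smul_eq_mul]

omit [Fintype F] in
theorem polar_theta (E : EX R θ d N) (x y : V) : polar R (θ *ᵥ x) (θ *ᵥ y) = N * polar R x y := by
  rw [polar_theta_left E, E.sq, QuadraticMap.polar_sub_right, QuadraticMap.polar_smul_right,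
    QuadraticMap.polar_smul_right, smul_eq_mul, smul_eq_mul]
  ring

omit [Fintype F] in
theorem theta_ne (E : EX R θ d N) {x : V} (hx : x ≠ 0) : θ *ᵥ x ≠ 0 := fun h =>
  one_ne_zero (α := F) (E.noeig 0 1 x (by rw [h]; simp) hx).2

/-- A singular vector with given values, one of the vectors being singular in the radical. -/
theorem exists_sing_rad (E : EX R θ d N) {k : ℕ} {v : Fin k → V} (hv : LinearIndependent F v)
    (c : Fin k → F) (i₀ : Fin k) (h0 : R (v i₀) = 0) (hperp : ∀ j, polar R (v j) (v i₀) = 0)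
    (hc : c i₀ ≠ 0) : ∃ z, R z = 0 ∧ ∀ i, polar R z (v i) = c i := by
  obtain ⟨b, hb⟩ : ∃ b : Module.Dual F V, ∀ i, b (v i) = c i := by
    obtain ⟨b, hb⟩ := LinearMap.exists_extend (Finsupp.linearCombination F c ∘ₗ hv.repr)
    refine ⟨b, fun i => ?_⟩
    have h := LinearMap.congr_fun hb ⟨v i, Submodule.subset_span ⟨i, rfl⟩⟩
    simp only [LinearMap.comp_apply, Submodule.subtype_apply, LinearEquiv.coe_coe] at h
    rw [h, hv.repr_eq_single i ⟨v i, _⟩ rfl, Finsupp.linearCombination_single, one_smul]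
  obtain ⟨u, hu⟩ : ∃ u, u = (LinearMap.BilinForm.toDual (polarBilin R) E.nd).symm b := ⟨_, rfl⟩
  have huy : ∀ y, polar R u y = b y := fun y => by
    rw [hu]
    exact LinearMap.BilinForm.apply_toDual_symm_apply (hB := E.nd) b y
  refine ⟨u + (-(R u) / c i₀) • v i₀, ?_, fun i => ?_⟩
  · rw [QuadraticMap.map_add R, QuadraticMap.map_smul, h0, smul_zero, add_zero,
      QuadraticMap.polar_smul_right, huy, hb, smul_eq_mul, div_mul_cancel₀ _ hc, add_neg_cancel]
  · rw [QuadraticMap.polar_add_left, QuadraticMap.polar_smul_left, QuadraticMap.polar_comm R (v i₀),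
      hperp, huy, hb, smul_zero, add_zero]

/-- A further vector gives everything perpendicular to the line. -/
theorem grow (E : EX R θ d N) (O : Ov R θ K) {a b : V} {ha : R a = 0} (ha0 : a ≠ 0)
    (hb : b ∈ W K a ha) (hbout : b ∉ line θ a) {w : V} (hw1 : polar R a w = 0)
    (hw2 : polar R (θ *ᵥ a) w = 0) : w ∈ W K a ha := by
  have hn := E.dim
  -- a singular vector of `W` perpendicular to the line
  obtain ⟨p, hp, hpa, hpθ, hpW, hpout⟩ : ∃ p, R p = 0 ∧ polar R p a = 0 ∧ polar R p (θ *ᵥ a) = 0 ∧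
      p ∈ W K a ha ∧ p ∉ line θ a := by
    obtain ⟨c, hc0, hcv, hcout⟩ := exists_sing_le E.nd (by omega) (li_three E ha0 hbout) ![0, 0, 1]
    have c1 : polar R c a = 0 := hcv 0
    have c2 : polar R c (θ *ᵥ a) = 0 := hcv 1
    have c3 : polar R c b = 1 := hcv 2
    have hm := move_mem E O hb hc0 c1 c2
    rw [c3, one_smul] at hm
    refine ⟨_, ?_, ?_, ?_, hm, fun hh => ?_⟩
    · rw [sub_eq_add_neg, ← neg_smul, QuadraticMap.map_add R, QuadraticMap.map_smul, hc0, E.sing c hc0,
        QuadraticMap.polar_smul_right, QuadraticMap.polar_comm R (θ *ᵥ c) c, E.self c hc0]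
      simp
    · rw [sub_eq_add_neg, ← neg_smul, QuadraticMap.polar_add_left, QuadraticMap.polar_smul_left,
        polar_theta_left E c a, c1, c2]
      simp
    · rw [sub_eq_add_neg, ← neg_smul, QuadraticMap.polar_add_left, QuadraticMap.polar_smul_left,
        polar_theta E, c1, c2]
      simp
    · refine one_ne_zero (α := F) (mem_of_comb E (fun x => line_inv E) (y := c) (fun hcl => hcout ?_)
        (α := -(polar R (θ *ᵥ c) b)) (β := 1) (by
          rwa [neg_smul, one_smul, ← sub_eq_neg_add])).2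
      exact Submodule.span_mono (by
        rintro _ ⟨i, rfl⟩; fin_cases i; exacts [⟨0, rfl⟩, ⟨1, rfl⟩]) hcl
  have key : ∀ p c, p ∈ W K a ha → R c = 0 → polar R c a = 0 → polar R c (θ *ᵥ a) = 0 →
      polar R c p = 0 → polar R c (θ *ᵥ p) = 1 → c ∈ W K a ha := by
    intro p c hpW hc h1 h2 h3 h4
    have hm := move_mem E O hpW hc h1 h2
    rwa [h3, polar_theta_left E, h3, h4, mul_zero, zero_sub, zero_smul, zero_sub, neg_smul, one_smul,
      neg_neg] at hm
  have hp0 : p ≠ 0 := fun e => hpout (by rw [e]; exact Submodule.zero_mem _)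
  have hli := li_four E ha0 hpout
  have q3 : polar R (θ *ᵥ p) a = 0 := by rw [polar_theta_left E, hpa, hpθ]; simp
  have q4 : polar R (θ *ᵥ p) (θ *ᵥ a) = 0 := by rw [polar_theta E, hpa, mul_zero]
  have q5 : polar R (θ *ᵥ p) p = 0 := by rw [QuadraticMap.polar_comm]; exact E.self p hp
  have q6 : polar R (θ *ᵥ p) (θ *ᵥ p) = 0 := by
    rw [QuadraticMap.polar_self, E.sing p hp, smul_zero]
  have hrad : ∀ j, polar R (![a, θ *ᵥ a, p, θ *ᵥ p] j) (θ *ᵥ p) = 0 := fun j => by
    rw [QuadraticMap.polar_comm]; fin_cases j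
    exacts [q3, q4, q5, q6]
  obtain ⟨c₀, hc₀, hcv⟩ := exists_sing_rad E hli ![0, 0, 0, 1] 3 (E.sing p hp) hrad one_ne_zero
  have k1 : polar R c₀ a = 0 := hcv 0
  have k2 : polar R c₀ (θ *ᵥ a) = 0 := hcv 1
  have k3 : polar R c₀ p = 0 := hcv 2
  have k4 : polar R c₀ (θ *ᵥ p) = 1 := hcv 3
  have hc₀W := key p c₀ hpW hc₀ k1 k2 k3 k4
  have hperp : ∀ x, polar R x a = 0 → polar R x (θ *ᵥ a) = 0 → polar R x p = 0 →
      polar R x (θ *ᵥ p) = 0 → x + (-(R x) - polar R c₀ x) • (θ *ᵥ p) ∈ W K a ha := by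
    intro x x1 x2 x3 x4
    have h := key p (c₀ + x + (-(R x) - polar R c₀ x) • (θ *ᵥ p)) hpW (by
        rw [QuadraticMap.map_add R, QuadraticMap.map_add R, QuadraticMap.map_smul, hc₀, E.sing p hp,
          QuadraticMap.polar_smul_right, QuadraticMap.polar_add_left, k4, x4]
        simp)
      (by rw [QuadraticMap.polar_add_left, QuadraticMap.polar_add_left, QuadraticMap.polar_smul_left,
        k1, x1, q3]; simp)
      (by rw [QuadraticMap.polar_add_left, QuadraticMap.polar_add_left, QuadraticMap.polar_smul_left,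
        k2, x2, q4]; simp)
      (by rw [QuadraticMap.polar_add_left, QuadraticMap.polar_add_left, QuadraticMap.polar_smul_left,
        k3, x3, q5]; simp)
      (by rw [QuadraticMap.polar_add_left, QuadraticMap.polar_add_left, QuadraticMap.polar_smul_left,
        k4, x4, q6]; simp)
    have := (W K a ha).sub_mem h hc₀W
    rwa [add_assoc, add_sub_cancel_left] at this
  have hmem4 : ∀ x, x ∈ perpTo R ![a, θ *ᵥ a, p, θ *ᵥ p] →
      polar R x a = 0 ∧ polar R x (θ *ᵥ a) = 0 ∧ polar R x p = 0 ∧ polar R x (θ *ᵥ p) = 0 :=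
    fun x hx => ⟨mem_perpTo.1 hx 0, mem_perpTo.1 hx 1, mem_perpTo.1 hx 2, mem_perpTo.1 hx 3⟩
  -- the line of the second vector
  have hθp : θ *ᵥ p ∈ W K a ha := by
    obtain ⟨x, hx, y, hy, hxy⟩ : ∃ x ∈ perpTo R ![a, θ *ᵥ a, p, θ *ᵥ p],
        ∃ y ∈ perpTo R ![a, θ *ᵥ a, p, θ *ᵥ p], polar R x y ≠ 0 := by
      by_contra hc
      push Not at hc
      have hle : perpTo R ![a, θ *ᵥ a, p, θ *ᵥ p] ≤
          Submodule.span F (Set.range ![a, θ *ᵥ a, p, θ *ᵥ p]) := fun y hy =>
        mem_span_of_perpTo E.nd fun x hx => hc x hx y hy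
      have h1 := Submodule.finrank_mono hle
      have h2 := finrank_perpTo (R := R) ![a, θ *ᵥ a, p, θ *ᵥ p]
      rw [finrank_span_eq_card hli, Fintype.card_fin] at h1
      omega
    obtain ⟨x1, x2, x3, x4⟩ := hmem4 x hx
    obtain ⟨y1, y2, y3, y4⟩ := hmem4 y hy
    obtain ⟨s1, s2, s3, s4⟩ := hmem4 _ (Submodule.add_mem _ hx hy)
    have h := (W K a ha).sub_mem ((W K a ha).sub_mem (hperp (x + y) s1 s2 s3 s4) (hperp x x1 x2 x3 x4))
      (hperp y y1 y2 y3 y4)
    rw [QuadraticMap.map_add R, QuadraticMap.polar_add_right,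
      show x + y + (-(R x + R y + polar R x y) - (polar R c₀ x + polar R c₀ y)) • (θ *ᵥ p) -
          (x + (-(R x) - polar R c₀ x) • (θ *ᵥ p)) - (y + (-(R y) - polar R c₀ y) • (θ *ᵥ p)) =
        (-(polar R x y)) • (θ *ᵥ p) by module] at h
    exact ((W K a ha).smul_mem_iff (neg_ne_zero.2 hxy)).1 h
  have hperp' : ∀ x, polar R x a = 0 → polar R x (θ *ᵥ a) = 0 → polar R x p = 0 →
      polar R x (θ *ᵥ p) = 0 → x ∈ W K a ha := fun x x1 x2 x3 x4 => by
    have := (W K a ha).sub_mem (hperp x x1 x2 x3 x4)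
      ((W K a ha).smul_mem (-(R x) - polar R c₀ x) hθp)
    rwa [add_sub_cancel_right] at this
  have hN : N ≠ 0 := fun h => by
    have h1 := E.sq p
    rw [h, zero_smul, sub_zero] at h1
    exact one_ne_zero (α := F) (E.noeig (-d) 1 _ (by rw [h1]; module) (theta_ne E hp0)).2
  obtain ⟨c₁, hc₁, hcv'⟩ := exists_sing_rad E hli ![0, 0, -N⁻¹, 0] 2 hp (fun j => by
      fin_cases j
      exacts [by rw [QuadraticMap.polar_comm]; exact hpa, by rw [QuadraticMap.polar_comm]; exact hpθ,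
        by show polar R p p = 0; rw [QuadraticMap.polar_self, hp, smul_zero], q5])
    (neg_ne_zero.2 (inv_ne_zero hN))
  have l1 : polar R c₁ a = 0 := hcv' 0
  have l2 : polar R c₁ (θ *ᵥ a) = 0 := hcv' 1
  have l3 : polar R c₁ p = -N⁻¹ := hcv' 2
  have l4 : polar R c₁ (θ *ᵥ p) = 0 := hcv' 3
  have hc₁W : c₁ ∈ W K a ha := key (θ *ᵥ p) c₁ hθp hc₁ l1 l2 l4 (by
    rw [E.sq, QuadraticMap.polar_sub_right, QuadraticMap.polar_smul_right,
      QuadraticMap.polar_smul_right, l4, l3, smul_zero, zero_sub, smul_eq_mul, mul_neg, neg_neg,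
      mul_inv_cancel₀ hN])
  have hz := hperp' (w - polar R w (θ *ᵥ p) • c₀ + (N * polar R w p) • c₁)
    (by simp [QuadraticMap.polar_add_left, QuadraticMap.polar_sub_left, k1, l1,
      QuadraticMap.polar_comm R w a, hw1])
    (by simp [QuadraticMap.polar_add_left, QuadraticMap.polar_sub_left, k2, l2,
      QuadraticMap.polar_comm R w (θ *ᵥ a), hw2])
    (by simp [QuadraticMap.polar_add_left, QuadraticMap.polar_sub_left, k3, l3]; field_simp; ring)
    (by simp [QuadraticMap.polar_add_left, QuadraticMap.polar_sub_left, k4, l4])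
  have := (W K a ha).sub_mem ((W K a ha).add_mem hz
    ((W K a ha).smul_mem (polar R w (θ *ᵥ p)) hc₀W)) ((W K a ha).smul_mem (N * polar R w p) hc₁W)
  rwa [show w - polar R w (θ *ᵥ p) • c₀ + (N * polar R w p) • c₁ + polar R w (θ *ᵥ p) • c₀ -
    (N * polar R w p) • c₁ = w by abel] at this

omit [Fintype F] in
theorem swap_mem {a w : V} (ha : R a = 0) (hw : R w = 0) (h : w ∈ W K a ha) : a ∈ W K w hw := by
  refine ⟨by rw [QuadraticMap.polar_comm]; exact h.1, fun s g hg => h.2 (-s) g fun x => ?_⟩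
  rw [hg x, QuadraticMap.map_smul, QuadraticMap.map_smul, ha, hw]
  simp only [QuadraticMap.polar_smul_left, smul_eq_mul, mul_zero, zero_mul, sub_zero]
  module

/-- A singular vector perpendicular to two lines and outside both. -/
theorem exists_link (E : EX R θ d N) {u p : V} (hu : R u = 0) (hp : R p = 0) (hu0 : u ≠ 0) (hp0 : p ≠ 0) :
    ∃ w, R w = 0 ∧ (∀ i, polar R w (![u, θ *ᵥ u, p, θ *ᵥ p] i) = 0) ∧ w ∉ line θ u ∧ w ∉ line θ p := by
  have hn := E.dim
  by_cases hpu : p ∈ line θ u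
  · obtain ⟨w, hw, hwv, hwout⟩ := exists_sing_perp_le E.nd (by omega) ![u, θ *ᵥ u]
    have h1 : polar R w u = 0 := hwv 0
    have h2 : polar R w (θ *ᵥ u) = 0 := hwv 1
    have hperp : ∀ x ∈ line θ u, polar R w x = 0 := fun x hx => by
      obtain ⟨α, β, rfl⟩ := mem_line.1 hx
      simp [QuadraticMap.polar_add_right, h1, h2]
    refine ⟨w, hw, fun i => ?_, hwout, fun h => hwout ?_⟩
    · fin_cases i
      exacts [h1, h2, hperp p hpu, hperp _ (line_inv E hpu)]
    · obtain ⟨α, β, rfl⟩ := mem_line.1 h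
      exact (line θ u).add_mem ((line θ u).smul_mem _ hpu) ((line θ u).smul_mem _ (line_inv E hpu))
  by_cases horth : polar R u p = 0 ∧ polar R (θ *ᵥ u) p = 0
  · obtain ⟨h1, h2⟩ := horth
    have h3 : polar R u (θ *ᵥ p) = 0 := by
      have := polar_theta_left E u p
      rw [h1, h2, mul_zero, zero_sub] at this
      exact neg_eq_zero.1 this.symm
    refine ⟨u + p, by rw [QuadraticMap.map_add R, hu, hp, h1]; simp, fun i => ?_, fun h => hpu ?_,
      fun h => line_symm E hu0 hpu ?_⟩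
    · rw [QuadraticMap.polar_add_left]
      fin_cases i
      · show polar R u u + polar R p u = 0
        rw [QuadraticMap.polar_self, hu, QuadraticMap.polar_comm R p u, h1]; simp
      · show polar R u (θ *ᵥ u) + polar R p (θ *ᵥ u) = 0
        rw [E.self u hu, QuadraticMap.polar_comm R p, h2]; simp
      · show polar R u p + polar R p p = 0
        rw [QuadraticMap.polar_self, hp, h1]; simp
      · show polar R u (θ *ᵥ p) + polar R p (θ *ᵥ p) = 0
        rw [E.self p hp, h3]; simp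
    · simpa using (line θ u).sub_mem h (line_self u)
    · simpa using (line θ p).sub_mem h (line_self p)
  have h2 := finrank_perpTo (R := R) ![u, θ *ᵥ u, p, θ *ᵥ p]
  obtain ⟨w, hw, hw0, hww⟩ := Orth.exists_singular_in (Q := R)
    (S := perpTo R ![u, θ *ᵥ u, p, θ *ᵥ p]) (by omega)
  have w1 : polar R w u = 0 := mem_perpTo.1 hw 0
  have w2 : polar R w (θ *ᵥ u) = 0 := mem_perpTo.1 hw 1
  have w3 : polar R w p = 0 := mem_perpTo.1 hw 2
  have w4 : polar R w (θ *ᵥ p) = 0 := mem_perpTo.1 hw 3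
  have t2 : polar R (θ *ᵥ w) p = 0 := by rw [polar_theta_left E, w3, w4]; simp
  have t4 : polar R (θ *ᵥ w) u = 0 := by rw [polar_theta_left E, w1, w2]; simp
  refine ⟨w, hww, mem_perpTo.1 hw, fun h => horth ?_, fun h => horth ?_⟩
  · obtain ⟨α, β, hab⟩ := mem_line.1 (show u ∈ line θ w by
      by_contra hc; exact line_symm E hw0 hc h)
    have hperp : ∀ x ∈ line θ w, polar R x p = 0 := fun x hx => by
      obtain ⟨α, β, rfl⟩ := mem_line.1 hx
      simp [QuadraticMap.polar_add_left, w3, t2]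
    exact ⟨hperp u (mem_line.2 ⟨α, β, hab⟩), hperp _ (line_inv E (mem_line.2 ⟨α, β, hab⟩))⟩
  · have hp' : p ∈ line θ w := by
      by_contra hc; exact line_symm E hw0 hc h
    have hperp : ∀ x ∈ line θ w, polar R u x = 0 ∧ polar R u (θ *ᵥ x) = 0 := fun x hx => by
      have hx' : ∀ y ∈ line θ w, polar R u y = 0 := fun y hy => by
        obtain ⟨α, β, rfl⟩ := mem_line.1 hy
        simp [QuadraticMap.polar_add_right, QuadraticMap.polar_comm R u w, w1,
          QuadraticMap.polar_comm R u (θ *ᵥ w), t4]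
      exact ⟨hx' x hx, hx' _ (line_inv E hx)⟩
    obtain ⟨h5, h6⟩ := hperp p hp'
    exact ⟨h5, by rw [polar_theta_left E, h5, h6]; simp⟩

/-- A moved line gives all Eichler transformations. -/
theorem full (E : EX R θ d N) (O : Ov R θ K) {a b : V} {ha : R a = 0} (ha0 : a ≠ 0)
    (hb : b ∈ W K a ha) (hbout : b ∉ line θ a) {p : V} (hp : R p = 0) (hp0 : p ≠ 0) :
    Orth.Full K p := by
  have hn := E.dim
  have h0 : ∀ x y : V, polar R x y = 0 → polar R x (θ *ᵥ y) = 0 → polar R (θ *ᵥ x) y = 0 :=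
    fun x y e e' => by
      rw [E.adj, QuadraticMap.polar_sub_right, QuadraticMap.polar_smul_right, e, e', smul_zero,
        sub_zero]
  have htr : ∀ {u v : V} (hu : R u = 0) (hv : R v = 0), u ≠ 0 → v ∉ line θ u → v ∈ W K u hu →
      polar R v u = 0 → polar R v (θ *ᵥ u) = 0 → ∀ x : V, polar R v x = 0 →
      polar R (θ *ᵥ v) x = 0 → x ∈ W K v hv := fun hu hv hu0 hvout hvu e1 e2 x hx1 hx2 =>
    grow E O (fun e => hvout (by rw [e]; exact Submodule.zero_mem _)) (swap_mem hu hv hvu)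
      (line_symm E hu0 hvout) hx1 hx2
  obtain ⟨w, hw, hwv, hwa, hwp⟩ := exists_link E ha hp ha0 hp0
  have hwW : w ∈ W K a ha := grow E O ha0 hb hbout (by rw [QuadraticMap.polar_comm]; exact hwv 0)
    (by rw [QuadraticMap.polar_comm]; exact hwv 1)
  have hpW : p ∈ W K w hw := htr ha hw ha0 hwa hwW (hwv 0) (hwv 1) p (hwv 2)
    (h0 w p (hwv 2) (hwv 3))
  have hgrowp : ∀ x, polar R p x = 0 → polar R (θ *ᵥ p) x = 0 → x ∈ W K p hp := fun x hx1 hx2 =>
    grow E O hp0 (swap_mem hw hp hpW) hwp hx1 hx2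
  obtain ⟨e, he, hev, heout⟩ := exists_sing_le E.nd (by omega) (li_two E hp0) ![0, 1]
  have e1 : polar R e p = 0 := hev 0
  have e2 : polar R e (θ *ᵥ p) = 1 := hev 1
  have he0 : e ≠ 0 := fun h => heout (h ▸ Submodule.zero_mem _)
  have hdim4 := finrank_perpTo (R := R) ![p, θ *ᵥ p, e, θ *ᵥ e]
  obtain ⟨r, hrmem, hr0, hr⟩ := Orth.exists_singular_in (Q := R)
    (S := perpTo R ![p, θ *ᵥ p, e, θ *ᵥ e]) (by omega)
  have hrv : ∀ i, polar R r (![p, θ *ᵥ p, e, θ *ᵥ e] i) = 0 := mem_perpTo.1 hrmem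
  have hrout : r ∉ Submodule.span F (Set.range ![p, θ *ᵥ p, e]) := fun h => by
    obtain ⟨c, hc⟩ := (Submodule.mem_span_range_iff_exists_fun F).1 h
    rw [Fin.sum_univ_three] at hc
    simp only [Matrix.cons_val_zero, Matrix.cons_val_one, Matrix.cons_val_two, Matrix.tail_cons,
      Matrix.head_cons] at hc
    have f1 : polar R r p = 0 := hrv 0
    have f2 : polar R r (θ *ᵥ p) = 0 := hrv 1
    have f3 : polar R r e = 0 := hrv 2
    have f4 : polar R r (θ *ᵥ e) = 0 := hrv 3
    have g1 : polar R (θ *ᵥ p) e = 1 := by rw [QuadraticMap.polar_comm]; exact e2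
    have g2 : polar R p (θ *ᵥ e) = -1 := by
      have := polar_theta_left E p e
      rw [g1, QuadraticMap.polar_comm R p e, e1, mul_zero, zero_sub] at this
      linear_combination this
    have hc1 : c 1 = 0 := by
      rw [← hc] at f3
      simpa [QuadraticMap.polar_add_left, QuadraticMap.polar_comm R p e, e1, g1,
        QuadraticMap.polar_self, he] using f3
    have hc2 : c 2 = 0 := by
      rw [← hc] at f2
      simpa [QuadraticMap.polar_add_left, E.self p hp, e2, QuadraticMap.polar_self,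
        E.sing p hp] using f2
    rw [hc1, hc2, zero_smul, zero_smul, add_zero, add_zero] at hc
    rw [← hc, QuadraticMap.polar_smul_left, g2] at f4
    simp at f4
    exact hr0 (by rw [← hc, f4, zero_smul])
  have hre : e ∈ W K r hr := by
    -- the line of `r` reaches `e` through a common vector
    obtain ⟨u, hu, huv, hua, hur⟩ := exists_link E ha hr ha0 hr0
    have huW : u ∈ W K a ha := grow E O ha0 hb hbout (by rw [QuadraticMap.polar_comm]; exact huv 0)
      (by rw [QuadraticMap.polar_comm]; exact huv 1)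
    have hrW : r ∈ W K u hu := htr ha hu ha0 hua huW (huv 0) (huv 1) r (huv 2)
      (h0 u r (huv 2) (huv 3))
    exact grow E O hr0 (swap_mem hu hr hrW) hur (hrv 2) (h0 r e (hrv 2) (hrv 3))
  obtain ⟨q, -, hqv⟩ := exists_sing_rad E (v := ![p, θ *ᵥ p, e, r])
    (by
      have e' : ![p, θ *ᵥ p, e, r] = Fin.snoc ![p, θ *ᵥ p, e] r := by funext i; fin_cases i <;> rfl
      rw [e']; exact linearIndependent_finSnoc.2 ⟨li_three E hp0 heout, hrout⟩)
    ![0, 0, 0, 1] 3 hr (fun j => by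
      fin_cases j
      exacts [by rw [QuadraticMap.polar_comm]; exact hrv 0, by rw [QuadraticMap.polar_comm]; exact hrv 1,
        by rw [QuadraticMap.polar_comm]; exact hrv 2,
        by show polar R r r = 0; rw [QuadraticMap.polar_self, hr, smul_zero]])
    one_ne_zero
  have q1 : polar R q p = 0 := hqv 0
  have q2 : polar R q (θ *ᵥ p) = 0 := hqv 1
  have q3 : polar R q e = 0 := hqv 2
  have q4 : polar R q r = 1 := hqv 3
  obtain ⟨k, hk⟩ := exists_eich R (e := r) (w := (1 : F) • e) hr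
    (by rw [one_smul]; exact hre.1)
  have hkK : k ∈ K := hre.2 1 k hk
  have hrp : polar R r p = 0 := hrv 0
  have hkp : k.1 p = p := by
    rw [hk p, one_smul, hrp, e1]; simp
  have hq : q ∈ W K p hp := hgrowp q (by rw [QuadraticMap.polar_comm]; exact q1)
    (by rw [QuadraticMap.polar_comm]; exact q2)
  have heW : e ∈ W K p hp := by
    have := (W K p hp).sub_mem (mem_conj hq hkK hkp) hq
    rwa [hk q, one_smul, QuadraticMap.polar_comm R r q, q4, QuadraticMap.polar_comm R e q, q3, he,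
      one_smul, neg_zero, zero_mul, sub_zero, zero_smul, add_zero, add_sub_cancel_left] at this
  intro x hx
  have hx' : x ∈ W K p hp := by
    rw [show x = (x - polar R (θ *ᵥ p) x • e) + polar R (θ *ᵥ p) x • e by abel]
    refine (W K p hp).add_mem (hgrowp _ ?_ ?_) ((W K p hp).smul_mem _ heW)
    · rw [QuadraticMap.polar_sub_right, QuadraticMap.polar_smul_right, hx,
        QuadraticMap.polar_comm R p e, e1, smul_zero, sub_zero]
    · rw [QuadraticMap.polar_sub_right, QuadraticMap.polar_smul_right,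
        QuadraticMap.polar_comm R (θ *ᵥ p) e, e2, smul_eq_mul, mul_one, sub_self]
  have := hx'.2 1
  rwa [one_smul] at this

/-- An element not normalising the field moves a singular line. -/
theorem exists_moved (E : EX R θ d N) {g : quadIso R}
    (hg : ∀ A B : F, ¬ ∀ x, θ *ᵥ g.1 x = A • g.1 x + B • g.1 (θ *ᵥ x)) :
    ∃ e, R e = 0 ∧ e ≠ 0 ∧ g.1 (θ *ᵥ e) ∉ line θ (g.1 e) := by
  have hn := E.dim
  by_contra hc
  push Not at hc
  have hcoef : ∀ e, R e = 0 → ∃ A B : F, θ *ᵥ g.1 e = A • g.1 e + B • g.1 (θ *ᵥ e) := by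
    intro e he
    by_cases he0 : e = 0
    · exact ⟨0, 0, by simp [he0]⟩
    obtain ⟨α, β, h⟩ := mem_line.1 (hc e he he0)
    have hβ : β ≠ 0 := fun hβ => by
      rw [hβ, zero_smul, add_zero, ← map_smul] at h
      exact one_ne_zero (α := F) (E.noeig (-α) 1 e (by rw [g.1.injective h]; module) he0).2
    refine ⟨-(α / β), β⁻¹, smul_right_injective V hβ ?_⟩
    show β • (θ *ᵥ g.1 e) = β • ((-(α / β)) • g.1 e + β⁻¹ • g.1 (θ *ᵥ e))
    rw [smul_add, smul_smul, smul_smul, mul_neg, mul_div_cancel₀ _ hβ, mul_inv_cancel₀ hβ, h]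
    module
  choose! A B hAB using hcoef
  have hpair : ∀ {u v : V}, R u = 0 → R v = 0 → u ≠ 0 → v ∉ line θ u → polar R v u = 0 →
      A u = A v ∧ B u = B v := by
    intro u v hu hv hu0 hvout hvu
    have hsum : R (u + v) = 0 := by
      rw [QuadraticMap.map_add R, hu, hv, QuadraticMap.polar_comm, hvu, add_zero, add_zero]
    have h := hAB _ hsum
    rw [map_add, Matrix.mulVec_add, hAB u hu, hAB v hv, Matrix.mulVec_add, map_add] at h
    have h' : g.1 ((A u - A (u + v)) • u + (B u - B (u + v)) • (θ *ᵥ u)) =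
        g.1 ((A (u + v) - A v) • v + (B (u + v) - B v) • (θ *ᵥ v)) := by
      simp only [map_add, map_smul]
      linear_combination (norm := module) h
    have h'' := g.1.injective h'
    obtain ⟨h1, h2⟩ := mem_of_comb E (fun x => line_inv E) hvout
      (α := A (u + v) - A v) (β := B (u + v) - B v) (mem_line.2 ⟨_, _, h''.symm⟩)
    rw [h1, h2, zero_smul, zero_smul, add_zero] at h''
    obtain ⟨h3, h4⟩ := E.noeig _ _ _ h'' hu0
    exact ⟨by linear_combination h3 + h1, by linear_combination h4 + h2⟩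
  obtain ⟨e₀, he₀, -, he₀out⟩ := exists_sing_perp_le E.nd (by omega) (![] : Fin 0 → V)
  have he₀0 : e₀ ≠ 0 := fun h => he₀out (h ▸ Submodule.zero_mem _)
  have hconst : ∀ e, R e = 0 → θ *ᵥ g.1 e = A e₀ • g.1 e + B e₀ • g.1 (θ *ᵥ e) := by
    intro e he
    by_cases he0 : e = 0
    · simp [he0]
    obtain ⟨u, hu, huv, hu1, hu2⟩ := exists_link E he₀ he he₀0 he0
    have h1 := hpair he₀ hu he₀0 hu1 (huv 0)
    have h2 := hpair he hu he0 hu2 (huv 2)
    rw [h1.1.trans h2.1.symm, h1.2.trans h2.2.symm]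
    exact hAB e he
  refine hg (A e₀) (B e₀) fun x => ?_
  by_cases hx : x = 0
  · simp [hx]
  obtain ⟨z, hz, hzx, -⟩ := exists_sing_le E.nd (by omega)
    (v := ![x]) (LinearIndependent.of_subsingleton 0 hx) ![1]
  have hzx' : polar R z x = 1 := hzx 0
  have hs : R (x + (-(R x)) • z) = 0 := by
    rw [QuadraticMap.map_add R, QuadraticMap.map_smul, hz, QuadraticMap.polar_smul_right,
      QuadraticMap.polar_comm R x z, hzx']
    simp
  have h1 := hconst _ hs
  have h2 := hconst _ hz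
  simp only [map_add, map_smul, Matrix.mulVec_add, Matrix.mulVec_smul] at h1
  linear_combination (norm := module) h1 + R x • h2

/-- Every overgroup moving the field contains `Ω`. -/
theorem omega_le (E : EX R θ d N) (O : Ov R θ K) {g : quadIso R} (hgK : g ∈ K)
    (hg : ∀ A B : F, ¬ ∀ x, θ *ᵥ g.1 x = A • g.1 x + B • g.1 (θ *ᵥ x)) :
    Subgroup.closure (Sieg R) ≤ K := by
  have hn := E.dim
  obtain ⟨e, he, he0, hout⟩ := exists_moved E hg
  have ha : R (g.1 e) = 0 := (g.2 e).trans he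
  have hb : g.1 (θ *ᵥ e) ∈ W K (g.1 e) ha := by
    refine ⟨by rw [OrthOrder.polar_map g.2]; exact E.self e he, fun s => ?_⟩
    rw [← map_smul]
    exact ((theta_mem E O he).2 s).conj hgK
  have ha0 : g.1 e ≠ 0 := fun h => he0 (g.1.map_eq_zero_iff.1 h)
  obtain ⟨p, hp, -, hpout⟩ := exists_sing_perp_le E.nd (by omega) (![] : Fin 0 → V)
  have hp0 : p ≠ 0 := fun h => hpout (h ▸ Submodule.zero_mem _)
  obtain ⟨p', hp', hpp', -⟩ := exists_sing_le E.nd (by omega)
    (v := ![p]) (LinearIndependent.of_subsingleton 0 hp0) ![1]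
  have hpp1 : polar R p' p = 1 := hpp' 0
  have hp'0 : p' ≠ 0 := fun h => by
    rw [h, QuadraticMap.polar_zero_left] at hpp1
    exact zero_ne_one hpp1
  exact Orth.le_of_full_pair E.nd (by rw [Module.finrank_fin_fun]; omega) hp' hp
    (by rw [hpp1]; exact one_ne_zero) (full E O ha0 hb hout hp' hp'0) (full E O ha0 hb hout hp hp0)

/-- Root elements of lines do not all commute with the field. -/
theorem exists_not_comm (E : EX R θ d N) :
    ∃ g ∈ Subgroup.closure (Sieg R), ∀ A B : F,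
      ¬ ∀ x, θ *ᵥ g.1 x = A • g.1 x + B • g.1 (θ *ᵥ x) := by
  have hn := E.dim
  obtain ⟨a, ha, -, haout⟩ := exists_sing_perp_le E.nd (by omega) (![] : Fin 0 → V)
  have ha0 : a ≠ 0 := fun h => haout (h ▸ Submodule.zero_mem _)
  obtain ⟨b, hb, hbv, hbout⟩ := exists_sing_perp_le E.nd (by omega) ![a, θ *ᵥ a]
  have hba : polar R b a = 0 := hbv 0
  have hb0 : b ≠ 0 := fun h => hbout (h ▸ Submodule.zero_mem _)
  obtain ⟨z, hz, hzv⟩ := exists_sing_rad E (li_four E ha0 hbout) ![1, 0, 0, 0] 0 ha (fun j => by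
    fin_cases j
    exacts [by show polar R a a = 0; rw [QuadraticMap.polar_self, ha, smul_zero],
      by show polar R (θ *ᵥ a) a = 0; rw [QuadraticMap.polar_comm]; exact E.self a ha, hba,
      by show polar R (θ *ᵥ b) a = 0; rw [polar_theta_left E, hba, show polar R b (θ *ᵥ a) = 0 from hbv 1]; simp])
    one_ne_zero
  have z1 : polar R z a = 1 := hzv 0
  have z2 : polar R z (θ *ᵥ a) = 0 := hzv 1
  have z3 : polar R z b = 0 := hzv 2
  have z4 : polar R z (θ *ᵥ b) = 0 := hzv 3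
  obtain ⟨g, hg⟩ := exists_eich R (e := a) (w := (1 : F) • b) ha
    (by rw [one_smul, QuadraticMap.polar_comm]; exact hba)
  refine ⟨g, Subgroup.subset_closure
    ⟨a, b, 1, ha, hb, by rw [QuadraticMap.polar_comm]; exact hba, (sieg_eich R hb g).2 hg⟩,
    fun A B h => ?_⟩
  have key : ∀ x, g.1 x = x + (polar R a x • b - polar R b x • a) := fun x => by
    rw [hg x, one_smul, hb]; module
  have k1 := h z
  have k2 : g.1 (θ *ᵥ z) = θ *ᵥ z + (d • b) := by
    rw [key, QuadraticMap.polar_comm R a (θ *ᵥ z), QuadraticMap.polar_comm R b (θ *ᵥ z), E.adj,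
      E.adj, QuadraticMap.polar_sub_right, QuadraticMap.polar_sub_right,
      QuadraticMap.polar_smul_right, QuadraticMap.polar_smul_right, z1, z2, z3, z4]
    simp
  rw [k2, key, QuadraticMap.polar_comm R a z, QuadraticMap.polar_comm R b z, z1, z3, zero_smul,
    sub_zero, one_smul, Matrix.mulVec_add] at k1
  have h2 := congrArg (fun v => polar R z v) k1
  have h3 := congrArg (fun v => polar R a v) k1
  simp only [QuadraticMap.polar_add_right, QuadraticMap.polar_smul_right, z3, z4,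
    QuadraticMap.polar_comm R a z, z1, QuadraticMap.polar_comm R a b, hba, smul_eq_mul] at h2 h3
  rw [QuadraticMap.polar_comm R a (θ *ᵥ z), E.adj, QuadraticMap.polar_sub_right,
    QuadraticMap.polar_smul_right, z1, z2] at h3
  have hb2 : polar R a (θ *ᵥ b) = 0 := by
    have : polar R b (θ *ᵥ a) = 0 := hbv 1
    rw [QuadraticMap.polar_comm, E.adj, QuadraticMap.polar_sub_right, QuadraticMap.polar_smul_right,
      QuadraticMap.polar_comm R a b, hba, smul_zero, zero_sub, neg_eq_zero] at this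
    exact this
  rw [hb2] at h3
  simp at h3
  obtain ⟨h4, h5⟩ := mem_of_comb E (fun x => line_inv E) (y := z)
    (S := line θ b) (fun hzb => by
      obtain ⟨α, β, e⟩ := mem_line.1 hzb
      rw [e, QuadraticMap.polar_add_left, QuadraticMap.polar_smul_left,
        QuadraticMap.polar_smul_left, hba, E.adj, QuadraticMap.polar_sub_right,
        QuadraticMap.polar_smul_right, hba, show polar R b (θ *ᵥ a) = 0 from hbv 1] at z1
      simp at z1)
    (α := -A) (β := 1 - B) (by
      refine mem_line.2 ⟨A + B * d, -1, ?_⟩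
      linear_combination (norm := module) k1)
  have hBd : B = 1 := by linear_combination -h5
  have hA : A = 0 := by linear_combination -h4
  rw [hA, hBd] at k1
  have hbe : d • b = θ *ᵥ b := by linear_combination (norm := module) -k1
  exact one_ne_zero (α := F) (E.noeig (-d) 1 b (by rw [← hbe]; module) hb0).2

/-- The normaliser of the field is maximal. -/
theorem gu_orth_maximal {Q : (Fin n → F) → F} (hQ : IsNondegenerateQuadraticForm Q) (hn : 9 ≤ n)
    {A : Subalgebra F (Matrix (Fin n) (Fin n) F)} (hA : IsFieldSubalgebra 2 A)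
    (hac : IsAdjointClosedFor (polar Q) A) (hnsa : ¬ IsSelfAdjointFor (polar Q) A)
    (hsc : ∀ k ∈ A, ∃ c : F, ∀ v : V, Q (k *ᵥ v) = c * Q v) :
    IsMaximalIn (omegaGL Q) (subalgebraNormalizer A ⊓ omegaGL Q) := by
  obtain ⟨R, rfl, hR⟩ := Orth.exists_form hQ
  haveI : Nonempty (Fin n) := ⟨⟨0, by omega⟩⟩
  obtain ⟨θ, hθ, hθ1⟩ : ∃ θ ∈ A, θ ∉ Submodule.span F {(1 : Mn)} := by
    by_contra hc
    push Not at hc
    have h1 : A.toSubmodule ≤ Submodule.span F {(1 : Mn)} := hc
    have h2 := Submodule.finrank_mono h1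
    have h3 := finrank_span_singleton (K := F) (one_ne_zero : (1 : Mn) ≠ 0)
    rw [Subalgebra.finrank_toSubmodule, hA.finrank_eq, h3] at h2
    omega
  have hli : LinearIndependent F ![(1 : Mn), θ] := by
    refine LinearIndependent.pair_iff.2 fun s t h => ?_
    by_cases ht : t = 0
    · refine ⟨?_, ht⟩
      rw [ht, zero_smul, add_zero, smul_eq_zero] at h
      exact h.resolve_right one_ne_zero
    · exfalso
      refine hθ1 (Submodule.mem_span_singleton.2 ⟨-(s / t), smul_right_injective _ ht ?_⟩)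
      show t • (-(s / t)) • (1 : Mn) = t • θ
      rw [smul_smul, mul_neg, mul_div_cancel₀ _ ht, neg_smul]
      exact (eq_neg_of_add_eq_zero_right h).symm
  have hspan : ∀ k ∈ A, ∃ α β : F, k = α • (1 : Mn) + β • θ := by
    intro k hk
    have heq : Submodule.span F (Set.range ![(1 : Mn), θ]) = A.toSubmodule := by
      refine Submodule.eq_of_le_of_finrank_le (Submodule.span_le.2 ?_) ?_
      · rintro _ ⟨i, rfl⟩
        fin_cases i
        exacts [A.one_mem, hθ]
      · rw [finrank_span_eq_card hli, Subalgebra.finrank_toSubmodule, hA.finrank_eq]; rfl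
    obtain ⟨c, hc⟩ := (Submodule.mem_span_range_iff_exists_fun F).1
      (heq.ge ((Subalgebra.mem_toSubmodule A).2 hk))
    exact ⟨c 0, c 1, by rw [← hc, Fin.sum_univ_two]; rfl⟩
  obtain ⟨e₀, d, hd⟩ := hspan _ (A.mul_mem hθ hθ)
  obtain ⟨θ', hθ', hadj⟩ := hac θ hθ
  have hsq : ∀ x : V, θ *ᵥ (θ *ᵥ x) = d • (θ *ᵥ x) - (-e₀) • x := fun x => by
    rw [Matrix.mulVec_mulVec, hd, Matrix.add_mulVec, Matrix.smul_mulVec, Matrix.smul_mulVec,
      Matrix.one_mulVec]
    module
  have hθ'2 : θ' * θ' = e₀ • (1 : Mn) + d • θ' := by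
    refine Matrix.ext_of_mulVec_single fun i => sub_eq_zero.1 (hR.2 _ fun x => ?_)
    show polar R x _ = 0
    rw [← Matrix.mulVec_mulVec, Matrix.add_mulVec, Matrix.smul_mulVec, Matrix.smul_mulVec,
      Matrix.one_mulVec, QuadraticMap.polar_sub_right, QuadraticMap.polar_add_right,
      QuadraticMap.polar_smul_right, QuadraticMap.polar_smul_right, ← hadj, ← hadj, hsq,
      QuadraticMap.polar_sub_left, QuadraticMap.polar_smul_left, QuadraticMap.polar_smul_left]
    simp only [smul_eq_mul, hadj]; ring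
  have hθ'd : θ' = d • (1 : Mn) - θ := by
    have hmul : (θ' - θ) * (θ' + θ - d • (1 : Mn)) = 0 := by
      have hcomm := hA.comm θ hθ θ' hθ'
      simp only [sub_mul, mul_sub, mul_add, mul_smul_comm, mul_one, hθ'2, hd, hcomm]
      module
    rcases em (θ' - θ = 0) with h | h
    · exfalso
      refine hnsa fun k hk u v => ?_
      obtain ⟨α, β, rfl⟩ := hspan k hk
      simp only [Matrix.add_mulVec, Matrix.smul_mulVec, Matrix.one_mulVec,
        QuadraticMap.polar_add_left, QuadraticMap.polar_add_right, QuadraticMap.polar_smul_left,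
        QuadraticMap.polar_smul_right, hadj, sub_eq_zero.1 h]
    · have := CfsgLib.Aschbacher.fieldSubalgebra_mul_eq_zero hA (A.sub_mem hθ' hθ) hmul h
      linear_combination (norm := module) this
  have hnoeig : ∀ (α β : F) (v : V), α • v + β • (θ *ᵥ v) = 0 → v ≠ 0 → α = 0 ∧ β = 0 := by
    intro α β v h hv
    by_contra hne
    have h0 : α • (1 : Mn) + β • θ ≠ 0 := fun e =>
      hne ⟨(LinearIndependent.pair_iff.1 hli α β e).1, (LinearIndependent.pair_iff.1 hli α β e).2⟩
    refine hv (CfsgLib.Aschbacher.fieldSubalgebra_mulVec_eq_zero hA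
      (A.add_mem (A.smul_mem A.one_mem _) (A.smul_mem hθ _)) h0 ?_)
    rw [Matrix.add_mulVec, Matrix.smul_mulVec, Matrix.smul_mulVec, Matrix.one_mulVec, h]
  have E : EX R θ d (-e₀) := by
    refine ⟨hn, hR, fun x y => ?_, hsq, fun x hx => ?_, fun x hx => ?_, hnoeig⟩
    · rw [hadj, hθ'd, Matrix.sub_mulVec, Matrix.smul_mulVec, Matrix.one_mulVec]
    · obtain ⟨c, hc⟩ := hsc θ hθ
      rw [hc, hx, mul_zero]
    · obtain ⟨c, hc⟩ := hsc θ hθ
      obtain ⟨c', hc'⟩ := hsc _ (A.add_mem A.one_mem hθ)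
      have h1 := hc' x
      rw [Matrix.add_mulVec, Matrix.one_mulVec, QuadraticMap.map_add R, hx, hc, hx, mul_zero,
        mul_zero, zero_add, zero_add] at h1
      exact h1
  have hcomm : ∀ g : quadIso R, (∀ x, g.1 (θ *ᵥ x) = θ *ᵥ g.1 x) →
      Orth.toMat R g ∈ subalgebraNormalizer A := by
    intro g hg k
    have hgθ : (Orth.toMat R g : Mn) * θ = θ * (Orth.toMat R g : Mn) :=
      Matrix.ext_of_mulVec_single fun i => by
        rw [← Matrix.mulVec_mulVec, ← Matrix.mulVec_mulVec, Orth.toMat_mulVec, Orth.toMat_mulVec, hg]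
    have hgk : ∀ k ∈ A, (Orth.toMat R g : Mn) * k * ((Orth.toMat R g)⁻¹ : GL (Fin n) F) = k := by
      intro k hk
      obtain ⟨α, β, rfl⟩ := hspan k hk
      rw [mul_add, Matrix.mul_smul, Matrix.mul_smul, mul_one, hgθ, add_mul, Matrix.smul_mul,
        Matrix.smul_mul, Units.mul_inv, mul_assoc, Units.mul_inv, mul_one]
    refine ⟨fun hk => (hgk k hk).symm ▸ hk, fun hk => ?_⟩
    have h1 := hgk _ hk
    have h2 : (Orth.toMat R g : Mn) * k * ((Orth.toMat R g)⁻¹ : GL (Fin n) F) = k := by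
      exact (Units.mul_right_inj _).1 ((Units.mul_left_inj _).1 h1)
    exact h2 ▸ hk
  have hnorm : ∀ (g : quadIso R) (a b : F), (∀ x, θ *ᵥ g.1 x = a • g.1 x + b • g.1 (θ *ᵥ x)) →
      Orth.toMat R g ∈ subalgebraNormalizer A := by
    intro g a b hab
    have hb0 : b ≠ 0 := fun hb => by
      obtain ⟨v, hv⟩ := exists_ne (0 : V)
      obtain ⟨w, rfl⟩ := g.1.surjective v
      have := hab w
      rw [hb, zero_smul, add_zero] at this
      exact one_ne_zero (α := F) (hnoeig (-a) 1 _ (by rw [this]; module) hv).2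
    set G := (Orth.toMat R g : Mn) with hG
    have hθG : θ * G = G * (a • (1 : Mn) + b • θ) := Matrix.ext_of_mulVec_single fun i => by
      rw [← Matrix.mulVec_mulVec, ← Matrix.mulVec_mulVec, Matrix.add_mulVec, Matrix.smul_mulVec,
        Matrix.smul_mulVec, Matrix.one_mulVec, Matrix.mulVec_add, Matrix.mulVec_smul,
        Matrix.mulVec_smul, hG, Orth.toMat_mulVec, Orth.toMat_mulVec, hab]
    have hGi : G * (((Orth.toMat R g)⁻¹ : GL (Fin n) F) : Mn) = 1 := Units.mul_inv _
    have hiG : (((Orth.toMat R g)⁻¹ : GL (Fin n) F) : Mn) * G = 1 := Units.inv_mul _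
    have hconj : G * θ * ((Orth.toMat R g)⁻¹ : GL (Fin n) F) = b⁻¹ • θ + (-(a / b)) • (1 : Mn) := by
      have h1 : G * θ = b⁻¹ • (θ * G) + (-(a / b)) • G := by
        rw [hθG, mul_add, Matrix.mul_smul, Matrix.mul_smul, mul_one, smul_add, smul_smul, smul_smul,
          inv_mul_cancel₀ hb0, one_smul, inv_mul_eq_div]
        module
      rw [h1, add_mul, Matrix.smul_mul, Matrix.smul_mul, mul_assoc, hGi, mul_one]
    intro k
    refine ⟨fun hk => ?_, fun hk => ?_⟩
    · obtain ⟨α, β, rfl⟩ := hspan k hk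
      rw [mul_add, Matrix.mul_smul, Matrix.mul_smul, mul_one, add_mul, Matrix.smul_mul,
        Matrix.smul_mul, hGi, hconj]
      exact A.add_mem (A.smul_mem A.one_mem _)
        (A.smul_mem (A.add_mem (A.smul_mem hθ _) (A.smul_mem A.one_mem _)) _)
    · obtain ⟨α, β, hαβ⟩ := hspan _ hk
      have hk' : k = α • (1 : Mn) + β • (a • (1 : Mn) + b • θ) := by
        calc k = (((Orth.toMat R g)⁻¹ : GL (Fin n) F) : Mn) *
              (G * k * ((Orth.toMat R g)⁻¹ : GL (Fin n) F)) * G := by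
              simp only [← mul_assoc, hiG, one_mul]; rw [mul_assoc, hiG, mul_one]
          _ = _ := by
              rw [hαβ, mul_add, Matrix.mul_smul, Matrix.mul_smul, mul_one, add_mul, Matrix.smul_mul,
                Matrix.smul_mul, hiG, mul_assoc, hθG, ← mul_assoc, hiG, one_mul]
      rw [hk']
      exact A.add_mem (A.smul_mem A.one_mem _)
        (A.smul_mem (A.add_mem (A.smul_mem A.one_mem _) (A.smul_mem hθ _)) _)
  rw [Orth.omegaGL_eq hR (by rw [Fintype.card_fin]; omega)]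
  refine ⟨lt_of_le_of_ne inf_le_right fun e => ?_, fun K hle hKG => ?_⟩
  · obtain ⟨g, hg, hne⟩ := exists_not_comm E
    have hgA := (e.ge.trans inf_le_left) (Subgroup.mem_map_of_mem (Orth.toMat R) hg)
    have hG := (hgA θ).1 hθ
    obtain ⟨a, b, hab⟩ := hspan _ ((((subalgebraNormalizer A).inv_mem hgA) θ).1 hθ)
    refine hne a b fun x => ?_
    have := congrArg (fun m => (Orth.toMat R g : Mn) *ᵥ (m *ᵥ x)) hab
    simp only [inv_inv, Matrix.mulVec_mulVec, ← mul_assoc, Units.mul_inv, one_mul] at this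
    rw [← Matrix.mulVec_mulVec, Orth.toMat_mulVec, ← Matrix.mulVec_mulVec, Orth.toMat_mulVec,
      Matrix.add_mulVec, Matrix.smul_mulVec, Matrix.smul_mulVec, Matrix.one_mulVec, map_add,
      map_smul, map_smul] at this
    exact this
  by_cases hKH : K ≤ subalgebraNormalizer A
  · exact Or.inl (le_antisymm (le_inf hKH hKG) hle)
  refine Or.inr (le_antisymm hKG ?_)
  obtain ⟨x, hxK, hxA⟩ := SetLike.not_le_iff_exists.1 hKH
  obtain ⟨g, hg, rfl⟩ := hKG hxK
  refine Subgroup.map_le_iff_le_comap.2 (omega_le (K := K.comap (Orth.toMat R)) E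
    (fun g' hg' hc => hle ⟨hcomm g' hc, Subgroup.mem_map_of_mem _ hg'⟩) (g := g) hxK
    fun a b hab => hxA (hnorm g a b hab))

end CfsgLib.MaxSub.GUOrth
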