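/-
Singular vectors with prescribed values of the polar form, in small dimension.
-/
import Cfsg.Agent.Lib.FiniteForms.Witt

set_option autoImplicit false
set_option maxHeartbeats 400000
set_option linter.unusedSectionVars false

namespace CfsgLib.MaxSub.OrthVectorsSmall

open Module
open QuadraticMap (polar polarBilin)

variable {F : Type*} [Field F] [Finite F] {V : Type*} [AddCommGroup V] [Module F V] [FiniteDimensional F V]
  {R : QuadraticForm F V} {k : ℕ}

/-- The vectors perpendicular to a family. -/
def perpAll (R : QuadraticForm F V) (v : Fin k → V) : Submodule F V :=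
  LinearMap.ker (LinearMap.pi fun i => (polarBilin R).flip (v i))

theorem mem_perpAll {v : Fin k → V} {x : V} : x ∈ perpAll R v ↔ ∀ i, polar R x (v i) = 0 :=
  ⟨fun h i => congrFun h i, fun h => funext h⟩

/-- The radical of the span of a family. -/
def radical (R : QuadraticForm F V) (v : Fin k → V) : Submodule F V :=
  perpAll R v ⊓ Submodule.span F (Set.range v)

theorem perp_span {v : Fin k → V} {x y : V} (hx : x ∈ perpAll R v)
    (hy : y ∈ Submodule.span F (Set.range v)) : polar R x y = 0 := by
  induction hy using Submodule.span_induction with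
  | mem y hy => obtain ⟨i, rfl⟩ := hy; exact mem_perpAll.1 hx i
  | zero => rw [QuadraticMap.polar_zero_right]
  | add y z _ _ hy hz => rw [QuadraticMap.polar_add_right, hy, hz, add_zero]
  | smul c y _ hy => rw [QuadraticMap.polar_smul_right, hy, smul_zero]

/-- The values of the polar form can be taken by a singular vector outside the span. -/
theorem exists_sing (hR : (polarBilin R).Nondegenerate) (h2 : (2 : F) ≠ 0) (v : Fin k → V) (v₀ : V)
    (h : finrank F (radical R v) + 3 + k ≤ finrank F V ∨ ∃ x ∈ radical R v, polar R x v₀ ≠ 0) :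
    ∃ z, R z = 0 ∧ (∀ i, polar R z (v i) = polar R v₀ (v i)) ∧
      z ∉ Submodule.span F (Set.range v) := by
  suffices hxw : ∃ w, (∀ i, polar R w (v i) = polar R v₀ (v i)) ∧
      ∃ x ∈ perpAll R v, R x = 0 ∧ polar R x w ≠ 0 by
    obtain ⟨w, hwv, x, hx, hxx, hxw⟩ := hxw
    refine ⟨w + (-(R w) / polar R x w) • x, ?_, fun i => ?_, fun hmem => ?_⟩
    · rw [QuadraticMap.map_add R, QuadraticMap.map_smul, hxx, smul_zero, add_zero,
        QuadraticMap.polar_smul_right, QuadraticMap.polar_comm R w x, smul_eq_mul,
        div_mul_cancel₀ _ hxw, add_neg_cancel]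
    · rw [QuadraticMap.polar_add_left, QuadraticMap.polar_smul_left, mem_perpAll.1 hx i, smul_zero,
        add_zero, hwv]
    · have := perp_span hx hmem
      rw [QuadraticMap.polar_add_right, QuadraticMap.polar_smul_right, QuadraticMap.polar_self, hxx,
        smul_zero, smul_zero, add_zero] at this
      exact hxw this
  have hself : ∀ x ∈ radical R v, R x = 0 := fun x hx => by
    have h1 := perp_span hx.1 hx.2
    rw [QuadraticMap.polar_self, two_nsmul, ← two_mul] at h1
    exact (mul_eq_zero.1 h1).resolve_left h2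
  by_cases hrad : ∃ x ∈ radical R v, polar R x v₀ ≠ 0
  · obtain ⟨x, hx, hxv⟩ := hrad
    exact ⟨v₀, fun _ => rfl, x, hx.1, hself x hx, hxv⟩
  have hdim := h.resolve_right hrad
  push Not at hrad
  have back : ∀ a, (∀ x ∈ perpAll R v, polar R x a = 0) → a ∈ Submodule.span F (Set.range v) :=
    fun a ha => by
      by_contra hc
      obtain ⟨φ, hφ, hφS⟩ := Submodule.exists_dual_map_eq_bot_of_notMem hc inferInstance
      set x := (LinearMap.BilinForm.toDual (polarBilin R) hR).symm φ
      have hxφ : ∀ y, polar R x y = φ y := fun y =>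
        LinearMap.BilinForm.apply_toDual_symm_apply (hB := hR) φ y
      refine hφ ?_
      rw [← hxφ]
      refine ha x (mem_perpAll.2 fun i => ?_)
      rw [hxφ]
      exact (Submodule.mem_bot F).1 (hφS ▸ Submodule.mem_map_of_mem (Submodule.subset_span ⟨i, rfl⟩))
  set S := perpAll R v with hSd
  have hSdim : finrank F V ≤ finrank F S + k := by
    have h1 := LinearMap.finrank_range_add_finrank_ker
      (LinearMap.pi fun i => (polarBilin R).flip (v i))
    have h2 := Submodule.finrank_le (LinearMap.range (LinearMap.pi fun i => (polarBilin R).flip (v i)))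
    rw [Module.finrank_fin_fun] at h2
    show _ ≤ finrank F (LinearMap.ker (LinearMap.pi fun i => (polarBilin R).flip (v i))) + k
    omega
  obtain ⟨C, hC⟩ := (Submodule.comap S.subtype (radical R v)).exists_isCompl
  have hCd : 3 ≤ finrank F C := by
    have h1 := Submodule.finrank_add_eq_of_isCompl hC
    have he : S ⊓ radical R v = radical R v := inf_eq_right.2 inf_le_left
    rw [← Submodule.finrank_map_subtype_eq, Submodule.map_comap_subtype, he] at h1
    omega
  obtain ⟨e, he0, he⟩ := FiniteForms.exists_singular ((R.comp S.subtype).comp C.subtype) hCd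
  obtain ⟨f, hf, hef⟩ : ∃ f ∈ S, polar R ((e : S) : V) f ≠ 0 := by
    by_contra hcon
    push Not at hcon
    have hmem : ((e : S) : V) ∈ radical R v := ⟨(e : S).2, back _ fun x hx => by
      rw [QuadraticMap.polar_comm]; exact hcon x hx⟩
    exact he0 (Subtype.ext (Submodule.disjoint_def.1 hC.disjoint (e : S) hmem e.2))
  obtain ⟨w, hwv, hwout, hwrad⟩ : ∃ w, (∀ i, polar R w (v i) = polar R v₀ (v i)) ∧
      (∃ x ∈ S, polar R x w ≠ 0) ∧ ∀ x ∈ radical R v, polar R x w = 0 := by
    by_cases h : ∃ x ∈ S, polar R x v₀ ≠ 0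
    · exact ⟨v₀, fun _ => rfl, h, hrad⟩
    push Not at h
    refine ⟨v₀ + f, fun i => by rw [QuadraticMap.polar_add_left, mem_perpAll.1 hf i, add_zero],
      ⟨(e : S), (e : S).2, by rw [QuadraticMap.polar_add_right, h _ (e : S).2, zero_add]; exact hef⟩,
      fun x hx => ?_⟩
    rw [QuadraticMap.polar_add_right, h x hx.1, zero_add, QuadraticMap.polar_comm]
    exact perp_span hf hx.2
  refine ⟨w, hwv, ?_⟩
  by_contra hc
  push Not at hc
  obtain ⟨x₀, hx₀, hx₀w⟩ := hwout
  have hew : polar R ((e : S) : V) w = 0 := hc _ (e : S).2 he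
  have key : ∀ x ∈ S, polar R ((e : S) : V) x ≠ 0 → polar R x w = 0 := fun x hx h0 => by
    have h1 : R (x + (-(R x) / polar R ((e : S) : V) x) • ((e : S) : V)) = 0 := by
      rw [QuadraticMap.map_add (⇑R), QuadraticMap.map_smul, QuadraticMap.polar_smul_right,
        QuadraticMap.polar_comm R x, show R ((e : S) : V) = 0 from he, smul_eq_mul, smul_eq_mul,
        div_mul_cancel₀ _ h0]
      ring
    have h2 := hc _ (S.add_mem hx (S.smul_mem _ (e : S).2)) h1
    rwa [QuadraticMap.polar_add_left, QuadraticMap.polar_smul_left, hew, smul_zero, add_zero] at h2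
  refine hx₀w ?_
  by_cases h0 : polar R ((e : S) : V) x₀ = 0
  · have h1 := key (x₀ + f) (S.add_mem hx₀ hf)
      (by rw [QuadraticMap.polar_add_right, h0, zero_add]; exact hef)
    rwa [QuadraticMap.polar_add_left, key f hf hef, add_zero] at h1
  · exact key x₀ hx₀ h0

/-- A vector perpendicular to the perpendicular of a family is one of its combinations. -/
theorem mem_span_of_perp (hR : (polarBilin R).Nondegenerate) {v : Fin k → V} {a : V}
    (ha : ∀ x ∈ perpAll R v, polar R x a = 0) : a ∈ Submodule.span F (Set.range v) := by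
  by_contra hc
  obtain ⟨φ, hφ, hφS⟩ := Submodule.exists_dual_map_eq_bot_of_notMem hc inferInstance
  set x := (LinearMap.BilinForm.toDual (polarBilin R) hR).symm φ
  have hxφ : ∀ y, polar R x y = φ y := fun y =>
    LinearMap.BilinForm.apply_toDual_symm_apply (hB := hR) φ y
  refine hφ ?_
  rw [← hxφ]
  refine ha x (mem_perpAll.2 fun i => ?_)
  rw [hxφ]
  exact (Submodule.mem_bot F).1 (hφS ▸ Submodule.mem_map_of_mem (Submodule.subset_span ⟨i, rfl⟩))

theorem finrank_perpAll (v : Fin k → V) : finrank F V ≤ finrank F (perpAll R v) + k := by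
  have h1 := LinearMap.finrank_range_add_finrank_ker
    (LinearMap.pi fun i => (polarBilin R).flip (v i))
  have h2 := Submodule.finrank_le (LinearMap.range (LinearMap.pi fun i => (polarBilin R).flip (v i)))
  rw [Module.finrank_fin_fun] at h2
  show _ ≤ finrank F (LinearMap.ker (LinearMap.pi fun i => (polarBilin R).flip (v i))) + k
  omega

/-- The singular vectors perpendicular to a family span the perpendicular. -/
theorem exists_sing_avoid (hR : (polarBilin R).Nondegenerate) (v : Fin k → V) (T : Submodule F V)
    (h : finrank F (radical R v) + 3 + k ≤ finrank F V) (hT : ¬ perpAll R v ≤ T) :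
    ∃ z ∈ perpAll R v, R z = 0 ∧ z ∉ T := by
  by_contra hc
  push Not at hc
  have hSdim := finrank_perpAll (R := R) v
  set S := perpAll R v with hSd
  obtain ⟨C, hC⟩ := (Submodule.comap S.subtype (radical R v)).exists_isCompl
  have hCd : 3 ≤ finrank F C := by
    have h1 := Submodule.finrank_add_eq_of_isCompl hC
    have he : S ⊓ radical R v = radical R v := inf_eq_right.2 inf_le_left
    rw [← Submodule.finrank_map_subtype_eq, Submodule.map_comap_subtype, he] at h1
    omega
  obtain ⟨e, he0, he⟩ := FiniteForms.exists_singular ((R.comp S.subtype).comp C.subtype) hCd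
  have hee : R ((e : S) : V) = 0 := he
  obtain ⟨f, hf, hef⟩ : ∃ f ∈ S, polar R ((e : S) : V) f ≠ 0 := by
    by_contra hcon
    push Not at hcon
    have hmem : ((e : S) : V) ∈ radical R v := ⟨(e : S).2, mem_span_of_perp hR fun x hx => by
      rw [QuadraticMap.polar_comm]; exact hcon x hx⟩
    exact he0 (Subtype.ext (Submodule.disjoint_def.1 hC.disjoint (e : S) hmem e.2))
  have key : ∀ x ∈ S, polar R ((e : S) : V) x ≠ 0 → x ∈ T := fun x hx h0 => by
    have h1 : R (x + (-(R x) / polar R ((e : S) : V) x) • ((e : S) : V)) = 0 := by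
      rw [QuadraticMap.map_add (⇑R), QuadraticMap.map_smul, QuadraticMap.polar_smul_right,
        QuadraticMap.polar_comm R x, hee, smul_eq_mul, smul_eq_mul, div_mul_cancel₀ _ h0]
      ring
    have h2 := T.sub_mem (hc _ (S.add_mem hx (S.smul_mem _ (e : S).2)) h1)
      (T.smul_mem (-(R x) / polar R ((e : S) : V) x) (hc _ (e : S).2 hee))
    rwa [add_sub_cancel_right] at h2
  refine hT fun x hx => ?_
  by_cases h0 : polar R ((e : S) : V) x = 0
  · have := T.sub_mem (key (x + f) (S.add_mem hx hf)
      (by rw [QuadraticMap.polar_add_right, h0, zero_add]; exact hef)) (key f hf hef)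
    rwa [add_sub_cancel_right] at this
  · exact key x hx h0

end CfsgLib.MaxSub.OrthVectorsSmall
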