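/-
Normalisers of a quadratic field with adjoint conjugation are maximal in `Sp`.
-/
import Cfsg.Agent.Lib.MaxSub.OrthVectorsSmall
import Cfsg.Agent.Lib.MaxSub.SubspaceMaximal
import Cfsg.Agent.Lib.Aschbacher.SympProper
import Cfsg.Agent.Lib.Aschbacher.SympGeneral
import Cfsg.Agent.Lib.Aschbacher.HermField

set_option autoImplicit false
set_option maxHeartbeats 1000000

namespace CfsgLib.MaxSub.GUSp

open Matrix Module Cfsg Cfsg.Geo
open CfsgLib.MaxSub.OrthVectorsSmall (radical perpAll mem_perpAll exists_sing exists_sing_avoid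
  mem_span_of_perp finrank_perpAll)
open CfsgLib.Aschbacher (isRefl_sympForm sT sT_mem sT_mulVec sympForm_alt IsRefl)
open QuadraticMap (polar polarBilin)

variable {F : Type*} [Field F] [Fintype F] {m : ℕ}

local notation "V" => (Fin m ⊕ Fin m → F)
local notation "M2m" => Matrix (Fin m ⊕ Fin m) (Fin m ⊕ Fin m) F

/-- The form. -/
def bf : (Fin m ⊕ Fin m → F) →ₗ[F] (Fin m ⊕ Fin m → F) →ₗ[F] F :=
  LinearMap.mk₂ F (Cfsg.sympForm m F) (isRefl_sympForm m).sesq.add_left
    (isRefl_sympForm m).sesq.smul_left (isRefl_sympForm m).sesq.add_right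
    (fun a x y => (isRefl_sympForm m).sesq.smul_right a x y)

omit [Fintype F] in
theorem bf_apply (x y : V) : bf x y = Cfsg.sympForm m F x y := rfl

omit [Fintype F] in
theorem bf_self (x : V) : bf x x = (0 : F) := sympForm_alt m x

omit [Fintype F] in
theorem bf_swap (x y : V) : bf y x = -(bf x y : F) := by
  have h := bf_self (x + y)
  simp only [map_add, LinearMap.add_apply, bf_self] at h
  linear_combination h

omit [Fintype F] in
theorem gl_ext {g g' : GL (Fin m ⊕ Fin m) F} (e : ∀ y, (g : M2m) *ᵥ y = (g' : M2m) *ᵥ y) :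
    g = g' :=
  Units.ext (Matrix.ext_of_mulVec_single fun _ => e _)

omit [Fintype F] in
theorem tv_apply (v x : V) (s : F) : (sT v s : M2m) *ᵥ x = x + (s * bf x v) • v := sT_mulVec v x s

omit [Fintype F] in
theorem tv_fix {v x : V} (h : bf x v = (0 : F)) (s : F) : (sT v s : M2m) *ᵥ x = x := by
  rw [tv_apply, h, mul_zero, zero_smul, add_zero]

omit [Fintype F] in
theorem bf_isometry {g : GL (Fin m ⊕ Fin m) F} (hg : g ∈ Cfsg.spGL m F) (x y : V) :
    bf ((g : M2m) *ᵥ x) ((g : M2m) *ᵥ y) = (bf x y : F) := hg x y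

omit [Fintype F] in
theorem tv_comm {u v : V} (h : bf u v = (0 : F)) (s t : F) : Commute (sT u s) (sT v t) := by
  have h1 := conj_sT (sT_mem v t) u s
  rw [tv_fix h] at h1
  show sT u s * sT v t = sT v t * sT u s
  rw [← mul_inv_eq_iff_eq_mul.1 h1]

/-- A quadratic field whose conjugation is the adjoint. -/
structure ES (θ : Matrix (Fin m ⊕ Fin m) (Fin m ⊕ Fin m) F) (c : F) : Prop where
  dim : 3 ≤ m
  two : (2 : F) ≠ 0
  adj : ∀ x y : Fin m ⊕ Fin m → F, bf (θ *ᵥ x) y = -(bf x (θ *ᵥ y) : F)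
  sq : ∀ x, θ *ᵥ (θ *ᵥ x) = c • x
  nsq : ∀ α β : F, α * α = c * β * β → α = 0 ∧ β = 0

variable {θ : Matrix (Fin m ⊕ Fin m) (Fin m ⊕ Fin m) F} {c : F}

/-- The quadratic form `f(x, θx)`. -/
def qf (θ : Matrix (Fin m ⊕ Fin m) (Fin m ⊕ Fin m) F) : QuadraticForm F (Fin m ⊕ Fin m → F) :=
  LinearMap.BilinMap.toQuadraticMap (bf.compl₂ (Matrix.mulVecLin θ))

omit [Fintype F] in
theorem qf_apply (x : V) : qf θ x = (bf x (θ *ᵥ x) : F) := rfl

omit [Fintype F] in
theorem c_ne (E : ES θ c) : c ≠ 0 := fun h =>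
  one_ne_zero (α := F) (E.nsq 0 1 (by rw [h]; ring)).2

omit [Fintype F] in
theorem symm' (E : ES θ c) (x y : V) : bf y (θ *ᵥ x) = (bf x (θ *ᵥ y) : F) := by
  rw [bf_swap (θ *ᵥ x) y, E.adj, neg_neg]

omit [Fintype F] in
theorem qf_polar (E : ES θ c) (x y : V) : polar (qf θ) x y = 2 * bf x (θ *ᵥ y) := by
  simp only [polar, qf_apply, Matrix.mulVec_add, map_add, LinearMap.add_apply, symm' E x y]
  ring

omit [Fintype F] in
theorem qf_nd (E : ES θ c) : (polarBilin (qf θ)).Nondegenerate := by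
  have key : ∀ x : V, (∀ y, polar (qf θ) x y = 0) → x = 0 := by
    intro x hx
    by_contra hx0
    obtain ⟨y, hy⟩ : ∃ y, Cfsg.sympForm m F x y ≠ 0 := by
      obtain ⟨-, y, hy⟩ := (isRefl_sympForm (F := F) m).nondeg x hx0
      exact ⟨y, hy⟩
    have h := hx (θ *ᵥ y)
    rw [qf_polar E, E.sq, map_smul, smul_eq_mul] at h
    exact hy (((mul_eq_zero.1 h).resolve_left E.two |> mul_eq_zero.1).resolve_left (c_ne E))
  refine ⟨key, fun x hx => key x fun y => ?_⟩
  rw [QuadraticMap.polar_comm]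
  exact hx y

omit [Fintype F] in
theorem noeig (E : ES θ c) {α β : F} {v : V} (h : α • v + β • (θ *ᵥ v) = 0) (hv : v ≠ 0) :
    α = 0 ∧ β = 0 := by
  refine E.nsq α β ?_
  have h2 : α • (θ *ᵥ v) + (β * c) • v = 0 := by
    have := congrArg (fun z => θ *ᵥ z) h
    simpa only [Matrix.mulVec_add, Matrix.mulVec_smul, E.sq, smul_smul, Matrix.mulVec_zero] using this
  have h3 : (α * α - c * β * β) • v = 0 := by
    linear_combination (norm := module) α • h - β • h2
  exact sub_eq_zero.1 ((smul_eq_zero.1 h3).resolve_right hv)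

omit [Fintype F] in
theorem mem_of_comb (E : ES θ c) {S : Submodule F V} (hS : ∀ x ∈ S, θ *ᵥ x ∈ S) {y : V}
    (hy : y ∉ S) {α β : F} (h : α • y + β • (θ *ᵥ y) ∈ S) : α = 0 ∧ β = 0 := by
  refine E.nsq α β ?_
  by_contra hne
  refine hy ((S.smul_mem_iff (sub_ne_zero.2 hne)).1 ?_)
  have h2 := S.sub_mem (S.smul_mem α h) (S.smul_mem β (hS _ h))
  rw [Matrix.mulVec_add, Matrix.mulVec_smul, Matrix.mulVec_smul, E.sq] at h2
  convert h2 using 1
  module

/-- The line of a vector over the field. -/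
def line (θ : Matrix (Fin m ⊕ Fin m) (Fin m ⊕ Fin m) F) (a : Fin m ⊕ Fin m → F) :
    Submodule F (Fin m ⊕ Fin m → F) :=
  Submodule.span F (Set.range ![a, θ *ᵥ a])

omit [Fintype F] in
theorem mem_line {a x : V} : x ∈ line θ a ↔ ∃ α β : F, x = α • a + β • (θ *ᵥ a) := by
  rw [line, Submodule.mem_span_range_iff_exists_fun]
  refine ⟨fun ⟨d, h⟩ => ⟨d 0, d 1, by rw [← h, Fin.sum_univ_two]; rfl⟩, fun ⟨α, β, h⟩ =>
    ⟨![α, β], by rw [h, Fin.sum_univ_two]; rfl⟩⟩

omit [Fintype F] in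
theorem line_inv (E : ES θ c) {a x : V} (h : x ∈ line θ a) : θ *ᵥ x ∈ line θ a := by
  obtain ⟨α, β, rfl⟩ := mem_line.1 h
  refine mem_line.2 ⟨β * c, α, ?_⟩
  rw [Matrix.mulVec_add, Matrix.mulVec_smul, Matrix.mulVec_smul, E.sq]
  module

omit [Fintype F] in
theorem li_two (E : ES θ c) {a : V} (ha : a ≠ 0) : LinearIndependent F ![a, θ *ᵥ a] :=
  LinearIndependent.pair_iff.2 fun _ _ h => noeig E h ha

omit [Fintype F] in
theorem li_three (E : ES θ c) {a y : V} (ha : a ≠ 0) (hy : y ∉ line θ a) :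
    LinearIndependent F ![a, θ *ᵥ a, y] := by
  have e : ![a, θ *ᵥ a, y] = Fin.snoc ![a, θ *ᵥ a] y := by funext i; fin_cases i <;> rfl
  rw [e]; exact linearIndependent_finSnoc.2 ⟨li_two E ha, hy⟩

omit [Fintype F] in
theorem li_four (E : ES θ c) {a y : V} (ha : a ≠ 0) (hy : y ∉ line θ a) :
    LinearIndependent F ![a, θ *ᵥ a, y, θ *ᵥ y] := by
  have h : θ *ᵥ y ∉ Submodule.span F (Set.range ![a, θ *ᵥ a, y]) := fun h => by
    obtain ⟨d, hd⟩ := (Submodule.mem_span_range_iff_exists_fun F).1 h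
    rw [Fin.sum_univ_three] at hd
    refine one_ne_zero (α := F) (mem_of_comb E (fun x => line_inv E) hy (α := -(d 2)) (β := 1) ?_).2
    refine mem_line.2 ⟨d 0, d 1, ?_⟩
    rw [← hd]
    simp
  have e : ![a, θ *ᵥ a, y, θ *ᵥ y] = Fin.snoc ![a, θ *ᵥ a, y] (θ *ᵥ y) := by
    funext i; fin_cases i <;> rfl
  rw [e]; exact linearIndependent_finSnoc.2 ⟨li_three E ha hy, h⟩

omit [Fintype F] in
theorem finrank_radical_le {k : ℕ} (v : Fin k → V) :
    finrank F (radical (qf θ) v) ≤ k :=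
  (Submodule.finrank_mono inf_le_right).trans
    ((finrank_range_le_card v).trans_eq (Fintype.card_fin k))

/-- The images of some vectors spanning a space that is not totally singular. -/
theorem finrank_radical_lt (E : ES θ c) {k : ℕ} (v : Fin k → V) {i j : Fin k}
    (h : (bf (θ *ᵥ v i) (v j) : F) ≠ 0) : finrank F (radical (qf θ) fun i => θ *ᵥ v i) < k := by
  refine lt_of_lt_of_le (Submodule.finrank_lt_finrank_of_lt (lt_of_le_of_ne inf_le_right fun e => ?_))
    ((finrank_range_le_card (R := F) fun i => θ *ᵥ v i).trans_eq (Fintype.card_fin k))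
  have := mem_perpAll.1 ((e.ge (Submodule.subset_span ⟨i, rfl⟩)).1) j
  rw [qf_polar E, E.sq, map_smul, smul_eq_mul] at this
  exact h (((mul_eq_zero.1 this).resolve_left E.two |> mul_eq_zero.1).resolve_left (c_ne E))

/-- A singular vector with prescribed values of the symplectic form. -/
theorem exists_vec_of (E : ES θ c) {k : ℕ} {v : Fin k → V} (hv : LinearIndependent F v) (d : Fin k → F)
    (h : finrank F (radical (qf θ) fun i => θ *ᵥ v i) + 3 + k ≤ m + m ∨
      ∃ i, (∀ j, bf (θ *ᵥ v i) (v j) = (0 : F)) ∧ d i ≠ 0) :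
    ∃ z, qf θ z = 0 ∧ (∀ i, bf z (v i) = d i) ∧
      z ∉ Submodule.span F (Set.range fun i => θ *ᵥ v i) := by
  have hinj : LinearMap.ker (Matrix.mulVecLin θ) = ⊥ := LinearMap.ker_eq_bot'.2 fun x hx => by
    have h := congrArg (fun z => θ *ᵥ z) (hx : θ *ᵥ x = 0)
    simpa [E.sq, c_ne E] using h
  have hvθ := hv.map' (Matrix.mulVecLin θ) hinj
  obtain ⟨b, hb⟩ : ∃ b : Module.Dual F V, ∀ i, b (θ *ᵥ v i) = 2 * (c * d i) := by
    obtain ⟨b, hb⟩ := LinearMap.exists_extend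
      (Finsupp.linearCombination F (fun i => 2 * (c * d i)) ∘ₗ hvθ.repr)
    refine ⟨b, fun i => ?_⟩
    have h1 := LinearMap.congr_fun hb ⟨θ *ᵥ v i, Submodule.subset_span ⟨i, rfl⟩⟩
    have h2 := hvθ.repr_eq_single i ⟨θ *ᵥ v i, Submodule.subset_span ⟨i, rfl⟩⟩ rfl
    simpa [h2] using h1
  set v₀ := (LinearMap.BilinForm.toDual (polarBilin (qf θ)) (qf_nd E)).symm b
  have hv₀ : ∀ x, polar (qf θ) v₀ x = b x := fun x =>
    LinearMap.BilinForm.apply_toDual_symm_apply (hB := qf_nd E) b x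
  obtain ⟨z, h1, h2, h3⟩ := exists_sing (qf_nd E) E.two (fun i => θ *ᵥ v i) v₀ (by
    rcases h with h | ⟨i, hTI, hi⟩
    · exact Or.inl (by simpa [Module.finrank_fintype_fun_eq_card] using h)
    · refine Or.inr ⟨θ *ᵥ v i, ⟨mem_perpAll.2 fun j => ?_, Submodule.subset_span ⟨i, rfl⟩⟩, ?_⟩
      · rw [qf_polar E, E.sq, map_smul, hTI, smul_zero, mul_zero]
      · rw [QuadraticMap.polar_comm, hv₀, hb]
        exact mul_ne_zero E.two (mul_ne_zero (c_ne E) hi))
  refine ⟨z, h1, fun i => ?_, h3⟩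
  have := h2 i
  rw [qf_polar E, hv₀, hb, E.sq, map_smul, smul_eq_mul] at this
  exact mul_left_cancel₀ (c_ne E) (mul_left_cancel₀ E.two this)

/-- Two values on a line. -/
theorem exists_vec_line (E : ES θ c) {v : V} (hv : v ≠ 0) (d : Fin 2 → F) (hd : d 0 ≠ 0) :
    ∃ z, qf θ z = 0 ∧ bf z v = d 0 ∧ bf z (θ *ᵥ v) = d 1 := by
  have hn := E.dim
  obtain ⟨z, hz, hzv, -⟩ := exists_vec_of E (li_two E hv) d (by
    by_cases hq : qf θ v = 0
    · refine Or.inr ⟨0, fun j => ?_, hd⟩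
      have h' : bf (θ *ᵥ v) v = (0 : F) := by
        rw [bf_swap, show bf v (θ *ᵥ v) = (0 : F) from hq, neg_zero]
      fin_cases j
      · exact h'
      · exact bf_self _
    · refine Or.inl ?_
      have := finrank_radical_lt E ![v, θ *ᵥ v] (i := 0) (j := 0)
        (show (bf (θ *ᵥ v) v : F) ≠ 0 by rw [bf_swap]; exact neg_ne_zero.2 hq)
      omega)
  exact ⟨z, hz, hzv 0, hzv 1⟩

/-- A singular vector perpendicular to given ones, outside a subspace. -/
theorem exists_avoid (E : ES θ c) {k : ℕ} (v : Fin k → V) (T : Submodule F V)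
    (h : finrank F (radical (qf θ) fun i => θ *ᵥ v i) + 3 + k ≤ m + m)
    (hT : ¬ perpAll (qf θ) (fun i => θ *ᵥ v i) ≤ T) :
    ∃ z, qf θ z = 0 ∧ (∀ i, bf z (v i) = (0 : F)) ∧ z ∉ T := by
  obtain ⟨z, hz, hzz, hzT⟩ := exists_sing_avoid (qf_nd E) (fun i => θ *ᵥ v i) T
    (by simpa [Module.finrank_fintype_fun_eq_card] using h) hT
  refine ⟨z, hzz, fun i => ?_, hzT⟩
  have := mem_perpAll.1 hz i
  rw [qf_polar E, E.sq, map_smul, smul_eq_mul] at this
  exact ((mul_eq_zero.1 this).resolve_left E.two |> mul_eq_zero.1).resolve_left (c_ne E)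

/-- A singular vector and one not orthogonal to it span a non-degenerate plane over the field. -/
theorem plane_nd (E : ES θ c) {u y : V} (hu : qf θ u = 0)
    (hne : (bf y u : F) ≠ 0 ∨ (bf y (θ *ᵥ u) : F) ≠ 0) (r : Fin 4 → F)
    (hr : ∀ j, bf (∑ i, r i • ![u, θ *ᵥ u, y, θ *ᵥ y] i) (![u, θ *ᵥ u, y, θ *ᵥ y] j) = (0 : F)) :
    r = 0 := by
  have hyu : bf u (θ *ᵥ u) = (0 : F) := hu
  have hθu : bf (θ *ᵥ u) u = (0 : F) := by rw [bf_swap, hyu, neg_zero]
  obtain ⟨a, ha⟩ : ∃ a : F, a = bf y u := ⟨_, rfl⟩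
  obtain ⟨b, hb⟩ : ∃ b : F, b = bf y (θ *ᵥ u) := ⟨_, rfl⟩
  have a' : bf u y = -a := by rw [ha, bf_swap]
  have b' : bf u (θ *ᵥ y) = b := by rw [hb, ← symm' E]
  have h1 : bf (θ *ᵥ y) u = -b := by rw [bf_swap, b']
  have h2 : bf (θ *ᵥ u) y = -b := by rw [bf_swap, hb]
  have h3 : bf (θ *ᵥ y) (θ *ᵥ u) = -(c * a) := by rw [E.adj, E.sq, map_smul, smul_eq_mul, ha]
  have h4 : bf (θ *ᵥ u) (θ *ᵥ y) = c * a := by rw [bf_swap, h3, neg_neg]
  have hnsq : ∀ p q : F, p * a - q * b = 0 → p * b - q * (c * a) = 0 → p = 0 ∧ q = 0 := by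
    intro p q e1 e2
    have hd : b * b - c * a * a ≠ 0 := fun h0 => by
      obtain ⟨hb0, ha0⟩ := E.nsq b a (sub_eq_zero.1 h0)
      rcases hne with h | h
      · exact h (ha ▸ ha0)
      · exact h (hb ▸ hb0)
    constructor
    · refine (mul_eq_zero.1 (?_ : p * (b * b - c * a * a) = 0)).resolve_right hd
      linear_combination b * e2 - c * a * e1
    · refine (mul_eq_zero.1 (?_ : q * (b * b - c * a * a) = 0)).resolve_right hd
      linear_combination a * e2 - b * e1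
  have r0 := hr 0
  have r1 := hr 1
  have r2 := hr 2
  have r3 := hr 3
  simp [Fin.sum_univ_four, bf_self, hyu, hθu, a', b', h1, h2, h3, h4, ← ha, ← hb] at r0 r1 r2 r3
  obtain ⟨e2, e3⟩ := hnsq (r 2) (r 3) (by linear_combination r0) (by linear_combination r1)
  simp [e2, e3] at r2 r3
  obtain ⟨e0, e1⟩ := hnsq (-(r 0)) (r 1) (by linear_combination r2)
    (by linear_combination -r3)
  funext i
  fin_cases i
  · exact neg_eq_zero.1 e0
  · exact e1
  · exact e2
  · exact e3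

/-- The orthogonal complement of a non-degenerate plane over the field. -/
theorem exists_split (E : ES θ c) {u y : V} (hu : qf θ u = 0)
    (hne : (bf y u : F) ≠ 0 ∨ (bf y (θ *ᵥ u) : F) ≠ 0) :
    (∀ d : Fin 4 → F, ∃ z, qf θ z = 0 ∧ ∀ j, bf z (![u, θ *ᵥ u, y, θ *ᵥ y] j) = d j) ∧
      ∃ s, (∀ j, bf s (![u, θ *ᵥ u, y, θ *ᵥ y] j) = (0 : F)) ∧ qf θ s ≠ 0 := by
  have hn := E.dim
  set v4 : Fin 4 → V := ![u, θ *ᵥ u, y, θ *ᵥ y]
  let G : (Fin 4 → F) →ₗ[F] (Fin 4 → F) :=
    { toFun := fun r j => bf (∑ i, r i • v4 i) (v4 j)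
      map_add' := fun r r' => funext fun j => by
        simp [add_smul, Finset.sum_add_distrib]
      map_smul' := fun a r => funext fun j => by
        simp [mul_smul, ← Finset.smul_sum] }
  have hG : Function.Surjective G := LinearMap.surjective_of_injective
    ((injective_iff_map_eq_zero G).2 fun r hr => plane_nd E hu hne r (congrFun hr))
  have hperp : ∀ x : V, (∀ j, bf x (v4 j) = (0 : F)) → ∀ r : Fin 4 → F,
      bf x (∑ i, r i • v4 i) = (0 : F) ∧ bf x (θ *ᵥ ∑ i, r i • v4 i) = (0 : F) := by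
    intro x hx r
    have x0 : bf x u = (0 : F) := hx 0
    have x1 : bf x (θ *ᵥ u) = (0 : F) := hx 1
    have x2 : bf x y = (0 : F) := hx 2
    have x3 : bf x (θ *ᵥ y) = (0 : F) := hx 3
    simp [v4, Fin.sum_univ_four, Matrix.mulVec_add, Matrix.mulVec_smul, E.sq, x0, x1, x2, x3]
  have hsplit : ∀ x : V, ∃ r : Fin 4 → F, ∀ j, bf (x - ∑ i, r i • v4 i) (v4 j) = (0 : F) := fun x => by
    obtain ⟨r, hr⟩ := hG fun j => bf x (v4 j)
    refine ⟨r, fun j => ?_⟩
    rw [map_sub, LinearMap.sub_apply, sub_eq_zero]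
    exact (congrFun hr j).symm
  obtain ⟨s, hs, hsq⟩ : ∃ s, (∀ j, bf s (v4 j) = (0 : F)) ∧ qf θ s ≠ 0 := by
    by_contra hc
    push Not at hc
    obtain ⟨x, hx⟩ : ∃ x : V, x ∉ Submodule.span F (Set.range v4) := by
      by_contra hall
      push Not at hall
      have h1 := Submodule.finrank_mono
        (show (⊤ : Submodule F V) ≤ Submodule.span F (Set.range v4) from fun x _ => hall x)
      have h2 : finrank F (Submodule.span F (Set.range v4)) ≤ 4 :=
        (finrank_range_le_card v4).trans_eq (Fintype.card_fin 4)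
      rw [finrank_top, Module.finrank_fintype_fun_eq_card, Fintype.card_sum, Fintype.card_fin] at h1
      omega
    obtain ⟨r, hr⟩ := hsplit x
    set s₀ := x - ∑ i, r i • v4 i
    have hs₀ : s₀ ≠ 0 := fun h => hx (by
      rw [sub_eq_zero.1 h]
      exact Submodule.sum_mem _ fun i _ => Submodule.smul_mem _ _ (Submodule.subset_span ⟨i, rfl⟩))
    refine hs₀ ((qf_nd E).1 s₀ fun t => ?_)
    obtain ⟨r', hr'⟩ := hsplit t
    show polar (qf θ) s₀ t = 0
    rw [← sub_add_cancel t (∑ i, r' i • v4 i), QuadraticMap.polar_add_right, qf_polar E s₀ (∑ i, _),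
      (hperp s₀ hr r').2, mul_zero, add_zero, polar,
      hc _ (fun j => by rw [map_add, LinearMap.add_apply, hr j, hr' j, add_zero]), hc _ hr, hc _ hr']
    ring
  refine ⟨fun d => ?_, s, hs, hsq⟩
  obtain ⟨r, hr⟩ := hG d
  set z₀ := ∑ i, r i • v4 i with hz₀
  obtain ⟨α, β, hαβ⟩ : ∃ α β : F, α * α - c * (β * β) = -(qf θ z₀) / qf θ s := by
    obtain ⟨α, β, h⟩ := FiniteField.exists_root_sum_quadratic
      (f := (Polynomial.X : Polynomial F) ^ 2 - Polynomial.C (-(qf θ z₀) / qf θ s))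
      (g := Polynomial.C (-c) * Polynomial.X ^ 2)
      (Polynomial.degree_X_pow_sub_C two_pos _)
      (Polynomial.degree_C_mul_X_pow 2 (neg_ne_zero.2 (c_ne E)))
      (FiniteField.odd_card_of_char_ne_two fun h => E.two (by
        rw [← Nat.cast_ofNat, ← h]; exact CharP.cast_eq_zero F _))
    simp only [Polynomial.eval_sub, Polynomial.eval_pow, Polynomial.eval_X, Polynomial.eval_C,
      Polynomial.eval_mul] at h
    exact ⟨α, β, by linear_combination h⟩
  have hs' : ∀ j, bf (α • s + β • (θ *ᵥ s)) (v4 j) = (0 : F) := fun j => by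
    have h0 : bf s (θ *ᵥ v4 j) = (0 : F) := by
      have := (hperp s hs (Pi.single j 1)).2
      simpa [Finset.sum_eq_single j, Pi.single_apply] using this
    simp [hs j, E.adj, h0]
  refine ⟨z₀ + (α • s + β • (θ *ᵥ s)), ?_, fun j => ?_⟩
  · have hq : qf θ (α • s + β • (θ *ᵥ s)) = (α * α - c * (β * β)) * qf θ s := by
      simp only [qf_apply, Matrix.mulVec_add, Matrix.mulVec_smul, E.sq, map_add, map_smul,
        LinearMap.add_apply, LinearMap.smul_apply, smul_eq_mul, bf_self, bf_swap s (θ *ᵥ s)]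
      ring
    rw [QuadraticMap.map_add (qf θ), hq, hαβ, div_mul_cancel₀ _ hsq, QuadraticMap.polar_comm,
      qf_polar E, hz₀, (hperp _ hs' r).2]
    ring
  · rw [map_add, LinearMap.add_apply, hs' j, add_zero]
    exact congrFun hr j

/-- A singular vector perpendicular to given ones, outside the span of their images. -/
theorem exists_perp (E : ES θ c) {k : ℕ} (v : Fin k → V)
    (h : finrank F (radical (qf θ) fun i => θ *ᵥ v i) + 3 + k ≤ m + m) :
    ∃ z, qf θ z = 0 ∧ (∀ i, bf z (v i) = (0 : F)) ∧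
      z ∉ Submodule.span F (Set.range fun i => θ *ᵥ v i) := by
  obtain ⟨z, h1, h2, h3⟩ := exists_sing (qf_nd E) E.two (fun i => θ *ᵥ v i) 0
    (Or.inl (by simpa [Module.finrank_fintype_fun_eq_card] using h))
  refine ⟨z, h1, fun i => ?_, h3⟩
  have := h2 i
  rw [qf_polar E, E.sq, map_smul, QuadraticMap.polar_zero_left, smul_eq_mul] at this
  exact ((mul_eq_zero.1 this).resolve_left E.two |> mul_eq_zero.1).resolve_left (c_ne E)

omit [Fintype F] in
theorem not_line_of_span (E : ES θ c) {a z : V} {k : ℕ} {v : Fin k → V}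
    (h : z ∉ Submodule.span F (Set.range fun i => θ *ᵥ v i)) {i j : Fin k} (hi : v i = a)
    (hj : v j = θ *ᵥ a) : z ∉ line θ a := fun hz => by
  obtain ⟨α, β, rfl⟩ := mem_line.1 hz
  refine h (Submodule.add_mem _ (Submodule.smul_mem _ _ ?_)
    (Submodule.smul_mem _ _ (Submodule.subset_span ⟨i, by rw [← hi]⟩)))
  have : a = c⁻¹ • (θ *ᵥ v j) := by rw [hj, E.sq, inv_smul_smul₀ (c_ne E)]
  rw [this]
  exact Submodule.smul_mem _ _ (Submodule.subset_span ⟨j, rfl⟩)

/-- The root element of the line of `e`. -/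
def Mel (θ : Matrix (Fin m ⊕ Fin m) (Fin m ⊕ Fin m) F) (c : F) (e : Fin m ⊕ Fin m → F) (s : F) :
    GL (Fin m ⊕ Fin m) F :=
  sT (θ *ᵥ e) s * sT e (-(c * s))

omit [Fintype F] in
theorem Mel_mem (e : V) (s : F) : Mel θ c e s ∈ Cfsg.spGL m F := mul_mem (sT_mem _ _) (sT_mem _ _)

omit [Fintype F] in
theorem Mel_apply (E : ES θ c) {e : V} (he : qf θ e = 0) (s : F) (y : V) :
    (Mel θ c e s : M2m) *ᵥ y =
      y + ((s * bf y (θ *ᵥ e)) • (θ *ᵥ e) - (c * s * bf y e) • e) := by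
  have he' : bf e (θ *ᵥ e) = (0 : F) := he
  rw [Mel, Units.val_mul, ← Matrix.mulVec_mulVec, tv_apply, tv_apply]
  simp only [map_add, map_smul, LinearMap.add_apply, LinearMap.smul_apply, he', smul_eq_mul, mul_zero,
    add_zero]
  module

omit [Fintype F] in
theorem Mel_comm (E : ES θ c) {e : V} (he : qf θ e = 0) (s : F) (y : V) :
    (Mel θ c e s : M2m) *ᵥ (θ *ᵥ y) = θ *ᵥ ((Mel θ c e s : M2m) *ᵥ y) := by
  rw [Mel_apply E he, Mel_apply E he]
  simp only [E.adj, E.sq, Matrix.mulVec_add, Matrix.mulVec_sub, Matrix.mulVec_smul, map_smul,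
    smul_eq_mul]
  module

/-- The hypotheses on an overgroup. -/
structure Ov (θ : Matrix (Fin m ⊕ Fin m) (Fin m ⊕ Fin m) F) (c : F)
    (K : Subgroup (GL (Fin m ⊕ Fin m) F)) : Prop where
  le : K ≤ Cfsg.spGL m F
  cent : ∀ g ∈ Cfsg.spGL m F, (∀ x, (g : M2m) *ᵥ (θ *ᵥ x) = θ *ᵥ ((g : M2m) *ᵥ x)) → g ∈ K
  mel : ∀ e, qf θ e = 0 → ∀ s, Mel θ c e s ∈ K

variable {K : Subgroup (GL (Fin m ⊕ Fin m) F)}

omit [Fintype F] in
theorem conj_pair {k : GL (Fin m ⊕ Fin m) F} (hk : k ∈ Cfsg.spGL m F) (u v : V) (s t : F) :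
    k * (sT u s * sT v t) * k⁻¹ = sT ((k : M2m) *ᵥ u) s * sT ((k : M2m) *ᵥ v) t := by
  rw [← conj_sT hk, ← conj_sT hk]; group

/-- The product of three transvections of a plane. -/
def P3 (x y : Fin m ⊕ Fin m → F) (α β γ : F) : GL (Fin m ⊕ Fin m) F := sT x α * sT y β * sT x γ

/-- The involution of a plane. -/
def Ninv (x y v : Fin m ⊕ Fin m → F) : Fin m ⊕ Fin m → F :=
  v - (2 * (bf v y : F)) • x + (2 * (bf v x : F)) • y

omit [Fintype F] in
theorem tv_add (v : V) (s t : F) : sT v s * sT v t = sT v (s + t) := gl_ext fun u => by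
  simp only [Units.val_mul, ← Matrix.mulVec_mulVec, tv_apply, map_add, map_smul, LinearMap.add_apply,
    LinearMap.smul_apply, bf_self, smul_eq_mul]
  module

omit [Fintype F] in
theorem P3_apply {x y : V} (hxy : bf x y = (1 : F)) (α β γ : F) (u : V) :
    (P3 x y α β γ : M2m) *ᵥ u =
      u + (γ * bf u x + α * ((1 - β * γ) * bf u x - β * bf u y)) • x +
        (β * (bf u y + γ * bf u x)) • y := by
  have hyx : bf y x = (-1 : F) := by rw [bf_swap, hxy]
  simp only [P3, Units.val_mul, ← Matrix.mulVec_mulVec, tv_apply, map_add, map_smul,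
    LinearMap.add_apply, LinearMap.smul_apply, bf_self, hxy, hyx, smul_eq_mul]
  module

/-- A mixed element gives the involution of a hyperbolic plane. -/
theorem exists_plane (E : ES θ c) (O : Ov θ c K) {a b : V} (hb : b ∉ line θ a) (ha0 : a ≠ 0)
    (hab : bf a b = (0 : F)) (hK : ∀ s, sT b s * sT a (-(c * s)) ∈ K) :
    ∃ e y : V, qf θ e = 0 ∧ e ≠ 0 ∧ bf (θ *ᵥ e) y = (1 : F) ∧ bf e y = (0 : F) ∧
      ∃ g ∈ K, ∀ v, (g : M2m) *ᵥ v = Ninv (θ *ᵥ e) y v := by
  have hn := E.dim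
  -- a line meeting the perpendicular of the plane in one point
  obtain ⟨e, he, hea, heb, hne, he0⟩ : ∃ e, qf θ e = 0 ∧ bf e a = (0 : F) ∧ bf e b = (0 : F) ∧
      ((bf (θ *ᵥ e) a : F) ≠ 0 ∨ (bf (θ *ᵥ e) b : F) ≠ 0) ∧ e ≠ 0 := by
    obtain ⟨z, hz, hzv, -⟩ : ∃ z, qf θ z = 0 ∧ ((bf z a = (0 : F) ∧ bf z b = (0 : F)) ∧
        ((bf (θ *ᵥ z) a : F) ≠ 0 ∨ (bf (θ *ᵥ z) b : F) ≠ 0)) ∧ True := by
      by_cases h : θ *ᵥ a ∈ Submodule.span F (Set.range ![a, b])
      · exfalso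
        obtain ⟨d, hd⟩ := (Submodule.mem_span_range_iff_exists_fun F).1 h
        rw [Fin.sum_univ_two] at hd
        change d 0 • a + d 1 • b = θ *ᵥ a at hd
        by_cases h1 : d 1 = 0
        · rw [h1, zero_smul, add_zero] at hd
          exact one_ne_zero (α := F) (noeig E (α := -(d 0)) (β := 1)
            (by rw [one_smul, ← hd]; module) ha0).2
        · refine hb (mem_line.2 ⟨-(d 0 / d 1), (d 1)⁻¹, smul_right_injective V h1 ?_⟩)
          show d 1 • b = d 1 • ((-(d 0 / d 1)) • a + (d 1)⁻¹ • (θ *ᵥ a))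
          rw [smul_add, smul_smul, smul_smul, mul_neg, mul_div_cancel₀ _ h1, mul_inv_cancel₀ h1,
            one_smul, ← hd]
          module
      · by_cases hqa : qf θ a = 0
        · have hli2 : LinearIndependent F ![a, b] := LinearIndependent.pair_iff.2 fun s t h' => by
            by_cases ht : t = 0
            · rw [ht, zero_smul, add_zero, smul_eq_zero] at h'
              exact ⟨h'.resolve_right ha0, ht⟩
            · exfalso
              refine hb (mem_line.2 ⟨-(s / t), 0, smul_right_injective V ht ?_⟩)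
              show t • b = t • ((-(s / t)) • a + (0 : F) • (θ *ᵥ a))
              rw [zero_smul, add_zero, smul_smul, mul_neg, mul_div_cancel₀ _ ht, neg_smul]
              exact eq_neg_of_add_eq_zero_right h'
          have hli : LinearIndependent F ![a, b, θ *ᵥ a] := by
            have e : ![a, b, θ *ᵥ a] = Fin.snoc ![a, b] (θ *ᵥ a) := by
              funext i; fin_cases i <;> rfl
            rw [e]; exact linearIndependent_finSnoc.2 ⟨hli2, h⟩
          obtain ⟨z, hz, hzv, -⟩ := exists_vec_of E hli ![0, 0, 1] (Or.inr ⟨2, fun j => by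
            show bf (θ *ᵥ (θ *ᵥ a)) (![a, b, θ *ᵥ a] j) = (0 : F)
            rw [E.sq, map_smul, LinearMap.smul_apply]
            fin_cases j
            · simp [bf_self]
            · simp [hab]
            · simp [show bf a (θ *ᵥ a) = (0 : F) from hqa], by simp⟩)
          refine ⟨z, hz, ⟨⟨hzv 0, hzv 1⟩, Or.inl ?_⟩, trivial⟩
          rw [E.adj, show bf z (θ *ᵥ a) = (1 : F) from hzv 2]
          exact neg_ne_zero.2 one_ne_zero
        · have hrad := finrank_radical_lt E ![a, b] (i := 0) (j := 0)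
            (show (bf (θ *ᵥ a) a : F) ≠ 0 by rw [bf_swap]; exact neg_ne_zero.2 hqa)
          obtain ⟨z, hz, hzv, hzT⟩ := exists_avoid E ![a, b]
            (LinearMap.ker (bf.flip (θ *ᵥ a)) ⊓ LinearMap.ker (bf.flip (θ *ᵥ b))) (by omega)
            (fun hle => by
              have hmem := mem_span_of_perp (qf_nd E) (a := a) fun x hx => by
                rw [qf_polar E, show bf x (θ *ᵥ a) = (0 : F) from (hle hx).1, mul_zero]
              obtain ⟨d, hd⟩ := (Submodule.mem_span_range_iff_exists_fun F).1 hmem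
              rw [Fin.sum_univ_two] at hd
              change d 0 • (θ *ᵥ a) + d 1 • (θ *ᵥ b) = a at hd
              by_cases h1 : d 1 = 0
              · rw [h1, zero_smul, add_zero] at hd
                exact one_ne_zero (α := F) (noeig E (α := 1) (β := -(d 0))
                  (by rw [one_smul, neg_smul, hd, add_neg_cancel]) ha0).1
              · have ha' : a ∈ line θ a := mem_line.2 ⟨1, 0, by module⟩
                have hθa : θ *ᵥ a ∈ line θ a := mem_line.2 ⟨0, 1, by module⟩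
                have h3 : d 1 • (θ *ᵥ b) ∈ line θ a := by
                  rw [eq_sub_of_add_eq' hd]
                  exact Submodule.sub_mem _ ha' (Submodule.smul_mem _ _ hθa)
                have h4 := line_inv E (((line θ a).smul_mem_iff h1).1 h3)
                rw [E.sq] at h4
                exact hb (((line θ a).smul_mem_iff (c_ne E)).1 h4))
          refine ⟨z, hz, ⟨⟨hzv 0, hzv 1⟩, ?_⟩, trivial⟩
          by_contra hc'
          push Not at hc'
          refine hzT ⟨?_, ?_⟩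
          · show bf z (θ *ᵥ a) = (0 : F)
            rw [← neg_eq_zero, ← E.adj]; exact hc'.1
          · show bf z (θ *ᵥ b) = (0 : F)
            rw [← neg_eq_zero, ← E.adj]; exact hc'.2
    refine ⟨z, hz, hzv.1.1, hzv.1.2, hzv.2, fun h => ?_⟩
    rw [h, Matrix.mulVec_zero] at hzv
    simp at hzv
  have he' : bf e (θ *ᵥ e) = (0 : F) := he
  obtain ⟨x, hx⟩ : ∃ x, x = θ *ᵥ e := ⟨_, rfl⟩
  rw [← hx] at hne he'
  obtain ⟨w, hw⟩ : ∃ w, w = (bf x b : F) • b - (c * bf x a) • a := ⟨_, rfl⟩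
  obtain ⟨ν, hν⟩ : ∃ ν : F, ν = bf x b * bf x b - c * bf x a * bf x a := ⟨_, rfl⟩
  have hν0 : ν ≠ 0 := fun h => by
    obtain ⟨h1, h2⟩ := E.nsq (bf x b) (bf x a) (sub_eq_zero.1 (hν ▸ h))
    rcases hne with h' | h'
    · exact h' h2
    · exact h' h1
  obtain ⟨y, hy⟩ : ∃ y, y = ν⁻¹ • w := ⟨_, rfl⟩
  have hba : bf b a = (0 : F) := by rw [bf_swap, hab, neg_zero]
  have hxe : bf x e = (0 : F) := by rw [bf_swap, he', neg_zero]
  have hey : bf e y = (0 : F) := by
    rw [hy, hw]; simp [hea, heb]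
  have hye : bf y e = (0 : F) := by rw [bf_swap, hey, neg_zero]
  have hxy : bf x y = (1 : F) := by
    rw [hy, hw, map_smul, map_sub, map_smul, map_smul, smul_eq_mul, smul_eq_mul, smul_eq_mul,
      ← inv_mul_cancel₀ hν0, hν]
  have hyx : bf y x = (-1 : F) := by rw [bf_swap, hxy]
  refine ⟨e, y, he, he0, hx ▸ hxy, hey, ?_⟩
  rw [← hx]
  -- moved root elements
  have hT : ∀ r σ : F, sT (x + r • y) σ * sT e (-(c * σ)) ∈ K := by
    intro r σ
    have hk := hK (r / ν)
    obtain ⟨k, hk'⟩ : ∃ k, k = sT b (r / ν) * sT a (-(c * (r / ν))) := ⟨_, rfl⟩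
    rw [← hk'] at hk
    have h1 : (k : M2m) *ᵥ x = x + r • y := by
      rw [hk', Units.val_mul, ← Matrix.mulVec_mulVec, tv_apply, tv_apply, hy, hw]
      simp only [map_add, map_smul, LinearMap.add_apply, LinearMap.smul_apply, hab, hba, smul_eq_mul,
        mul_zero, add_zero]
      match_scalars <;> field_simp
    have h2 : (k : M2m) *ᵥ e = e := by
      rw [hk', Units.val_mul, ← Matrix.mulVec_mulVec, tv_fix hea, tv_fix heb]
    have h := mul_mem (mul_mem hk (O.mel e he σ)) (inv_mem hk)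
    rw [Mel, conj_pair (O.le hk), ← hx, h1, h2] at h
    exact h
  have hTx : ∀ σ : F, sT x σ * sT e (-(c * σ)) ∈ K := fun σ => by
    simpa using hT 0 σ
  have hTy : ∀ σ : F, sT y σ * sT e (-(c * σ)) ∈ K := by
    intro σ
    have h := mul_mem (mul_mem (hTx 1) (hT 1 σ)) (inv_mem (hTx 1))
    rw [conj_pair (O.le (hTx 1))] at h
    have h1 : ((sT x 1 * sT e (-(c * 1)) : GL (Fin m ⊕ Fin m) F) : M2m) *ᵥ (x + (1 : F) • y) = y := by
      have h0 : bf (x + (1 : F) • y) e = (0 : F) := by simp [hxe, hye]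
      rw [Units.val_mul, ← Matrix.mulVec_mulVec, tv_fix h0, tv_apply]
      simp [bf_self, hyx]
    have h2 : ((sT x 1 * sT e (-(c * 1)) : GL (Fin m ⊕ Fin m) F) : M2m) *ᵥ e = e := by
      have h0 : bf e x = (0 : F) := he'
      rw [Units.val_mul, ← Matrix.mulVec_mulVec, tv_fix (bf_self e), tv_fix h0]
    rw [h1, h2] at h
    exact h
  have hcx : ∀ s t : F, Commute (sT x s) (sT e t) := fun s t => tv_comm hxe s t
  have hcy : ∀ s t : F, Commute (sT y s) (sT e t) := fun s t => tv_comm hye s t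
  have hP3 : ∀ α β γ : F, ∃ τ : F, P3 x y α β γ * sT e τ ∈ K := by
    intro α β γ
    refine ⟨-(c * α) + (-(c * β) + -(c * γ)), ?_⟩
    rw [← tv_add, ← tv_add]
    have h := mul_mem (mul_mem (hTx α) (hTy β)) (hTx γ)
    convert h using 1
    have h1 := (hcx γ (-(c * α))).eq
    have h2 := (hcx γ (-(c * β))).eq
    have h3 := (hcy β (-(c * α))).eq
    calc P3 x y α β γ * (sT e (-(c * α)) * (sT e (-(c * β)) * sT e (-(c * γ))))
        = sT x α * sT y β * (sT x γ * sT e (-(c * α))) * sT e (-(c * β)) * sT e (-(c * γ)) := by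
          rw [P3]; group
      _ = sT x α * (sT y β * sT e (-(c * α))) * (sT x γ * sT e (-(c * β))) * sT e (-(c * γ)) := by
          rw [h1]; group
      _ = _ := by rw [h2, h3]; group
  have hPc : ∀ α β γ τ : F, Commute (P3 x y α β γ) (sT e τ) := fun α β γ τ =>
    ((hcx α τ).mul_left (hcy β τ)).mul_left (hcx γ τ)
  obtain ⟨p, q, hq, hpq⟩ : ∃ p q : F, q ≠ 0 ∧ p * p + q * q = -1 := by
    haveI : NeZero (ringChar F) := ⟨CharP.char_ne_zero_of_finite F _⟩
    obtain ⟨p, q, h⟩ := CharP.sq_add_sq F (ringChar F) (-1)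
    rw [Int.cast_neg, Int.cast_one] at h
    by_cases hq : (q : F) = 0
    · refine ⟨q, p, fun hp => ?_, by linear_combination h⟩
      rw [hp, hq] at h
      simp at h
    · exact ⟨p, q, hq, by linear_combination h⟩
  obtain ⟨ti, hiK⟩ := hP3 1 1 1
  obtain ⟨tj, hjK⟩ := hP3 ((1 - p) / q) q ((1 + p) / q)
  obtain ⟨I, hI⟩ : ∃ I, I = P3 x y 1 1 1 := ⟨_, rfl⟩
  obtain ⟨J, hJ⟩ : ∃ J, J = P3 x y ((1 - p) / q) q ((1 + p) / q) := ⟨_, rfl⟩
  refine ⟨I * J * (J * I)⁻¹, ?_, fun v => ?_⟩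
  · have h := mul_mem (mul_mem hiK hjK) (inv_mem (mul_mem hjK hiK))
    rw [← hI, ← hJ] at h
    convert h using 1
    have c1 : Commute I (sT e tj) := hI ▸ hPc _ _ _ _
    have c2 : Commute J (sT e ti) := hJ ▸ hPc _ _ _ _
    have c3 : Commute (sT e ti) (sT e tj) := tv_comm (bf_self e) _ _
    calc I * J * (J * I)⁻¹ = I * J * (sT e ti * sT e tj) * (J * I * (sT e tj * sT e ti))⁻¹ := by
          rw [c3.eq]; group
      _ = I * (J * sT e ti) * sT e tj * (J * (I * sT e tj) * sT e ti)⁻¹ := by group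
      _ = _ := by rw [c2.eq, c1.eq]; group
  · have key : ∀ u, ((I * J : GL (Fin m ⊕ Fin m) F) : M2m) *ᵥ u =
        Ninv x y (((J * I : GL (Fin m ⊕ Fin m) F) : M2m) *ᵥ u) := by
      intro u
      rw [Units.val_mul, Units.val_mul, ← Matrix.mulVec_mulVec, ← Matrix.mulVec_mulVec, hI, hJ,
        P3_apply hxy, P3_apply hxy, P3_apply hxy, P3_apply hxy, Ninv]
      simp only [map_add, map_smul, LinearMap.add_apply, LinearMap.smul_apply, bf_self, hxy, hyx,
        smul_eq_mul]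
      match_scalars <;> field_simp <;>
        first
        | ring1
        | linear_combination ((bf u x : F)) * hpq
        | linear_combination (-(bf u x : F)) * hpq
        | linear_combination (2 * (bf u x : F)) * hpq
        | linear_combination (-2 * (bf u x : F)) * hpq
        | linear_combination ((bf u y : F)) * hpq
        | linear_combination (-(bf u y : F)) * hpq
        | linear_combination (2 * (bf u y : F)) * hpq
        | linear_combination (-2 * (bf u y : F)) * hpq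
    rw [Units.val_mul (I * J) (J * I)⁻¹, ← Matrix.mulVec_mulVec, key, Matrix.mulVec_mulVec,
      Units.mul_inv, Matrix.one_mulVec]

/-- The long root group element of a hyperbolic pair product. -/
def Short (g : GL (Fin m ⊕ Fin m) F) (x z : Fin m ⊕ Fin m → F) : Prop :=
  ∀ v, (g : Matrix (Fin m ⊕ Fin m) (Fin m ⊕ Fin m) F) *ᵥ v = v + (bf v z : F) • x + (bf v x : F) • z

omit [Fintype F] in
theorem Ninv_conj {g k : GL (Fin m ⊕ Fin m) F} {x y : V} (hk : k ∈ Cfsg.spGL m F)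
    (hg : ∀ v, (g : M2m) *ᵥ v = Ninv x y v) (v : V) :
    ((k * g * k⁻¹ : GL (Fin m ⊕ Fin m) F) : M2m) *ᵥ v =
      Ninv ((k : M2m) *ᵥ x) ((k : M2m) *ᵥ y) v := by
  obtain ⟨u, rfl⟩ : ∃ u, (k : M2m) *ᵥ u = v := ⟨((k⁻¹ : GL (Fin m ⊕ Fin m) F) : M2m) *ᵥ v, by
    rw [Matrix.mulVec_mulVec, Units.mul_inv, Matrix.one_mulVec]⟩
  rw [Units.val_mul, Units.val_mul, ← Matrix.mulVec_mulVec, ← Matrix.mulVec_mulVec,
    show ((k⁻¹ : GL (Fin m ⊕ Fin m) F) : M2m) *ᵥ ((k : M2m) *ᵥ u) = u by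
      rw [Matrix.mulVec_mulVec, Units.inv_mul, Matrix.one_mulVec], hg]
  simp only [Ninv, Matrix.mulVec_add, Matrix.mulVec_sub, Matrix.mulVec_smul, bf_isometry hk]

omit [Fintype F] in
theorem short_comm {g₁ g₂ : GL (Fin m ⊕ Fin m) F} {x z₁ z₂ : V} (h1 : Short g₁ x z₁)
    (h2 : Short g₂ x z₂) (hx1 : bf x z₁ = (0 : F)) (hx2 : bf x z₂ = (0 : F)) :
    g₁ * g₂ * (g₂ * g₁)⁻¹ = sT x (2 * bf z₂ z₁) := by
  rw [mul_inv_eq_iff_eq_mul]
  refine gl_ext fun v => ?_
  have hz1 : bf z₁ x = (0 : F) := by rw [bf_swap, hx1, neg_zero]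
  have hz2 : bf z₂ x = (0 : F) := by rw [bf_swap, hx2, neg_zero]
  simp only [Units.val_mul, ← Matrix.mulVec_mulVec, h1 _, h2 _, tv_apply, map_add, map_smul,
    LinearMap.add_apply, LinearMap.smul_apply, smul_eq_mul, hx1, hx2, hz1, hz2, bf_self,
    bf_swap z₂ z₁]
  module

/-- The plane involution gives a transvection group. -/
theorem exists_centre (E : ES θ c) (O : Ov θ c K) {a b : V} (hb : b ∉ line θ a) (ha0 : a ≠ 0)
    (hab : bf a b = (0 : F)) (hK : ∀ s, sT b s * sT a (-(c * s)) ∈ K) :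
    ∃ x, qf θ x = 0 ∧ x ≠ 0 ∧ Centre K x := by
  have hn := E.dim
  obtain ⟨e, y, he, he0, hxy, hey, N, hN, hNv⟩ := exists_plane E O hb ha0 hab hK
  obtain ⟨x, hx⟩ : ∃ x, x = θ *ᵥ e := ⟨_, rfl⟩
  rw [← hx] at hxy hNv
  have hqx : qf θ x = 0 := by
    show bf x (θ *ᵥ x) = (0 : F)
    rw [hx, E.sq, map_smul, bf_swap, show bf e (θ *ᵥ e) = (0 : F) from he, neg_zero, smul_zero]
  have hx0 : x ≠ 0 := fun h => by rw [h] at hxy; simp at hxy
  refine ⟨x, hqx, hx0, ?_⟩
  have hyx : bf y x = (-1 : F) := by rw [bf_swap, hxy]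
  have hee : bf e (θ *ᵥ e) = (0 : F) := he
  have hye0 : bf y e = (0 : F) := by rw [bf_swap, hey, neg_zero]
  have hyθe : bf y (θ *ᵥ e) = (-1 : F) := hx ▸ hyx
  have hxe : bf x e = (0 : F) := by rw [hx, bf_swap, hee, neg_zero]
  -- the complement of the plane
  obtain ⟨-, s, hs, hsq⟩ := exists_split E he (u := e) (y := y)
    (Or.inr (by rw [hyθe]; exact neg_ne_zero.2 one_ne_zero))
  -- short root elements
  have hshort : ∀ s : V, (∀ j, bf s (![e, θ *ᵥ e, y, θ *ᵥ y] j) = (0 : F)) →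
      ∃ g ∈ K, Short g x ((-2 : F) • (c⁻¹ • (θ *ᵥ s) - (qf θ s / (2 * c)) • e)) := by
    intro s hs
    have hse : bf s e = (0 : F) := hs 0
    have hsx : bf s (θ *ᵥ e) = (0 : F) := hs 1
    have hsy : bf s y = (0 : F) := hs 2
    have hsy' : bf s (θ *ᵥ y) = (0 : F) := hs 3
    have hes : bf e s = (0 : F) := by rw [bf_swap, hse, neg_zero]
    have heθs : bf e (θ *ᵥ s) = (0 : F) := by rw [← symm' E, hsx]
    have hθse : bf (θ *ᵥ s) e = (0 : F) := by rw [bf_swap, heθs, neg_zero]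
    have hxs : bf (θ *ᵥ e) s = (0 : F) := by rw [bf_swap, hsx, neg_zero]
    have hθθ : bf (θ *ᵥ s) (θ *ᵥ e) = (0 : F) := by rw [E.adj, E.sq, map_smul, hse, smul_zero, neg_zero]
    have hθθ' : bf (θ *ᵥ e) (θ *ᵥ s) = (0 : F) := by rw [bf_swap, hθθ, neg_zero]
    have hys : bf y s = (0 : F) := by rw [bf_swap, hsy, neg_zero]
    have hyθs : bf y (θ *ᵥ s) = (0 : F) := by rw [← symm' E, hsy']
    have hqs : bf s (θ *ᵥ s) = qf θ s := rfl
    have hqs' : bf (θ *ᵥ s) s = -qf θ s := by rw [bf_swap, hqs]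
    have hθe : bf (θ *ᵥ e) e = (0 : F) := by rw [bf_swap, hee, neg_zero]
    have hc0 := c_ne E
    have h20 := E.two
    obtain ⟨ρ, hρ⟩ : ∃ ρ : F, ρ = qf θ s / (2 * c) := ⟨_, rfl⟩
    let T : V →ₗ[F] V := LinearMap.id + (bf.flip s + ρ • bf.flip (θ *ᵥ e)).smulRight e +
      (bf.flip e).smulRight s - (c⁻¹ • bf.flip (θ *ᵥ s) + ρ • bf.flip e).smulRight (θ *ᵥ e) -
      (c⁻¹ • bf.flip (θ *ᵥ e)).smulRight (θ *ᵥ s)
    have hT : ∀ v, T v = v + (bf v s + ρ * bf v (θ *ᵥ e)) • e + (bf v e : F) • s -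
        (c⁻¹ * bf v (θ *ᵥ s) + ρ * bf v e) • (θ *ᵥ e) - (c⁻¹ * bf v (θ *ᵥ e)) • (θ *ᵥ s) := fun v => rfl
    have hiso : ∀ v w, bf (T v) (T w) = (bf v w : F) := fun v w => by
      rw [hT, hT]
      simp only [map_add, map_sub, map_smul, LinearMap.add_apply, LinearMap.sub_apply,
        LinearMap.smul_apply, smul_eq_mul, bf_self, hse, hsx, hes, heθs, hθse, hxs, hθθ, hθθ', hqs,
        hqs', hθe, hee, bf_swap w e, bf_swap w (θ *ᵥ e), bf_swap w s, bf_swap w (θ *ᵥ s)]
      rw [hρ]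
      field_simp
      ring
    have hTi : Function.Injective T := (injective_iff_map_eq_zero T).2 fun v hv => by
      by_contra hv0
      obtain ⟨-, z, hz⟩ := (isRefl_sympForm (F := F) m).nondeg v hv0
      exact hz (show bf v z = (0 : F) by rw [← hiso, hv, map_zero, LinearMap.zero_apply])
    have hu : IsUnit (LinearMap.toMatrix' T) := Matrix.mulVec_injective_iff_isUnit.1 fun a b h =>
      hTi (by simpa only [LinearMap.toMatrix'_mulVec] using h)
    obtain ⟨k, hk'⟩ := hu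
    have hk'' : ∀ v, (k : M2m) *ᵥ v = T v := fun v => by rw [hk', LinearMap.toMatrix'_mulVec]
    have hksp : k ∈ Cfsg.spGL m F := fun v w => by
      show bf ((k : M2m) *ᵥ v) ((k : M2m) *ᵥ w) = (bf v w : F)
      rw [hk'', hk'', hiso]
    have hk : k ∈ K := O.cent k hksp fun v => by
      rw [hk'', hk'', hT, hT]
      simp only [E.adj, E.sq, map_smul, Matrix.mulVec_add, Matrix.mulVec_sub, Matrix.mulVec_smul,
        smul_eq_mul, smul_smul]
      match_scalars <;> field_simp <;> ring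
    have k1 : (k : M2m) *ᵥ x = x := by
      rw [hk'', hT, hx]
      simp [hxs, hθθ', hθe, bf_self]
    have k2 : (k : M2m) *ᵥ y = y + (c⁻¹ • (θ *ᵥ s) - (qf θ s / (2 * c)) • e) := by
      rw [hk'', hT, hys, hyθs, hye0, hyθe, ← hρ]
      module
    refine ⟨k * N * k⁻¹ * N, mul_mem (mul_mem (mul_mem hk hN) (inv_mem hk)) hN, fun v => ?_⟩
    rw [← hρ] at k2 ⊢
    rw [Units.val_mul, ← Matrix.mulVec_mulVec, hNv, Ninv_conj hksp hNv, k1, k2]
    have hxs' : bf x (θ *ᵥ s) = (0 : F) := hx ▸ hθθ'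
    have hsx' : bf (θ *ᵥ s) x = (0 : F) := hx ▸ hθθ
    have hsy'' : bf (θ *ᵥ s) y = (0 : F) := by rw [bf_swap, hyθs, neg_zero]
    have hex : bf e x = (0 : F) := by rw [bf_swap, hxe, neg_zero]
    simp only [Ninv, map_add, map_sub, map_smul, LinearMap.add_apply, LinearMap.sub_apply,
      LinearMap.smul_apply, smul_eq_mul, bf_self, hxy, hyx, hxs', hsx', hsy'', hyθs, hxe, hex, hey,
      hye0]
    module
  intro τ
  obtain ⟨lam, hlam⟩ : ∃ lam : F, lam = τ * c / (8 * qf θ s) := ⟨_, rfl⟩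
  have hs2 : ∀ j, bf (lam • (θ *ᵥ s)) (![e, θ *ᵥ e, y, θ *ᵥ y] j) = (0 : F) := fun j => by
    have s0 : bf s e = (0 : F) := hs 0
    have s1 : bf s (θ *ᵥ e) = (0 : F) := hs 1
    have s2 : bf s y = (0 : F) := hs 2
    have s3 : bf s (θ *ᵥ y) = (0 : F) := hs 3
    fin_cases j <;> simp [E.adj, E.sq, s0, s1, s2, s3]
  obtain ⟨g₁, hg₁, e₁⟩ := hshort s hs
  obtain ⟨g₂, hg₂, e₂⟩ := hshort _ hs2
  have hse : bf s e = (0 : F) := hs 0
  have hes : bf e s = (0 : F) := by rw [bf_swap, hse, neg_zero]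
  have hsx : bf x (θ *ᵥ s) = (0 : F) := by
    rw [hx, E.adj, E.sq, map_smul, hes, smul_zero, neg_zero]
  have hxs : bf x s = (0 : F) := by
    rw [hx, bf_swap, show bf s (θ *ᵥ e) = (0 : F) from hs 1, neg_zero]
  have heθs : bf e (θ *ᵥ s) = (0 : F) := by rw [← symm' E]; exact hs 1
  have h := mul_mem (mul_mem hg₁ hg₂) (inv_mem (mul_mem hg₂ hg₁))
  rw [short_comm e₁ e₂ (by simp [hsx, hxe]) (by simp [Matrix.mulVec_smul, E.sq, hxs, hxe])] at h
  convert h using 2
  have hc := c_ne E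
  have h8 : (8 : F) ≠ 0 := by
    rw [show (8 : F) = 2 * 2 * 2 by norm_num]
    exact mul_ne_zero (mul_ne_zero E.two E.two) E.two
  simp only [Matrix.mulVec_smul, E.sq, map_sub, map_smul, LinearMap.sub_apply, LinearMap.smul_apply,
    smul_eq_mul, bf_self, heθs, hse, show bf s (θ *ᵥ s) = qf θ s from rfl, hlam]
  field_simp
  ring

omit [Fintype F] in
theorem centre_step (E : ES θ c) (O : Ov θ c K) {z p : V} (hz : Centre K z) (hp : qf θ p = 0)
    (h1 : bf z (θ *ᵥ p) = (0 : F)) (h2 : (bf z p : F) ≠ 0) : Centre K p := by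
  have hk := O.mel p hp 1
  have hw := hz.conj hk (O.le hk)
  rw [Mel_apply E hp, h1, mul_zero, zero_smul, zero_sub, mul_one] at hw
  have hcz : -(c * bf z p) ≠ 0 := neg_ne_zero.2 (mul_ne_zero (c_ne E) h2)
  set lam := -(c * bf z p) with hlam
  rw [← neg_smul, ← hlam] at hw
  have hne : (bf z (z + lam • p) : F) ≠ 0 := by
    rw [map_add, map_smul, bf_self, zero_add, smul_eq_mul]
    exact mul_ne_zero hcz h2
  have h := hz.move hw (-(1 / bf z (z + lam • p)))
  rw [← bf_apply, neg_mul, div_mul_cancel₀ _ hne, neg_one_smul] at h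
  have := h.smul (-lam⁻¹)
  rwa [show (-lam⁻¹) • (z + -(z + lam • p)) = p by
    rw [neg_add_rev, add_comm, add_assoc, neg_add_cancel, add_zero, neg_smul_neg, smul_smul,
      inv_mul_cancel₀ hcz, one_smul]] at this

/-- One singular centre gives all centres. -/
theorem centre_all (E : ES θ c) (O : Ov θ c K) {x : V} (hx : qf θ x = 0) (hx0 : x ≠ 0)
    (hC : Centre K x) (v : V) : Centre K v := by
  have hn := E.dim
  have step : ∀ {z p : V}, qf θ p = 0 → p ∉ line θ z → z ≠ 0 → qf θ z = 0 → Centre K z → Centre K p := by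
    intro z p hp hout hz0 hzq hz
    obtain ⟨w, hw, hwv⟩ : ∃ w, qf θ w = 0 ∧ ∀ i, bf w (![z, θ *ᵥ z, p, θ *ᵥ p] i) =
        (![1, 0, 1, 0] : Fin 4 → F) i := by
      by_cases h0 : bf p z = (0 : F) ∧ bf p (θ *ᵥ z) = (0 : F)
      · obtain ⟨w, hw, hwv, -⟩ := exists_vec_of E (li_four E hz0 hout) ![1, 0, 1, 0]
          (Or.inr ⟨0, fun j => by
            show bf (θ *ᵥ z) (![z, θ *ᵥ z, p, θ *ᵥ p] j) = (0 : F)
            fin_cases j
            · show bf (θ *ᵥ z) z = (0 : F)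
              rw [bf_swap, show bf z (θ *ᵥ z) = (0 : F) from hzq, neg_zero]
            · exact bf_self _
            · show bf (θ *ᵥ z) p = (0 : F)
              rw [bf_swap, h0.2, neg_zero]
            · show bf (θ *ᵥ z) (θ *ᵥ p) = (0 : F)
              rw [E.adj, E.sq, map_smul, bf_swap, h0.1, neg_zero, smul_zero, neg_zero], by simp⟩)
        exact ⟨w, hw, hwv⟩
      · exact (exists_split E hzq (not_and_or.1 h0)).1 _
    have w1 : bf w z = (1 : F) := hwv 0
    have w2 : bf w (θ *ᵥ z) = (0 : F) := hwv 1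
    have w3 : bf w p = (1 : F) := hwv 2
    have w4 : bf w (θ *ᵥ p) = (0 : F) := hwv 3
    have hwC : Centre K w := centre_step E O hz hw (by rw [← symm' E, w2])
      (by rw [bf_swap, w1]; exact neg_ne_zero.2 one_ne_zero)
    exact centre_step E O hwC hp w4 (by rw [w3]; exact one_ne_zero)
  have hall : ∀ p, qf θ p = 0 → p ≠ 0 → Centre K p := by
    intro p hp hp0
    by_cases hpx : p ∈ line θ x
    swap
    · exact step hp hpx hx0 hx hC
    obtain ⟨u, hu, huv, -⟩ := exists_vec_line E hx0 ![1, 0] (by simp)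
    have hux : u ∉ line θ x := fun hm => by
      obtain ⟨α, β, rfl⟩ := mem_line.1 hm
      have h1 : bf (α • x + β • (θ *ᵥ x)) x = (1 : F) := huv
      rw [map_add, map_smul, map_smul, LinearMap.add_apply, LinearMap.smul_apply, LinearMap.smul_apply,
        bf_self, bf_swap x (θ *ᵥ x), show bf x (θ *ᵥ x) = (0 : F) from hx, neg_zero, smul_zero,
        smul_zero, add_zero] at h1
      exact zero_ne_one h1
    have hu0 : u ≠ 0 := fun h => hux (h ▸ Submodule.zero_mem _)
    refine step hp (fun h => ?_) hu0 hu (step hu hux hx0 hx hC)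
    obtain ⟨α, β, e⟩ := mem_line.1 h
    obtain ⟨h1, h2⟩ := mem_of_comb E (fun y => line_inv E) hux (α := α) (β := β)
      (e ▸ hpx)
    exact hp0 (by rw [e, h1, h2, zero_smul, zero_smul, add_zero])
  by_cases hv0 : v = 0
  · rw [hv0, ← zero_smul F x]; exact hC.smul 0
  obtain ⟨u, hu, u1, u2⟩ := exists_vec_line E hv0 ![1, 1] (by simp)
  change bf u v = (1 : F) at u1
  change bf u (θ *ᵥ v) = (1 : F) at u2
  have hu0 : u ≠ 0 := fun h => by rw [h] at u1; simp at u1
  by_cases hvq : qf θ v = 0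
  · exact hall v hvq hv0
  set lam := -(qf θ v / 2) with hlam
  have hwq : qf θ (v + lam • u) = 0 := by
    show bf (v + lam • u) (θ *ᵥ (v + lam • u)) = (0 : F)
    have h0 : bf u (θ *ᵥ u) = (0 : F) := hu
    simp only [Matrix.mulVec_add, Matrix.mulVec_smul, map_add, map_smul, LinearMap.add_apply,
      LinearMap.smul_apply, smul_eq_mul, symm' E u v, u2, h0, hlam, ← qf_apply]
    field_simp [E.two]
    ring
  have hw0 : v + lam • u ≠ 0 := fun h => hvq (by
    rw [eq_neg_of_add_eq_zero_left h, QuadraticMap.map_neg, QuadraticMap.map_smul, hu, smul_zero])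
  have hne : (bf (v + lam • u) u : F) ≠ 0 := by
    rw [map_add, map_smul, LinearMap.add_apply, LinearMap.smul_apply, bf_self, smul_zero, add_zero,
      bf_swap, u1]
    exact neg_ne_zero.2 one_ne_zero
  have h := (hall _ hwq hw0).move (hall u hu hu0) (-(lam / bf (v + lam • u) u))
  rw [← bf_apply, neg_mul, div_mul_cancel₀ _ hne] at h
  rwa [show v + lam • u + (-lam) • u = v by module] at h

/-- An element not normalising the field moves a singular line. -/
theorem exists_moved (E : ES θ c) {g : GL (Fin m ⊕ Fin m) F}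
    (hg : ∀ A B : F, ¬ ∀ x, θ *ᵥ ((g : M2m) *ᵥ x) = A • ((g : M2m) *ᵥ x) + B • ((g : M2m) *ᵥ (θ *ᵥ x))) :
    ∃ e, qf θ e = 0 ∧ e ≠ 0 ∧ (g : M2m) *ᵥ (θ *ᵥ e) ∉ line θ ((g : M2m) *ᵥ e) := by
  have hn := E.dim
  have hinj : Function.Injective fun x : V => (g : M2m) *ᵥ x :=
    Matrix.mulVec_injective_iff_isUnit.2 g.isUnit
  by_contra hc
  push Not at hc
  have hcoef : ∀ e, qf θ e = 0 → ∃ A B : F,
      θ *ᵥ ((g : M2m) *ᵥ e) = A • ((g : M2m) *ᵥ e) + B • ((g : M2m) *ᵥ (θ *ᵥ e)) := by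
    intro e he
    by_cases he0 : e = 0
    · exact ⟨0, 0, by simp [he0]⟩
    obtain ⟨α, β, h⟩ := mem_line.1 (hc e he he0)
    have hβ : β ≠ 0 := fun hβ => by
      rw [hβ, zero_smul, add_zero, ← Matrix.mulVec_smul] at h
      exact one_ne_zero (α := F) (noeig E (α := -α) (β := 1) (by rw [hinj h]; module) he0).2
    refine ⟨-(α / β), β⁻¹, smul_right_injective V hβ ?_⟩
    show β • (θ *ᵥ ((g : M2m) *ᵥ e)) =
      β • ((-(α / β)) • ((g : M2m) *ᵥ e) + β⁻¹ • ((g : M2m) *ᵥ (θ *ᵥ e)))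
    rw [smul_add, smul_smul, smul_smul, mul_neg, mul_div_cancel₀ _ hβ, mul_inv_cancel₀ hβ, h]
    module
  choose! A B hAB using hcoef
  have hpair : ∀ {u v : V}, qf θ u = 0 → qf θ v = 0 → u ≠ 0 → v ∉ line θ u →
      bf v (θ *ᵥ u) = (0 : F) → A u = A v ∧ B u = B v := by
    intro u v hu hv hu0 hvout hvu
    have hsum : qf θ (u + v) = 0 := by
      rw [QuadraticMap.map_add (qf θ), hu, hv, QuadraticMap.polar_comm, qf_polar E, hvu, mul_zero,
        add_zero, add_zero]
    have h := hAB _ hsum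
    rw [Matrix.mulVec_add, Matrix.mulVec_add, hAB u hu, hAB v hv, Matrix.mulVec_add,
      Matrix.mulVec_add] at h
    have h' : (g : M2m) *ᵥ ((A u - A (u + v)) • u + (B u - B (u + v)) • (θ *ᵥ u)) =
        (g : M2m) *ᵥ ((A (u + v) - A v) • v + (B (u + v) - B v) • (θ *ᵥ v)) := by
      simp only [Matrix.mulVec_add, Matrix.mulVec_smul]
      linear_combination (norm := module) h
    have h'' := hinj h'
    obtain ⟨h1, h2⟩ := mem_of_comb E (fun x => line_inv E) hvout
      (α := A (u + v) - A v) (β := B (u + v) - B v) (mem_line.2 ⟨_, _, h''.symm⟩)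
    rw [h1, h2, zero_smul, zero_smul, add_zero] at h''
    obtain ⟨h3, h4⟩ := noeig E h'' hu0
    exact ⟨by linear_combination h3 + h1, by linear_combination h4 + h2⟩
  obtain ⟨e₀, he₀, -, he₀out⟩ := exists_perp E (![] : Fin 0 → V) (by
    have := finrank_radical_le (θ := θ) fun i : Fin 0 => θ *ᵥ (![] : Fin 0 → V) i
    omega)
  have he₀0 : e₀ ≠ 0 := fun h => he₀out (h ▸ Submodule.zero_mem _)
  have hlink : ∀ {u v : V}, qf θ u = 0 → qf θ v = 0 → u ≠ 0 → v ≠ 0 → v ∉ line θ u →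
      u ∉ line θ v → A u = A v ∧ B u = B v := by
    intro u v hu hv hu0 hv0 hvu huv
    by_cases hz : bf v (θ *ᵥ u) = (0 : F)
    · exact hpair hu hv hu0 hvu hz
    have huv' : (bf u (θ *ᵥ v) : F) ≠ 0 := by rwa [← symm' E] at hz
    have hrad := finrank_radical_lt E ![θ *ᵥ u, θ *ᵥ v] (i := 0) (j := 1)
      (show (bf (θ *ᵥ (θ *ᵥ u)) (θ *ᵥ v) : F) ≠ 0 by
        rw [E.sq, map_smul, LinearMap.smul_apply, smul_eq_mul]
        exact mul_ne_zero (c_ne E) huv')
    let p0 : V := (c * bf u v) • u + (bf u (θ *ᵥ v) : F) • (θ *ᵥ u)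
    let p1 : V := (c * bf v u) • v + (bf v (θ *ᵥ u) : F) • (θ *ᵥ v)
    obtain ⟨z, hzq, hzv, hzT⟩ := exists_avoid E ![θ *ᵥ u, θ *ᵥ v]
      (Submodule.span F (Set.range ![p0, p1])) (by omega) (fun hle => by
        have h1 := Submodule.finrank_mono hle
        have h2 : finrank F (Submodule.span F (Set.range ![p0, p1])) ≤ 2 :=
          (finrank_range_le_card ![p0, p1]).trans_eq (Fintype.card_fin 2)
        have h3 := finrank_perpAll (R := qf θ) fun i => θ *ᵥ ![θ *ᵥ u, θ *ᵥ v] i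
        rw [Module.finrank_fintype_fun_eq_card, Fintype.card_sum, Fintype.card_fin] at h3
        omega)
    have hz0 : bf z (θ *ᵥ u) = (0 : F) := hzv 0
    have hz1 : bf z (θ *ᵥ v) = (0 : F) := hzv 1
    have hout : ∀ {u v : V}, qf θ u = 0 → (bf u (θ *ᵥ v) : F) ≠ 0 → z ∈ line θ u →
        bf z (θ *ᵥ v) = (0 : F) →
        z ∈ Submodule.span F {(c * bf u v) • u + (bf u (θ *ᵥ v) : F) • (θ *ᵥ u)} := by
      intro u v hu huv hzl hzv
      obtain ⟨α, β, rfl⟩ := mem_line.1 hzl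
      refine Submodule.mem_span_singleton.2 ⟨β / bf u (θ *ᵥ v), ?_⟩
      have e : α * bf u (θ *ᵥ v) = β * (c * bf u v) := by
        rw [map_add, map_smul, map_smul, LinearMap.add_apply, LinearMap.smul_apply,
          LinearMap.smul_apply, E.adj, E.sq, map_smul] at hzv
        simp only [smul_eq_mul] at hzv
        linear_combination hzv
      match_scalars <;> field_simp <;> linear_combination -e
    have hzu : z ∉ line θ u := fun hl => hzT (Submodule.span_mono (by simp [p0]) (hout hu huv' hl hz1))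
    have hzv' : z ∉ line θ v := fun hl => hzT (Submodule.span_mono (by simp [p1]) (hout hv hz hl hz0))
    have h1 := hpair hu hzq hu0 hzu hz0
    have h2 := hpair hv hzq hv0 hzv' hz1
    exact ⟨h1.1.trans h2.1.symm, h1.2.trans h2.2.symm⟩
  have hconst : ∀ e, qf θ e = 0 →
      θ *ᵥ ((g : M2m) *ᵥ e) = A e₀ • ((g : M2m) *ᵥ e) + B e₀ • ((g : M2m) *ᵥ (θ *ᵥ e)) := by
    intro e he
    by_cases he0 : e = 0
    · simp [he0]
    have hsymm : ∀ {u v : V}, u ≠ 0 → v ∉ line θ u → u ∉ line θ v := by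
      intro u v hu0 hv hu
      obtain ⟨α, β, huv⟩ := mem_line.1 hu
      have h := mem_of_comb E (fun x => line_inv E) hv (α := α) (β := β)
        (huv ▸ mem_line.2 ⟨1, 0, by module⟩)
      exact hu0 (by rw [huv, h.1, h.2]; module)
    by_cases hl : e ∈ line θ e₀
    · obtain ⟨u, hu, huv, huout⟩ := exists_avoid E ![θ *ᵥ e₀] (line θ e₀) (by
        have := finrank_radical_le (θ := θ) fun i => θ *ᵥ ![θ *ᵥ e₀] i
        omega) (fun hle => by
        have h1 := Submodule.finrank_mono hle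
        have h2 : finrank F (line θ e₀) ≤ 2 :=
          (finrank_range_le_card _).trans_eq (Fintype.card_fin 2)
        have h3 := finrank_perpAll (R := qf θ) fun i => θ *ᵥ ![θ *ᵥ e₀] i
        rw [Module.finrank_fintype_fun_eq_card, Fintype.card_sum, Fintype.card_fin] at h3
        omega)
      have h1 := hpair he₀ hu he₀0 huout (huv 0)
      have hu0 : u ≠ 0 := fun h => huout (h ▸ Submodule.zero_mem _)
      have hsub : line θ e ≤ line θ e₀ := Submodule.span_le.2 (by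
        rintro _ ⟨i, rfl⟩
        fin_cases i
        · exact hl
        · exact line_inv E hl)
      have hue : u ∉ line θ e := fun h => huout (hsub h)
      have h2 := hlink he hu he0 hu0 hue (hsymm he0 hue)
      rw [h1.1.trans h2.1.symm, h1.2.trans h2.2.symm]
      exact hAB e he
    have h1 := hlink he₀ he he₀0 he0 hl (hsymm he₀0 hl)
    rw [h1.1, h1.2]
    exact hAB e he
  refine hg (A e₀) (B e₀) fun v => ?_
  by_cases hv0 : v = 0
  · simp [hv0]
  obtain ⟨u, hu, -, u2⟩ := exists_vec_line E hv0 ![1, 1] (by simp)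
  change bf u (θ *ᵥ v) = (1 : F) at u2
  have hwq : qf θ (v + (-(qf θ v / 2)) • u) = 0 := by
    rw [QuadraticMap.map_add (qf θ), QuadraticMap.map_smul, hu, QuadraticMap.polar_smul_right,
      QuadraticMap.polar_comm, qf_polar E, u2]
    simp only [smul_eq_mul, mul_zero, add_zero, mul_one]
    field_simp [E.two]
    ring
  have h1 := hconst _ hwq
  have h2 := hconst _ hu
  simp only [Matrix.mulVec_add, Matrix.mulVec_smul] at h1
  linear_combination (norm := module) h1 + (qf θ v / 2) • h2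

/-- The normaliser of the field is maximal. -/
theorem gu_sp_maximal (hm : 3 ≤ m) (h2 : (2 : F) ≠ 0)
    {A : Subalgebra F (Matrix (Fin m ⊕ Fin m) (Fin m ⊕ Fin m) F)} (hA : IsFieldSubalgebra 2 A)
    (hac : IsAdjointClosedFor (Cfsg.sympForm m F) A) (hnsa : ¬ IsSelfAdjointFor (Cfsg.sympForm m F) A) :
    IsMaximalIn (Cfsg.spGL m F) (subalgebraNormalizer A ⊓ Cfsg.spGL m F) := by
  haveI : Nonempty (Fin m ⊕ Fin m) := ⟨Sum.inl ⟨0, by omega⟩⟩
  obtain ⟨θ₀, hθ₀, hθ₀1⟩ : ∃ θ ∈ A, θ ∉ Submodule.span F {(1 : M2m)} := by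
    by_contra hc
    push Not at hc
    have h1 : A.toSubmodule ≤ Submodule.span F {(1 : M2m)} := hc
    have h2 := Submodule.finrank_mono h1
    have h3 := finrank_span_singleton (K := F) (one_ne_zero : (1 : M2m) ≠ 0)
    rw [Subalgebra.finrank_toSubmodule, hA.finrank_eq, h3] at h2
    omega
  have hli₀ : LinearIndependent F ![(1 : M2m), θ₀] := by
    refine LinearIndependent.pair_iff.2 fun s t h => ?_
    by_cases ht : t = 0
    · refine ⟨?_, ht⟩
      rw [ht, zero_smul, add_zero, smul_eq_zero] at h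
      exact h.resolve_right one_ne_zero
    · exfalso
      refine hθ₀1 (Submodule.mem_span_singleton.2 ⟨-(s / t), smul_right_injective _ ht ?_⟩)
      show t • (-(s / t)) • (1 : M2m) = t • θ₀
      rw [smul_smul, mul_neg, mul_div_cancel₀ _ ht, neg_smul]
      exact (eq_neg_of_add_eq_zero_right h).symm
  have hspan₀ : ∀ k ∈ A, ∃ α β : F, k = α • (1 : M2m) + β • θ₀ := by
    intro k hk
    have heq : Submodule.span F (Set.range ![(1 : M2m), θ₀]) = A.toSubmodule := by
      refine Submodule.eq_of_le_of_finrank_le (Submodule.span_le.2 ?_) ?_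
      · rintro _ ⟨i, rfl⟩
        fin_cases i
        exacts [A.one_mem, hθ₀]
      · rw [finrank_span_eq_card hli₀, Subalgebra.finrank_toSubmodule, hA.finrank_eq]; rfl
    obtain ⟨r, hr⟩ := (Submodule.mem_span_range_iff_exists_fun F).1
      (heq.ge ((Subalgebra.mem_toSubmodule A).2 hk))
    exact ⟨r 0, r 1, by rw [← hr, Fin.sum_univ_two]; rfl⟩
  obtain ⟨e₀, d, hd⟩ := hspan₀ _ (A.mul_mem hθ₀ hθ₀)
  obtain ⟨θ', hθ', hadj⟩ := hac θ₀ hθ₀
  have hadj' : ∀ u v : V, bf (θ₀ *ᵥ u) v = (bf u (θ' *ᵥ v) : F) := hadj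
  have hnd : ∀ v : V, (∀ u, bf u v = (0 : F)) → v = 0 := fun v hv => by
    by_contra hv0
    obtain ⟨-, y, hy⟩ := (isRefl_sympForm (F := F) m).nondeg v hv0
    exact hy (show bf v y = (0 : F) by rw [bf_swap, hv, neg_zero])
  have hθ'2 : θ' * θ' = e₀ • (1 : M2m) + d • θ' := by
    refine Matrix.ext_of_mulVec_single fun i => sub_eq_zero.1 (hnd _ fun u => ?_)
    rw [map_sub, ← Matrix.mulVec_mulVec, ← hadj', ← hadj', Matrix.mulVec_mulVec, hd]
    simp only [Matrix.add_mulVec, Matrix.smul_mulVec, Matrix.one_mulVec, map_add, map_smul,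
      LinearMap.add_apply, LinearMap.smul_apply, hadj', smul_eq_mul]
    ring
  have hθ'd : θ' = d • (1 : M2m) - θ₀ := by
    have hmul : (θ' - θ₀) * (θ' + θ₀ - d • (1 : M2m)) = 0 := by
      have hcomm := hA.comm θ₀ hθ₀ θ' hθ'
      simp only [sub_mul, mul_sub, mul_add, mul_smul_comm, mul_one, hθ'2, hd, hcomm]
      module
    rcases em (θ' - θ₀ = 0) with h | h
    · exfalso
      refine hnsa fun k hk u v => ?_
      obtain ⟨α, β, rfl⟩ := hspan₀ k hk
      show bf _ v = (bf u _ : F)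
      simp [Matrix.add_mulVec, Matrix.smul_mulVec, Matrix.one_mulVec, hadj', sub_eq_zero.1 h]
    · have := CfsgLib.Aschbacher.fieldSubalgebra_mul_eq_zero hA (A.sub_mem hθ' hθ₀) hmul h
      linear_combination (norm := module) this
  obtain ⟨θ, hθdef⟩ : ∃ θ, θ = θ₀ - (d / 2) • (1 : M2m) := ⟨_, rfl⟩
  obtain ⟨c, hc⟩ : ∃ c, c = e₀ + d * d / 4 := ⟨_, rfl⟩
  have hθA : θ ∈ A := hθdef ▸ A.sub_mem hθ₀ (A.smul_mem A.one_mem _)
  have h4 : (4 : F) ≠ 0 := by
    rw [show (4 : F) = 2 * 2 by norm_num]; exact mul_ne_zero h2 h2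
  have hspan : ∀ k ∈ A, ∃ α β : F, k = α • (1 : M2m) + β • θ := fun k hk => by
    obtain ⟨α, β, rfl⟩ := hspan₀ k hk
    exact ⟨α + β * (d / 2), β, by rw [hθdef]; module⟩
  have hnz : ∀ α β : F, α • (1 : M2m) + β • θ = 0 → α = 0 ∧ β = 0 := fun α β h => by
    rw [hθdef] at h
    obtain ⟨h1, h2'⟩ := LinearIndependent.pair_iff.1 hli₀ (α - β * (d / 2)) β (by rw [← h]; module)
    rw [h2', zero_mul, sub_zero] at h1
    exact ⟨h1, h2'⟩
  have hsq : θ * θ = c • (1 : M2m) := by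
    rw [hθdef, hc]
    simp only [sub_mul, mul_sub, Matrix.smul_mul, Matrix.mul_smul, one_mul, mul_one, hd]
    match_scalars <;> field_simp <;> ring
  have E : ES θ c := by
    refine ⟨hm, h2, fun x y => ?_, fun x => ?_, fun α β h => ?_⟩
    · rw [hθdef, Matrix.sub_mulVec, Matrix.sub_mulVec, Matrix.smul_mulVec, Matrix.smul_mulVec,
        Matrix.one_mulVec, Matrix.one_mulVec, map_sub, map_sub, LinearMap.sub_apply, hadj', hθ'd,
        Matrix.sub_mulVec, Matrix.smul_mulVec, Matrix.one_mulVec]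
      simp only [map_sub, map_smul, LinearMap.smul_apply, smul_eq_mul]
      field_simp
      ring
    · rw [Matrix.mulVec_mulVec, hsq, Matrix.smul_mulVec, Matrix.one_mulVec]
    · by_contra hne
      have hmul : (α • (1 : M2m) + β • θ) * (α • (1 : M2m) + (-β) • θ) = 0 := by
        simp only [add_mul, mul_add, Matrix.smul_mul, Matrix.mul_smul, one_mul, mul_one, hsq]
        match_scalars <;> (first | ring1 | linear_combination h)
      by_cases h0 : α • (1 : M2m) + β • θ = 0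
      · exact hne (hnz _ _ h0)
      · have h1 := hnz _ _ (CfsgLib.Aschbacher.fieldSubalgebra_mul_eq_zero hA
          (A.add_mem (A.smul_mem A.one_mem _) (A.smul_mem hθA _)) hmul h0)
        exact hne ⟨h1.1, neg_eq_zero.1 h1.2⟩
  have hcomm : ∀ g : GL (Fin m ⊕ Fin m) F, (g : M2m) * θ = θ * (g : M2m) →
      g ∈ subalgebraNormalizer A := by
    intro g hg k
    have hgk : ∀ k ∈ A, (g : M2m) * k * ((g⁻¹ : GL (Fin m ⊕ Fin m) F) : M2m) = k := by
      intro k hk
      obtain ⟨α, β, rfl⟩ := hspan k hk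
      rw [mul_add, Matrix.mul_smul, Matrix.mul_smul, mul_one, hg, add_mul, Matrix.smul_mul,
        Matrix.smul_mul, Units.mul_inv, mul_assoc, Units.mul_inv, mul_one]
    refine ⟨fun hk => (hgk k hk).symm ▸ hk, fun hk => ?_⟩
    have h1 := hgk _ hk
    have h2 : (g : M2m) * k * ((g⁻¹ : GL (Fin m ⊕ Fin m) F) : M2m) = k :=
      (Units.mul_right_inj _).1 ((Units.mul_left_inj _).1 h1)
    exact h2 ▸ hk
  have hnorm : ∀ (g : GL (Fin m ⊕ Fin m) F) (a b : F),
      (∀ x, θ *ᵥ ((g : M2m) *ᵥ x) = a • ((g : M2m) *ᵥ x) + b • ((g : M2m) *ᵥ (θ *ᵥ x))) →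
      g ∈ subalgebraNormalizer A := by
    intro g a b hab
    set G := (g : M2m) with hG
    have hθG : θ * G = G * (a • (1 : M2m) + b • θ) := Matrix.ext_of_mulVec_single fun i => by
      rw [← Matrix.mulVec_mulVec, ← Matrix.mulVec_mulVec, Matrix.add_mulVec, Matrix.smul_mulVec,
        Matrix.smul_mulVec, Matrix.one_mulVec, Matrix.mulVec_add, Matrix.mulVec_smul,
        Matrix.mulVec_smul, hab]
    have hGi : G * ((g⁻¹ : GL (Fin m ⊕ Fin m) F) : M2m) = 1 := Units.mul_inv _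
    have hiG : ((g⁻¹ : GL (Fin m ⊕ Fin m) F) : M2m) * G = 1 := Units.inv_mul _
    have hb0 : b ≠ 0 := fun hb => by
      rw [hb, zero_smul, add_zero, Matrix.mul_smul, mul_one] at hθG
      have h := congrArg (fun M => M * ((g⁻¹ : GL (Fin m ⊕ Fin m) F) : M2m)) hθG
      rw [mul_assoc, hGi, mul_one, Matrix.smul_mul, hGi] at h
      exact one_ne_zero (α := F) (hnz (-a) 1 (by rw [h]; module)).2
    have hconj : G * θ * ((g⁻¹ : GL (Fin m ⊕ Fin m) F) : M2m) = b⁻¹ • θ + (-(a / b)) • (1 : M2m) := by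
      have h1 : G * θ = b⁻¹ • (θ * G) + (-(a / b)) • G := by
        rw [hθG, mul_add, Matrix.mul_smul, Matrix.mul_smul, mul_one, smul_add, smul_smul, smul_smul,
          inv_mul_cancel₀ hb0, one_smul, inv_mul_eq_div]
        module
      rw [h1, add_mul, Matrix.smul_mul, Matrix.smul_mul, mul_assoc, hGi, mul_one]
    intro k
    refine ⟨fun hk => ?_, fun hk => ?_⟩
    · obtain ⟨α, β, rfl⟩ := hspan k hk
      rw [mul_add, Matrix.mul_smul, Matrix.mul_smul, mul_one, add_mul, Matrix.smul_mul,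
        Matrix.smul_mul, hGi, hconj]
      exact A.add_mem (A.smul_mem A.one_mem _)
        (A.smul_mem (A.add_mem (A.smul_mem hθA _) (A.smul_mem A.one_mem _)) _)
    · obtain ⟨α, β, hαβ⟩ := hspan _ hk
      have hk' : k = α • (1 : M2m) + β • (a • (1 : M2m) + b • θ) := by
        calc k = ((g⁻¹ : GL (Fin m ⊕ Fin m) F) : M2m) *
              (G * k * ((g⁻¹ : GL (Fin m ⊕ Fin m) F) : M2m)) * G := by
              simp only [← mul_assoc, hiG, one_mul]; rw [mul_assoc, hiG, mul_one]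
          _ = _ := by
              rw [hαβ, mul_add, Matrix.mul_smul, Matrix.mul_smul, mul_one, add_mul, Matrix.smul_mul,
                Matrix.smul_mul, hiG, mul_assoc, hθG, ← mul_assoc, hiG, one_mul]
      rw [hk']
      exact A.add_mem (A.smul_mem A.one_mem _)
        (A.smul_mem (A.add_mem (A.smul_mem A.one_mem _) (A.smul_mem hθA _)) _)
  refine ⟨lt_of_le_of_ne inf_le_right fun e =>
    CfsgLib.Aschbacher.spGL_not_le_subalgebraNormalizer (by omega) hA one_lt_two
      (e.ge.trans inf_le_left), fun K hle hKG => ?_⟩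
  by_cases hKH : K ≤ subalgebraNormalizer A
  · exact Or.inl (le_antisymm (le_inf hKH hKG) hle)
  refine Or.inr (le_antisymm hKG (spGL_le_of_centre ?_))
  have hcent : ∀ g ∈ Cfsg.spGL m F, (∀ x, (g : M2m) *ᵥ (θ *ᵥ x) = θ *ᵥ ((g : M2m) *ᵥ x)) → g ∈ K :=
    fun g hg hcm => hle ⟨hcomm _ (Matrix.ext_of_mulVec_single fun i => by
      rw [← Matrix.mulVec_mulVec, ← Matrix.mulVec_mulVec, hcm]), hg⟩
  have O : Ov θ c K := ⟨hKG, hcent, fun e he s =>
    hcent _ (Mel_mem e s) (Mel_comm E he s)⟩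
  obtain ⟨g, hgK, hgA⟩ := SetLike.not_le_iff_exists.1 hKH
  obtain ⟨e, he, he0, hmv⟩ := exists_moved E (g := g) fun a b hab => hgA (hnorm g a b hab)
  have hK : ∀ s, sT ((g : M2m) *ᵥ (θ *ᵥ e)) s * sT ((g : M2m) *ᵥ e) (-(c * s)) ∈ K := fun s => by
    rw [← conj_pair (hKG hgK)]
    exact mul_mem (mul_mem hgK (O.mel e he s)) (inv_mem hgK)
  have hge0 : (g : M2m) *ᵥ e ≠ 0 := fun h => he0 (Matrix.mulVec_injective_iff_isUnit.2 g.isUnit
    (h.trans (Matrix.mulVec_zero _).symm))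
  obtain ⟨x, hx, hx0, hC⟩ := exists_centre E O hmv hge0
    (by rw [bf_isometry (hKG hgK)]; exact he) hK
  exact centre_all E O hx hx0 hC

end CfsgLib.MaxSub.GUSp
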