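/-
Stabilisers of orthogonal decompositions are maximal in `Sp_2m`.
-/
import Cfsg.Agent.Lib.MaxSub.SubspaceMaximal
import Cfsg.Agent.Lib.MaxSub.DecompTools
import Cfsg.Agent.Lib.SympBlocks
import Cfsg.Agent.Lib.Aschbacher.Forms

set_option autoImplicit false
set_option maxHeartbeats 600000

namespace CfsgLib.MaxSub

open Matrix Module Cfsg Cfsg.Geo
open CfsgLib.Aschbacher (isRefl_sympForm sT sT_mem sT_mulVec sympForm_alt IsRefl)

variable {F : Type*} [Field F] {m : ℕ}

local notation "V" => (Fin m ⊕ Fin m → F)
local notation "M2m" => Matrix (Fin m ⊕ Fin m) (Fin m ⊕ Fin m) F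
local notation "B" => Cfsg.sympForm m F

variable {t k : ℕ} {D : Fin t → Submodule F (Fin m ⊕ Fin m → F)}

theorem sympForm_sum_pair (hD : IsNondegenerateMDecomposition B k D) {c d : Fin t → V}
    (hc : Decomp.Fam D c) (hd : Decomp.Fam D d) : B (∑ i, c i) (∑ i, d i) = ∑ i, B (c i) (d i) := by
  have hf := isRefl_sympForm (F := F) m
  let Bl : V →ₗ[F] V →ₗ[F] F := LinearMap.mk₂ F B hf.sesq.add_left hf.sesq.smul_left hf.sesq.add_right
    (fun a x y => hf.sesq.smul_right a x y)
  show Bl (∑ i, c i) (∑ i, d i) = _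
  rw [LinearMap.map_sum₂]
  refine Finset.sum_congr rfl fun i _ => ?_
  rw [map_sum, Finset.sum_eq_single i]
  · rfl
  · exact fun j _ hj => hD.orthogonal i j (Ne.symm hj) _ (hc i) _ (hd j)
  · exact fun h => absurd (Finset.mem_univ i) h

theorem exists_isometry_between (hm : 0 < m) {W W' : Submodule F V}
    (hW : IsNondegenerateOn B W) (hW' : IsNondegenerateOn B W') (hd : finrank F W = finrank F W') :
    ∃ φ : W ≃ₗ[F] W', ∀ x y : W, B (φ x : V) (φ y : V) = B (x : V) (y : V) := by
  have hf := isRefl_sympForm (F := F) m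
  have heven : Even (finrank F W) := CfsgLib.Aschbacher.even_finrank_of_alternating
    (f := B) ⟨hf.sesq.add_left, hf.sesq.smul_left, hf.sesq.add_right,
      fun c v x => hf.sesq.smul_right c v x⟩ (sympForm_alt m) _ W rfl (fun w hw hw0 => (hW w hw hw0).2)
  obtain ⟨r, hr⟩ := heven
  have hle : r ≤ m := by
    have := Submodule.finrank_le W
    rw [Module.finrank_fintype_fun_eq_card, Fintype.card_sum, Fintype.card_fin] at this
    omega
  let emb : Fin r ⊕ Fin r → Fin m ⊕ Fin m := Sum.map (Fin.castLE hle) (Fin.castLE hle)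
  let Std : Submodule F V := Submodule.span F (Set.range fun i => SympGen.bas (emb i))
  have hli : LinearIndependent F (fun i => (SympGen.bas (emb i) : V)) := by
    have := (Pi.basisFun F (Fin m ⊕ Fin m)).linearIndependent.comp emb
      ((Fin.castLE_injective hle).sumMap (Fin.castLE_injective hle))
    convert this using 1
    funext i
    simp [SympGen.bas, Pi.basisFun_apply]
  have key : ∀ U : Submodule F V, IsNondegenerateOn B U → finrank F U = r + r →
      ∃ g : Matrix.symplecticGroup (Fin m) F,
        Std.map (Matrix.mulVecLin (g.1 : M2m)) = U := by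
    intro U hU hUd
    obtain ⟨g, hg⟩ := SympBlocks.exists_frame r m hle U (by omega) (fun u hu hh => by
      by_contra h0
      obtain ⟨-, z, hz, hz'⟩ := hU u hu h0
      exact hz' (hh z hz))
    refine ⟨g, Submodule.eq_of_le_of_finrank_eq ?_ ?_⟩
    · rw [Submodule.map_span, Submodule.span_le]
      rintro _ ⟨_, ⟨i, rfl⟩, rfl⟩
      rcases i with i | i
      · exact (hg (Fin.castLE hle i) i.2).2
      · exact (hg (Fin.castLE hle i) i.2).1
    · have hinj : Function.Injective (Matrix.mulVecLin (g.1 : M2m)) := fun x y e => by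
        have := congrArg (fun z => (g⁻¹).1 *ᵥ z) (show g.1 *ᵥ x = g.1 *ᵥ y from e)
        rwa [← SympGen.mul_apply, ← SympGen.mul_apply, inv_mul_cancel, SympGen.one_apply,
          SympGen.one_apply] at this
      rw [← LinearEquiv.finrank_eq (Submodule.equivMapOfInjective _ hinj Std),
        finrank_span_eq_card hli, hUd]
      simp
  obtain ⟨g, hg⟩ := key W hW hr
  obtain ⟨g', hg'⟩ := key W' hW' (hd ▸ hr)
  have hmaps : ∀ x ∈ W, (g' * g⁻¹).1 *ᵥ x ∈ W' := fun x hx => by
    rw [← hg] at hx
    obtain ⟨y, hy, rfl⟩ := hx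
    rw [← hg']
    refine ⟨y, hy, ?_⟩
    show g'.1 *ᵥ y = (g' * g⁻¹).1 *ᵥ (g.1 *ᵥ y)
    rw [← SympGen.mul_apply, inv_mul_cancel_right]
  let f : W →ₗ[F] W' := ((Matrix.mulVecLin ((g' * g⁻¹).1 : M2m)).domRestrict W).codRestrict W'
    fun x => hmaps x x.2
  have hf' : ∀ x y : W, B (f x : V) (f y : V) = B (x : V) (y : V) := fun x y =>
    SympGen.B_map _ _ _
  have hinj : Function.Injective f := (injective_iff_map_eq_zero f).2 fun x hx => by
    by_contra h0
    obtain ⟨-, y, hy, hxy⟩ := hW (x : V) x.2 (fun h => h0 (Subtype.ext h))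
    refine hxy ?_
    rw [show B (x : V) y = B (f x : V) (f ⟨y, hy⟩ : V) from (hf' x ⟨y, hy⟩).symm, hx,
      ZeroMemClass.coe_zero]
    simp [Cfsg.sympForm]
  exact ⟨LinearEquiv.ofBijective f ⟨hinj, (LinearMap.injective_iff_surjective_of_finrank_eq_finrank
    hd).1 hinj⟩, hf'⟩

/-- A symplectic element interchanging two members. -/
theorem exists_member_swap (hm : 0 < m) (hD : IsNondegenerateMDecomposition B k D) {a b : Fin t}
    (hab : a ≠ b) : ∃ j ∈ Cfsg.spGL m F, j ∈ decompositionStabilizer D ∧
      (∀ x ∈ D a, (j : M2m) *ᵥ x ∈ D b) ∧ (∀ x ∈ D b, (j : M2m) *ᵥ x ∈ D a) ∧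
      ∀ i, i ≠ a → i ≠ b → ∀ x ∈ D i, (j : M2m) *ᵥ x = x := by
  classical
  obtain ⟨φ, hφ⟩ := exists_isometry_between hm (hD.nondegenerate a) (hD.nondegenerate b)
    (by rw [hD.decomp.finrank_eq, hD.decomp.finrank_eq])
  let ψ : ∀ i, D i →ₗ[F] V := fun i =>
    if h : i = a then h ▸ ((D b).subtype ∘ₗ φ.toLinearMap)
    else if h' : i = b then h' ▸ ((D a).subtype ∘ₗ φ.symm.toLinearMap)
    else (D i).subtype
  have hψa : ∀ x : D a, ψ a x = (φ x : V) := fun x => by simp [ψ]
  have hψb : ∀ x : D b, ψ b x = (φ.symm x : V) := fun x => by simp [ψ, hab.symm]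
  have hψo : ∀ i, i ≠ a → i ≠ b → ∀ x : D i, ψ i x = (x : V) := fun i h1 h2 x => by simp [ψ, h1, h2]
  obtain ⟨T, hT⟩ := Decomp.exists_glue hD.decomp ψ
  have hTm : ∀ i x (hx : x ∈ D i), T x = ψ i ⟨x, hx⟩ := fun i x hx => by
    have hfam : Decomp.Fam D (Pi.single i x) := fun j => by
      by_cases h : j = i
      · subst h; simpa using hx
      · simp [Pi.single_eq_of_ne h]
    have := hT _ hfam
    rw [Finset.sum_pi_single'] at this
    simp only [Finset.mem_univ, if_true] at this
    rw [this, Finset.sum_eq_single i]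
    · congr 1; exact Subtype.ext (by simp)
    · intro j _ hj
      rw [show (⟨(Pi.single i x : Fin t → V) j, hfam j⟩ : D j) = 0 from
        Subtype.ext (by simp [Pi.single_eq_of_ne hj]), map_zero]
    · exact fun h => absurd (Finset.mem_univ i) h
  have hfam' : ∀ i, ∃ j, ∀ x ∈ D i, T x ∈ D j ∧ (i = a → j = b) := fun i => by
    by_cases h1 : i = a
    · subst h1; exact ⟨b, fun x hx => ⟨by rw [hTm _ x hx, hψa]; exact (φ _).2, fun _ => rfl⟩⟩
    by_cases h2 : i = b
    · subst h2; exact ⟨a, fun x hx => ⟨by rw [hTm _ x hx, hψb]; exact (φ.symm _).2, fun h => absurd h h1⟩⟩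
    exact ⟨i, fun x hx => ⟨by rw [hTm _ x hx, hψo i h1 h2]; exact hx, fun h => absurd h h1⟩⟩
  have hTB : ∀ x y, B (T x) (T y) = B x y := fun x y => by
    obtain ⟨c, hc, rfl⟩ := Decomp.exists_comp hD.decomp x
    obtain ⟨d, hd, rfl⟩ := Decomp.exists_comp hD.decomp y
    rw [map_sum, map_sum, sympForm_sum_pair hD hc hd]
    let s := Equiv.swap a b
    have hmem : ∀ i, ∀ z ∈ D i, T z ∈ D (s i) := fun i z hz => by
      by_cases h1 : i = a
      · subst h1; rw [show s i = b from Equiv.swap_apply_left _ _, hTm _ z hz, hψa]; exact (φ _).2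
      by_cases h2 : i = b
      · subst h2; rw [show s i = a from Equiv.swap_apply_right _ _, hTm _ z hz, hψb]; exact (φ.symm _).2
      rw [show s i = i from Equiv.swap_apply_of_ne_of_ne h1 h2, hTm _ z hz, hψo i h1 h2]; exact hz
    have hc' : Decomp.Fam D (fun i => T (c (s.symm i))) := fun i => by
      simpa using hmem _ _ (hc (s.symm i))
    have hd' : Decomp.Fam D (fun i => T (d (s.symm i))) := fun i => by
      simpa using hmem _ _ (hd (s.symm i))
    rw [← Equiv.sum_comp s.symm (fun i => T (c i)), ← Equiv.sum_comp s.symm (fun i => T (d i)),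
      sympForm_sum_pair hD hc' hd', Equiv.sum_comp s.symm (fun i => B (T (c i)) (T (d i)))]
    refine Finset.sum_congr rfl fun i _ => ?_
    rw [hTm i _ (hc i), hTm i _ (hd i)]
    by_cases h1 : i = a
    · subst h1; rw [hψa, hψa, hφ]
    by_cases h2 : i = b
    · subst h2
      rw [hψb, hψb, ← hφ, LinearEquiv.apply_symm_apply, LinearEquiv.apply_symm_apply]
    rw [hψo i h1 h2, hψo i h1 h2]
  have hf := isRefl_sympForm (F := F) m
  have hTinj : Function.Injective T := (injective_iff_map_eq_zero T).2 fun x hx => by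
    by_contra h0
    obtain ⟨-, y, hy⟩ := hf.nondeg x h0
    refine hy ?_
    rw [← hTB, hx]
    simp [Cfsg.sympForm]
  let j : GL (Fin m ⊕ Fin m) F := Matrix.GeneralLinearGroup.mkOfDetNeZero (LinearMap.toMatrix' T) (by
    intro h0
    obtain ⟨v, hv0, hv⟩ := Matrix.exists_mulVec_eq_zero_iff.2 h0
    rw [LinearMap.toMatrix'_mulVec] at hv
    exact hv0 (hTinj (by rw [hv, map_zero])))
  have hj : ∀ x, (j : M2m) *ᵥ x = T x := fun x => LinearMap.toMatrix'_mulVec T x
  refine ⟨j, fun x y => ?_, Decomp.mem_stab_of hD.decomp fun i => ?_, fun x hx => ?_, fun x hx => ?_,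
    fun i h1 h2 x hx => ?_⟩
  · show B ((j : M2m) *ᵥ x) ((j : M2m) *ᵥ y) = B x y
    rw [hj, hj, hTB]
  · obtain ⟨l, hl⟩ := hfam' i
    exact ⟨l, fun x hx => by rw [hj]; exact (hl x hx).1⟩
  · rw [hj, hTm _ x hx, hψa]; exact (φ _).2
  · rw [hj, hTm _ x hx, hψb]; exact (φ.symm _).2
  · rw [hj, hTm _ x hx, hψo i h1 h2]

/-- Stabilisers of orthogonal decompositions are maximal in `Sp_2m`. -/
theorem sp_wreath_maximal [Fintype F] (hm : 2 ≤ m) (hD : IsNondegenerateMDecomposition B k D)
    (hex : ¬ (k = 2 ∧ Fintype.card F = 2)) :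
    IsMaximalIn (Cfsg.spGL m F) (decompositionStabilizer D ⊓ Cfsg.spGL m F) := by
  classical
  have hf := isRefl_sympForm (F := F) m
  have hswap : ∀ u v : V, B u v = -B v u := fun u v => by
    have := sympForm_alt (F := F) m (u + v)
    rw [hf.sesq.add_left, hf.sesq.add_right, hf.sesq.add_right, sympForm_alt, sympForm_alt] at this
    linear_combination this
  have hk : 2 ≤ k := by
    have hW := hD.nondegenerate ⟨0, by have := hD.decomp.two_le; omega⟩
    obtain ⟨r, hr⟩ := CfsgLib.Aschbacher.even_finrank_of_alternating (f := B)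
      ⟨hf.sesq.add_left, hf.sesq.smul_left, hf.sesq.add_right,
        fun c v x => hf.sesq.smul_right c v x⟩ (sympForm_alt m) _ _ rfl
      (fun w hw hw0 => (hW w hw hw0).2)
    rw [hD.decomp.finrank_eq] at hr
    have := hD.decomp.pos
    omega
  refine ⟨lt_of_le_of_ne inf_le_right fun e =>
    CfsgLib.Aschbacher.spGL_not_le_decompositionStabilizer hk hD.decomp (e ▸ inf_le_left),
    fun K hK hKG => ?_⟩
  by_cases hle : K ≤ decompositionStabilizer D
  · exact Or.inl (le_antisymm (le_inf hle hKG) hK)
  obtain ⟨g, hg, hgD⟩ := Set.not_subset.1 hle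
  refine Or.inr (le_antisymm hKG (spGL_le_of_centre ?_))
  have hblock : ∀ i, ∀ v ∈ D i, Centre K v := fun i v hv c => hK
    ⟨Decomp.mem_stab_of hD.decomp fun l => ⟨l, fun x hx => by
      rw [sT_mulVec]
      by_cases hl : l = i
      · subst hl; exact (D l).add_mem hx ((D l).smul_mem _ hv)
      · rw [hD.orthogonal l i hl x hx v hv, mul_zero, zero_smul, add_zero]; exact hx⟩, sT_mem v c⟩
  let Good : Finset (Fin t) → Prop := fun S => ∀ c, Decomp.Fam D c →
    (∀ i, c i ≠ 0 ↔ i ∈ S) → Centre K (∑ i, c i)
  -- one vector gives all of the same support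
  have same : ∀ c, Decomp.Fam D c → Centre K (∑ i, c i) →
      Good (Finset.univ.filter fun i => c i ≠ 0) := by
    intro c hc hC d hd hsupp
    suffices key : ∀ T : Finset (Fin t), Centre K (∑ i, (if i ∈ T then d i else c i)) by
      simpa using key Finset.univ
    intro T
    induction T using Finset.induction_on with
    | empty => simpa using hC
    | insert a T ha ih =>
      by_cases hca : c a = 0
      · have hda : d a = 0 := by
          by_contra h
          have := (hsupp a).1 h
          simp [hca] at this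
        have e : ∑ i, (if i ∈ insert a T then d i else c i) = ∑ i, (if i ∈ T then d i else c i) := by
          refine Finset.sum_congr rfl fun i _ => ?_
          by_cases hi : i = a
          · subst hi; simp [ha, hca, hda]
          · simp [hi]
        rwa [e]
      · have hda : d a ≠ 0 := (hsupp a).2 (by simp [hca])
        set e := fun i => if i ∈ T then d i else c i with he
        have hsplit : ∀ f : Fin t → V, ∑ i, f i = f a + ∑ i ∈ Finset.univ.erase a, f i := fun f =>
          (Finset.add_sum_erase _ f (Finset.mem_univ a)).symm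
        have hb : ∀ w ∈ D a, B (∑ i ∈ Finset.univ.erase a, e i) w = 0 := fun w hw => by
          let L : V →+ F := AddMonoidHom.mk' (fun x => B x w) (fun x y => hf.sesq.add_left x y w)
          show L _ = 0
          rw [map_sum]
          refine Finset.sum_eq_zero fun i hi => hD.orthogonal i a (Finset.ne_of_mem_erase hi) _ ?_ w hw
          show e i ∈ D i
          rw [he]; dsimp only
          split_ifs
          exacts [hd i, hc i]
        have h1 := move_component (hD.nondegenerate a) (hblock a) (a := c a) (a' := d a) (hc a) hca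
          (hd a) hda hb (by
            have := ih
            rw [hsplit e] at this
            simpa [he, ha] using this)
        rw [hsplit (fun i => if i ∈ insert a T then d i else c i)]
        convert h1 using 2
        · simp
        · refine Finset.sum_congr rfl fun i hi => ?_
          simp [he, Finset.ne_of_mem_erase hi]
  have move : ∀ {c d : Fin t → V}, Decomp.Fam D c → Decomp.Fam D d → Centre K (∑ i, c i) →
      Centre K (∑ i, d i) → ∀ x : F, Centre K (∑ i, (c i + (x * ∑ l, B (c l) (d l)) • d i)) := by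
    intro c d hc hd hC hE x
    rw [Finset.sum_add_distrib, ← Finset.smul_sum, ← sympForm_sum_pair hD hc hd]
    exact hC.move hE x
  have partner : ∀ i, ∀ x ∈ D i, x ≠ 0 → ∃ y ∈ D i, B x y ≠ 0 := fun i x hx hx0 => by
    obtain ⟨-, y, hy, h⟩ := hD.nondegenerate i x hx hx0
    exact ⟨y, hy, h⟩
  have other : ∀ i, ∀ x ∈ D i, x ≠ 0 → ∃ y ∈ D i, B x y = 0 ∧ y ≠ 0 ∧ y ≠ x := by
    intro i x hx hx0
    by_cases hq : ∃ l : F, l ≠ 0 ∧ l ≠ 1
    · obtain ⟨l, hl0, hl1⟩ := hq
      refine ⟨l • x, (D i).smul_mem _ hx, ?_, smul_ne_zero hl0 hx0, fun h => ?_⟩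
      · rw [show B x (l • x) = l * B x x from hf.sesq.smul_right l x x, sympForm_alt, mul_zero]
      · exact hl1 (smul_left_injective F hx0 (by simpa using h))
    · push Not at hq
      have hcard : Fintype.card F ≤ 2 := by
        refine (Finset.card_le_card (s := Finset.univ) (t := ({0, 1} : Finset F)) fun l _ => ?_).trans
          Finset.card_le_two
        by_cases h : l = 0 <;> simp [h, hq l]
      have hk4 : 3 ≤ k := by
        by_contra h
        exact hex ⟨by omega, le_antisymm hcard Fintype.one_lt_card⟩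
      let φ : D i →ₗ[F] F :=
        { toFun := fun y => B x (y : V)
          map_add' := fun a b => hf.sesq.add_right x _ _
          map_smul' := fun c a => hf.sesq.smul_right c x _ }
      have hlt : ¬ LinearMap.ker φ ≤ Submodule.comap (D i).subtype (Submodule.span F {x}) := fun hle => by
        have h1 := Submodule.finrank_mono hle
        have h2 := LinearMap.finrank_range_add_finrank_ker φ
        have h3 := Submodule.finrank_le (LinearMap.range φ)
        rw [Module.finrank_self] at h3
        rw [hD.decomp.finrank_eq] at h2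
        have h4 : finrank F (Submodule.comap (D i).subtype (Submodule.span F {x})) ≤ 1 := by
          rw [LinearEquiv.finrank_eq (Submodule.comapSubtypeEquivOfLe
            ((Submodule.span_singleton_le_iff_mem _ _).2 hx)), finrank_span_singleton hx0]
        omega
      obtain ⟨y, hy, hyn⟩ := SetLike.not_le_iff_exists.1 hlt
      exact ⟨y, y.2, hy, fun h => hyn (by simp [h]),
        fun h => hyn (by simp [h])⟩
  -- supports of size two
  have pairs : ∀ S : Finset (Fin t), Good S → ∀ j ∈ S, ∀ l ∈ S, j ≠ l → Good {j, l} := by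
    intro S hS j hj l hl hjl
    have h0 : ∀ i, ∃ x ∈ D i, x ≠ 0 := fun i => Submodule.exists_mem_ne_zero_of_ne_bot (fun h => by
      have := hD.decomp.finrank_eq i
      rw [h, finrank_bot] at this
      omega)
    choose x hx hx0 using h0
    set c : Fin t → V := fun i => if i ∈ S then x i else 0 with hc
    have hcF : Decomp.Fam D c := fun i => by
      rw [hc]; dsimp only; split_ifs; exacts [hx i, zero_mem _]
    have hcS : ∀ i, c i ≠ 0 ↔ i ∈ S := fun i => by
      rw [hc]; dsimp only; split_ifs with h <;> simp [h, hx0]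
    obtain ⟨y, hy, hxy⟩ := partner j _ (hx j) (hx0 j)
    obtain ⟨z, hz, hxz, hz0, hzx⟩ := other l _ (hx l) (hx0 l)
    set d : Fin t → V := fun i => if i = j then y else if i = l then z else c i with hd
    have hdF : Decomp.Fam D d := fun i => by
      rw [hd]; dsimp only; split_ifs with h h'
      exacts [h ▸ hy, h' ▸ hz, hcF i]
    have hy0 : y ≠ 0 := fun h => hxy (by rw [h]; simp [Cfsg.sympForm])
    have hdS : ∀ i, d i ≠ 0 ↔ i ∈ S := fun i => by
      rw [hd]; dsimp only; split_ifs with h h'
      · subst h; simp [hj, hy0]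
      · subst h'; simp [hl, hz0]
      · exact hcS i
    have hsum : ∑ i, B (c i) (d i) = B (x j) y := by
      rw [Finset.sum_eq_single j]
      · simp [hc, hd, hj]
      · intro i _ hij
        by_cases hil : i = l
        · subst hil; simp [hc, hd, hij, hl, hxz]
        · rw [show d i = c i by simp [hd, hij, hil], sympForm_alt]
      · exact fun h => absurd (Finset.mem_univ j) h
    have h1 := move hcF hdF (hS c hcF hcS) (hS d hdF hdS) (-(B (x j) y)⁻¹)
    rw [hsum, neg_mul, inv_mul_cancel₀ hxy] at h1
    have hne : x j ≠ y := fun h => hxy (by rw [h, sympForm_alt])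
    have h2 := same (fun i => c i + (-1 : F) • d i)
      (fun i => (D i).add_mem (hcF i) ((D i).smul_mem _ (hdF i))) h1
    convert h2 using 1
    ext i
    simp only [Finset.mem_insert, Finset.mem_singleton, Finset.mem_filter, Finset.mem_univ, true_and,
      neg_one_smul, ← sub_eq_add_neg, ne_eq, sub_eq_zero]
    by_cases hij : i = j
    · subst hij; simp [hc, hd, hj, hne]
    by_cases hil : i = l
    · subst hil; simp [hc, hd, hij, hl, Ne.symm hzx]
    simp [hd, hij, hil]
  have extend : ∀ S : Finset (Fin t), Good S → ∀ l ∈ S, ∀ p, p ∉ S → Good {l, p} → Good (insert p S) := by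
    intro S hS l hl p hp hlp
    have h0 : ∀ i, ∃ x ∈ D i, x ≠ 0 := fun i => Submodule.exists_mem_ne_zero_of_ne_bot (fun h => by
      have := hD.decomp.finrank_eq i
      rw [h, finrank_bot] at this
      omega)
    choose x hx hx0 using h0
    set c : Fin t → V := fun i => if i ∈ S then x i else 0 with hc
    have hcF : Decomp.Fam D c := fun i => by
      rw [hc]; dsimp only; split_ifs; exacts [hx i, zero_mem _]
    have hcS : ∀ i, c i ≠ 0 ↔ i ∈ S := fun i => by
      rw [hc]; dsimp only; split_ifs with h <;> simp [h, hx0]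
    obtain ⟨y, hy, hxy⟩ := partner l _ (hx l) (hx0 l)
    set d : Fin t → V := fun i => if i = l then y else if i = p then x p else 0 with hd
    have hdF : Decomp.Fam D d := fun i => by
      rw [hd]; dsimp only; split_ifs with h h'
      exacts [h ▸ hy, h' ▸ hx p, zero_mem _]
    have hy0 : y ≠ 0 := fun h => hxy (by rw [h]; simp [Cfsg.sympForm])
    have hdS : ∀ i, d i ≠ 0 ↔ i ∈ ({l, p} : Finset (Fin t)) := fun i => by
      rw [hd]; dsimp only; split_ifs with h h'
      · subst h; simp [hy0]
      · subst h'; simp [hx0]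
      · simp [h, h']
    have hlp' : p ≠ l := fun h => hp (h ▸ hl)
    have hsum : ∑ i, B (c i) (d i) = B (x l) y := by
      rw [Finset.sum_eq_single l]
      · simp [hc, hd, hl]
      · intro i _ hil
        by_cases hip : i = p
        · subst hip; simp [hc, hp, Cfsg.sympForm]
        · simp [hd, hil, hip, Cfsg.sympForm]
      · exact fun h => absurd (Finset.mem_univ l) h
    have h1 := move hcF hdF (hS c hcF hcS) (hlp d hdF hdS) (B (x l) y)⁻¹
    rw [hsum, inv_mul_cancel₀ hxy] at h1
    have hne : x l + y ≠ 0 := fun h => hxy (by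
      rw [eq_neg_of_add_eq_zero_right h, ← neg_one_smul F (x l),
        show B (x l) ((-1 : F) • x l) = -1 * B (x l) (x l) from hf.sesq.smul_right _ _ _,
        sympForm_alt, mul_zero])
    have h2 := same (fun i => c i + (1 : F) • d i)
      (fun i => (D i).add_mem (hcF i) ((D i).smul_mem _ (hdF i))) h1
    convert h2 using 1
    ext i
    simp only [Finset.mem_insert, Finset.mem_filter, Finset.mem_univ, true_and, one_smul]
    by_cases hil : i = l
    · subst hil; simp [hc, hd, hl, hne]
    by_cases hip : i = p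
    · subst hip; simp [hc, hd, hil, hp, hx0]
    simpa [hd, hil, hip] using (hcS i).symm
  -- one pair
  obtain ⟨a, b, hab, hgood⟩ : ∃ a b, a ≠ b ∧ Good {a, b} := by
    obtain ⟨i, x, hx, hgx⟩ := Decomp.exists_moved hD.decomp hgD
    obtain ⟨c, hc, hce⟩ := Decomp.exists_comp hD.decomp ((g : M2m) *ᵥ x)
    have hS := same c hc (hce ▸ (hblock i x hx).conj hg (hKG hg))
    obtain ⟨a, ha⟩ : ∃ a, c a ≠ 0 := by
      by_contra h
      push Not at h
      exact hgx i (by rw [← hce, Finset.sum_eq_zero fun j _ => h j]; exact zero_mem _)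
    obtain ⟨b, hba, hb⟩ : ∃ b, b ≠ a ∧ c b ≠ 0 := by
      by_contra h
      push Not at h
      exact hgx a (by rw [← hce, Finset.sum_eq_single a (fun j _ hj => h j hj)
        (fun h => absurd (Finset.mem_univ a) h)]; exact hc a)
    exact ⟨a, b, Ne.symm hba, pairs _ hS a (by simp [ha]) b (by simp [hb]) (Ne.symm hba)⟩
  have hap : ∀ p, p ≠ a → Good {a, p} := by
    intro p hpa
    by_cases hpb : p = b
    · exact hpb ▸ hgood
    obtain ⟨j, hjG, hjD, -, hjb, hjo⟩ := exists_member_swap (F := F) (by omega) hD (Ne.symm (Ne.symm hpb))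
    have hjK : j ∈ K := hK ⟨hjD, hjG⟩
    obtain ⟨x, hx, hx0⟩ := Submodule.exists_mem_ne_zero_of_ne_bot (p := D a) (fun h => by
      have := hD.decomp.finrank_eq a
      rw [h, finrank_bot] at this
      omega)
    obtain ⟨y, hy, hy0⟩ := Submodule.exists_mem_ne_zero_of_ne_bot (p := D b) (fun h => by
      have := hD.decomp.finrank_eq b
      rw [h, finrank_bot] at this
      omega)
    have h1 : Centre K (x + y) := by
      have hfam : Decomp.Fam D (Pi.single a x + Pi.single b y) := fun i => by
        by_cases h1 : i = a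
        · subst h1; simpa [Pi.single_apply, hab] using hx
        · by_cases h2 : i = b
          · subst h2; simpa [Pi.single_apply, h1] using hy
          · simp [Pi.single_apply, h1, h2]
      have := hgood _ hfam (fun i => by
        by_cases h1 : i = a
        · subst h1; simp [Pi.single_apply, hab, hx0]
        · by_cases h2 : i = b
          · subst h2; simp [Pi.single_apply, h1, hy0]
          · simp [Pi.single_apply, h1, h2])
      simpa [Finset.sum_add_distrib] using this
    have h2 := h1.conj hjK hjG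
    rw [Matrix.mulVec_add, hjo a (Ne.symm hpa) hab x hx] at h2
    have hjp := hjb y hy
    have hfam : Decomp.Fam D (Pi.single a x + Pi.single p ((j : M2m) *ᵥ y)) := fun i => by
      by_cases h1 : i = a
      · subst h1; simpa [Pi.single_apply, Ne.symm hpa] using hx
      · by_cases h2 : i = p
        · subst h2; simpa [Pi.single_apply, h1] using hjp
        · simp [Pi.single_apply, h1, h2]
    have h3 := same _ hfam (by simpa [Finset.sum_add_distrib] using h2)
    convert h3 using 1
    have hjy : (j : M2m) *ᵥ y ≠ 0 := fun h => hy0 (Matrix.mulVec_injective_iff_isUnit.2 j.isUnit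
      (by rw [h, Matrix.mulVec_zero]))
    ext i
    by_cases h1 : i = a
    · subst h1; simp [Pi.single_apply, Ne.symm hpa, hx0]
    · by_cases h2 : i = p
      · subst h2; simp [Pi.single_apply, h1, hjy]
      · simp [Pi.single_apply, h1, h2]
  have hany : ∀ p l, p ≠ l → Good {p, l} := by
    intro p l hpl
    by_cases hp : p = a
    · subst hp; exact hap l (Ne.symm hpl)
    by_cases hl : l = a
    · subst hl; rw [Finset.pair_comm]; exact hap p hp
    have h3 := extend _ (hap p hp) a (by simp) l (by simp [hl, Ne.symm hpl]) (hap l hl)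
    exact pairs _ h3 p (by simp) l (by simp) hpl
  have hall : ∀ S : Finset (Fin t), Good S := by
    intro S
    induction S using Finset.induction_on with
    | empty =>
      intro c _ hc
      rw [Finset.sum_eq_zero fun i _ => by simpa using hc i]
      exact hblock ⟨0, by have := hD.decomp.two_le; omega⟩ 0 (zero_mem _)
    | insert p S hp ih =>
      intro c hc hcS
      by_cases hS : S = ∅
      · subst hS
        rw [Finset.sum_eq_single p (fun i _ hi => by simpa [hi] using hcS i)
          (fun h => absurd (Finset.mem_univ p) h)]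
        exact hblock p _ (hc p)
      obtain ⟨l, hl⟩ := Finset.nonempty_of_ne_empty hS
      exact extend S ih l hl p hp (hany l p (fun h => hp (h ▸ hl))) c hc hcS
  intro v
  obtain ⟨c, hc, rfl⟩ := Decomp.exists_comp hD.decomp v
  exact hall (Finset.univ.filter fun i => c i ≠ 0) c hc (fun i => by simp)

end CfsgLib.MaxSub
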