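/-
The stabiliser of a pair of complementary totally singular subspaces is maximal in `Ω⁺`.
-/
import Cfsg.Agent.Lib.MaxSub.SubspaceMaximalOrthGL

set_option autoImplicit false
set_option maxHeartbeats 600000

namespace CfsgLib.MaxSub.Orth

open Module QuadraticMap Cfsg Cfsg.Geo
open CfsgLib.WittExtension (quadIso)
open CfsgLib.Eichler
open CfsgLib.OmegaSimple (eich_mem)

variable {F V : Type*} [Field F] [AddCommGroup V] [Module F V] [FiniteDimensional F V]
variable {Q : QuadraticForm F V}

/-- Two complementary totally singular subspaces of dimension `k`. -/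
structure TSPair (Q : QuadraticForm F V) (k : ℕ) (D E : Submodule F V) : Prop where
  finD : finrank F D = k
  finE : finrank F E = k
  compl : IsCompl D E
  sD : ∀ x ∈ D, Q x = 0
  sE : ∀ x ∈ E, Q x = 0

variable {k : ℕ} {D E : Submodule F V}

omit [FiniteDimensional F V] in
theorem TSPair.symm (P : TSPair Q k D E) : TSPair Q k E D :=
  ⟨P.finE, P.finD, P.compl.symm, P.sE, P.sD⟩

omit [FiniteDimensional F V] in
theorem TSPair.split (P : TSPair Q k D E) (x : V) : ∃ a ∈ D, ∃ b ∈ E, a + b = x :=
  Submodule.mem_sup.1 (P.compl.sup_eq_top ▸ Submodule.mem_top : x ∈ D ⊔ E)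

omit [FiniteDimensional F V] in
theorem TSPair.polD (P : TSPair Q k D E) {x y : V} (hx : x ∈ D) (hy : y ∈ D) : polar Q x y = 0 :=
  polar_eq_zero_of_sing P.sD hx hy

/-- A vector of `E` with prescribed products against a subspace of `D` and one more vector. -/
theorem TSPair.exists_in (P : TSPair Q k D E) (hQ : (polarBilin Q).Nondegenerate) {U : Submodule F V}
    (hU : U ≤ D) {x : V} (hx : x ∈ D) (hxU : x ∉ U) :
    ∃ b ∈ E, polar Q x b = 1 ∧ ∀ y ∈ U, polar Q y b = 0 := by
  obtain ⟨L, hLx, hL⟩ := Submodule.exists_dual_map_eq_bot_of_notMem hxU inferInstance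
  set w := (LinearMap.BilinForm.toDual (polarBilin Q) hQ).symm ((L x)⁻¹ • L) with hw
  have hwy : ∀ y, polar Q y w = (L x)⁻¹ * L y := fun y => by
    rw [polar_comm, hw]
    exact LinearMap.BilinForm.apply_toDual_symm_apply (hB := hQ) ((L x)⁻¹ • L) y
  obtain ⟨a, ha, b, hb, hab⟩ := P.split w
  have hval : ∀ y ∈ D, polar Q y b = (L x)⁻¹ * L y := fun y hy => by
    rw [← hwy, ← hab, polar_add_right, P.polD hy ha, zero_add]
  refine ⟨b, hb, by rw [hval x hx, inv_mul_cancel₀ hLx], fun y hy => ?_⟩
  have : L y ∈ U.map L := Submodule.mem_map_of_mem hy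
  rw [hL, Submodule.mem_bot] at this
  rw [hval y (hU hy), this, mul_zero]

/-- A vector of `D` perpendicular to two vectors and outside a small subspace. -/
theorem TSPair.exists_perp (P : TSPair Q k D E) {U : Submodule F V} (z z' : V)
    (hU : finrank F U + 3 ≤ k) :
    ∃ a ∈ D, polar Q a z = 0 ∧ polar Q a z' = 0 ∧ a ∉ U := by
  by_contra hc
  push Not at hc
  have hle : D ⊓ LinearMap.ker ((polarBilin Q).flip z) ⊓ LinearMap.ker ((polarBilin Q).flip z') ≤ U :=
    fun a ha => hc a ha.1.1 ha.1.2 ha.2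
  have h1 := Submodule.finrank_mono hle
  have e1 := finrank_inf_ker D ((polarBilin Q).flip z)
  have e2 := finrank_inf_ker (D ⊓ LinearMap.ker ((polarBilin Q).flip z)) ((polarBilin Q).flip z')
  rw [P.finD] at e1
  omega

variable {K : Subgroup (quadIso Q)}

omit [FiniteDimensional F V] in
theorem eich_sing {e a : V} {g : quadIso Q} (h : IsEich Q e a g) (ha : Q a = 0) (x : V) :
    g.1 x = x + polar Q e x • a - polar Q a x • e := by
  rw [h x, ha]; module

/-- The root subgroup of the line `⟨x, y⟩` lies in `K`. -/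
def Line (K : Subgroup (quadIso Q)) (x y : V) : Prop := ∀ c : F, InA K x (c • y)

theorem inA_self {e : V} (he : Q e = 0) (t : F) : InA K e (t • e) := fun g hg => by
  have h0 : polar Q e (0 : V) = 0 := by simp
  have h1 := eich_shift Q he h0 t (eich_zero Q e)
  rw [zero_add] at h1
  rw [eich_unique Q hg h1]; exact one_mem _

theorem Line.swap {x y : V} (hx : Q x = 0) (hy : Q y = 0) (h : Line K x y) : Line K y x := by
  intro c g hg
  refine h (-c) g fun z => ?_
  have e1 : Q (c • x) = 0 := by rw [QuadraticMap.map_smul, hx, smul_zero]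
  have e2 : Q ((-c) • y) = 0 := by rw [QuadraticMap.map_smul, hy, smul_zero]
  rw [eich_sing hg e1, e2, polar_smul_left, polar_smul_left]
  module

theorem Line.comb {x y : V} (hx : Q x = 0) (hxy : polar Q x y = 0) (s t : F) (h : Line K x y) :
    Line K x (s • x + t • y) := fun c => by
  rw [smul_add, smul_smul, smul_smul]
  exact InA.add hx (by rw [polar_smul_right, ReflectionGen.pol_self, hx]; simp)
    (by rw [polar_smul_right, hxy, smul_zero]) (inA_self hx _) (h _)

theorem Line.sub {x y z : V} (hx : Q x = 0) (hy : polar Q x y = 0) (hz : polar Q x z = 0)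
    (h : Line K x y) (h' : Line K x z) : Line K x (y - z) := fun c => by
  rw [smul_sub, sub_eq_add_neg, ← neg_smul]
  exact InA.add hx (by rw [polar_smul_right, hy, smul_zero])
    (by rw [polar_smul_right, hz, smul_zero]) (h c) (h' (-c))

theorem Line.conj {x y : V} (h : Line K x y) {g : quadIso Q} (hg : g ∈ K) :
    Line K (g.1 x) (g.1 y) := fun c => by
  rw [← map_smul]; exact (h c).conj hg

variable [Fintype F]

/-- A line meeting `D` gives one inside `D`. -/
theorem line_meet (P : TSPair Q k D E) (hLv : ∀ a ∈ D, ∀ b ∈ E, polar Q a b = 0 → Line K a b)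
    {p y : V} (hp : p ∈ D) (hpy : polar Q p y = 0) (hy : ∀ s : F, y - s • p ∉ E)
    (hp0 : p ≠ 0) (h : Line K p y) :
    ∃ u ∈ D, u ≠ 0 ∧ ∃ w ∈ D, w ∉ Submodule.span F {u} ∧ Line K u w := by
  obtain ⟨y0, hy0, y1, hy1, rfl⟩ := P.split y
  have h1 : polar Q p y1 = 0 := by rwa [polar_add_right, P.polD hp hy0, zero_add] at hpy
  refine ⟨p, hp, hp0, y0, hy0, fun hn => ?_, ?_⟩
  · obtain ⟨s, hs⟩ := Submodule.mem_span_singleton.1 hn
    refine hy s ?_
    rw [← hs, add_sub_cancel_left]; exact hy1
  · have := Line.sub (P.sD p hp) hpy h1 h (hLv p hp y1 hy1 h1)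
    rwa [add_sub_cancel_right] at this

/-- A line inside `D` gives all centres in `D`. -/
theorem line_full (P : TSPair Q k D E) (hQ : (polarBilin Q).Nondegenerate)
    (hLv : ∀ a ∈ D, ∀ b ∈ E, polar Q a b = 0 → Line K a b) {u w : V} (hu : u ∈ D) (hu0 : u ≠ 0) (hw : w ∈ D)
    (hwu : w ∉ Submodule.span F {u}) (h : Line K u w) : ∀ e ∈ D, Full K e := by
  have step : ∀ u w, u ∈ D → w ∈ D → w ∉ Submodule.span F {u} → Line K u w → ∀ a ∈ D, Line K u a := by
    intro u w hu hw hwu h
    obtain ⟨b, hb, hwb, hub⟩ := P.exists_in hQ ((Submodule.span_singleton_le_iff_mem _ _).2 hu) hw hwu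
    have hub' := hub u (Submodule.mem_span_singleton_self u)
    have key : ∀ a ∈ D, polar Q a b = 0 → Line K u a := fun a ha hab => by
      obtain ⟨g, hg⟩ := exists_eich Q (P.sD a ha) hab
      have hgK : g ∈ K := by
        have := hLv a ha b hb hab 1
        rw [one_smul] at this
        exact this g hg
      have h1 := h.conj hgK
      rw [eich_sing hg (P.sE b hb), eich_sing hg (P.sE b hb), P.polD ha hu, P.polD ha hw,
        polar_comm Q b u, hub', polar_comm Q b w, hwb, zero_smul, zero_smul, one_smul, add_zero,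
        add_zero, sub_zero] at h1
      have := Line.sub (P.sD u hu) (P.polD hu hw) (P.polD hu (D.sub_mem hw ha)) h h1
      rwa [sub_sub_cancel] at this
    intro a ha
    have h1 := key (a - polar Q a b • w) (D.sub_mem ha (D.smul_mem _ hw)) (by
      rw [sub_eq_add_neg, polar_add_left, ← neg_smul, polar_smul_left, hwb]; simp)
    have h2 : Line K u (polar Q a b • w) := fun c => by rw [smul_smul]; exact h _
    intro c
    have := InA.add (P.sD u hu) (P.polD hu (D.smul_mem _ (D.sub_mem ha (D.smul_mem _ hw))))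
      (P.polD hu (D.smul_mem _ (D.smul_mem _ hw))) (h1 c) (h2 c)
    rwa [← smul_add, sub_add_cancel] at this
  have hua := step u w hu hw hwu h
  have all : ∀ e ∈ D, e ∉ Submodule.span F {u} → ∀ a ∈ D, Line K e a := fun e he hen a ha => by
    refine step e u he hu (fun hh => ?_) (Line.swap (P.sD u hu) (P.sD e he) (hua e he)) a ha
    obtain ⟨s, hs⟩ := Submodule.mem_span_singleton.1 hh
    refine hen (Submodule.mem_span_singleton.2 ⟨s⁻¹, ?_⟩)
    rw [← hs, smul_smul, inv_mul_cancel₀ (fun h0 : s = 0 => hu0 (by rw [← hs, h0, zero_smul])),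
      one_smul]
  intro e he a hea
  obtain ⟨a0, ha0, a1, ha1, rfl⟩ := P.split a
  have h1 : polar Q e a1 = 0 := by rwa [polar_add_right, P.polD he ha0, zero_add] at hea
  refine InA.add (P.sD e he) (P.polD he ha0) h1 ?_ (by simpa using hLv e he a1 ha1 h1 1)
  have := (show Line K e a0 from by
    by_cases he0 : e ∈ Submodule.span F {u}
    · obtain ⟨s, rfl⟩ := Submodule.mem_span_singleton.1 he0
      intro c g hg
      have hs : Q (s • u) = 0 := P.sD _ he
      have hc : Q (c • a0) = 0 := P.sD _ (D.smul_mem c ha0)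
      refine hua a0 ha0 (s * c) g fun z => ?_
      have hc' : Q ((s * c) • a0) = 0 := P.sD _ (D.smul_mem _ ha0)
      rw [eich_sing hg hc, hc']
      simp only [polar_smul_left, smul_eq_mul]
      module
    · exact all e he he0 a0 ha0) 1
  simpa using this

/-- An isometry of `Ω` interchanging the two subspaces, in even dimension. -/
theorem exists_swap (P : TSPair Q k D E) (hQ : (polarBilin Q).Nondegenerate)
    (hn : 5 ≤ finrank F V) (hk : Even k) : ∃ j : quadIso Q, j ∈ Subgroup.closure (Sieg Q) ∧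
      (∀ x ∈ D, j.1 x ∈ E) ∧ ∀ x ∈ E, j.1 x ∈ D := by
  obtain ⟨r, rfl⟩ := hk
  let b := Module.finBasisOfFinrankEq F D P.finD
  have hdual : ∀ i, ∃ f ∈ E, ∀ l, polar Q (b l : V) f = if l = i then 1 else 0 := fun i => by
    obtain ⟨f, hf, h1, h0⟩ := P.exists_in hQ
      (U := Submodule.span F ((fun l => ((b l : D) : V)) '' {l | l ≠ i}))
      (Submodule.span_le.2 (by rintro _ ⟨l, -, rfl⟩; exact (b l).2)) (b i).2 (fun h => by
        have hli := (b.linearIndependent.map' D.subtype (Submodule.ker_subtype D))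
        exact hli.notMem_span_image (s := {l | l ≠ i}) (by simp) h)
    refine ⟨f, hf, fun l => ?_⟩
    split_ifs with hl
    · rw [hl]; exact h1
    · exact h0 _ (Submodule.subset_span ⟨l, hl, rfl⟩)
  choose f hf hfd using hdual
  have hee : ∀ i l, polar Q (b i : V) (b l : V) = 0 := fun i l => P.polD (b i).2 (b l).2
  have hff : ∀ i l, polar Q (f i) (f l) = 0 := fun i l => P.symm.polD (hf i) (hf l)
  have hfe : ∀ i l, polar Q (f i) (b l : V) = if l = i then 1 else 0 := fun i l => by
    rw [polar_comm]; exact hfd i l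
  have hb0 : ∀ i, (b i : V) ≠ 0 := fun i h => b.ne_zero i (Subtype.ext h)
  have hf0 : ∀ i, f i ≠ 0 := fun i h => by
    have := hfd i i
    rw [h, polar_zero_right, if_pos rfl] at this
    exact zero_ne_one this
  have hind : ∀ j, j ≤ r → ∃ g : quadIso Q, g ∈ Subgroup.closure (Sieg Q) ∧
      ∀ i : Fin (r + r), (i.1 < 2 * j → g.1 (b i : V) ∈ E ∧ g.1 (f i) ∈ D) ∧
        (2 * j ≤ i.1 → g.1 (b i : V) = b i ∧ g.1 (f i) = f i) := by
    intro j
    induction j with
    | zero => exact fun _ => ⟨1, one_mem _, fun i => ⟨fun h => by omega, fun _ => ⟨rfl, rfl⟩⟩⟩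
    | succ j ih =>
      intro hj
      obtain ⟨g, hg, hgi⟩ := ih (by omega)
      let i0 : Fin (r + r) := ⟨2 * j, by omega⟩
      let i1 : Fin (r + r) := ⟨2 * j + 1, by omega⟩
      have h01 : i0 ≠ i1 := fun h => by simp [i0, i1, Fin.ext_iff] at h
      obtain ⟨e1, he1⟩ := exists_eich Q (P.sD _ (b i0).2) (hee i0 i1)
      obtain ⟨e2, he2⟩ := exists_eich Q (P.sE _ (hf i0)) (hff i0 i1)
      have m1 : e1 ∈ Subgroup.closure (Sieg Q) :=
        eich_mem Q hQ hn (hb0 i0) (P.sD _ (b i0).2) (hee i0 i1) he1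
      have m2 : e2 ∈ Subgroup.closure (Sieg Q) :=
        eich_mem Q hQ hn (hf0 i0) (P.sE _ (hf i0)) (hff i0 i1) he2
      have a1 := eich_sing he1 (P.sD _ (b i1).2)
      have a2 := eich_sing he2 (P.sE _ (hf i1))
      have act : ∀ x, (e1 * e2 * e1).1 x = e1.1 (e2.1 (e1.1 x)) := fun _ => rfl
      refine ⟨g * (e1 * e2 * e1), mul_mem hg (mul_mem (mul_mem m1 m2) m1), fun i => ?_⟩
      show (_ → g.1 ((e1 * e2 * e1).1 _) ∈ E ∧ g.1 ((e1 * e2 * e1).1 _) ∈ D) ∧
        (_ → g.1 ((e1 * e2 * e1).1 _) = _ ∧ g.1 ((e1 * e2 * e1).1 _) = _)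
      have g0 := (hgi i0).2 (le_refl _)
      have g1 := (hgi i1).2 (Nat.le_succ _)
      by_cases hi0 : i = i0
      · subst hi0
        refine ⟨fun _ => ?_, fun h => by simp only [i0] at h; omega⟩
        simp only [act, a1, a2, map_add, map_sub, map_smul, polar_add_right, polar_sub_right,
          polar_smul_right, hee, hff, hfd, hfe, if_true, if_neg h01, if_neg h01.symm, g0.1, g0.2,
          g1.1, g1.2, smul_eq_mul, mul_zero, mul_one, zero_smul, one_smul, add_zero, sub_zero,
          zero_add, zero_sub]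
        constructor
        · convert (hf i1) using 1
          module
        · convert (b i1).2 using 1
          module
      by_cases hi1 : i = i1
      · subst hi1
        refine ⟨fun _ => ?_, fun h => by simp only [i1] at h; omega⟩
        simp only [act, a1, a2, map_add, map_sub, map_smul, polar_add_right, polar_sub_right,
          polar_smul_right, hee, hff, hfd, hfe, if_true, if_neg h01, if_neg h01.symm, g0.1, g0.2,
          g1.1, g1.2, smul_eq_mul, mul_zero, mul_one, zero_smul, one_smul, add_zero, sub_zero,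
          zero_add, zero_sub]
        constructor
        · convert (E.neg_mem (hf i0)) using 1
          module
        · convert (D.neg_mem (b i0).2) using 1
          module
      have w1 : ∀ x, x = (b i : V) ∨ x = f i → (e1 * e2 * e1).1 x = x := by
        rintro x (rfl | rfl) <;>
          simp [act, a1, a2, hee, hff, hfd, hfe, hi0, hi1, Ne.symm hi0, Ne.symm hi1]
      rw [w1 _ (Or.inl rfl), w1 _ (Or.inr rfl)]
      refine ⟨fun h => (hgi i).1 ?_, fun h => (hgi i).2 (by omega)⟩
      have : i.1 ≠ 2 * j := fun e => hi0 (Fin.ext e)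
      have : i.1 ≠ 2 * j + 1 := fun e => hi1 (Fin.ext e)
      omega
  obtain ⟨g, hg, hgi⟩ := hind r le_rfl
  have hbs : D ≤ (Submodule.comap (g.1 : V →ₗ[F] V) E) := fun x hx => by
    have hx' : x = ∑ i, b.equivFun ⟨x, hx⟩ i • (b i : V) := by
      have := congrArg (fun z : D => (z : V)) (b.sum_equivFun ⟨x, hx⟩)
      simp only [AddSubmonoidClass.coe_finsetSum, Submodule.coe_smul] at this
      exact this.symm
    rw [hx']
    exact Submodule.sum_mem _ fun i _ => Submodule.smul_mem _ _ ((hgi i).1 (by omega)).1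
  refine ⟨g, hg, hbs, fun y hy => ?_⟩
  have hy' : y = ∑ i, polar Q (b i : V) y • f i := by
    have hz : y - ∑ i, polar Q (b i : V) y • f i = 0 := by
      set z := y - ∑ i, polar Q (b i : V) y • f i with hzd
      have hzE : z ∈ E := E.sub_mem hy (Submodule.sum_mem _ fun i _ => E.smul_mem _ (hf i))
      have hl : ∀ l, polarBilin Q (b l : V) z = 0 := fun l => by
        rw [hzd, map_sub, map_sum]
        simp [hfd]
      refine hQ.1 z fun x => ?_
      obtain ⟨a, ha, c, hc, rfl⟩ := P.split x
      show polar Q z (a + c) = 0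
      have hx' : a = ∑ i, b.equivFun ⟨a, ha⟩ i • (b i : V) := by
        have := congrArg (fun z : D => (z : V)) (b.sum_equivFun ⟨a, ha⟩)
        simp only [AddSubmonoidClass.coe_finsetSum, Submodule.coe_smul] at this
        exact this.symm
      rw [polar_add_right, P.symm.polD hzE hc, add_zero, hx']
      show polarBilin Q z _ = 0
      rw [map_sum]
      refine Finset.sum_eq_zero fun l _ => ?_
      rw [map_smul, show polarBilin Q z (b l : V) = 0 from (polar_comm Q z _).trans (hl l), smul_zero]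
    exact sub_eq_zero.1 hz
  rw [hy', map_sum]
  exact Submodule.sum_mem _ fun i _ => by
    rw [map_smul]; exact D.smul_mem _ ((hgi i).1 (by omega)).2

/-- The core: an intermediate group moving the decomposition contains `Ω`. -/
theorem pair_core (P : TSPair Q k D E) (hk8 : 6 ≤ k) (hk : Even k) (hQ : (polarBilin Q).Nondegenerate)
    (hn : 5 ≤ finrank F V)
    (hH : ∀ g ∈ Subgroup.closure (Sieg Q), ((∀ x ∈ D, g.1 x ∈ D) ∧ ∀ x ∈ E, g.1 x ∈ E) ∨
      ((∀ x ∈ D, g.1 x ∈ E) ∧ ∀ x ∈ E, g.1 x ∈ D) → g ∈ K)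
    {g : quadIso Q} (hg : g ∈ K)
    (hgD : ¬ (((∀ x ∈ D, g.1 x ∈ D) ∧ ∀ x ∈ E, g.1 x ∈ E) ∨
      ((∀ x ∈ D, g.1 x ∈ E) ∧ ∀ x ∈ E, g.1 x ∈ D))) : Subgroup.closure (Sieg Q) ≤ K := by
  have hLv : ∀ a ∈ D, ∀ b ∈ E, polar Q a b = 0 → Line K a b := by
    intro a ha b hb hab c t ht
    by_cases ha0 : a = 0
    · subst ha0
      rw [show t = 1 from Subtype.ext (LinearEquiv.ext fun z => by
        rw [ht z, polar_zero_left]; simp)]
      exact one_mem _
    have hcb : polar Q a (c • b) = 0 := by rw [polar_smul_right, hab, smul_zero]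
    refine hH t (eich_mem Q hQ hn ha0 (P.sD a ha) hcb ht) (Or.inl ⟨fun x hx => ?_, fun x hx => ?_⟩) <;>
      rw [eich_sing ht (P.sE _ (E.smul_mem c hb))]
    · rw [P.polD ha hx, zero_smul, add_zero]; exact D.sub_mem hx (D.smul_mem _ ha)
    · rw [P.symm.polD (E.smul_mem c hb) hx, zero_smul, sub_zero]
      exact E.add_mem hx (E.smul_mem _ (E.smul_mem _ hb))
  have hLv' : ∀ b ∈ E, ∀ a ∈ D, polar Q b a = 0 → Line K b a := fun b hb a ha h =>
    (hLv a ha b hb (by rwa [polar_comm])).swap (P.sD a ha) (P.sE b hb)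
  let On : V → V → V → V → Prop := fun x y a b =>
    x ∈ Submodule.span F ({a, b} : Set V) ∧ y ∈ Submodule.span F ({a, b} : Set V)
  -- a line of `K` not meeting both
  obtain ⟨x, y, hx, hy, hxy, hind, hline, hnot⟩ : ∃ x y : V, Q x = 0 ∧ Q y = 0 ∧ polar Q x y = 0 ∧
      LinearIndependent F ![x, y] ∧ Line K x y ∧ ∀ a ∈ D, ∀ b ∈ E, ¬ On x y a b := by
    by_contra hc
    push Not at hc
    have him : ∀ u ∈ D, ∀ v ∈ E, polar Q u v = 0 → u ≠ 0 → v ≠ 0 →
        ∃ a ∈ D, ∃ b ∈ E, On (g.1 u) (g.1 v) a b := by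
      intro u hu v hv huv hu0 hv0
      refine hc _ _ ?_ ?_ ?_ ?_ ((hLv u hu v hv huv).conj hg)
      · rw [g.2, P.sD u hu]
      · rw [g.2, P.sE v hv]
      · rw [OrthOrder.polar_map g.2, huv]
      · refine LinearIndependent.pair_iff.2 fun s t h => ?_
        rw [← map_smul, ← map_smul, ← map_add, LinearEquiv.map_eq_zero_iff] at h
        have hs : s • u = 0 := Submodule.disjoint_def.1 P.compl.disjoint _ (D.smul_mem s hu) (by
          rw [eq_neg_of_add_eq_zero_left h]; exact E.neg_mem (E.smul_mem t hv))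
        rw [hs, zero_add] at h
        exact ⟨(smul_eq_zero.1 hs).resolve_right hu0, (smul_eq_zero.1 h).resolve_right hv0⟩
    -- common point of two such lines
    have common : ∀ z a b a' b', a ∈ D → b ∈ E → a' ∈ D → b' ∈ E →
        z ∈ Submodule.span F ({a, b} : Set V) → z ∈ Submodule.span F ({a', b'} : Set V) →
        z ∉ D → z ∉ E → Submodule.span F ({a, b} : Set V) ≤ Submodule.span F ({a', b'} : Set V) := by
      intro z a b a' b' ha hb ha' hb' h1 h2 hzD hzE
      obtain ⟨s, t, rfl⟩ := Submodule.mem_span_pair.1 h1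
      obtain ⟨s', t', he⟩ := Submodule.mem_span_pair.1 h2
      have h0 : s' • a' - s • a = 0 := Submodule.disjoint_def.1 P.compl.disjoint _
        (D.sub_mem (D.smul_mem _ ha') (D.smul_mem _ ha)) (by
          rw [show s' • a' - s • a = t • b - t' • b' by linear_combination (norm := module) he]
          exact E.sub_mem (E.smul_mem _ hb) (E.smul_mem _ hb'))
      have h0' : t' • b' = t • b := by
        rw [sub_eq_zero.1 h0] at he; exact add_left_cancel he
      have hs : s ≠ 0 := fun h => hzE (by rw [h, zero_smul, zero_add]; exact E.smul_mem _ hb)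
      have ht : t ≠ 0 := fun h => hzD (by rw [h, zero_smul, add_zero]; exact D.smul_mem _ ha)
      set U := Submodule.span F ({a', b'} : Set V)
      refine Submodule.span_le.2 (Set.insert_subset_iff.2 ⟨?_, Set.singleton_subset_iff.2 ?_⟩)
      · refine (U.smul_mem_iff hs).1 ?_
        rw [← sub_eq_zero.1 h0]
        exact U.smul_mem _ (Submodule.subset_span (by simp))
      · refine (U.smul_mem_iff ht).1 ?_
        rw [← h0']
        exact U.smul_mem _ (Submodule.subset_span (by simp))
    have hpt : ∀ {D' E' : Submodule F V}, TSPair Q k D' E' →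
        (∀ u ∈ D', ∀ v ∈ E', polar Q u v = 0 → u ≠ 0 → v ≠ 0 →
          ∃ a ∈ D, ∃ b ∈ E, On (g.1 u) (g.1 v) a b) →
        ∀ u ∈ D', g.1 u ∈ D ∨ g.1 u ∈ E := by
      intro D' E' P' him u hu
      by_cases hu0 : u = 0
      · left; rw [hu0, map_zero]; exact zero_mem _
      by_contra hn
      rw [not_or] at hn
      obtain ⟨v, hv, hvu, -, hv0⟩ := P'.symm.exists_perp (U := (⊥ : Submodule F V)) u 0
        (by rw [finrank_bot]; omega)
      rw [Submodule.mem_bot] at hv0
      obtain ⟨v', hv', hv'u, -, hv'n⟩ := P'.symm.exists_perp (U := Submodule.span F {v}) u 0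
        (by rw [finrank_span_singleton hv0]; omega)
      obtain ⟨a, ha, b, hb, h1, h2⟩ := him u hu v hv (by rw [polar_comm]; exact hvu) hu0 hv0
      obtain ⟨a', ha', b', hb', h1', h2'⟩ := him u hu v' hv' (by rw [polar_comm]; exact hv'u) hu0
        (fun h => hv'n (h ▸ zero_mem _))
      have hle := common _ a' b' a b ha' hb' ha hb h1' h1 hn.1 hn.2
      have hsub : Submodule.span F (Set.range ![g.1 u, g.1 v, g.1 v']) ≤
          Submodule.span F ({a, b} : Set V) := by
        rw [Submodule.span_le]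
        rintro _ ⟨i, rfl⟩
        fin_cases i
        exacts [h1, h2, hle h2']
      have hi3 : LinearIndependent F ![g.1 u, g.1 v, g.1 v'] := by
        rw [Fintype.linearIndependent_iff]
        intro c hc'
        simp only [Fin.sum_univ_three, Matrix.cons_val_zero, Matrix.cons_val_one,
          Matrix.cons_val_two, Matrix.tail_cons, Matrix.head_cons] at hc'
        rw [← map_smul, ← map_smul, ← map_smul, ← map_add, ← map_add,
          LinearEquiv.map_eq_zero_iff, add_assoc] at hc'
        have hs : c 0 • u = 0 := Submodule.disjoint_def.1 P'.compl.disjoint _ (D'.smul_mem _ hu) (by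
          rw [eq_neg_of_add_eq_zero_left hc']
          exact E'.neg_mem (E'.add_mem (E'.smul_mem _ hv) (E'.smul_mem _ hv')))
        rw [hs, zero_add] at hc'
        have h2c : c 2 = 0 := by
          by_contra h
          refine hv'n (Submodule.mem_span_singleton.2 ⟨-(c 1 / c 2), smul_right_injective V h ?_⟩)
          simp only [neg_smul, smul_neg, smul_smul, mul_div_cancel₀ _ h]
          exact neg_eq_of_add_eq_zero_right hc'
        rw [h2c, zero_smul, add_zero] at hc'
        intro i
        fin_cases i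
        exacts [(smul_eq_zero.1 hs).resolve_right hu0, (smul_eq_zero.1 hc').resolve_right hv0, h2c]
      have e1 := Submodule.finrank_mono hsub
      rw [finrank_span_eq_card hi3, Fintype.card_fin, show ({a, b} : Set V) = Set.range ![a, b] by
        simp [Set.pair_comm]] at e1
      have e2 : finrank F (Submodule.span F (Set.range ![a, b])) ≤ 2 :=
        (finrank_range_le_card ![a, b]).trans (by simp)
      omega
    have hD' := hpt P him
    have hE' := hpt P.symm (fun v hv u hu h hv0 hu0 => by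
      obtain ⟨a, ha, b, hb, h1, h2⟩ := him u hu v hv (by rwa [polar_comm]) hu0 hv0
      exact ⟨a, ha, b, hb, h2, h1⟩)
    have hun : ∀ {W : Submodule F V}, (∀ u ∈ W, g.1 u ∈ D ∨ g.1 u ∈ E) →
        W.map (g.1 : V →ₗ[F] V) ≤ D ∨ W.map (g.1 : V →ₗ[F] V) ≤ E := fun {W} h => by
      by_contra hn
      rw [not_or] at hn
      obtain ⟨_, ⟨u1, hu1, rfl⟩, n1⟩ := SetLike.not_le_iff_exists.1 hn.1
      obtain ⟨_, ⟨u2, hu2, rfl⟩, n2⟩ := SetLike.not_le_iff_exists.1 hn.2
      have a1 := (h u1 hu1).resolve_left n1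
      have a2 := (h u2 hu2).resolve_right n2
      rcases h (u1 + u2) (W.add_mem hu1 hu2) with e | e <;> rw [map_add] at e
      · exact n1 (by simpa using D.sub_mem e a2)
      · exact n2 (by simpa using E.sub_mem e a1)
    have hne : ∀ W : Submodule F V, finrank F W = k → ¬ (D.map (g.1 : V →ₗ[F] V) ≤ W ∧
        E.map (g.1 : V →ₗ[F] V) ≤ W) := fun W hW h => by
      have h3 : (⊤ : Submodule F V).map (g.1 : V →ₗ[F] V) ≤ W := by
        rw [← P.compl.sup_eq_top, Submodule.map_sup]; exact sup_le h.1 h.2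
      have h4 := Submodule.finrank_mono h3
      rw [LinearEquiv.finrank_map_eq, finrank_top, hW] at h4
      have h5 := Submodule.finrank_add_eq_of_isCompl P.compl
      rw [P.finD, P.finE] at h5
      omega
    rcases hun hD' with a | a <;> rcases hun hE' with b | b
    · exact hne D P.finD ⟨a, b⟩
    · exact hgD (Or.inl ⟨fun x hx => a ⟨x, hx, rfl⟩, fun x hx => b ⟨x, hx, rfl⟩⟩)
    · exact hgD (Or.inr ⟨fun x hx => a ⟨x, hx, rfl⟩, fun x hx => b ⟨x, hx, rfl⟩⟩)
    · exact hne E P.finE ⟨a, b⟩
  -- a line inside one of the subspaces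
  have side : ∀ {D' E' : Submodule F V}, TSPair Q k D' E' →
      (∀ a ∈ D', ∀ b ∈ E', polar Q a b = 0 → Line K a b) →
      (∀ a ∈ D', ∀ b ∈ E', ¬ On x y a b) →
      ((∃ s t : F, (s ≠ 0 ∨ t ≠ 0) ∧ s • x + t • y ∈ D') ∨
        ∀ s t : F, (s ≠ 0 ∨ t ≠ 0) → s • x + t • y ∉ D' ∧ s • x + t • y ∉ E') →
      ∃ u ∈ D', u ≠ 0 ∧ ∃ w ∈ D', w ∉ Submodule.span F {u} ∧ Line K u w := by
    intro D' E' P' hL hno hcase
    rcases hcase with ⟨s, t, hst, hp⟩ | hall
    · have hp0 : s • x + t • y ≠ 0 := fun h => by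
        obtain ⟨h1, h2⟩ := LinearIndependent.pair_iff.1 hind s t h
        exact hst.elim (· h1) (· h2)
      obtain ⟨q, hq, hpq, hspan, hl⟩ : ∃ q, polar Q q (s • x + t • y) = 0 ∧
          q ∉ Submodule.span F {s • x + t • y} ∧
          (x ∈ Submodule.span F ({s • x + t • y, q} : Set V) ∧
            y ∈ Submodule.span F ({s • x + t • y, q} : Set V)) ∧
          Line K (s • x + t • y) q := by
        have hmem : ∀ p q : V, ∀ u v : F, u • p + v • q ∈ Submodule.span F ({p, q} : Set V) :=
          fun p q u v => Submodule.mem_span_pair.2 ⟨u, v, rfl⟩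
        have hpx : Q (s • x + t • y) = 0 := P'.sD _ hp
        by_cases ht : t = 0
        · have hs : s ≠ 0 := hst.resolve_right (fun h => h ht)
          subst ht
          refine ⟨y, ?_, fun h => ?_, ⟨?_, ?_⟩, ?_⟩
          · rw [zero_smul, add_zero, polar_smul_right, polar_comm, hxy, smul_zero]
          · obtain ⟨c, hc⟩ := Submodule.mem_span_singleton.1 h
            have := (LinearIndependent.pair_iff.1 hind (c * s) (-1) (by
              rw [neg_smul, one_smul, ← sub_eq_add_neg, sub_eq_zero]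
              conv_rhs => rw [← hc]
              module)).2
            simp at this
          · convert hmem (s • x + (0 : F) • y) y s⁻¹ 0 using 1
            simp [smul_smul, inv_mul_cancel₀ hs]
          · convert hmem (s • x + (0 : F) • y) y 0 1 using 1
            simp
          · have := (hline.swap hx hy).comb hy (by rwa [polar_comm]) 0 s
            rw [zero_smul, zero_add] at this
            rw [zero_smul, add_zero]
            exact Line.swap hy (by rw [QuadraticMap.map_smul, hx, smul_zero]) this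
        · refine ⟨x, ?_, fun h => ?_, ⟨?_, ?_⟩,
            Line.swap hx hpx (hline.comb hx hxy s t)⟩
          · rw [polar_add_right, polar_smul_right, polar_smul_right, ReflectionGen.pol_self, hx, hxy]
            simp
          · obtain ⟨c, hc⟩ := Submodule.mem_span_singleton.1 h
            have h12 := LinearIndependent.pair_iff.1 hind (c * s - 1) (c * t) (by
              rw [sub_smul, one_smul]
              conv_lhs => arg 1; arg 2; rw [← hc]
              module)
            rcases mul_eq_zero.1 h12.2 with h3 | h3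
            · rw [h3, zero_mul, zero_sub] at h12; simp at h12
            · exact ht h3
          · convert hmem (s • x + t • y) x 0 1 using 1
            simp
          · convert hmem (s • x + t • y) x t⁻¹ (-(t⁻¹ * s)) using 1
            simp [smul_add, smul_smul, inv_mul_cancel₀ ht]
      refine line_meet P' hL hp (by rw [polar_comm]; exact hq) (fun c hc => ?_) hp0 hl
      have hsp : Submodule.span F ({s • x + t • y, q} : Set V) ≤
          Submodule.span F ({s • x + t • y, q - c • (s • x + t • y)} : Set V) := by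
        refine Submodule.span_le.2 (Set.insert_subset_iff.2
          ⟨Submodule.subset_span (by simp), Set.singleton_subset_iff.2 ?_⟩)
        exact Submodule.mem_span_pair.2 ⟨c, 1, by module⟩
      exact hno _ hp _ hc ⟨hsp hspan.1, hsp hspan.2⟩
    · -- the line meets neither
      obtain ⟨u0, hu0, u1, hu1, hxe⟩ := P'.split x
      obtain ⟨v0, hv0, v1, hv1, hye⟩ := P'.split y
      have hv00 : v0 ≠ 0 := fun h => (hall 0 1 (Or.inr one_ne_zero)).2 (by
        rw [zero_smul, one_smul, zero_add, ← hye, h, zero_add]; exact hv1)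
      obtain ⟨a, ha, hau, hav, haU⟩ := P'.exists_perp (U := Submodule.span F (Set.range ![u0, v0]))
        u1 v1 (by
          have : finrank F (Submodule.span F (Set.range ![u0, v0])) ≤ 2 :=
            (finrank_range_le_card ![u0, v0]).trans (by simp)
          omega)
      have hr : Set.range ![u0, v0] = {u0, v0} := by simp [Set.pair_comm]
      rw [hr] at haU
      have hU : Submodule.span F ({v0, a} : Set V) ≤ D' :=
        Submodule.span_le.2 (Set.insert_subset_iff.2 ⟨hv0, Set.singleton_subset_iff.2 ha⟩)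
      have hu0U : u0 ∉ Submodule.span F ({v0, a} : Set V) := fun h => by
        obtain ⟨s, t, hst⟩ := Submodule.mem_span_pair.1 h
        by_cases ht : t = 0
        · refine (hall 1 (-s) (Or.inl one_ne_zero)).2 ?_
          rw [ht, zero_smul, add_zero] at hst
          rw [← hxe, ← hye, ← hst,
            show (1 : F) • (s • v0 + u1) + (-s) • (v0 + v1) = u1 - s • v1 by module]
          exact E'.sub_mem hu1 (E'.smul_mem _ hv1)
        · refine haU (((Submodule.span F ({u0, v0} : Set V)).smul_mem_iff ht).1 ?_)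
          rw [eq_sub_of_add_eq' hst]
          exact sub_mem (Submodule.subset_span (by simp))
            (Submodule.smul_mem _ _ (Submodule.subset_span (by simp)))
      obtain ⟨b, hb, hub, hUb⟩ := P'.exists_in hQ hU hu0 hu0U
      have hvb : polar Q v0 b = 0 := hUb v0 (Submodule.subset_span (by simp))
      have hab : polar Q a b = 0 := hUb a (Submodule.subset_span (by simp))
      have hax : polar Q a x = 0 := by rw [← hxe, polar_add_right, P'.polD ha hu0, hau, add_zero]
      have hay : polar Q a y = 0 := by rw [← hye, polar_add_right, P'.polD ha hv0, hav, add_zero]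
      have hbx : polar Q b x = 1 := by
        rw [← hxe, polar_add_right, polar_comm Q b u0, hub, P'.symm.polD hb hu1, add_zero]
      have hby : polar Q b y = 0 := by
        rw [← hye, polar_add_right, polar_comm Q b v0, hvb, P'.symm.polD hb hv1, add_zero]
      obtain ⟨h, hh⟩ := exists_eich Q (P'.sD a ha) hab
      have hhK : h ∈ K := by
        have := hL a ha b hb hab 1
        rw [one_smul] at this
        exact this h hh
      have h1 := hline.conj hhK
      rw [eich_sing hh (P'.sE b hb), eich_sing hh (P'.sE b hb), hax, hay, hbx, hby, zero_smul,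
        zero_smul, one_smul, add_zero, add_zero, sub_zero] at h1
      have hxa : Q (x - a) = 0 := by
        rw [sub_eq_add_neg, QuadraticMap.map_add (⇑Q), QuadraticMap.map_neg, hx, P'.sD a ha,
          polar_neg_right, polar_comm, hax]
        simp
      have hya : polar Q y (x - a) = 0 := by
        rw [sub_eq_add_neg, polar_add_right, polar_neg_right, polar_comm Q y x, hxy,
          polar_comm Q y a, hay]
        simp
      have h2 := Line.sub hy (by rw [polar_comm]; exact hxy) hya (hline.swap hx hy) (h1.swap hxa hy)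
      rw [sub_sub_cancel] at h2
      refine line_meet P' hL ha hay (fun c hc => ?_) (fun h => haU (h ▸ zero_mem _))
        (h2.swap hy (P'.sD a ha))
      have h0 : v0 - c • a = 0 := Submodule.disjoint_def.1 P'.compl.disjoint _
        (D'.sub_mem hv0 (D'.smul_mem _ ha)) (by
          rw [show v0 - c • a = (y - c • a) - v1 by rw [← hye]; abel]
          exact E'.sub_mem hc hv1)
      refine haU (((Submodule.span F ({u0, v0} : Set V)).smul_mem_iff
        (fun h : c = 0 => hv00 (by rw [sub_eq_zero.1 h0, h, zero_smul]))).1 ?_)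
      rw [← sub_eq_zero.1 h0]
      exact Submodule.subset_span (by simp)
  obtain ⟨j, hj, hjD, hjE⟩ := exists_swap P hQ hn hk
  have hjK : j ∈ K := hH j hj (Or.inr ⟨hjD, hjE⟩)
  have hFD : (∀ e ∈ D, Full K e) ∨ ∀ e ∈ E, Full K e := by
    by_cases h1 : ∃ s t : F, (s ≠ 0 ∨ t ≠ 0) ∧ s • x + t • y ∈ D
    · obtain ⟨u, hu, hu0, w, hw, hwu, hl⟩ := side P hLv hnot (Or.inl h1)
      exact Or.inl (line_full P hQ hLv hu hu0 hw hwu hl)
    by_cases h2 : ∃ s t : F, (s ≠ 0 ∨ t ≠ 0) ∧ s • x + t • y ∈ E
    · obtain ⟨u, hu, hu0, w, hw, hwu, hl⟩ := side P.symm hLv' (fun a ha b hb h => hnot b hb a ha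
        ⟨by rw [Set.pair_comm]; exact h.1, by rw [Set.pair_comm]; exact h.2⟩) (Or.inl h2)
      exact Or.inr (line_full P.symm hQ hLv' hu hu0 hw hwu hl)
    · push Not at h1 h2
      obtain ⟨u, hu, hu0, w, hw, hwu, hl⟩ := side P hLv hnot
        (Or.inr fun s t h => ⟨h1 s t h, h2 s t h⟩)
      exact Or.inl (line_full P hQ hLv hu hu0 hw hwu hl)
  obtain ⟨a, ha, ha0⟩ := Submodule.exists_mem_ne_zero_of_ne_bot
    (p := D) (fun h => by have := P.finD; rw [h, finrank_bot] at this; omega)
  obtain ⟨b, hb, hab, -⟩ := P.exists_in hQ (U := (⊥ : Submodule F V)) bot_le ha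
    (by rwa [Submodule.mem_bot])
  have hne : polar Q a b ≠ 0 := by rw [hab]; exact one_ne_zero
  have hpre : ∀ {A A' : Submodule F V}, finrank F A = k → finrank F A' = k →
      (∀ z ∈ A, j.1 z ∈ A') → ∀ z ∈ A', ∃ w ∈ A, j.1 w = z := fun {A A'} h1 h2 h z hz => by
    have : A.map (j.1 : V →ₗ[F] V) = A' := Submodule.eq_of_le_of_finrank_eq
      (Submodule.map_le_iff_le_comap.2 h) (by rw [LinearEquiv.finrank_map_eq, h1, h2])
    exact Submodule.mem_map.1 (this.ge hz)
  rcases hFD with h | h
  · obtain ⟨w, hw, hwb⟩ := hpre P.finD P.finE hjD b hb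
    exact le_of_full_pair hQ hn (P.sD a ha) (P.sE b hb) hne (h a ha) (hwb ▸ (h w hw).conj hjK)
  · obtain ⟨w, hw, hwa⟩ := hpre P.finE P.finD hjE a ha
    exact le_of_full_pair hQ hn (P.sD a ha) (P.sE b hb) hne (hwa ▸ (h w hw).conj hjK) (h b hb)

/-- `Ω` does not permute the pair. -/
theorem pair_not_le (P : TSPair Q k D E) (hk3 : 3 ≤ k) (hQ : (polarBilin Q).Nondegenerate)
    (hn : 5 ≤ finrank F V) : ∃ g ∈ Subgroup.closure (Sieg Q),
      ¬ (((∀ x ∈ D, g.1 x ∈ D) ∧ ∀ x ∈ E, g.1 x ∈ E) ∨
        ((∀ x ∈ D, g.1 x ∈ E) ∧ ∀ x ∈ E, g.1 x ∈ D)) := by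
  obtain ⟨b, hb, -, -, hb0⟩ := P.symm.exists_perp (U := (⊥ : Submodule F V)) 0 0
    (by rw [finrank_bot]; omega)
  rw [Submodule.mem_bot] at hb0
  obtain ⟨a, ha, hab, -⟩ := P.symm.exists_in hQ (U := (⊥ : Submodule F V)) bot_le hb
    (by rwa [Submodule.mem_bot])
  obtain ⟨b', hb', hb'a, -, hb'n⟩ := P.symm.exists_perp (U := (⊥ : Submodule F V)) a a
    (by rw [finrank_bot]; omega)
  rw [Submodule.mem_bot] at hb'n
  obtain ⟨g, hg⟩ := exists_eich Q (P.sE b hb) (P.symm.polD hb hb')
  refine ⟨g, eich_mem Q hQ hn hb0 (P.sE b hb) (P.symm.polD hb hb') hg, ?_⟩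
  have e : g.1 a = a + b' := by
    rw [eich_sing hg (P.sE b' hb'), hab, hb'a, one_smul, zero_smul, sub_zero]
  have ha0 : a ≠ 0 := fun h => by rw [h, polar_zero_right] at hab; exact zero_ne_one hab
  rintro (⟨h, -⟩ | ⟨h, -⟩)
  · have := h a ha
    rw [e] at this
    exact hb'n (Submodule.disjoint_def.1 P.compl.disjoint _ (by simpa using D.sub_mem this ha) hb')
  · have := h a ha
    rw [e] at this
    exact ha0 (Submodule.disjoint_def.1 P.compl.disjoint _ ha (by simpa using E.sub_mem this hb'))

/-- The stabiliser of a pair of complementary totally singular subspaces is maximal in `Ω⁺`, in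
matrix form. -/
theorem pair_singular_maximal {F : Type*} [Field F] [Fintype F] {ι : Type} [Fintype ι] [DecidableEq ι]
    {Q : (ι → F) → F} (hQ : IsNondegenerateQuadraticForm Q) {k : ℕ} (hk : 2 * k = Fintype.card ι)
    (hk8 : 6 ≤ k) (hke : Even k) {D : Fin 2 → Submodule F (ι → F)} (hD : IsMDecomposition k D)
    (hts : ∀ i, IsTotallySingularQuad Q (D i)) :
    IsMaximalIn (omegaGL Q) (decompositionStabilizer D ⊓ omegaGL Q) := by
  obtain ⟨R, rfl, hR⟩ := exists_form hQ
  have hd : finrank F (ι → F) = Fintype.card ι := Module.finrank_fintype_fun_eq_card F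
  have hc : IsCompl (D 0) (D 1) := by
    have h1 : Disjoint (D 0) (D 1) := hD.indep.pairwiseDisjoint (by decide)
    refine ⟨h1, codisjoint_iff.2 (Submodule.eq_top_of_finrank_eq ?_)⟩
    have h2 := Submodule.finrank_sup_add_finrank_inf_eq (D 0) (D 1)
    rw [h1.eq_bot, finrank_bot, hD.finrank_eq 0, hD.finrank_eq 1] at h2
    omega
  have P : TSPair R k (D 0) (D 1) := ⟨hD.finrank_eq 0, hD.finrank_eq 1, hc, hts 0, hts 1⟩
  have hmem : ∀ g : quadIso R, toMat R g ∈ decompositionStabilizer D ↔
      (((∀ x ∈ D 0, g.1 x ∈ D 0) ∧ ∀ x ∈ D 1, g.1 x ∈ D 1) ∨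
        ((∀ x ∈ D 0, g.1 x ∈ D 1) ∧ ∀ x ∈ D 1, g.1 x ∈ D 0)) := by
    intro g
    constructor
    · rintro ⟨σ, hσ⟩
      have h : ∀ i, ∀ x ∈ D i, g.1 x ∈ D (σ i) := fun i x hx =>
        (hσ i) ▸ Submodule.mem_map.2 ⟨x, hx, toMat_mulVec R g x⟩
      rcases Fin.exists_fin_two.1 ⟨σ 0, rfl⟩ with h0 | h0 <;>
        rcases Fin.exists_fin_two.1 ⟨σ 1, rfl⟩ with h1 | h1
      · exact absurd (σ.injective (h0.trans h1.symm)) (by decide)
      · exact Or.inl ⟨fun x hx => h0 ▸ h 0 x hx, fun x hx => h1 ▸ h 1 x hx⟩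
      · exact Or.inr ⟨fun x hx => h0 ▸ h 0 x hx, fun x hx => h1 ▸ h 1 x hx⟩
      · exact absurd (σ.injective (h0.trans h1.symm)) (by decide)
    · intro h
      have key : ∀ σ : Equiv.Perm (Fin 2), (∀ i, ∀ x ∈ D i, g.1 x ∈ D (σ i)) →
          toMat R g ∈ decompositionStabilizer D := fun σ hσ => by
        refine ⟨σ, fun i => Submodule.eq_of_le_of_finrank_eq ?_ ?_⟩
        · rintro _ ⟨x, hx, rfl⟩
          rw [Matrix.toLin'_apply, toMat_mulVec]
          exact hσ i x hx
        · rw [hD.finrank_eq, ← LinearEquiv.finrank_eq (Submodule.equivMapOfInjective _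
            (show Function.Injective (Matrix.toLin' (toMat R g : Matrix ι ι F)) from
              Matrix.mulVec_injective_iff_isUnit.2 (toMat R g).isUnit) (D i)), hD.finrank_eq]
      rcases h with ⟨a, b⟩ | ⟨a, b⟩
      · exact key 1 fun i x hx => by
          fin_cases i <;> [exact a x hx; exact b x hx]
      · exact key (Equiv.swap 0 1) fun i x hx => by
          fin_cases i <;> [exact a x hx; exact b x hx]
  rw [omegaGL_eq hR (by omega)]
  refine ⟨lt_of_le_of_ne inf_le_right fun e => ?_, fun K hK hKG => ?_⟩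
  · obtain ⟨g, hg, hgn⟩ := pair_not_le P (by omega) hR (by omega)
    have hm := Subgroup.mem_map_of_mem (toMat R) hg
    rw [← e] at hm
    exact hgn ((hmem g).1 hm.1)
  by_cases hle : K ≤ decompositionStabilizer D
  · exact Or.inl (le_antisymm (le_inf hle hKG) hK)
  obtain ⟨_, hgK, hgD⟩ := Set.not_subset.1 hle
  obtain ⟨g, hg, rfl⟩ := hKG hgK
  refine Or.inr (le_antisymm hKG ?_)
  have := pair_core (K := K.comap (toMat R)) P hk8 hke hR (by omega)
    (fun h hh hd => hK ⟨(hmem h).2 hd, Subgroup.mem_map_of_mem _ hh⟩) hgK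
    (fun h => hgD ((hmem g).2 h))
  exact Subgroup.map_le_iff_le_comap.2 this

end CfsgLib.MaxSub.Orth
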