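/-
Stabilisers of orthogonal decompositions into blocks of dimension at least three are maximal in `Ω`,
odd characteristic.
-/
import Cfsg.Agent.Lib.MaxSub.NotMaximalOrthFrame
import Cfsg.Agent.Lib.MaxSub.SubspaceMaximalOrthGL
import Cfsg.Agent.Lib.MaxSub.PairMaximalOrth
import Cfsg.Agent.Lib.MaxSub.DecompTools
import Cfsg.Agent.Lib.FiniteForms.Congr

set_option autoImplicit false
set_option maxHeartbeats 1000000
set_option linter.unusedSectionVars false

namespace CfsgLib.MaxSub.OrthWreath

open Module Cfsg Cfsg.Geo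
open CfsgLib.Eichler (Sieg IsEich exists_eich)
open CfsgLib.OmegaSimple (eich_mem)
open CfsgLib.WittExtension (quadIso)
open CfsgLib.SpinorNorm (refl refl_apply refl_inv)
open CfsgLib.MaxSub.Orth (InA refl_of_perp refl_mul_mem)
open QuadraticMap (polar polarBilin)

variable {F : Type*} [Field F] [Fintype F] {ι : Type} [Fintype ι] [DecidableEq ι] {t k : ℕ}
  {R : QuadraticForm F (ι → F)} {D : Fin t → Submodule F (ι → F)}

local notation "V" => (ι → F)

/-- The setting. -/
structure OW (R : QuadraticForm F (ι → F)) (k : ℕ) (D : Fin t → Submodule F (ι → F)) : Prop where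
  dim : 5 ≤ Fintype.card ι
  nd : (polarBilin R).Nondegenerate
  two : (2 : F) ≠ 0
  three_le : 3 ≤ k
  small : 4 ≤ k ∨ 5 ≤ Fintype.card F
  dec : IsOrthogonalMDecomposition (⇑R) k D

theorem block_nd (O : OW R k D) (i : Fin t) :
    ∀ x ∈ D i, (∀ y ∈ D i, polar R x y = 0) → x = 0 := fun x hx h => by
  by_contra hx0
  obtain ⟨-, y, hy, hne⟩ := O.dec.decomp.nondegenerate i x hx hx0
  exact hne (h y hy)

theorem block_perp (O : OW R k D) {i j : Fin t} (hij : i ≠ j) {x y : V} (hx : x ∈ D i)
    (hy : y ∈ D j) : polar R x y = 0 :=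
  O.dec.decomp.orthogonal i j hij x hx y hy

theorem comp_polar (O : OW R k D) {c : Fin t → V} (hc : Decomp.Fam D c) {j : Fin t} {y : V}
    (hy : y ∈ D j) : polar R (∑ i, c i) y = polar R (c j) y := by
  rw [← QuadraticMap.polarBilin_apply_apply, map_sum, LinearMap.sum_apply]
  exact Finset.sum_eq_single j (fun i _ hi => block_perp O hi (hc i) hy)
    (fun h => absurd (Finset.mem_univ j) h)

/-- A vector is in a block if it is perpendicular to the others. -/
theorem mem_block (O : OW R k D) {x : V} {j : Fin t}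
    (h : ∀ l, l ≠ j → ∀ y ∈ D l, polar R x y = 0) : x ∈ D j := by
  obtain ⟨c, hc, rfl⟩ := Decomp.exists_comp O.dec.decomp.decomp x
  rw [Finset.sum_eq_single j (fun l _ hl => block_nd O l _ (hc l) fun y hy => by
    rw [← comp_polar O hc hy]; exact h l hl y hy) (fun h => absurd (Finset.mem_univ j) h)]
  exact hc j

/-- A singular vector of a block outside a hyperplane. -/
theorem exists_sing_ne (O : OW R k D) (i : Fin t) (φ : V →ₗ[F] F) (h : ∃ y ∈ D i, φ y ≠ 0) :
    ∃ x ∈ D i, R x = 0 ∧ φ x ≠ 0 := by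
  by_contra hc
  push Not at hc
  obtain ⟨y, hy, hy0⟩ := h
  have hk := O.three_le
  obtain ⟨e, he, he0, hee⟩ := Orth.exists_singular_in (Q := R) (S := D i)
    (by rw [O.dec.decomp.decomp.finrank_eq]; exact hk)
  obtain ⟨f', hf', hef⟩ := Eichler.exists_partner (R.comp (D i).subtype)
    (Orth.nondeg_comp (block_nd O i)) (e := ⟨e, he⟩) (fun h => he0 (congrArg Subtype.val h)) hee
  have hff : R (f' : V) = 0 := hf'
  have hef' : polar R e (f' : V) = 1 := by rw [← hef]; simp [polar]
  set p := y - polar R y (f' : V) • e - polar R y e • (f' : V) with hp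
  have hpe : polar R p e = 0 := by
    rw [hp]
    simp [QuadraticMap.polar_sub_left, QuadraticMap.polar_self, hee, QuadraticMap.polar_comm R
      (f' : V) e, hef']
  have hpf : polar R p (f' : V) = 0 := by
    rw [hp]
    simp [QuadraticMap.polar_sub_left, QuadraticMap.polar_self, hff, hef']
  have hpD : p ∈ D i := (D i).sub_mem ((D i).sub_mem hy ((D i).smul_mem _ he))
    ((D i).smul_mem _ f'.2)
  have hs : R (p + (-(R p)) • e + (f' : V)) = 0 := by
    simp [QuadraticMap.map_add R, QuadraticMap.map_smul, QuadraticMap.polar_add_left, hee, hff, hpe,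
      hpf, hef']
  have h1 := hc _ ((D i).add_mem ((D i).add_mem hpD ((D i).smul_mem _ he)) f'.2) hs
  rw [map_add, map_add, map_smul, hc e he hee, hc _ f'.2 hff, smul_zero, add_zero, add_zero] at h1
  refine hy0 ?_
  rw [hp, map_sub, map_sub, map_smul, map_smul, hc e he hee, hc _ f'.2 hff] at h1
  simpa using h1

/-- Non-degenerate blocks have no totally singular hyperplane. -/
theorem exists_ns_in (O : OW R k D) (i : Fin t) (φ : V →ₗ[F] F) :
    ∃ a ∈ D i, φ a = 0 ∧ R a ≠ 0 := by
  by_contra hc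
  push Not at hc
  have hk := O.three_le
  have h1 := Orth.finrank_inf_ker (D i) φ
  have hsing : ∀ x ∈ Submodule.comap (D i).subtype (D i ⊓ LinearMap.ker φ),
      (R.comp (D i).subtype) x = 0 := fun x hx => hc x.1 x.2 hx.2
  have h2 := Orth.two_mul_finrank_sing (Q := R.comp (D i).subtype)
    (Orth.nondeg_comp (block_nd O i)) hsing
  rw [LinearEquiv.finrank_eq (Submodule.comapSubtypeEquivOfLe inf_le_left),
    O.dec.decomp.decomp.finrank_eq] at h2
  rw [O.dec.decomp.decomp.finrank_eq] at h1
  omega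

/-- The hypothesis on an overgroup. -/
def Ov (R : QuadraticForm F (ι → F)) (D : Fin t → Submodule F (ι → F))
    (K : Subgroup (quadIso R)) : Prop :=
  ∀ g : quadIso R, g ∈ Subgroup.closure (Sieg R) → (∀ i, ∀ x ∈ D i, g.1 x ∈ D i) → g ∈ K

variable {K : Subgroup (quadIso R)}

/-- A block Eichler element maps the blocks to themselves. -/
theorem eich_maps (O : OW R k D) {j : Fin t} {e a : V} (he : e ∈ D j) (ha : a ∈ D j) {g : quadIso R}
    (hg : IsEich R e a g) : ∀ i, ∀ x ∈ D i, g.1 x ∈ D i := fun i x hx => by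
  rw [hg x]
  by_cases hij : j = i
  · subst hij
    exact (D j).add_mem hx ((D j).add_mem ((D j).smul_mem _ ha) ((D j).smul_mem _ he))
  · rw [block_perp O hij he hx, block_perp O hij ha hx]
    simpa using hx

theorem inA_block (O : OW R k D) (hK : Ov R D K) {j : Fin t} {e a : V} (he : e ∈ D j) (ha : a ∈ D j)
    (he0 : e ≠ 0) (hee : R e = 0) (hea : polar R e a = 0) : InA K e a := fun g hg =>
  hK g (eich_mem R O.nd (by rw [Module.finrank_fintype_fun_eq_card]; exact O.dim) he0 hee hea hg)
    (eich_maps O he ha hg)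

theorem refl_maps (O : OW R k D) {j : Fin t} {w : V} (hw : R w ≠ 0) (hwD : w ∈ D j) :
    ∀ i, ∀ x ∈ D i, (refl R hw).1 x ∈ D i := fun i x hx => by
  rw [refl_apply]
  by_cases hij : j = i
  · subst hij
    exact (D j).add_mem hx ((D j).smul_mem _ hwD)
  · rw [block_perp O hij hwD hx]
    simpa using hx

theorem pair_mem (O : OW R k D) (hK : Ov R D K) {w₁ w₂ : V} {i j : Fin t} (h1 : R w₁ ≠ 0)
    (h2 : R w₂ ≠ 0) (he : R w₁ = R w₂) (hi : w₁ ∈ D i) (hj : w₂ ∈ D j) :
    refl R h1 * refl R h2 ∈ K :=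
  hK _ (refl_mul_mem O.nd (by rw [Module.finrank_fintype_fun_eq_card]; exact O.dim) h1 h2 he)
    fun l x hx => refl_maps O h1 hi l _ (refl_maps O h2 hj l x hx)

/-- The vectors whose Eichler transformations at `a` lie in `K`. -/
def W (K : Subgroup (quadIso R)) (a : ι → F) (ha : R a = 0) : Submodule F (ι → F) where
  carrier := {x | polar R a x = 0 ∧ ∀ s : F, InA K a (s • x)}
  zero_mem' := ⟨QuadraticMap.polar_zero_right _ _, fun s => by
    rw [smul_zero]; exact Orth.inA_zero a⟩
  add_mem' {x y} hx hy := ⟨by rw [QuadraticMap.polar_add_right, hx.1, hy.1, add_zero], fun s => by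
    rw [smul_add]
    exact Orth.InA.add ha (by rw [QuadraticMap.polar_smul_right, hx.1, smul_zero])
      (by rw [QuadraticMap.polar_smul_right, hy.1, smul_zero]) (hx.2 s) (hy.2 s)⟩
  smul_mem' c x hx := ⟨by rw [QuadraticMap.polar_smul_right, hx.1, smul_zero], fun s => by
    rw [smul_smul]; exact hx.2 _⟩

omit [Fintype F] [DecidableEq ι] in
theorem self_mem {a : V} (ha : R a = 0) : a ∈ W K a ha :=
  ⟨by rw [QuadraticMap.polar_self, ha, smul_zero], fun s => Orth.inA_self ha s⟩

theorem block_mem (O : OW R k D) (hK : Ov R D K) {j : Fin t} {e a : V} (he : e ∈ D j) (ha : a ∈ D j)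
    (he0 : e ≠ 0) (hee : R e = 0) (hea : polar R e a = 0) : a ∈ W K e hee :=
  ⟨hea, fun s => inA_block O hK he ((D j).smul_mem s ha) he0 hee
    (by rw [QuadraticMap.polar_smul_right, hea, smul_zero])⟩

omit [Fintype F] [DecidableEq ι] in
theorem mem_map {a x : V} {ha : R a = 0} (hx : x ∈ W K a ha) {g : quadIso R} (hg : g ∈ K)
    {a' : V} (ha' : R a' = 0) (h : g.1 a = a') : g.1 x ∈ W K a' ha' := by
  subst h
  refine ⟨by rw [OrthOrder.polar_map g.2, hx.1], fun s => ?_⟩
  have := (hx.2 s).conj hg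
  rwa [map_smul] at this

omit [Fintype F] [DecidableEq ι] in
theorem swap_mem {a w : V} {ha : R a = 0} (hw : R w = 0) (h : w ∈ W K a ha) : a ∈ W K w hw := by
  refine ⟨by rw [QuadraticMap.polar_comm]; exact h.1, fun s g hg => h.2 (-s) g fun x => ?_⟩
  rw [hg x, QuadraticMap.map_smul, QuadraticMap.map_smul, ha, hw]
  simp only [QuadraticMap.polar_smul_left, smul_eq_mul, mul_zero, zero_mul, sub_zero]
  module

/-- A singular block vector with a vector outside its block. -/
def Wit (R : QuadraticForm F (ι → F)) (D : Fin t → Submodule F (ι → F)) (K : Subgroup (quadIso R)) :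
    Prop :=
  ∃ (i : Fin t) (d y : ι → F) (hd : R d = 0), d ∈ D i ∧ d ≠ 0 ∧ y ∈ W K d hd ∧ y ∉ D i

omit [Fintype F] [DecidableEq ι] in
/-- Singular block vectors in `W u` are enough. -/
theorem wit_of_swap {u v : V} {hu : R u = 0} {j : Fin t} (hv : v ∈ W K u hu) (hvD : v ∈ D j)
    (hv0 : v ≠ 0) (hvv : R v = 0) (hout : u ∉ D j) : Wit R D K :=
  ⟨j, v, u, hvv, hvD, hv0, swap_mem hvv hv, hout⟩

/-- An element moving the blocks moves a root element. -/
theorem exists_pair (O : OW R k D) (hK : Ov R D K) {g : quadIso R} (hgK : g ∈ K)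
    (hg : ¬ ∀ i, ∃ j, ∀ x ∈ D i, g.1 x ∈ D j) :
    Wit R D K ∨ ∃ (u b : V) (hu : R u = 0), (∀ i, u ∉ D i) ∧ b ∈ W K u hu ∧
      b ∉ Submodule.span F {u} := by
  by_contra hc
  push Not at hc
  obtain ⟨hW, hno⟩ := hc
  have hk := O.three_le
  refine hg fun i => ?_
  obtain ⟨d₀, hd₀, hd₀0, hd₀s⟩ := Orth.exists_singular_in (Q := R) (S := D i)
    (by rw [O.dec.decomp.decomp.finrank_eq]; exact hk)
  have hblock : ∀ d ∈ D i, R d = 0 → d ≠ 0 →
      ∃ j, ∀ a ∈ D i, polar R d a = 0 → g.1 a ∈ D j := by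
    intro d hd hdd hd0
    have hgd : R (g.1 d) = 0 := (g.2 d).trans hdd
    by_cases hb : ∀ j, g.1 d ∉ D j
    · exfalso
      -- the perpendicular plane contains a vector off the line
      obtain ⟨a, ha, had, haD⟩ : ∃ a ∈ D i, polar R d a = 0 ∧ a ∉ Submodule.span F {d} := by
        obtain ⟨a, ha, h0, hns⟩ := exists_ns_in O i (polarBilin R d)
        refine ⟨a, ha, h0, fun h => ?_⟩
        obtain ⟨s, rfl⟩ := Submodule.mem_span_singleton.1 h
        exact hns (by rw [QuadraticMap.map_smul, hdd, smul_zero])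
      refine haD ?_
      have := hno (g.1 d) (g.1 a) hgd hb (mem_map (block_mem O hK hd ha hd0 hdd had) hgK hgd rfl)
      obtain ⟨s, hs⟩ := Submodule.mem_span_singleton.1 this
      rw [← map_smul] at hs
      exact Submodule.mem_span_singleton.2 ⟨s, g.1.injective hs⟩
    · push Not at hb
      obtain ⟨j, hj⟩ := hb
      refine ⟨j, fun a ha had => by_contra fun hout => hW ?_⟩
      exact ⟨j, g.1 d, g.1 a, hgd, hj, fun h => hd0 (g.1.map_eq_zero_iff.1 h),
        mem_map (block_mem O hK hd ha hd0 hdd had) hgK hgd rfl, hout⟩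
  obtain ⟨j, hj⟩ := hblock d₀ hd₀ hd₀s hd₀0
  refine ⟨j, fun x hx => ?_⟩
  have hsing : ∀ d ∈ D i, R d = 0 → g.1 d ∈ D j := by
    intro d hd hdd
    by_cases hd0 : d = 0
    · rw [hd0, map_zero]; exact zero_mem _
    obtain ⟨j', hj'⟩ := hblock d hd hdd hd0
    have hdj' := hj' d hd (by rw [QuadraticMap.polar_self, hdd, smul_zero])
    obtain ⟨a, ha, ha0⟩ := Submodule.exists_mem_ne_zero_of_ne_bot
      (show D i ⊓ LinearMap.ker (polarBilin R d₀) ⊓ LinearMap.ker (polarBilin R d) ≠ ⊥ from fun e => by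
        have h1 := Orth.finrank_inf_ker (D i) (polarBilin R d₀)
        have h2 := Orth.finrank_inf_ker (D i ⊓ LinearMap.ker (polarBilin R d₀)) (polarBilin R d)
        rw [e, finrank_bot] at h2
        rw [O.dec.decomp.decomp.finrank_eq] at h1
        omega)
    by_contra hout
    have hjj : j' ≠ j := fun e => hout (e ▸ hdj')
    refine ha0 (g.1.map_eq_zero_iff.1 ?_)
    exact Submodule.disjoint_def.1 (O.dec.decomp.decomp.indep.pairwiseDisjoint hjj) _
      (hj' a ha.1.1 ha.2) (hj a ha.1.1 ha.1.2)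
  by_contra hout
  obtain ⟨c, hc, hsum⟩ := Decomp.exists_comp O.dec.decomp.decomp (g.1 x)
  obtain ⟨l, hlj, hl⟩ : ∃ l, l ≠ j ∧ ∃ y ∈ D l, polar R (g.1 x) y ≠ 0 := by
    by_contra hno'
    push Not at hno'
    exact hout (mem_block O hno')
  obtain ⟨y, hy, hxy⟩ := hl
  obtain ⟨z, hz, hzz, hzy⟩ := exists_sing_ne O i ((polarBilin R y).comp (g.1 : V →ₗ[F] V))
    ⟨x, hx, by
      show polar R y (g.1 x) ≠ 0
      rwa [QuadraticMap.polar_comm]⟩
  exact hzy (block_perp O hlj hy (hsing z hz hzz))

/-- A root element with independent components in some block. -/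
theorem exists_good (O : OW R k D) (hK : Ov R D K) {u b : V} {hu : R u = 0} (hout : ∀ i, u ∉ D i)
    (hb : b ∈ W K u hu) (hbu : b ∉ Submodule.span F {u}) :
    Wit R D K ∨ ∃ (u' b' : V) (hu' : R u' = 0) (j : Fin t), u' ∉ D j ∧ b' ∈ W K u' hu' ∧
      ∀ lam : F, ∃ y ∈ D j, polar R b' y ≠ lam * polar R u' y := by
  have hk := O.three_le
  by_cases hall : ∃ j, ∀ lam : F, ∃ y ∈ D j, polar R b y ≠ lam * polar R u y
  · obtain ⟨j, hj⟩ := hall
    exact Or.inr ⟨u, b, hu, j, hout j, hb, hj⟩
  push Not at hall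
  choose lam hlam using hall
  obtain ⟨j, y₀, hy₀, hne⟩ : ∃ j, ∃ y ∈ D j, polar R u y ≠ 0 := by
    by_contra hno
    push Not at hno
    exact hout ⟨0, by have := O.dec.decomp.decomp.two_le; omega⟩
      (mem_block O fun l _ y hy => hno l y hy)
  obtain ⟨x, hxD, hxx, hux⟩ := exists_sing_ne O j (polarBilin R u) ⟨y₀, hy₀, hne⟩
  have hx0 : x ≠ 0 := fun h => hux (by rw [h, map_zero])
  have hux' : polar R u x ≠ 0 := hux
  obtain ⟨β, hβ⟩ : ∃ β, β = b - (lam j + R b) • u := ⟨_, rfl⟩
  have hβW : β ∈ W K u hu := hβ ▸ (W K u hu).sub_mem hb ((W K u hu).smul_mem _ (self_mem hu))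
  by_cases hβD : β ∈ D j
  · refine Or.inl (wit_of_swap hβW hβD (fun h => hbu ?_) ?_ (hout j))
    · exact Submodule.mem_span_singleton.2 ⟨lam j + R b, (sub_eq_zero.1 (hβ ▸ h)).symm⟩
    · have h1 : polar R β β = 0 := by
        conv_lhs => arg 2; rw [hβ]
        rw [QuadraticMap.polar_sub_left, QuadraticMap.polar_smul_left, hlam j β hβD, hβW.1]
        simp
      rw [QuadraticMap.polar_self, nsmul_eq_mul, Nat.cast_ofNat] at h1
      exact (mul_eq_zero.1 h1).resolve_left O.two
  obtain ⟨kk, hkk⟩ := exists_eich R hu hb.1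
  have hkK : kk ∈ K := by
    refine hb.2 1 kk ?_
    rwa [one_smul]
  have hval : ∀ y ∈ D j, kk.1 y = y + polar R u y • β := fun y hy => by
    rw [hkk y, hlam j y hy, hβ]; module
  obtain ⟨a, ha, hxa, hns⟩ := exists_ns_in O j (polarBilin R x)
  have hu' : R (kk.1 x) = 0 := (kk.2 x).trans hxx
  refine Or.inr ⟨kk.1 x, kk.1 a, hu', j, fun h => hβD ?_,
    mem_map (block_mem O hK hxD ha hx0 hxx hxa) hkK hu' rfl, fun l => ?_⟩
  · rw [hval x hxD] at h
    exact ((D j).smul_mem_iff hux').1 (by simpa using (D j).sub_mem h hxD)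
  · by_contra hcon
    push Not at hcon
    have hrel : ∀ y ∈ D j, polar R a y - l * polar R x y -
        (polar R u a - l * polar R u x) * R b * polar R u y = 0 := fun y hy => by
      have h := hcon y hy
      rw [hval x hxD, hval a ha, QuadraticMap.polar_add_left, QuadraticMap.polar_add_left,
        QuadraticMap.polar_smul_left, QuadraticMap.polar_smul_left, hβ, QuadraticMap.polar_sub_left,
        QuadraticMap.polar_smul_left, hlam j y hy] at h
      simp only [smul_eq_mul] at h
      linear_combination h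
    have h1 := hrel x hxD
    have hax : polar R a x = 0 := by rw [QuadraticMap.polar_comm]; exact hxa
    rw [hax, QuadraticMap.polar_self, hxx, smul_zero, mul_zero, sub_zero, zero_sub, neg_eq_zero,
      mul_eq_zero, or_iff_left hux'] at h1
    have h0 : a - l • x = 0 := block_nd O j _ ((D j).sub_mem ha ((D j).smul_mem _ hxD)) fun y hy => by
      have := hrel y hy
      rw [h1, zero_mul, sub_zero] at this
      rw [QuadraticMap.polar_sub_left, QuadraticMap.polar_smul_left, smul_eq_mul, this]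
    exact hns (by rw [sub_eq_zero.1 h0, QuadraticMap.map_smul, hxx, smul_zero])

/-- A non-degenerate subspace of dimension two takes every value. -/
theorem exists_value_in (h2 : (2 : F) ≠ 0) {S : Submodule F V}
    (hS : ∀ x ∈ S, (∀ y ∈ S, polar R x y = 0) → x = 0) (hd : 2 ≤ finrank F S) {c : F} (hc : c ≠ 0) :
    ∃ w ∈ S, R w = c := by
  obtain ⟨b, horth, hne⟩ := Orth.exists_orth_basis h2 hS
  let i₀ : Fin (finrank F S) := ⟨0, by omega⟩
  let i₁ : Fin (finrank F S) := ⟨1, by omega⟩
  obtain ⟨x, y, hxy⟩ := FiniteForms.exists_rep_one h2 (div_ne_zero (hne i₀) hc)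
    (div_ne_zero (hne i₁) hc)
  refine ⟨x • (b i₀).1 + y • (b i₁).1, S.add_mem (S.smul_mem _ (b i₀).2) (S.smul_mem _ (b i₁).2), ?_⟩
  rw [QuadraticMap.map_add R, QuadraticMap.map_smul, QuadraticMap.map_smul,
    QuadraticMap.polar_smul_left, QuadraticMap.polar_smul_right, horth i₀ i₁ (by simp [i₀, i₁])]
  simp only [smul_eq_mul, mul_zero, add_zero]
  field_simp at hxy
  linear_combination hxy

/-- A root element with independent components gives a block root element moving the blocks. -/
theorem wit_of_good (O : OW R k D) (hK : Ov R D K) {u b : V} {hu : R u = 0} {j : Fin t}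
    (hout : u ∉ D j) (hb : b ∈ W K u hu)
    (hind : ∀ lam : F, ∃ y ∈ D j, polar R b y ≠ lam * polar R u y) : Wit R D K := by
  have hk := O.three_le
  obtain ⟨c, hc, hsum⟩ := Decomp.exists_comp O.dec.decomp.decomp u
  have hcy : ∀ i, ∀ y ∈ D i, polar R u y = polar R (c i) y := fun i y hy => by
    rw [← hsum]; exact comp_polar O hc hy
  obtain ⟨S, hS⟩ : ∃ S, S = D j ⊓ LinearMap.ker (polarBilin R u) := ⟨_, rfl⟩
  have hSmem : ∀ y, y ∈ S ↔ y ∈ D j ∧ polar R u y = 0 := fun y => by rw [hS]; rfl
  have hSd : k ≤ finrank F S + 1 := by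
    have := Orth.finrank_inf_ker (D j) (polarBilin R u)
    rw [O.dec.decomp.decomp.finrank_eq] at this
    rw [hS]; exact this
  obtain ⟨y₀, hy₀, hφy₀⟩ : ∃ y ∈ S, polar R b y ≠ 0 := by
    by_contra hno
    push Not at hno
    by_cases hψ : ∃ y ∈ D j, polar R u y ≠ 0
    · obtain ⟨y₁, hy₁, hy₁0⟩ := hψ
      obtain ⟨y, hy, hne⟩ := hind (polar R b y₁ / polar R u y₁)
      refine hne ?_
      have h := hno (y - (polar R u y / polar R u y₁) • y₁) ((hSmem _).2
        ⟨(D j).sub_mem hy ((D j).smul_mem _ hy₁), by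
          rw [QuadraticMap.polar_sub_right, QuadraticMap.polar_smul_right, smul_eq_mul,
            div_mul_cancel₀ _ hy₁0, sub_self]⟩)
      rw [QuadraticMap.polar_sub_right, QuadraticMap.polar_smul_right, smul_eq_mul, sub_eq_zero] at h
      rw [h]
      field_simp
    · push Not at hψ
      obtain ⟨y, hy, hne⟩ := hind 0
      exact hne (by rw [hno y ((hSmem _).2 ⟨hy, hψ y hy⟩), zero_mul])
  -- a non-singular vector of the block not perpendicular to `b`
  obtain ⟨w₁, hw₁, hw₁Q, hw₁b⟩ : ∃ w ∈ S, R w ≠ 0 ∧ polar R b w ≠ 0 := by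
    by_contra hno
    push Not at hno
    have hsing : ∀ y ∈ S, polar R b y ≠ 0 → R y = 0 := fun y hy h => by
      by_contra h'
      exact h (hno y hy h')
    have hall : ∀ y ∈ S, R y = 0 := by
      intro y hy
      by_cases h : polar R b y = 0
      · have e1 := hsing (y₀ + y) (S.add_mem hy₀ hy)
          (by rw [QuadraticMap.polar_add_right, h, add_zero]; exact hφy₀)
        have e2 := hsing (y₀ - y) (S.sub_mem hy₀ hy)
          (by rw [QuadraticMap.polar_sub_right, h, sub_zero]; exact hφy₀)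
        rw [sub_eq_add_neg, QuadraticMap.map_add R, QuadraticMap.map_neg,
          QuadraticMap.polar_neg_right] at e2
        rw [QuadraticMap.map_add R] at e1
        rw [hsing y₀ hy₀ hφy₀] at e1 e2
        have : 2 * R y = 0 := by linear_combination e1 + e2
        exact (mul_eq_zero.1 this).resolve_left O.two
      · exact hsing y hy h
    have hle : S ≤ D j := hS ▸ inf_le_left
    have h2 := Orth.two_mul_finrank_sing (Q := R.comp (D j).subtype)
      (Orth.nondeg_comp (block_nd O j)) (S := Submodule.comap (D j).subtype S)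
      fun x hx => hall x.1 hx
    rw [LinearEquiv.finrank_eq (Submodule.comapSubtypeEquivOfLe hle),
      O.dec.decomp.decomp.finrank_eq] at h2
    omega
  -- a second vector of the same value
  obtain ⟨y, lam, hy, hy0, hyw, hlam, hz⟩ : ∃ (y : V) (lam : F), y ∈ S ∧ y ≠ 0 ∧
      polar R w₁ y = 0 ∧ lam ≠ 0 ∧ R w₁ + lam * lam * R y ≠ 0 := by
    have hdim := Orth.finrank_inf_ker S (polarBilin R w₁)
    obtain ⟨y, hy, hy0⟩ := Submodule.exists_mem_ne_zero_of_ne_bot
      (show S ⊓ LinearMap.ker (polarBilin R w₁) ≠ ⊥ from fun e => by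
        rw [e, finrank_bot] at hdim; omega)
    rcases O.small with hk4 | hq
    · by_contra hno
      push Not at hno
      have hval : ∀ z ∈ S ⊓ LinearMap.ker (polarBilin R w₁), z ≠ 0 → R z = -R w₁ := fun z hz hz0 => by
        have := hno z 1 hz.1 hz0 hz.2 one_ne_zero
        linear_combination this
      obtain ⟨z, hz, hzout⟩ : ∃ z ∈ S ⊓ LinearMap.ker (polarBilin R w₁),
          z ∉ Submodule.span F {y} := SetLike.not_le_iff_exists.1 fun hle => by
        have := Submodule.finrank_mono hle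
        rw [finrank_span_singleton hy0] at this
        omega
      have hz0 : z ≠ 0 := fun e => hzout (e ▸ Submodule.zero_mem _)
      have e1 := hval (y + z) (Submodule.add_mem _ hy hz) fun e => hzout (by
        rw [eq_neg_of_add_eq_zero_right e]
        exact Submodule.neg_mem _ (Submodule.mem_span_singleton_self y))
      have e2 := hval (y - z) (Submodule.sub_mem _ hy hz) fun e => hzout (by
        rw [← sub_eq_zero.1 e]; exact Submodule.mem_span_singleton_self y)
      rw [QuadraticMap.map_add R, hval y hy hy0, hval z hz hz0] at e1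
      rw [sub_eq_add_neg, QuadraticMap.map_add R, QuadraticMap.map_neg, hval y hy hy0, hval z hz hz0,
        QuadraticMap.polar_neg_right] at e2
      exact hw₁Q ((mul_eq_zero.1 (show 2 * R w₁ = 0 by linear_combination -e1 - e2)).resolve_left O.two)
    · obtain ⟨l, hl0, hl⟩ : ∃ l : F, l ≠ 0 ∧ R w₁ + l * l * R y ≠ 0 := by
        by_contra hno
        push Not at hno
        classical
        have h1 := hno 1 one_ne_zero
        have hRy : R y ≠ 0 := fun e => hw₁Q (by rw [e] at h1; simpa using h1)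
        have hsub : (Finset.univ : Finset F) ⊆ {0, 1, -1} := fun l _ => by
          by_cases hl0 : l = 0
          · simp [hl0]
          have h2 := hno l hl0
          have h3 : (l - 1) * (l + 1) = 0 := by
            have : ((l - 1) * (l + 1)) * R y = 0 := by linear_combination h2 - h1
            exact (mul_eq_zero.1 this).resolve_right hRy
          rcases mul_eq_zero.1 h3 with e | e
          · simp [sub_eq_zero.1 e]
          · simp [eq_neg_of_add_eq_zero_left e]
        have h4 := Finset.card_le_card hsub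
        rw [Finset.card_univ] at h4
        have := Finset.card_le_three (a := (0 : F)) (b := 1) (c := -1)
        omega
      exact ⟨y, l, hy.1, hy0, hy.2, hl0, hl⟩
  have hw₁S := (hSmem w₁).1 hw₁
  have hyS := (hSmem y).1 hy
  have hzQ : R (w₁ + lam • y) = R w₁ + lam * lam * R y := by
    rw [QuadraticMap.map_add R, QuadraticMap.map_smul, QuadraticMap.polar_smul_right, hyw]
    simp
  obtain ⟨w₂, hw₂⟩ : ∃ w, w = w₁ + (-(2 * R w₁ / R (w₁ + lam • y))) • (w₁ + lam • y) := ⟨_, rfl⟩
  have hzne : R (w₁ + lam • y) ≠ 0 := hzQ ▸ hz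
  have hw₂v : (refl R hzne).1 w₁ = w₂ := by
    rw [refl_apply, hw₂, QuadraticMap.polar_add_left, QuadraticMap.polar_self,
      QuadraticMap.polar_smul_left, QuadraticMap.polar_comm R y w₁, hyw, smul_zero, add_zero,
      inv_mul_eq_div, nsmul_eq_mul, Nat.cast_ofNat]
  have hw₂Q : R w₁ = R w₂ := by rw [← hw₂v]; exact ((refl R hzne).2 w₁).symm
  have hw₂Q0 : R w₂ ≠ 0 := hw₂Q ▸ hw₁Q
  have hw₂D : w₂ ∈ D j := hw₂ ▸ (D j).add_mem hw₁S.1 ((D j).smul_mem _
    ((D j).add_mem hw₁S.1 ((D j).smul_mem _ hyS.1)))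
  have huw₂ : polar R u w₂ = 0 := by
    rw [hw₂]
    simp [QuadraticMap.polar_add_right, QuadraticMap.polar_smul_right, hw₁S.2, hyS.2]
  have hhK := pair_mem O hK hw₁Q hw₂Q0 hw₂Q hw₁S.1 hw₂D
  have hhu : (refl R hw₁Q * refl R hw₂Q0).1 u = u := by
    show (refl R hw₁Q).1 ((refl R hw₂Q0).1 u) = u
    rw [refl_of_perp hw₂Q0 (by rw [QuadraticMap.polar_comm]; exact huw₂),
      refl_of_perp hw₁Q (by rw [QuadraticMap.polar_comm]; exact hw₁S.2)]
  obtain ⟨w, hw⟩ : ∃ w, w = (refl R hw₁Q * refl R hw₂Q0).1 b - b := ⟨_, rfl⟩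
  have hwW : w ∈ W K u hu := hw ▸ (W K u hu).sub_mem (mem_map hb hhK hu hhu) hb
  obtain ⟨β₂, hβ₂⟩ : ∃ β : F, β = -((R w₂)⁻¹ * polar R w₂ b) := ⟨_, rfl⟩
  obtain ⟨δ, hδ⟩ : ∃ δ : F, δ = -((R w₁)⁻¹ * (polar R w₁ b + β₂ * polar R w₁ w₂)) := ⟨_, rfl⟩
  have hwv : w = δ • w₁ + β₂ • w₂ := by
    rw [hw]
    show (refl R hw₁Q).1 ((refl R hw₂Q0).1 b) - b = _
    rw [refl_apply, refl_apply, ← hβ₂, QuadraticMap.polar_add_right, QuadraticMap.polar_smul_right,
      smul_eq_mul, ← hδ]
    module
  have hwD : w ∈ D j := hwv ▸ (D j).add_mem ((D j).smul_mem _ hw₁S.1) ((D j).smul_mem _ hw₂D)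
  have hw0 : w ≠ 0 := by
    intro e
    rw [hwv, hw₂] at e
    set r := -(2 * R w₁ / R (w₁ + lam • y)) with hr
    have hr0 : r ≠ 0 := neg_ne_zero.2 (div_ne_zero (mul_ne_zero O.two hw₁Q) hzne)
    have h1 := congrArg (fun z => polar R w₁ z) e
    simp only [QuadraticMap.polar_add_right, QuadraticMap.polar_smul_right, QuadraticMap.polar_self,
      QuadraticMap.polar_zero_right, hyw, smul_eq_mul, mul_zero, add_zero] at h1
    have e' : (β₂ * r * lam) • y = 0 := by
      have h2 : (δ + β₂ + β₂ * r) * (2 * R w₁) = 0 := by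
        rw [nsmul_eq_mul, Nat.cast_ofNat] at h1
        linear_combination h1
      rw [mul_eq_zero, or_iff_left (mul_ne_zero O.two hw₁Q)] at h2
      calc (β₂ * r * lam) • y = δ • w₁ + β₂ • (w₁ + r • (w₁ + lam • y)) -
            (δ + β₂ + β₂ * r) • w₁ := by module
        _ = 0 := by rw [e, h2, zero_smul, sub_zero]
    rw [smul_eq_zero, or_iff_left hy0, mul_eq_zero, or_iff_left hlam, mul_eq_zero,
      or_iff_left hr0] at e'
    rw [e', zero_smul, add_zero, smul_eq_zero,
      or_iff_left (fun h => hw₁Q (by rw [h, QuadraticMap.map_zero]))] at e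
    rw [e', zero_mul, add_zero, e] at hδ
    refine hw₁b ?_
    rw [QuadraticMap.polar_comm]
    exact (mul_eq_zero.1 (neg_eq_zero.1 hδ.symm)).resolve_left (inv_ne_zero hw₁Q)
  have hwS : w ∈ S := (hSmem w).2 ⟨hwD, hwW.1⟩
  by_cases hwQ : R w = 0
  · exact wit_of_swap hwW hwD hw0 hwQ hout
  -- a singular vector perpendicular to `w`
  have hperp : ∀ v ∈ S, v ≠ 0 → R v = 0 → polar R w v = 0 → Wit R D K := by
    intro v hv hv0 hvv hwv'
    have hvS := (hSmem v).1 hv
    have hQ1 : R (w + v) = R w := by rw [QuadraticMap.map_add R, hvv, hwv', add_zero, add_zero]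
    have hK' := pair_mem O hK (hQ1 ▸ hwQ : R (w + v) ≠ 0) hwQ hQ1 ((D j).add_mem hwD hvS.1) hwD
    have hfix : (refl R (hQ1 ▸ hwQ : R (w + v) ≠ 0) * refl R hwQ).1 u = u := by
      show (refl R _).1 ((refl R hwQ).1 u) = u
      rw [refl_of_perp hwQ (by rw [QuadraticMap.polar_comm]; exact hwW.1),
        refl_of_perp _ (by
          rw [QuadraticMap.polar_comm, QuadraticMap.polar_add_right, hwW.1, hvS.2, add_zero])]
    have h2 := (W K u hu).sub_mem (mem_map hwW hK' hu hfix) hwW
    have e : (refl R (hQ1 ▸ hwQ : R (w + v) ≠ 0) * refl R hwQ).1 w - w = (2 : F) • v := by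
      show (refl R _).1 ((refl R hwQ).1 w) - w = _
      rw [refl_apply R hwQ, refl_apply]
      simp only [QuadraticMap.polar_add_left, QuadraticMap.polar_add_right,
        QuadraticMap.polar_smul_right, QuadraticMap.polar_self, QuadraticMap.polar_comm R v w, hwv',
        hQ1, nsmul_eq_mul, Nat.cast_ofNat, smul_eq_mul]
      match_scalars <;> field_simp <;> ring
    rw [e] at h2
    exact wit_of_swap (((W K u hu).smul_mem_iff O.two).1 h2) hvS.1 hv0 hvv hout
  by_cases hcj : R (c j) = 0
  · by_cases hc0 : c j = 0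
    · -- the block is perpendicular to `u`
      have hu0 : ∀ y ∈ D j, polar R u y = 0 := fun y hy => by
        rw [hcy j y hy, hc0, QuadraticMap.polar_zero_left]
      obtain ⟨e, heD, hee, hew⟩ := exists_sing_ne O j (polarBilin R w)
        ⟨w, hwD, by
          show polar R w w ≠ 0
          rw [QuadraticMap.polar_self, nsmul_eq_mul, Nat.cast_ofNat]
          exact mul_ne_zero O.two hwQ⟩
      have he0 : e ≠ 0 := fun h => hew (by rw [h, map_zero])
      obtain ⟨a, ha, hea, haQ⟩ := exists_ns_in O j (polarBilin R e)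
      obtain ⟨g, hg⟩ := exists_eich R hee hea
      obtain ⟨g', hg'⟩ := exists_eich R (w := -a) hee (by
        rw [QuadraticMap.polar_neg_right, show polar R e a = 0 from hea, neg_zero])
      have hgK : g ∈ K := inA_block O hK heD ha he0 hee hea g hg
      have hg'K : g' ∈ K := inA_block O hK heD ((D j).neg_mem ha) he0 hee (by
        rw [QuadraticMap.polar_neg_right, show polar R e a = 0 from hea, neg_zero]) g' hg'
      have hfixu : ∀ {x : V} {h : quadIso R}, IsEich R e x h → x ∈ D j → h.1 u = u :=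
        fun {x h} hh hx => by
          rw [hh u, QuadraticMap.polar_comm R e u, hu0 e heD, QuadraticMap.polar_comm R x u, hu0 x hx]
          simp
      have h1 := (W K u hu).add_mem
        ((W K u hu).sub_mem (mem_map hwW hgK hu (hfixu hg ha)) hwW)
        ((W K u hu).sub_mem (mem_map hwW hg'K hu (hfixu hg' ((D j).neg_mem ha))) hwW)
      have e1 : g.1 w - w + (g'.1 w - w) = (-(2 * R a * polar R e w)) • e := by
        rw [hg w, hg' w, QuadraticMap.map_neg, QuadraticMap.polar_neg_left]
        module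
      rw [e1] at h1
      have hne : -(2 * R a * polar R e w) ≠ 0 :=
        neg_ne_zero.2 (mul_ne_zero (mul_ne_zero O.two haQ) (by
          rw [QuadraticMap.polar_comm]; exact hew))
      exact wit_of_swap (((W K u hu).smul_mem_iff hne).1 h1) heD he0 hee hout
    · refine hperp (c j) ((hSmem _).2 ⟨hc j, ?_⟩) hc0 hcj ?_
      · rw [hcy j _ (hc j), QuadraticMap.polar_self, hcj, smul_zero]
      · rw [QuadraticMap.polar_comm, ← hcy j _ hwD]; exact hwW.1
  -- now the perpendicular is non-degenerate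
  have hSnd : ∀ {i : Fin t}, R (c i) ≠ 0 →
      ∀ x ∈ D i ⊓ LinearMap.ker (polarBilin R u),
        (∀ z ∈ D i ⊓ LinearMap.ker (polarBilin R u), polar R x z = 0) → x = 0 := by
    intro i hci x hx h
    refine block_nd O i x hx.1 fun z hz => ?_
    have hcc : polar R (c i) (c i) ≠ 0 := by
      rw [QuadraticMap.polar_self, nsmul_eq_mul, Nat.cast_ofNat]; exact mul_ne_zero O.two hci
    have hx2 : polar R u x = 0 := hx.2
    have h1 := h (z - (polar R (c i) z / polar R (c i) (c i)) • c i)
      ⟨(D i).sub_mem hz ((D i).smul_mem _ (hc i)), by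
        show polar R u _ = 0
        rw [QuadraticMap.polar_sub_right, QuadraticMap.polar_smul_right, hcy i z hz, hcy i _ (hc i),
          smul_eq_mul, div_mul_cancel₀ _ hcc, sub_self]⟩
    rw [QuadraticMap.polar_sub_right, QuadraticMap.polar_smul_right,
      QuadraticMap.polar_comm R x (c i), ← hcy i x hx.1, hx2, smul_zero, sub_zero] at h1
    exact h1
  obtain ⟨l, hlj, hl⟩ : ∃ l, l ≠ j ∧ R (c l) ≠ 0 := by
    by_contra hno
    push Not at hno
    refine hcj ?_
    have h := hu
    rw [← hsum] at h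
    have h2 := Orth.map_sum_orth (Q := R) (w := c)
      (fun a e hae => block_perp O hae (hc a) (hc e)) (fun _ => 1) Finset.univ
    simp only [one_smul, one_mul] at h2
    rw [h2, Finset.sum_eq_single j (fun i _ hi => hno i hi) (fun h => absurd (Finset.mem_univ j) h)] at h
    exact h
  have hld : 2 ≤ finrank F ↥(D l ⊓ LinearMap.ker (polarBilin R u)) := by
    have := Orth.finrank_inf_ker (D l) (polarBilin R u)
    rw [O.dec.decomp.decomp.finrank_eq] at this
    omega
  -- vectors of `S` in `W`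
  have hgood : ∀ v ∈ S, polar R w v = 0 → R (w + v) ≠ 0 → v ∈ W K u hu := by
    intro v hv hwv' hne
    have hvS := (hSmem v).1 hv
    obtain ⟨w', hw', hw'Q⟩ := exists_value_in O.two (hSnd hl) hld hne
    have hw'Q0 : R w' ≠ 0 := hw'Q ▸ hne
    have hu' : polar R u w' = 0 := hw'.2
    have hK' := pair_mem O hK hne hw'Q0 hw'Q.symm ((D j).add_mem hwD hvS.1) hw'.1
    have hfix : (refl R hne * refl R hw'Q0).1 u = u := by
      show (refl R _).1 ((refl R hw'Q0).1 u) = u
      rw [refl_of_perp hw'Q0 (by rw [QuadraticMap.polar_comm]; exact hu'),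
        refl_of_perp hne (by
          rw [QuadraticMap.polar_comm, QuadraticMap.polar_add_right, hwW.1, hvS.2, add_zero])]
    have h2 := (W K u hu).sub_mem (mem_map hwW hK' hu hfix) hwW
    have e : (refl R hne * refl R hw'Q0).1 w - w = (-((R (w + v))⁻¹ * (2 * R w))) • (w + v) := by
      show (refl R _).1 ((refl R hw'Q0).1 w) - w = _
      rw [refl_of_perp hw'Q0 (block_perp O hlj hw'.1 hwD), refl_apply, QuadraticMap.polar_add_left,
        QuadraticMap.polar_comm R v w, hwv', QuadraticMap.polar_self, add_zero, nsmul_eq_mul,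
        Nat.cast_ofNat]
      module
    rw [e] at h2
    have h3 := ((W K u hu).smul_mem_iff
      (neg_ne_zero.2 (mul_ne_zero (inv_ne_zero hne) (mul_ne_zero O.two hwQ)))).1 h2
    simpa using (W K u hu).sub_mem h3 hwW
  have hSW : ∀ v ∈ S, polar R w v = 0 → v ∈ W K u hu := by
    intro v hv hwv'
    by_cases hne : R (w + v) = 0
    swap
    · exact hgood v hv hwv' hne
    have hRv : R v = -R w := by
      rw [QuadraticMap.map_add R, hwv', add_zero] at hne
      linear_combination hne
    by_cases hq : 5 ≤ Fintype.card F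
    · -- rescale
      obtain ⟨l', hl0, hl'⟩ : ∃ l : F, l ≠ 0 ∧ l * l ≠ 1 := by
        by_contra hno
        push Not at hno
        classical
        have hsub : (Finset.univ : Finset F) ⊆ {0, 1, -1} := fun l _ => by
          by_cases hl0 : l = 0
          · simp [hl0]
          rcases mul_self_eq_one_iff.1 (hno l hl0) with e | e <;> simp [e]
        have h4 := Finset.card_le_card hsub
        rw [Finset.card_univ] at h4
        have := Finset.card_le_three (a := (0 : F)) (b := 1) (c := -1)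
        omega
      refine ((W K u hu).smul_mem_iff hl0).1 (hgood _ (S.smul_mem l' hv) (by
        rw [QuadraticMap.polar_smul_right, hwv', smul_zero]) ?_)
      rw [QuadraticMap.map_add R, QuadraticMap.map_smul, QuadraticMap.polar_smul_right, hwv', hRv,
        smul_zero, add_zero, smul_eq_mul]
      intro h0
      have : (1 - l' * l') * R w = 0 := by linear_combination h0
      exact hl' ((sub_eq_zero.1 ((mul_eq_zero.1 this).resolve_right hwQ)).symm)
    have hk4 := O.small.resolve_right hq
    -- an auxiliary vector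
    have hw_ne : polar R w w ≠ 0 := by
      rw [QuadraticMap.polar_self, nsmul_eq_mul, Nat.cast_ofNat]; exact mul_ne_zero O.two hwQ
    have hv_ne : polar R v v ≠ 0 := by
      rw [QuadraticMap.polar_self, nsmul_eq_mul, Nat.cast_ofNat, hRv]
      exact mul_ne_zero O.two (neg_ne_zero.2 hwQ)
    obtain ⟨p, hpS, hwp, hvp, hpQ⟩ : ∃ p ∈ S, polar R w p = 0 ∧ polar R v p = 0 ∧ R p ≠ 0 := by
      by_contra hno
      push Not at hno
      have h1 := Orth.finrank_inf_ker S (polarBilin R w)
      have h2 := Orth.finrank_inf_ker (S ⊓ LinearMap.ker (polarBilin R w)) (polarBilin R v)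
      obtain ⟨p, hp, hp0⟩ := Submodule.exists_mem_ne_zero_of_ne_bot
        (show S ⊓ LinearMap.ker (polarBilin R w) ⊓ LinearMap.ker (polarBilin R v) ≠ ⊥ from
          fun e => by rw [e, finrank_bot] at h2; omega)
      have hp1 : polar R w p = 0 := hp.1.2
      have hp2 : polar R v p = 0 := hp.2
      refine hp0 (hSnd hcj p (hS ▸ hp.1.1) fun z hz => ?_)
      obtain ⟨z', hz'⟩ : ∃ z', z' = z - (polar R w z / polar R w w) • w -
          (polar R v z / polar R v v) • v := ⟨_, rfl⟩
      have hzw : polar R w z' = 0 := by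
        rw [hz', QuadraticMap.polar_sub_right, QuadraticMap.polar_sub_right,
          QuadraticMap.polar_smul_right, QuadraticMap.polar_smul_right, hwv', smul_zero, sub_zero,
          smul_eq_mul, div_mul_cancel₀ _ hw_ne, sub_self]
      have hzv : polar R v z' = 0 := by
        rw [hz', QuadraticMap.polar_sub_right, QuadraticMap.polar_sub_right,
          QuadraticMap.polar_smul_right, QuadraticMap.polar_smul_right,
          QuadraticMap.polar_comm R v w, hwv', smul_zero, sub_zero,
          smul_eq_mul, div_mul_cancel₀ _ hv_ne, sub_self]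
      have hz'S : z' ∈ S := hz' ▸ S.sub_mem (S.sub_mem (hS ▸ hz) (S.smul_mem _ hwS)) (S.smul_mem _ hv)
      have e1 := hno z' hz'S hzw hzv
      have e2 := hno p hp.1.1 hp1 hp2
      have e3 := hno (p + z') (S.add_mem hp.1.1 hz'S)
        (by rw [QuadraticMap.polar_add_right, hp1, hzw, add_zero])
        (by rw [QuadraticMap.polar_add_right, hp2, hzv, add_zero])
      rw [QuadraticMap.map_add R, e1, e2, zero_add, zero_add] at e3
      rwa [hz', QuadraticMap.polar_sub_right, QuadraticMap.polar_sub_right,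
        QuadraticMap.polar_smul_right, QuadraticMap.polar_smul_right, QuadraticMap.polar_comm R p w,
        hp1, QuadraticMap.polar_comm R p v, hp2, smul_zero, smul_zero, sub_zero, sub_zero] at e3
    by_cases hpp : R (w + p) = 0
    · have hRp : R p = -R w := by
        rw [QuadraticMap.map_add R, hwp, add_zero] at hpp
        linear_combination hpp
      have m1 := hgood (v + p) (S.add_mem hv hpS)
        (by rw [QuadraticMap.polar_add_right, hwv', hwp, add_zero]) (by
          rw [QuadraticMap.map_add R, QuadraticMap.polar_add_right, hwv', hwp, QuadraticMap.map_add R,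
            hvp, hRv, hRp]
          intro h0
          exact hwQ (by linear_combination -h0))
      have m2 := hgood (v - p) (S.sub_mem hv hpS)
        (by rw [QuadraticMap.polar_sub_right, hwv', hwp, sub_zero]) (by
          rw [QuadraticMap.map_add R, QuadraticMap.polar_sub_right, hwv', hwp, sub_eq_add_neg,
            QuadraticMap.map_add R, QuadraticMap.map_neg, QuadraticMap.polar_neg_right, hvp, hRv, hRp]
          intro h0
          exact hwQ (by linear_combination -h0))
      have h := (W K u hu).add_mem m1 m2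
      rw [show v + p + (v - p) = (2 : F) • v by module] at h
      exact ((W K u hu).smul_mem_iff O.two).1 h
    · have m1 := hgood p hpS hwp hpp
      have m2 := hgood (v + p) (S.add_mem hv hpS)
        (by rw [QuadraticMap.polar_add_right, hwv', hwp, add_zero]) (by
          rw [QuadraticMap.map_add R, QuadraticMap.polar_add_right, hwv', hwp, QuadraticMap.map_add R,
            hvp, hRv]
          intro h0
          exact hpQ (by linear_combination h0))
      simpa using (W K u hu).sub_mem m2 m1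
  have hSall : ∀ v ∈ S, v ∈ W K u hu := by
    intro v hv
    have hne : polar R w w ≠ 0 := by
      rw [QuadraticMap.polar_self, nsmul_eq_mul, Nat.cast_ofNat]; exact mul_ne_zero O.two hwQ
    have h1 := hSW (v - (polar R w v / polar R w w) • w) (S.sub_mem hv (S.smul_mem _ hwS)) (by
      rw [QuadraticMap.polar_sub_right, QuadraticMap.polar_smul_right, smul_eq_mul,
        div_mul_cancel₀ _ hne, sub_self])
    simpa using (W K u hu).add_mem h1 ((W K u hu).smul_mem (polar R w v / polar R w w) hwW)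
  by_cases hiso : ∃ v ∈ S, v ≠ 0 ∧ R v = 0
  · obtain ⟨v, hv, hv0, hvv⟩ := hiso
    exact wit_of_swap (hSall v hv) ((hSmem v).1 hv).1 hv0 hvv hout
  push Not at hiso
  -- an anisotropic perpendicular: move a singular vector inside the block
  obtain ⟨x, hxD, hxx, hxu⟩ := exists_sing_ne O j (polarBilin R u) ⟨c j, hc j, by
    show polar R u (c j) ≠ 0
    rw [hcy j _ (hc j), QuadraticMap.polar_self, nsmul_eq_mul, Nat.cast_ofNat]
    exact mul_ne_zero O.two hcj⟩
  have hux : polar R u x ≠ 0 := hxu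
  have hx0 : x ≠ 0 := fun h => hux (by rw [h, QuadraticMap.polar_zero_right])
  have hcc : polar R (c j) (c j) ≠ 0 := by
    rw [QuadraticMap.polar_self, nsmul_eq_mul, Nat.cast_ofNat]; exact mul_ne_zero O.two hcj
  obtain ⟨μ, hμ⟩ : ∃ μ : F, μ = polar R (c j) x / polar R (c j) (c j) := ⟨_, rfl⟩
  obtain ⟨σ, hσ⟩ : ∃ σ, σ = x - μ • c j := ⟨_, rfl⟩
  have hσS : σ ∈ S := hσ ▸ (hSmem _).2 ⟨(D j).sub_mem hxD ((D j).smul_mem _ (hc j)), by
    rw [QuadraticMap.polar_sub_right, QuadraticMap.polar_smul_right, hcy j _ (hc j), hcy j _ hxD,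
      hμ, smul_eq_mul, div_mul_cancel₀ _ hcc, sub_self]⟩
  have hσ0 : σ ≠ 0 := fun e => by
    have e' : x = μ • c j := sub_eq_zero.1 (hσ ▸ e)
    have h := hxx
    rw [e', QuadraticMap.map_smul, smul_eq_mul, mul_eq_zero, or_iff_left hcj, mul_self_eq_zero] at h
    exact hx0 (by rw [e', h, zero_smul])
  have hσQ : R σ ≠ 0 := hiso σ hσS hσ0
  obtain ⟨τ, hτ, hτ0⟩ := Submodule.exists_mem_ne_zero_of_ne_bot
    (show S ⊓ LinearMap.ker (polarBilin R σ) ≠ ⊥ from fun e => by
      have := Orth.finrank_inf_ker S (polarBilin R σ)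
      rw [e, finrank_bot] at this
      omega)
  have hτS := (hSmem τ).1 hτ.1
  have hστ : polar R σ τ = 0 := hτ.2
  have hτx : polar R x τ = 0 := by
    rw [show x = μ • c j + σ by rw [hσ]; abel, QuadraticMap.polar_add_left,
      QuadraticMap.polar_smul_left, hστ, ← hcy j τ hτS.1, hτS.2, smul_zero, add_zero]
  have hσx : polar R σ x = 2 * R σ := by
    rw [show x = μ • c j + σ by rw [hσ]; abel, QuadraticMap.polar_add_right,
      QuadraticMap.polar_smul_right, QuadraticMap.polar_self, QuadraticMap.polar_comm R σ (c j),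
      ← hcy j σ ((hSmem σ).1 hσS).1, ((hSmem σ).1 hσS).2, smul_zero, zero_add, nsmul_eq_mul,
      Nat.cast_ofNat]
  obtain ⟨s₀, hs₀⟩ : ∃ s, s = σ + τ := ⟨_, rfl⟩
  have hs₀S : s₀ ∈ S := hs₀ ▸ S.add_mem hσS hτ.1
  have hs₀x : polar R s₀ x ≠ 0 := by
    rw [hs₀, QuadraticMap.polar_add_left, hσx, QuadraticMap.polar_comm R τ x, hτx, add_zero]
    exact mul_ne_zero O.two hσQ
  have hs₀0 : s₀ ≠ 0 := fun e => hs₀x (by rw [e, QuadraticMap.polar_zero_left])
  have hs₀Q : R s₀ ≠ 0 := hiso s₀ hs₀S hs₀0
  obtain ⟨l', hl'⟩ : ∃ l' : F, l' = -(polar R s₀ x) / (R s₀ * polar R u x) := ⟨_, rfl⟩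
  have hl'0 : l' ≠ 0 := hl' ▸ div_ne_zero (neg_ne_zero.2 hs₀x) (mul_ne_zero hs₀Q hux)
  obtain ⟨s, hs⟩ : ∃ s, s = l' • s₀ := ⟨_, rfl⟩
  have hsW : s ∈ W K u hu := hs ▸ (W K u hu).smul_mem _ (hSall s₀ hs₀S)
  have hsD : s ∈ D j := hs ▸ (D j).smul_mem _ ((hSmem s₀).1 hs₀S).1
  have hsx : polar R s x + R s * polar R u x = 0 := by
    rw [hs, QuadraticMap.polar_smul_left, QuadraticMap.map_smul, hl']
    simp only [smul_eq_mul]
    field_simp
    ring
  obtain ⟨kk, hkk⟩ := exists_eich R hu hsW.1
  have hkK : kk ∈ K := by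
    refine hsW.2 1 kk ?_
    rwa [one_smul]
  obtain ⟨a, ha, hxa, hPa⟩ : ∃ a ∈ D j, polar R x a = 0 ∧
      polar R s a + R s * polar R u a ≠ 0 := by
    by_contra hno
    push Not at hno
    obtain ⟨f₁, hf₁, hxf⟩ : ∃ f ∈ D j, polar R x f ≠ 0 := by
      by_contra h
      push Not at h
      exact hx0 (block_nd O j x hxD h)
    obtain ⟨P, hP⟩ : ∃ P, P = s + R s • c j := ⟨_, rfl⟩
    have hPy : ∀ y ∈ D j, polar R P y = polar R s y + R s * polar R u y := fun y hy => by
      rw [hP, QuadraticMap.polar_add_left, QuadraticMap.polar_smul_left, smul_eq_mul, hcy j y hy]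
    have hPe : P = (polar R P f₁ / polar R x f₁) • x := by
      refine sub_eq_zero.1 (block_nd O j _ ((D j).sub_mem (hP ▸ (D j).add_mem hsD
        ((D j).smul_mem _ (hc j))) ((D j).smul_mem _ hxD)) fun y hy => ?_)
      rw [QuadraticMap.polar_sub_left, QuadraticMap.polar_smul_left, smul_eq_mul]
      have h1 := hno (y - (polar R x y / polar R x f₁) • f₁)
        ((D j).sub_mem hy ((D j).smul_mem _ hf₁)) (by
          rw [QuadraticMap.polar_sub_right, QuadraticMap.polar_smul_right, smul_eq_mul,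
            div_mul_cancel₀ _ hxf, sub_self])
      rw [← hPy _ ((D j).sub_mem hy ((D j).smul_mem _ hf₁)), QuadraticMap.polar_sub_right,
        QuadraticMap.polar_smul_right, smul_eq_mul] at h1
      rw [div_mul_eq_mul_div, ← h1]
      field_simp
    have h2 := congrArg (fun z => polar R τ z) hPe
    simp only [hP, hs, hs₀, QuadraticMap.polar_add_right, QuadraticMap.polar_smul_right,
      QuadraticMap.polar_comm R τ x, hτx, QuadraticMap.polar_comm R τ (c j), ← hcy j τ hτS.1, hτS.2,
      QuadraticMap.polar_comm R τ σ, hστ, QuadraticMap.polar_self, smul_eq_mul, mul_zero, add_zero,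
      zero_add, nsmul_eq_mul, Nat.cast_ofNat] at h2
    exact mul_ne_zero hl'0 (mul_ne_zero O.two (hiso τ hτ.1 hτ0)) h2
  have hkx : kk.1 x ∈ D j := by
    rw [hkk x, show -polar R s x - R s * polar R u x = 0 by linear_combination -hsx, zero_smul,
      add_zero]
    exact (D j).add_mem hxD ((D j).smul_mem _ hsD)
  have hu' : R (kk.1 x) = 0 := (kk.2 x).trans hxx
  refine ⟨j, kk.1 x, kk.1 a, hu', hkx, fun h => hx0 (kk.1.map_eq_zero_iff.1 h),
    mem_map (block_mem O hK hxD ha hx0 hxx hxa) hkK hu' rfl, fun hmem => hout ?_⟩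
  rw [hkk a] at hmem
  have h3 := (D j).sub_mem hmem ((D j).add_mem ha ((D j).smul_mem (polar R u a) hsD))
  rw [show a + (polar R u a • s + (-polar R s a - R s * polar R u a) • u) - (a + polar R u a • s) =
    (-(polar R s a + R s * polar R u a)) • u by module] at h3
  exact ((D j).smul_mem_iff (neg_ne_zero.2 hPa)).1 h3

/-- A witness gives a pair of blocks. -/
theorem exists_line (O : OW R k D) (hK : Ov R D K) (hW : Wit R D K) :
    ∃ i l, l ≠ i ∧ ∀ d ∈ D i, ∀ hd : R d = 0, d ≠ 0 → D l ≤ W K d hd := by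
  have grow : ∀ {i : Fin t} {d y : V} (hd : R d = 0), d ∈ D i → y ∈ W K d hd → ∀ l, l ≠ i →
      (∃ z ∈ D l, polar R y z ≠ 0) → D l ≤ W K d hd := by
    intro i d y hd hdi hy l hl hyz
    obtain ⟨e, heD, hee, hye⟩ := exists_sing_ne O l (polarBilin R y) hyz
    have hey : polar R e y ≠ 0 := by rw [QuadraticMap.polar_comm]; exact hye
    have he0 : e ≠ 0 := fun h => hey (by rw [h, QuadraticMap.polar_zero_left])
    have hconj : ∀ a ∈ D l, polar R e a = 0 →
        polar R e y • a + (-(polar R a y) - R a * polar R e y) • e ∈ W K d hd := by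
      intro a ha hea
      obtain ⟨g, hg⟩ := exists_eich R hee hea
      have hfix : g.1 d = d := by
        rw [hg d, block_perp O hl heD hdi, block_perp O hl ha hdi]; simp
      have := (W K d hd).sub_mem
        (mem_map hy (inA_block O hK heD ha he0 hee hea g hg) hd hfix) hy
      rwa [hg y, add_sub_cancel_left] at this
    obtain ⟨a, ha, hea, haQ⟩ := exists_ns_in O l (polarBilin R e)
    have hea' : polar R e a = 0 := hea
    have heW : e ∈ W K d hd := by
      have h := (W K d hd).add_mem (hconj a ha hea')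
        (hconj (-a) ((D l).neg_mem ha) (by rw [QuadraticMap.polar_neg_right, hea', neg_zero]))
      rw [QuadraticMap.map_neg, QuadraticMap.polar_neg_left,
        show polar R e y • a + (-polar R a y - R a * polar R e y) • e +
          (polar R e y • -a + (- -polar R a y - R a * polar R e y) • e) =
            (-(2 * R a * polar R e y)) • e by module] at h
      exact ((W K d hd).smul_mem_iff
        (neg_ne_zero.2 (mul_ne_zero (mul_ne_zero O.two haQ) hey))).1 h
    have hperpW : ∀ x ∈ D l, polar R e x = 0 → x ∈ W K d hd := by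
      intro x hx hex
      have h := (W K d hd).sub_mem (hconj x hx hex)
        ((W K d hd).smul_mem (-(polar R x y) - R x * polar R e y) heW)
      rw [add_sub_cancel_right] at h
      exact ((W K d hd).smul_mem_iff hey).1 h
    -- a second singular vector
    obtain ⟨e', he'D, hee', hee'1, he'y⟩ : ∃ e' ∈ D l, R e' = 0 ∧ polar R e e' ≠ 0 ∧
        polar R e' y ≠ 0 := by
      obtain ⟨f', hf', hef⟩ := Eichler.exists_partner (R.comp (D l).subtype)
        (Orth.nondeg_comp (block_nd O l)) (e := ⟨e, heD⟩) (fun h => he0 (congrArg Subtype.val h)) hee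
      have hef' : polar R e (f' : V) = 1 := by rw [← hef]; simp [polar]
      have hff : R (f' : V) = 0 := hf'
      by_cases hfy : polar R (f' : V) y = 0
      swap
      · exact ⟨f', f'.2, hff, by rw [hef']; exact one_ne_zero, hfy⟩
      obtain ⟨g, hg⟩ := exists_eich R hee hea'
      obtain ⟨g', hg'⟩ := exists_eich R (w := -a) hee
        (by rw [QuadraticMap.polar_neg_right, hea', neg_zero])
      have hm : ∀ (x : V) (h : quadIso R), IsEich R e x h → x ∈ D l → polar R e x = 0 →
          h.1 (f' : V) ∈ D l ∧ R (h.1 (f' : V)) = 0 ∧ polar R e (h.1 (f' : V)) ≠ 0 := by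
        intro x h hh hxD hex
        refine ⟨eich_maps O heD hxD hh l _ f'.2, (h.2 _).trans hff, ?_⟩
        rw [hh, QuadraticMap.polar_add_right, QuadraticMap.polar_add_right,
          QuadraticMap.polar_smul_right, QuadraticMap.polar_smul_right, hex, QuadraticMap.polar_self,
          hee, hef']
        simp
      by_cases h1 : polar R (g.1 (f' : V)) y = 0
      swap
      · obtain ⟨m1, m2, m3⟩ := hm a g hg ha hea'
        exact ⟨_, m1, m2, m3, h1⟩
      by_cases h2 : polar R (g'.1 (f' : V)) y = 0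
      swap
      · obtain ⟨m1, m2, m3⟩ := hm (-a) g' hg' ((D l).neg_mem ha)
          (by rw [QuadraticMap.polar_neg_right, hea', neg_zero])
        exact ⟨_, m1, m2, m3, h2⟩
      exfalso
      rw [hg, QuadraticMap.polar_add_left, QuadraticMap.polar_add_left, QuadraticMap.polar_smul_left,
        QuadraticMap.polar_smul_left, hfy, hef'] at h1
      rw [hg', QuadraticMap.polar_add_left, QuadraticMap.polar_add_left, QuadraticMap.polar_smul_left,
        QuadraticMap.polar_smul_left, hfy, hef', QuadraticMap.polar_neg_left, QuadraticMap.polar_neg_left,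
        QuadraticMap.map_neg] at h2
      simp only [smul_eq_mul] at h1 h2
      have : 2 * R a * polar R e y = 0 := by linear_combination -h1 - h2
      exact mul_ne_zero (mul_ne_zero O.two haQ) hey this
    have he'W : e' ∈ W K d hd := by
      have he'0 : e' ≠ 0 := fun h => he'y (by rw [h, QuadraticMap.polar_zero_left])
      obtain ⟨a', ha', hea1, ha'Q⟩ := exists_ns_in O l (polarBilin R e')
      have hea1' : polar R e' a' = 0 := hea1
      have hconj' : ∀ x ∈ D l, polar R e' x = 0 →
          polar R e' y • x + (-(polar R x y) - R x * polar R e' y) • e' ∈ W K d hd := by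
        intro x hx hex
        obtain ⟨g, hg⟩ := exists_eich R hee' hex
        have hfix : g.1 d = d := by
          rw [hg d, block_perp O hl he'D hdi, block_perp O hl hx hdi]; simp
        have := (W K d hd).sub_mem
          (mem_map hy (inA_block O hK he'D hx he'0 hee' hex g hg) hd hfix) hy
        rwa [hg y, add_sub_cancel_left] at this
      have h := (W K d hd).add_mem (hconj' a' ha' hea1')
        (hconj' (-a') ((D l).neg_mem ha') (by rw [QuadraticMap.polar_neg_right, hea1', neg_zero]))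
      rw [QuadraticMap.map_neg, QuadraticMap.polar_neg_left,
        show polar R e' y • a' + (-polar R a' y - R a' * polar R e' y) • e' +
          (polar R e' y • -a' + (- -polar R a' y - R a' * polar R e' y) • e') =
            (-(2 * R a' * polar R e' y)) • e' by module] at h
      exact ((W K d hd).smul_mem_iff
        (neg_ne_zero.2 (mul_ne_zero (mul_ne_zero O.two ha'Q) he'y))).1 h
    intro x hx
    have h1 := hperpW (x - (polar R e x / polar R e e') • e')
      ((D l).sub_mem hx ((D l).smul_mem _ he'D)) (by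
        rw [QuadraticMap.polar_sub_right, QuadraticMap.polar_smul_right, smul_eq_mul,
          div_mul_cancel₀ _ hee'1, sub_self])
    simpa using (W K d hd).add_mem h1 ((W K d hd).smul_mem (polar R e x / polar R e e') he'W)
  obtain ⟨i, d, y, hd, hdi, hd0, hy, hout⟩ := hW
  obtain ⟨l, hl, hyl⟩ : ∃ l, l ≠ i ∧ ∃ z ∈ D l, polar R y z ≠ 0 := by
    by_contra hno
    push Not at hno
    exact hout (mem_block O hno)
  have hDl := grow hd hdi hy l hl hyl
  refine ⟨l, i, hl.symm, fun e he hee he0 => ?_⟩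
  obtain ⟨z, hz, hdz⟩ : ∃ z ∈ D i, polar R d z ≠ 0 := by
    by_contra hno
    push Not at hno
    exact hd0 (block_nd O i d hdi hno)
  exact grow hee he (swap_mem hee (hDl he)) i hl.symm ⟨z, hz, hdz⟩

/-- An isometry interchanging two blocks. -/
theorem exists_block_swap (O : OW R k D) {a b : Fin t} (hab : a ≠ b) :
    ∃ s : quadIso R, (∀ x ∈ D a, s.1 x ∈ D b) ∧ (∀ x ∈ D b, s.1 x ∈ D a) ∧
      (∀ i, i ≠ a → i ≠ b → ∀ x ∈ D i, s.1 x = x) ∧
      (∀ x ∈ D a, s⁻¹.1 x ∈ D b) ∧ (∀ x ∈ D b, s⁻¹.1 x ∈ D a) ∧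
      (∀ i, i ≠ a → i ≠ b → ∀ x ∈ D i, s⁻¹.1 x = x) := by
  classical
  obtain ⟨φ, hφ⟩ := O.dec.isometric a b
  let ψ : ∀ i, D i →ₗ[F] V := fun i =>
    if h : i = a then h ▸ ((D b).subtype ∘ₗ φ.toLinearMap)
    else if h' : i = b then h' ▸ ((D a).subtype ∘ₗ φ.symm.toLinearMap)
    else (D i).subtype
  have hψa : ∀ x : D a, ψ a x = (φ x : V) := fun x => by simp [ψ]
  have hψb : ∀ x : D b, ψ b x = (φ.symm x : V) := fun x => by simp [ψ, hab.symm]
  have hψo : ∀ i, i ≠ a → i ≠ b → ∀ x : D i, ψ i x = (x : V) := fun i h1 h2 x => by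
    simp [ψ, h1, h2]
  obtain ⟨T, hT⟩ := Decomp.exists_glue O.dec.decomp.decomp ψ
  have hTm : ∀ i x (hx : x ∈ D i), T x = ψ i ⟨x, hx⟩ := fun i x hx => by
    have hfam : Decomp.Fam D (Pi.single i x) := fun j => by
      by_cases h : j = i
      · subst h; simpa using hx
      · simp [Pi.single_eq_of_ne h]
    have := hT _ hfam
    rw [Finset.sum_pi_single'] at this
    simp only [Finset.mem_univ, if_true] at this
    rw [this, Finset.sum_eq_single i]
    · congr 1; exact Subtype.ext (by simp)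
    · intro j _ hj
      rw [show (⟨(Pi.single i x : Fin t → V) j, hfam j⟩ : D j) = 0 from
        Subtype.ext (by simp [Pi.single_eq_of_ne hj]), map_zero]
    · exact fun h => absurd (Finset.mem_univ i) h
  let σ := Equiv.swap a b
  have hmem : ∀ i, ∀ z ∈ D i, T z ∈ D (σ i) := fun i z hz => by
    by_cases h1 : i = a
    · subst h1; rw [show σ i = b from Equiv.swap_apply_left _ _, hTm _ z hz, hψa]; exact (φ _).2
    by_cases h2 : i = b
    · subst h2; rw [show σ i = a from Equiv.swap_apply_right _ _, hTm _ z hz, hψb]; exact (φ.symm _).2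
    rw [show σ i = i from Equiv.swap_apply_of_ne_of_ne h1 h2, hTm _ z hz, hψo i h1 h2]; exact hz
  have hQ : ∀ i, ∀ z ∈ D i, R (T z) = R z := fun i z hz => by
    rw [hTm i z hz]
    by_cases h1 : i = a
    · subst h1; rw [hψa, hφ]
    by_cases h2 : i = b
    · subst h2; rw [hψb, ← hφ, LinearEquiv.apply_symm_apply]
    rw [hψo i h1 h2]
  have hTT' : ∀ i, ∀ z ∈ D i, T (T z) = z := fun i z hz => by
    by_cases h1 : i = a
    · subst h1
      rw [hTm i z hz, hψa, hTm b _ (φ _).2, hψb]; simp
    by_cases h2 : i = b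
    · subst h2
      rw [hTm i z hz, hψb, hTm a _ (φ.symm _).2, hψa]; simp
    rw [hTm i z hz, hψo i h1 h2, hTm i z hz, hψo i h1 h2]
  have hTT : ∀ x, T (T x) = x := fun x => by
    obtain ⟨c, hc, rfl⟩ := Decomp.exists_comp O.dec.decomp.decomp x
    rw [map_sum, map_sum]
    exact Finset.sum_congr rfl fun i _ => hTT' i _ (hc i)
  let L : V ≃ₗ[F] V := LinearEquiv.ofLinear T T (LinearMap.ext hTT) (LinearMap.ext hTT)
  have hiso : ∀ x, R (L x) = R x := fun x => by
    obtain ⟨c, hc, rfl⟩ := Decomp.exists_comp O.dec.decomp.decomp x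
    show R (T (∑ i, c i)) = _
    have h1 := Orth.map_sum_orth (Q := R) (w := fun i => T (c i))
      (fun p e hpe => block_perp O (fun h => hpe (σ.injective h)) (hmem p _ (hc p)) (hmem e _ (hc e)))
      (fun _ => 1) Finset.univ
    have h2 := Orth.map_sum_orth (Q := R) (w := c)
      (fun p e hpe => block_perp O hpe (hc p) (hc e)) (fun _ => 1) Finset.univ
    simp only [one_smul, one_mul] at h1 h2
    rw [map_sum, h1, h2]
    exact Finset.sum_congr rfl fun i _ => hQ i _ (hc i)
  refine ⟨⟨L, hiso⟩, fun x hx => ?_, fun x hx => ?_, fun i h1 h2 x hx => ?_, fun x hx => ?_,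
    fun x hx => ?_, fun i h1 h2 x hx => ?_⟩
  · exact Equiv.swap_apply_left a b ▸ hmem a x hx
  · exact Equiv.swap_apply_right a b ▸ hmem b x hx
  · show T x = x; rw [hTm i x hx, hψo i h1 h2]
  · exact Equiv.swap_apply_left a b ▸ hmem a x hx
  · exact Equiv.swap_apply_right a b ▸ hmem b x hx
  · show T x = x; rw [hTm i x hx, hψo i h1 h2]

/-- Cycles of blocks lie in the overgroup. -/
theorem omega_le (O : OW R k D) (hK : Ov R D K)
    (hcyc : ∀ g : quadIso R, g ∈ Subgroup.closure (Sieg R) → (∀ i, ∃ j, ∀ x ∈ D i, g.1 x ∈ D j) →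
      g ∈ K) (hW : Wit R D K) : Subgroup.closure (Sieg R) ≤ K := by
  have hn : 5 ≤ finrank F V := by rw [Module.finrank_fintype_fun_eq_card]; exact O.dim
  obtain ⟨i, l, hli, hline⟩ := exists_line O hK hW
  have hall : ∀ m, m ≠ i → ∀ d ∈ D i, ∀ hd : R d = 0, d ≠ 0 → D m ≤ W K d hd := by
    intro m hm
    by_cases hml : m = l
    · subst hml; exact hline
    obtain ⟨s, sa, sb, so, sa', sb', so'⟩ := exists_block_swap O hli.symm
    obtain ⟨τ, ta, tb, t_o, ta', tb', to'⟩ := exists_block_swap O (Ne.symm hml)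
    set g := s * τ * s⁻¹ * τ⁻¹ with hg
    have hval : ∀ x, g.1 x = s.1 (τ.1 (s⁻¹.1 (τ⁻¹.1 x))) := fun x => rfl
    have hgi : ∀ x ∈ D i, g.1 x ∈ D m := fun x hx => by
      rw [hval, to' i hli.symm hm.symm x hx]
      have h1 := ta _ (sa' x hx)
      rwa [so m hm hml _ h1]
    have hgl : ∀ x ∈ D l, g.1 x ∈ D i := fun x hx => by
      rw [hval, so' m hm hml _ (ta' x hx)]
      exact sb _ (tb _ (ta' x hx))
    have hgm : ∀ x ∈ D m, g.1 x ∈ D l := fun x hx => by
      rw [hval]
      have h1 := sb' _ (tb' x hx)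
      rw [t_o i hli.symm hm.symm _ h1]
      exact sa _ h1
    have hgo : ∀ p, p ≠ i → p ≠ l → p ≠ m → ∀ x ∈ D p, g.1 x ∈ D p := fun p h1 h2 h3 x hx => by
      rw [hval, to' p h2 h3 x hx, so' p h1 h2 x hx, t_o p h2 h3 x hx, so p h1 h2 x hx]
      exact hx
    have hgK : g ∈ K := by
      refine hcyc g ?_ fun p => ?_
      · rw [← OmegaSimple.commutator_eq R O.nd hn, _root_.commutator_def]
        exact Subgroup.commutator_mem_commutator (Subgroup.mem_top s) (Subgroup.mem_top τ)
      · by_cases h1 : p = i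
        · exact ⟨m, h1 ▸ hgi⟩
        by_cases h2 : p = l
        · exact ⟨i, h2 ▸ hgl⟩
        by_cases h3 : p = m
        · exact ⟨l, h3 ▸ hgm⟩
        exact ⟨p, hgo p h1 h2 h3⟩
    have hsurj : ∀ e ∈ D m, ∃ d ∈ D i, g.1 d = e := by
      intro e he
      have hinj : Function.Injective (g.1 : V →ₗ[F] V) := g.1.injective
      have hmap : (D i).map (g.1 : V →ₗ[F] V) = D m :=
        Submodule.eq_of_le_of_finrank_eq (Submodule.map_le_iff_le_comap.2 hgi)
          (by rw [LinearEquiv.finrank_map_eq g.1 (D i), O.dec.decomp.decomp.finrank_eq,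
            O.dec.decomp.decomp.finrank_eq])
      obtain ⟨d, hd, hde⟩ := Submodule.mem_map.1 (hmap.ge he)
      exact ⟨d, hd, hde⟩
    intro d hd hdd hd0 e he
    obtain ⟨d', hd', hde⟩ := hsurj e he
    -- the relation moves to the pair `(m, i)`
    have hback : ∀ e' ∈ D m, ∀ he' : R e' = 0, e' ≠ 0 → d ∈ W K e' he' := by
      intro e' he' hee' he'0
      obtain ⟨d₁, hd₁, hde₁⟩ := hsurj e' he'
      have hd₁s : R d₁ = 0 := by rw [← g.2 d₁, hde₁, hee']
      have hd₁0 : d₁ ≠ 0 := fun h => he'0 (by rw [← hde₁, h, map_zero])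
      obtain ⟨z, hz, hze⟩ : ∃ z ∈ D l, g.1 z = d := by
        have hmap : (D l).map (g.1 : V →ₗ[F] V) = D i :=
          Submodule.eq_of_le_of_finrank_eq (Submodule.map_le_iff_le_comap.2 hgl)
            (by rw [LinearEquiv.finrank_map_eq g.1 (D l), O.dec.decomp.decomp.finrank_eq,
              O.dec.decomp.decomp.finrank_eq])
        obtain ⟨z, hz, hze⟩ := Submodule.mem_map.1 (hmap.ge hd)
        exact ⟨z, hz, hze⟩
      rw [← hze]
      exact mem_map (hline d₁ hd₁ hd₁s hd₁0 hz) hgK hee' hde₁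
    -- singular vectors span the block
    by_contra hne
    obtain ⟨φ, hφe, hφ⟩ : ∃ φ : V →ₗ[F] F, φ e ≠ 0 ∧ ∀ x ∈ W K d hdd, φ x = 0 := by
      obtain ⟨φ, h1, h2⟩ := Submodule.exists_dual_map_eq_bot_of_notMem hne inferInstance
      exact ⟨φ, h1, fun x hx => by
        have := Submodule.mem_map_of_mem (f := φ) hx
        rwa [h2, Submodule.mem_bot] at this⟩
    obtain ⟨e', he', hee', hφe'⟩ := exists_sing_ne O m φ ⟨e, he, hφe⟩
    exact hφe' (hφ e' (swap_mem hdd (hback e' he' hee' fun h => hφe' (by rw [h, map_zero]))))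
  have hfull : ∀ d ∈ D i, R d = 0 → d ≠ 0 → Orth.Full K d := by
    intro d hd hdd hd0 x hx
    obtain ⟨c, hc, rfl⟩ := Decomp.exists_comp O.dec.decomp.decomp x
    have hci : polar R d (c i) = 0 := by
      rw [QuadraticMap.polar_comm, ← comp_polar O hc hd, QuadraticMap.polar_comm]; exact hx
    have hmem : ∑ p, c p ∈ W K d hdd := Submodule.sum_mem _ fun p _ => by
      by_cases hp : p = i
      · subst hp; exact block_mem O hK hd (hc p) hd0 hdd hci
      · exact hall p hp d hd hdd hd0 (hc p)
    have := hmem.2 1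
    rwa [one_smul] at this
  obtain ⟨e, he, he0, hee⟩ := Orth.exists_singular_in (Q := R) (S := D i)
    (by rw [O.dec.decomp.decomp.finrank_eq]; exact O.three_le)
  obtain ⟨f', hf', hef⟩ := Eichler.exists_partner (R.comp (D i).subtype)
    (Orth.nondeg_comp (block_nd O i)) (e := ⟨e, he⟩) (fun h => he0 (congrArg Subtype.val h)) hee
  have hef' : polar R e (f' : V) = 1 := by rw [← hef]; simp [polar]
  refine Orth.le_of_full_pair O.nd hn hee hf' ?_ (hfull e he hee he0)
    (hfull _ f'.2 hf' fun h => ?_)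
  · show polar R e (f' : V) ≠ 0
    rw [hef']; exact one_ne_zero
  · have h' : (f' : V) = 0 := h
    rw [h', QuadraticMap.polar_zero_right] at hef'
    exact zero_ne_one hef'

/-- The stabiliser of the decomposition is maximal. -/
theorem orth_wreath_maximal (O : OW R k D) :
    IsMaximalIn (omegaGL ⇑R) (decompositionStabilizer D ⊓ omegaGL ⇑R) := by
  have hn : 5 ≤ finrank F V := by rw [Module.finrank_fintype_fun_eq_card]; exact O.dim
  have hD := O.dec.decomp.decomp
  have hmapsH : ∀ g : quadIso R, (∀ i, ∃ j, ∀ x ∈ D i, g.1 x ∈ D j) →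
      Orth.toMat R g ∈ decompositionStabilizer D := fun g hg => Decomp.mem_stab_of hD fun i => by
    obtain ⟨j, hj⟩ := hg i
    exact ⟨j, fun x hx => by rw [Orth.toMat_mulVec]; exact hj x hx⟩
  rw [Orth.omegaGL_eq O.nd O.dim]
  refine ⟨lt_of_le_of_ne inf_le_right fun e => ?_, fun K hle hKG => ?_⟩
  · -- a root element across two blocks
    have ht := hD.two_le
    let i₀ : Fin t := ⟨0, by omega⟩
    let i₁ : Fin t := ⟨1, by omega⟩
    have h01 : i₀ ≠ i₁ := by simp [i₀, i₁]
    obtain ⟨x, hx, hx0, hxx⟩ := Orth.exists_singular_in (Q := R) (S := D i₀)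
      (by rw [hD.finrank_eq]; exact O.three_le)
    obtain ⟨a, ha, -, haQ⟩ := exists_ns_in O i₁ (0 : V →ₗ[F] F)
    obtain ⟨y, hy, hxy⟩ : ∃ y ∈ D i₀, polar R x y ≠ 0 := by
      by_contra hno
      push Not at hno
      exact hx0 (block_nd O i₀ x hx hno)
    obtain ⟨g, hg⟩ := exists_eich R hxx (block_perp O h01 hx ha)
    have hgS := (e.ge.trans inf_le_left) (Subgroup.mem_map_of_mem (Orth.toMat R)
      (eich_mem R O.nd hn hx0 hxx (block_perp O h01 hx ha) hg))
    obtain ⟨σ, hσ⟩ := Orth.exists_perm hgS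
    have hy' := hσ i₀ y hy
    rw [hg y, block_perp O h01.symm ha hy, neg_zero, zero_sub] at hy'
    by_cases hs : σ i₀ = i₁
    · have h1 := block_perp O h01.symm (hs ▸ hy') hx
      rw [QuadraticMap.polar_add_left, QuadraticMap.polar_add_left, QuadraticMap.polar_smul_left,
        QuadraticMap.polar_smul_left, block_perp O h01.symm ha hx, QuadraticMap.polar_self, hxx,
        QuadraticMap.polar_comm R y x] at h1
      simp at h1
      exact hxy h1
    · have h1 := block_perp O hs hy' ha
      rw [QuadraticMap.polar_add_left, QuadraticMap.polar_add_left, QuadraticMap.polar_smul_left,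
        QuadraticMap.polar_smul_left, block_perp O h01 hx ha, block_perp O h01 hy ha,
        QuadraticMap.polar_self] at h1
      simp [hxy, haQ, O.two] at h1
  by_cases hKH : K ≤ decompositionStabilizer D
  · exact Or.inl (le_antisymm (le_inf hKH hKG) hle)
  refine Or.inr (le_antisymm hKG ?_)
  obtain ⟨x, hxK, hxA⟩ := SetLike.not_le_iff_exists.1 hKH
  obtain ⟨g, hg, rfl⟩ := hKG hxK
  have hcyc : ∀ g' : quadIso R, g' ∈ Subgroup.closure (Sieg R) →
      (∀ i, ∃ j, ∀ x ∈ D i, g'.1 x ∈ D j) → g' ∈ K.comap (Orth.toMat R) :=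
    fun g' h1 h2 => hle ⟨hmapsH g' h2, Subgroup.mem_map_of_mem _ h1⟩
  have hK : Ov R D (K.comap (Orth.toMat R)) := fun g' h1 h2 => hcyc g' h1 fun i => ⟨i, h2 i⟩
  refine Subgroup.map_le_iff_le_comap.2 (omega_le O hK hcyc ?_)
  rcases exists_pair O hK (g := g) hxK (fun h => hxA (hmapsH g h)) with h | ⟨u, b, hu, h1, h2, h3⟩
  · exact h
  rcases exists_good O hK h1 h2 h3 with h | ⟨u', b', hu', j, h1', h2', h3'⟩
  · exact h
  exact wit_of_good O hK h1' h2' h3'

end CfsgLib.MaxSub.OrthWreath
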