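/-
The stabiliser of a pair of complementary totally singular subspaces is maximal in `SU`.
-/
import Cfsg.Agent.Lib.MaxSub.SubspaceMaximalUnitary
import Cfsg.Agent.Lib.PSLn.Basic
import Cfsg.Agent.Lib.Aschbacher.UnitaryProperGeneral

set_option autoImplicit false
set_option maxHeartbeats 800000

namespace CfsgLib.MaxSub.PairSU

open Matrix Module Cfsg Cfsg.Geo CfsgLib.UnitaryTransvection

variable {F : Type*} [Field F] [Fintype F] {n q : ℕ} (hF : Fintype.card F = q ^ 2)

local notation "h" => Cfsg.hermForm n F q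
local notation "σ" => frob hF
local notation "Mn" => Matrix (Fin n) (Fin n) F
local notation "V" => Fin n → F
local notation "G" => Cfsg.GU n F q ⊓ specialLinear (Fin n) F

/-- `g` is the root element `x ↦ x + h(x,u) v - h(x,v) u`. -/
def IsS (q : ℕ) (u v : Fin n → F) (g : GL (Fin n) F) : Prop :=
  ∀ x, (g : Mn) *ᵥ x = x + Cfsg.hermForm n F q x u • v - Cfsg.hermForm n F q x v • u

/-- `g` is the transvection `x ↦ x + c h(x,u) u`. -/
def IsT (q : ℕ) (u : Fin n → F) (c : F) (g : GL (Fin n) F) : Prop :=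
  ∀ x, (g : Mn) *ᵥ x = x + (c * Cfsg.hermForm n F q x u) • u

/-- The root element is in `K`. -/
def InS (q : ℕ) (K : Subgroup (GL (Fin n) F)) (u v : Fin n → F) : Prop := ∃ g ∈ K, IsS q u v g

/-- The transvection is in `K`. -/
def InT (q : ℕ) (K : Subgroup (GL (Fin n) F)) (u : Fin n → F) (c : F) : Prop :=
  ∃ g ∈ K, IsT q u c g

omit [Fintype F] in
theorem gl_ext {g g' : GL (Fin n) F} (e : ∀ y, (g : Mn) *ᵥ y = (g' : Mn) *ᵥ y) : g = g' :=
  Units.ext (Matrix.ext_of_mulVec_single fun _ => e _)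

variable {hF}

include hF in
theorem h_zero {u v : V} (e : h u v = 0) : h v u = 0 := by rw [← h_swap hF, e, map_zero]

omit [Fintype F] in
theorem qvec_dot (u x : V) : (fun j => u j ^ q) ⬝ᵥ x = h x u := dotProduct_comm _ _

include hF in
theorem exists_S {u v : V} (hu : h u u = 0) (hv : h v v = 0) (huv : h u v = 0) :
    ∃ g ∈ G, IsS q u v g := by
  have hvu := h_zero (hF := hF) huv
  have e1 : (fun j => u j ^ q) ⬝ᵥ v = 0 := by rw [qvec_dot, hvu]
  have e2 : (-(fun j => v j ^ q)) ⬝ᵥ u = 0 := by rw [neg_dotProduct, qvec_dot, huv, neg_zero]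
  let A := PSLn.tv v (fun j => u j ^ q) e1 * PSLn.tv u (-(fun j => v j ^ q)) e2
  have hact : ∀ x, A.1 *ᵥ x = x + h x u • v - h x v • u := fun x => by
    simp only [A, Matrix.SpecialLinearGroup.coe_mul, ← Matrix.mulVec_mulVec, PSLn.coe_tv,
      Matrix.add_mulVec, Matrix.one_mulVec, vecMulVec_mulVec, op_smul_eq_smul, neg_dotProduct,
      qvec_dot, h_add_left, h_smul_left, hu]
    module
  have hiso : ∀ x y, h (A.1 *ᵥ x) (A.1 *ᵥ y) = h x y := fun x y => by
    simp only [hact, h_sub_left, h_sub_right hF, h_add_left, h_add_right hF, h_smul_left,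
      h_smul_right hF, h_swap hF, hu, hv, huv, hvu]
    ring
  exact ⟨sg A.1 A.2, sg_mem hiso A.2, fun x => hact x⟩

include hF in
theorem exists_T {u : V} {c : F} (hu : h u u = 0) (hc : c + σ c = 0) : ∃ g ∈ G, IsT q u c g := by
  have hd : (Cfsg.unitaryTransvection n q u c).det = 1 := by rw [det_tmat, hu, mul_zero, add_zero]
  exact ⟨sg _ hd, sg_mem (tmat_isometry hF (by rw [Good, hu, mul_zero, add_zero]; exact hc)) hd,
    fun x => tmat_mulVec u c x⟩

variable {K : Subgroup (GL (Fin n) F)}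

theorem ctr_of_inT {u : V} (hT : ∀ c : F, c + σ c = 0 → InT q K u c) : Ctr hF K u := fun g c hc hg => by
  obtain ⟨g', hg', hgT⟩ := hT c hc
  rwa [show g = g' from gl_ext fun x => by rw [hgT x, hg, tmat_mulVec]]

omit [Fintype F] in
theorem InS.swap {u v : V} (e : InS q K u v) (hneg : ∀ x, h x (-u) = -h x u) : InS q K v (-u) := by
  obtain ⟨g, hg, hS⟩ := e
  refine ⟨g, hg, fun x => ?_⟩
  rw [hS x, hneg]
  module

include hF in
theorem h_neg_right (x u : V) : h x (-u) = -h x u := by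
  rw [← neg_one_smul F u, h_smul_right hF, map_neg, map_one, neg_one_mul]

theorem conj_isS {g k : GL (Fin n) F} {u v : V} (hk : k ∈ G) (e : IsS q u v g) :
    IsS q ((k : Mn) *ᵥ u) ((k : Mn) *ᵥ v) (k * g * k⁻¹) := fun x => by
  obtain ⟨y, rfl⟩ : ∃ y, (k : Mn) *ᵥ y = x := ⟨((k⁻¹ : GL (Fin n) F) : Mn) *ᵥ x, by
    rw [Matrix.mulVec_mulVec, Units.mul_inv, Matrix.one_mulVec]⟩
  rw [Units.val_mul, Units.val_mul, ← Matrix.mulVec_mulVec, ← Matrix.mulVec_mulVec,
    show ((k⁻¹ : GL (Fin n) F) : Mn) *ᵥ ((k : Mn) *ᵥ y) = y by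
      rw [Matrix.mulVec_mulVec, Units.inv_mul, Matrix.one_mulVec],
    e y, Matrix.mulVec_sub, Matrix.mulVec_add, Matrix.mulVec_smul, Matrix.mulVec_smul,
    G_isometry hk, G_isometry hk]

theorem InS.conj {k : GL (Fin n) F} {u v : V} (e : InS q K u v) (hk : k ∈ K) (hkG : k ∈ G) :
    InS q K ((k : Mn) *ᵥ u) ((k : Mn) *ᵥ v) := by
  obtain ⟨g, hg, hS⟩ := e
  exact ⟨_, mul_mem (mul_mem hk hg) (inv_mem hk), conj_isS hkG hS⟩

/-- Two complementary totally singular subspaces. -/
structure Pair (q k : ℕ) (D E : Submodule F (Fin n → F)) : Prop where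
  finD : finrank F D = k
  finE : finrank F E = k
  compl : IsCompl D E
  tsD : ∀ x ∈ D, ∀ y ∈ D, Cfsg.hermForm n F q x y = 0
  tsE : ∀ x ∈ E, ∀ y ∈ E, Cfsg.hermForm n F q x y = 0

variable {k : ℕ} {D E : Submodule F (Fin n → F)}

omit [Fintype F] in
theorem Pair.symm (P : Pair q k D E) : Pair q k E D := ⟨P.finE, P.finD, P.compl.symm, P.tsE, P.tsD⟩

omit [Fintype F] in
theorem Pair.split (P : Pair q k D E) (x : V) : ∃ a ∈ D, ∃ b ∈ E, a + b = x :=
  Submodule.mem_sup.1 (P.compl.sup_eq_top ▸ Submodule.mem_top : x ∈ D ⊔ E)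

include hF in
theorem Pair.exists_in (P : Pair q k D E) {U : Submodule F V} (hU : U ≤ D) {x : V} (hx : x ∈ D)
    (hxU : x ∉ U) : ∃ b ∈ E, h x b = 1 ∧ ∀ y ∈ U, h y b = 0 := by
  obtain ⟨L, hLx, hL⟩ := Submodule.exists_dual_map_eq_bot_of_notMem hxU inferInstance
  let w : V := fun i => σ ((L x)⁻¹ * L (Pi.single i 1))
  have hw : ∀ y, h y w = (L x)⁻¹ * L y := fun y => by
    rw [LinearMap.pi_apply_eq_sum_univ L y, Finset.mul_sum]
    refine Finset.sum_congr rfl fun i _ => ?_
    show y i * (σ ((L x)⁻¹ * L (Pi.single i 1))) ^ q = _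
    rw [← frob_apply hF, frob_frob, show (fun j => if i = j then (1 : F) else 0) = Pi.single i 1
      from funext fun j => by simp [Pi.single_apply, eq_comm], smul_eq_mul]
    ring
  obtain ⟨a, ha, b, hb, hab⟩ := P.split w
  have hval : ∀ y ∈ D, h y b = (L x)⁻¹ * L y := fun y hy => by
    rw [← hw, ← hab, h_add_right hF, P.tsD y hy a ha, zero_add]
  refine ⟨b, hb, by rw [hval x hx, inv_mul_cancel₀ hLx], fun y hy => ?_⟩
  have : L y ∈ U.map L := Submodule.mem_map_of_mem hy
  rw [hL, Submodule.mem_bot] at this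
  rw [hval y (hU hy), this, mul_zero]

theorem Pair.exists_perp (P : Pair q k D E) {U : Submodule F V} (z z' : V)
    (hU : finrank F U + 3 ≤ k) : ∃ a ∈ D, h a z = 0 ∧ h a z' = 0 ∧ a ∉ U := by
  by_contra hc
  push Not at hc
  let φ : D →ₗ[F] F × F :=
    { toFun := fun a => (h (a : V) z, h (a : V) z')
      map_add' := fun a b => Prod.ext (h_add_left _ _ _) (h_add_left _ _ _)
      map_smul' := fun c a => Prod.ext (h_smul_left _ _ _) (h_smul_left _ _ _) }
  have hle : (LinearMap.ker φ).map D.subtype ≤ U := by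
    rintro _ ⟨a, ha, rfl⟩
    have := LinearMap.mem_ker.1 ha
    exact hc a a.2 (congrArg Prod.fst this) (congrArg Prod.snd this)
  have h1 := Submodule.finrank_mono hle
  rw [Submodule.finrank_map_subtype_eq] at h1
  have h2 := LinearMap.finrank_range_add_finrank_ker φ
  have h3 := Submodule.finrank_le (LinearMap.range φ)
  rw [Module.finrank_prod, Module.finrank_self] at h3
  rw [P.finD] at h2
  omega

theorem Pair.exists_perp_one (P : Pair q k D E) {U : Submodule F V} (z : V)
    (hU : finrank F U + 2 ≤ k) : ∃ a ∈ D, h a z = 0 ∧ a ∉ U := by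
  by_contra hc
  push Not at hc
  let φ : D →ₗ[F] F :=
    { toFun := fun a => h (a : V) z
      map_add' := fun a b => h_add_left _ _ _
      map_smul' := fun c a => h_smul_left _ _ _ }
  have hle : (LinearMap.ker φ).map D.subtype ≤ U := by
    rintro _ ⟨a, ha, rfl⟩
    exact hc a a.2 (LinearMap.mem_ker.1 ha)
  have h1 := Submodule.finrank_mono hle
  rw [Submodule.finrank_map_subtype_eq] at h1
  have h2 := LinearMap.finrank_range_add_finrank_ker φ
  have h3 := Submodule.finrank_le (LinearMap.range φ)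
  rw [Module.finrank_self] at h3
  rw [P.finD] at h2
  omega

/-- Root elements between the two subspaces lie in `K`. -/
def Levi (q : ℕ) (D E : Submodule F (Fin n → F)) (K : Subgroup (GL (Fin n) F)) : Prop :=
  ∀ a ∈ D, ∀ b ∈ E, Cfsg.hermForm n F q a b = 0 → ∀ g ∈ Cfsg.GU n F q ⊓ specialLinear (Fin n) F,
    IsS q a b g → g ∈ K

include hF in
theorem Levi.symm (hL : Levi q D E K) : Levi q E D K := fun a ha b hb hab g hg hS => by
  refine hL (-b) (D.neg_mem hb) a ha ?_ g hg fun x => ?_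
  · rw [← neg_one_smul F b, h_smul_left, h_zero (hF := hF) hab, mul_zero]
  · rw [hS x, h_neg_right (hF := hF)]
    module

/-- A root element or transvection inside `D`. -/
def Pure (q : ℕ) (D : Submodule F (Fin n → F)) (K : Subgroup (GL (Fin n) F)) : Prop :=
  (∃ p ∈ D, ∃ r ∈ D, p ∉ Submodule.span F {r} ∧ r ≠ 0 ∧ InS q K p r) ∨
    ∃ p ∈ D, p ≠ 0 ∧ ∃ c : F, c ≠ 0 ∧ c + c ^ q = 0 ∧ InT q K p c

include hF in
theorem exists_notfixed : ∃ c : F, c - σ c ≠ 0 := by
  by_contra hc
  push Not at hc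
  exact frob_ne_id hF (RingHom.ext fun a => (sub_eq_zero.1 (hc a)).symm)

include hF in
theorem line_key (P : Pair q k D E) (hL : Levi q D E K) {u v0 v1 : V}
    (hu : u ∈ D) (hv0 : v0 ∈ D) (hv1 : v1 ∈ E) (huv1 : h u v1 = 0) {r : F}
    (hS : InS q K u (r • (v0 + v1))) :
    ∃ z ∈ K, ∀ x, (z : Mn) *ᵥ x =
      x + h x u • (r • v0) - h x (r • v0) • u + (h x u * (r * σ r * h v1 v0)) • u := by
  have huu : h u u = 0 := P.tsD u hu u hu
  have huv0 : h u v0 = 0 := P.tsD u hu v0 hv0
  have h1u := h_zero (hF := hF) huv1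
  have h0u := h_zero (hF := hF) huv0
  obtain ⟨g1, hg1, hS1⟩ := hS
  obtain ⟨g2, hg2, hS2⟩ := exists_S (hF := hF) huu
    (show h ((-r) • v1) ((-r) • v1) = 0 by rw [h_smul_left, h_smul_right hF, P.tsE v1 hv1 v1 hv1]; simp)
    (show h u ((-r) • v1) = 0 by rw [h_smul_right hF, huv1, mul_zero])
  refine ⟨g1 * g2, mul_mem hg1 (hL u hu _ (E.smul_mem _ hv1)
    (by rw [h_smul_right hF, huv1, mul_zero]) g2 hg2 hS2), fun x => ?_⟩
  rw [Units.val_mul, ← Matrix.mulVec_mulVec, hS2, hS1]
  simp only [h_sub_left, h_add_left, h_smul_left, h_smul_right hF, h_add_right hF, map_neg, h1u,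
    h0u, huv0, huv1, huu, P.tsE v1 hv1 v1 hv1]
  module

include hF in
/-- A single root element on a line through a point of `D` gives a pure one. -/
theorem of_line_one (P : Pair q k D E) (hk : 3 ≤ k) (hKG : K ≤ G) (hL : Levi q D E K) {u v0 v1 : V}
    (hu : u ∈ D) (hu0 : u ≠ 0) (hv0 : v0 ∈ D) (hv1 : v1 ∈ E) (hd : v0 ∉ Submodule.span F {u})
    (huv1 : h u v1 = 0) (hS : InS q K u (v0 + v1)) : Pure q D K := by
  have huu : h u u = 0 := P.tsD u hu u hu
  have huv0 : h u v0 = 0 := P.tsD u hu v0 hv0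
  have h0u := h_zero (hF := hF) huv0
  rw [← one_smul F (v0 + v1)] at hS
  obtain ⟨b, hb, hvb, hub⟩ :=
    P.exists_in (hF := hF) ((Submodule.span_singleton_le_iff_mem _ _).2 hu) hv0 hd
  have hub' := hub u (Submodule.mem_span_singleton_self u)
  obtain ⟨a, ha, hab, hau⟩ := P.exists_perp_one (U := Submodule.span F {u}) b
    (by rw [finrank_span_singleton hu0]; omega)
  obtain ⟨z, hz, hzx⟩ := line_key (hF := hF) P hL hu hv0 hv1 huv1 hS
  obtain ⟨ℓ, hℓG, hℓ⟩ := exists_S (hF := hF) (P.tsD a ha a ha) (P.tsE b hb b hb) hab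
  have hℓK := hL a ha b hb hab ℓ hℓG hℓ
  obtain ⟨s, -, hs⟩ := exists_S (hF := hF) (v := -a) huu
    (by rw [← neg_one_smul F a, h_smul_left, h_smul_right hF, P.tsD a ha a ha]; simp)
    (by rw [h_neg_right (hF := hF), P.tsD u hu a ha, neg_zero])
  have eℓu : (ℓ : Mn) *ᵥ u = u := by
    rw [hℓ, P.tsD u hu a ha, hub']; module
  have eℓv : (ℓ : Mn) *ᵥ v0 = v0 - a := by
    rw [hℓ, P.tsD v0 hv0 a ha, hvb]; module
  have e : s * z = ℓ * z * ℓ⁻¹ := by
    rw [eq_mul_inv_iff_mul_eq]
    refine gl_ext fun x => ?_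
    have hxu : h ((ℓ : Mn) *ᵥ x) u = h x u := by
      conv_lhs => rw [← eℓu]
      exact G_isometry hℓG x u
    have hxa : h ((ℓ : Mn) *ᵥ x) (v0 - a) = h x v0 := by
      rw [← eℓv]; exact G_isometry hℓG x v0
    rw [Units.val_mul, Units.val_mul, Units.val_mul, ← Matrix.mulVec_mulVec, ← Matrix.mulVec_mulVec,
      ← Matrix.mulVec_mulVec, hzx x, hzx ((ℓ : Mn) *ᵥ x), hs]
    simp only [Matrix.mulVec_add, Matrix.mulVec_sub, Matrix.mulVec_smul, eℓu, eℓv, map_one, one_smul,
      one_mul, h_neg_right (hF := hF)]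
    rw [h_sub_right hF] at hxa
    simp only [h_add_left, h_sub_left, h_smul_left, huu, h0u, hxu, P.tsD v0 hv0 a ha, P.tsD u hu a ha]
    rw [show h ((ℓ : Mn) *ᵥ x) v0 = h x v0 + h ((ℓ : Mn) *ᵥ x) a by linear_combination hxa]
    module
  have hsK : s ∈ K := by
    have := mul_mem (mul_mem hℓK hz) (inv_mem hℓK)
    rwa [← e, K.mul_mem_cancel_right hz] at this
  refine Or.inl ⟨u, hu, -a, D.neg_mem ha, fun hh => ?_, fun hh => hau ?_, s, hsK, hs⟩
  · obtain ⟨t, ht⟩ := Submodule.mem_span_singleton.1 hh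
    have ht0 : t ≠ 0 := fun e => hu0 (by rw [← ht, e, zero_smul])
    refine hau (Submodule.mem_span_singleton.2 ⟨-t⁻¹, ?_⟩)
    rw [← ht, smul_smul, neg_mul, inv_mul_cancel₀ ht0, neg_one_smul, neg_neg]
  · rw [neg_eq_zero.1 hh]; exact zero_mem _

include hF in
theorem of_line (P : Pair q k D E) (hk : 3 ≤ k) (hKG : K ≤ G) (hL : Levi q D E K) {u v : V}
    (hu : u ∈ D) (hu0 : u ≠ 0) (hv : v ∉ E) (huv : h u v = 0)
    (hS : ∀ r : F, InS q K u (r • v)) : Pure q D K := by
  obtain ⟨v0, hv0, v1, hv1, rfl⟩ := P.split v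
  have hv00 : v0 ≠ 0 := fun e => hv (by rw [e, zero_add]; exact hv1)
  have huv1 : h u v1 = 0 := by rwa [h_add_right hF, P.tsD u hu v0 hv0, zero_add] at huv
  have h1u := h_zero (hF := hF) huv1
  by_cases hd : v0 ∈ Submodule.span F {u}
  · obtain ⟨s, rfl⟩ := Submodule.mem_span_singleton.1 hd
    have hs : s ≠ 0 := fun e => hv00 (by rw [e, zero_smul])
    obtain ⟨c, hc⟩ := exists_notfixed (hF := hF) (F := F)
    obtain ⟨z, hz, hzx⟩ := line_key (hF := hF) P hL hu hv0 hv1 huv1 (hS (c / s))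
    refine Or.inr ⟨u, hu, hu0, c - σ c, hc, ?_, z, hz, fun x => ?_⟩
    · rw [← frob_apply hF, map_sub, frob_frob]; ring
    · rw [hzx x, show h v1 (s • u) = 0 by rw [h_smul_right hF, h1u, mul_zero],
        show h x ((c / s) • s • u) = σ c * h x u by
          rw [smul_smul, div_mul_cancel₀ _ hs, h_smul_right hF]]
      match_scalars <;> field_simp
      ring
  · exact of_line_one (hF := hF) P hk hKG hL hu hu0 hv0 hv1 hd huv1 (by simpa using hS 1)

include hF in
/-- A pure element gives all centres in `D`. -/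
theorem spread (P : Pair q k D E) (hk : 3 ≤ k) (hKG : K ≤ G) (hL : Levi q D E K)
    (hp : Pure q D K) : ∀ e ∈ D, ∀ c : F, c + frob hF c = 0 → InT q K e c := by
  have step : ∀ p a : V, p ∈ D → a ∈ D → p ∉ Submodule.span F {a} → ∀ c0 : F, c0 ≠ 0 →
      c0 + σ c0 = 0 → InT q K p c0 → ∀ c : F, c + σ c = 0 → InT q K a c := by
    intro p a hp ha hpa c0 hc0 hc0s hT c hc
    obtain ⟨b, hb, hpb, hab⟩ := P.exists_in (hF := hF) ((Submodule.span_singleton_le_iff_mem _ _).2 ha) hp hpa
    have hab' := hab a (Submodule.mem_span_singleton_self a)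
    have Z : ∀ β : F, InT q K (p - β • a) c0 := fun β => by
      obtain ⟨g, hg, hgT⟩ := hT
      have e0 : h (β • a) b = 0 := by rw [h_smul_left, hab', mul_zero]
      obtain ⟨ℓ, hℓG, hℓ⟩ := exists_S (hF := hF) (P.tsD _ (D.smul_mem β ha) _ (D.smul_mem β ha))
        (P.tsE b hb b hb) e0
      have hℓK := hL _ (D.smul_mem β ha) b hb e0 ℓ hℓG hℓ
      refine ⟨ℓ * g * ℓ⁻¹, mul_mem (mul_mem hℓK hg) (inv_mem hℓK), fun x => ?_⟩
      obtain ⟨y, rfl⟩ : ∃ y, (ℓ : Mn) *ᵥ y = x := ⟨((ℓ⁻¹ : GL (Fin n) F) : Mn) *ᵥ x, by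
        rw [Matrix.mulVec_mulVec, Units.mul_inv, Matrix.one_mulVec]⟩
      have elp : (ℓ : Mn) *ᵥ p = p - β • a := by
        rw [hℓ, P.tsD p hp _ (D.smul_mem β ha), hpb]; module
      rw [Units.val_mul, Units.val_mul, ← Matrix.mulVec_mulVec, ← Matrix.mulVec_mulVec,
        show ((ℓ⁻¹ : GL (Fin n) F) : Mn) *ᵥ ((ℓ : Mn) *ᵥ y) = y by
          rw [Matrix.mulVec_mulVec, Units.inv_mul, Matrix.one_mulVec],
        hgT y, Matrix.mulVec_add, Matrix.mulVec_smul, elp, ← elp, G_isometry hℓG]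
    obtain ⟨w, hw⟩ := WittExtension.exists_trace (frob_ne_id hF) (frob_frob hF) (c := c / c0) (by
      rw [map_div₀, show σ c = -c by linear_combination hc, show σ c0 = -c0 by linear_combination hc0s,
        neg_div_neg_eq])
    obtain ⟨g0, hg0, hT0⟩ := Z 0
    obtain ⟨g1, hg1, hT1⟩ := Z 1
    obtain ⟨g2, hg2, hT2⟩ := Z w
    obtain ⟨g3, hg3, hT3⟩ := Z (1 + w)
    obtain ⟨s, -, hs⟩ := exists_T (hF := hF) (P.tsD a ha a ha) hc
    have hcw : c = c0 * (σ w + w) := by rw [hw, mul_div_cancel₀ _ hc0]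
    have e : s * (g1 * g2) = g3 * g0 := by
      refine gl_ext fun x => ?_
      simp only [Units.val_mul, ← Matrix.mulVec_mulVec, hs _, hT0 _, hT1 _, hT2 _, hT3 _]
      simp only [h_add_left, h_sub_left, h_sub_right hF, h_smul_left, h_smul_right hF, P.tsD a ha a ha,
        P.tsD p hp a ha, P.tsD a ha p hp, P.tsD p hp p hp, map_add, map_one, map_zero, hcw]
      module
    refine ⟨s, ?_, hs⟩
    have := mul_mem hg3 hg0
    rwa [← e, K.mul_mem_cancel_right (mul_mem hg1 hg2)] at this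
  obtain ⟨r, hr, hr0, c0, hc0, hc0s, hT⟩ : ∃ r ∈ D, r ≠ 0 ∧ ∃ c : F, c ≠ 0 ∧ c + σ c = 0 ∧ InT q K r c := by
    rcases hp with ⟨p, hp, r, hr, hpr, hr0, g, hg, hgS⟩ | ⟨p, hp, hp0, c, hc, hcs, hT⟩
    · obtain ⟨b, hb, hpb, hrb⟩ := P.exists_in (hF := hF) ((Submodule.span_singleton_le_iff_mem _ _).2 hr) hp hpr
      have hrb' := hrb r (Submodule.mem_span_singleton_self r)
      obtain ⟨l, hl⟩ := exists_notfixed (hF := hF) (F := F)
      have e0 : h (l • r) b = 0 := by rw [h_smul_left, hrb', mul_zero]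
      obtain ⟨ℓ, hℓG, hℓ⟩ := exists_S (hF := hF) (P.tsD _ (D.smul_mem l hr) _ (D.smul_mem l hr))
        (P.tsE b hb b hb) e0
      have hℓK := hL _ (D.smul_mem l hr) b hb e0 ℓ hℓG hℓ
      have hs0 : (l - σ l) + σ (l - σ l) = 0 := by rw [map_sub, frob_frob]; ring
      obtain ⟨s, -, hs⟩ := exists_T (hF := hF) (P.tsD r hr r hr) hs0
      have h1 := conj_isS hℓG hgS
      have e : s * g = ℓ * g * ℓ⁻¹ := gl_ext fun x => by
        rw [h1 x, Units.val_mul, ← Matrix.mulVec_mulVec, hgS x, hs, hℓ p, hℓ r]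
        simp only [P.tsD p hp _ (D.smul_mem l hr), P.tsD r hr _ (D.smul_mem l hr), hpb, hrb']
        simp only [h_add_left, h_sub_left, h_sub_right hF, h_add_right hF, h_smul_left, h_smul_right hF,
          P.tsD p hp r hr, P.tsD r hr r hr, map_zero, map_one, zero_smul, one_smul, add_zero, sub_zero]
        module
      refine ⟨r, hr, hr0, _, hl, hs0, s, ?_, hs⟩
      have := mul_mem (mul_mem hℓK hg) (inv_mem hℓK)
      rwa [← e, K.mul_mem_cancel_right hg] at this
    · exact ⟨p, hp, hp0, c, hc, by rwa [frob_apply], hT⟩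
  obtain ⟨a, ha, -, har⟩ := P.exists_perp_one (U := Submodule.span F {r}) 0
    (by rw [finrank_span_singleton hr0]; omega)
  have hflip : ∀ e : V, e ∉ Submodule.span F {r} → r ∉ Submodule.span F {e} := fun e he hh => by
    obtain ⟨t, ht⟩ := Submodule.mem_span_singleton.1 hh
    refine he (Submodule.mem_span_singleton.2 ⟨t⁻¹, ?_⟩)
    rw [← ht, smul_smul, inv_mul_cancel₀ (fun e : t = 0 => hr0 (by rw [← ht, e, zero_smul])), one_smul]
  intro e he c hc
  by_cases he0 : e = 0
  · exact ⟨1, one_mem K, fun x => by rw [he0, smul_zero, add_zero, Units.val_one, Matrix.one_mulVec]⟩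
  by_cases her : e ∈ Submodule.span F {r}
  · obtain ⟨d, hd, hds⟩ := exists_skew hF
    refine step a e ha he (fun hh => har ?_) d hd hds
      (step r a hr ha (hflip a har) c0 hc0 hc0s hT d hds) c hc
    exact (Submodule.span_singleton_le_iff_mem _ _).2 her hh
  · exact step r e hr he (hflip e her) c0 hc0 hc0s hT c hc

include hF in
/-- Conjugating the root elements of a line by a root element of the two subspaces. -/
theorem outer_step (P : Pair q k D E) (hL : Levi q D E K) {u v a : V} (ha : a ∈ D)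
    (huu : h u u = 0) (hvv : h v v = 0) (huv : h u v = 0) (eau : h a u = 0) (eav : h a v = 0)
    (hS : ∀ r : F, InS q K u (r • v)) (b : V) (hb : b ∈ E) (hab : h a b = 0) (r : F) :
    InS q K a (-(σ (h u b) * r) • v + σ (r * h v b) • u + (σ (h u b) * (r * h v b)) • a) := by
  set s := h u b with hsd
  set t := h v b with htd
  have eua := h_zero (hF := hF) eau
  have eva := h_zero (hF := hF) eav
  have haa := P.tsD a ha a ha
  obtain ⟨ℓ, hℓG, hℓ⟩ := exists_S (hF := hF) haa (P.tsE b hb b hb) hab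
  have hℓK := hL a ha b hb hab ℓ hℓG hℓ
  have elu : (ℓ : Mn) *ᵥ u = u - s • a := by rw [hℓ, eua, ← hsd]; module
  have elv : (ℓ : Mn) *ᵥ v = v - t • a := by rw [hℓ, eva, ← htd]; module
  set w := -(σ s * r) • v + σ (r * t) • u + (σ s * (r * t)) • a with hw
  have hvu := h_zero (hF := hF) huv
  obtain ⟨m, -, hm⟩ := exists_S (hF := hF) (v := w) haa
    (by simp only [hw, h_add_left, h_add_right hF, h_smul_left, h_smul_right hF, huu, hvv, huv, hvu,
      eau, eav, eua, eva, haa, mul_zero, add_zero])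
    (by simp only [hw, h_add_right hF, h_smul_right hF, eau, eav, haa, mul_zero, add_zero])
  obtain ⟨g, hg, hgS⟩ := hS r
  have h1 := conj_isS hℓG hgS
  rw [elu, Matrix.mulVec_smul, elv] at h1
  have e : m * g = ℓ * g * ℓ⁻¹ := gl_ext fun x => by
    rw [h1 x, Units.val_mul, ← Matrix.mulVec_mulVec, hgS x, hm, hw]
    simp only [h_sub_left, h_sub_right hF, h_add_left, h_add_right hF, h_smul_left, h_smul_right hF,
      map_add, map_sub, map_mul, map_neg, frob_frob, eua, eva, eau, eav, huu, hvv, huv, hvu, haa]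
    module
  refine ⟨m, ?_, hm⟩
  have := mul_mem (mul_mem hℓK hg) (inv_mem hℓK)
  rwa [← e, K.mul_mem_cancel_right hg] at this

include hF in
/-- A root element on a line missing both subspaces gives a pure one. -/
theorem of_outer (P : Pair q k D E) (hk : 3 ≤ k) (hKG : K ≤ G) (hL : Levi q D E K) {u v : V}
    (huE : u ∉ E) (hvD : v ∉ D) (hvE : v ∉ E) (hind : LinearIndependent F ![u, v]) (huu : h u u = 0)
    (hvv : h v v = 0) (huv : h u v = 0) (hS : ∀ r : F, InS q K u (r • v)) :
    Pure q D K ∨ Pure q E K := by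
  have key : ∀ {D' E' : Submodule F V}, Pair q k D' E' → Levi q D' E' K →
      ∀ {u0 u1 v0 v1 : V}, u0 ∈ D' → u1 ∈ E' → v0 ∈ D' → v1 ∈ E' → v0 + v1 ∉ E' →
      h (u0 + u1) (u0 + u1) = 0 → h (v0 + v1) (v0 + v1) = 0 →
      h (u0 + u1) (v0 + v1) = 0 → (∀ r : F, InS q K (u0 + u1) (r • (v0 + v1))) →
      u0 ∉ Submodule.span F {v0} → Pure q D' K := by
    intro D' E' P' hL' u0 u1 v0 v1 hu0 hu1 hv0 hv1 hv huu hvv huv hS hn
    obtain ⟨a, ha, hau, hav, haU⟩ := P'.exists_perp (U := (⊥ : Submodule F V)) u1 v1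
      (by rw [finrank_bot]; omega)
    rw [Submodule.mem_bot] at haU
    have eau : h a (u0 + u1) = 0 := by rw [h_add_right hF, P'.tsD a ha u0 hu0, hau, add_zero]
    have eav : h a (v0 + v1) = 0 := by rw [h_add_right hF, P'.tsD a ha v0 hv0, hav, add_zero]
    have derived := outer_step (hF := hF) P' hL' ha huu hvv huv eau eav hS
    have hv00 : v0 ≠ 0 := fun e => hv (by rw [e, zero_add]; exact hv1)
    by_cases hu0U : u0 ∉ Submodule.span F ({v0, a} : Set V)
    · obtain ⟨b, hb, hub, hUb⟩ := P'.exists_in (hF := hF) (Submodule.span_le.2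
        (Set.insert_subset_iff.2 ⟨hv0, Set.singleton_subset_iff.2 ha⟩)) hu0 hu0U
      have hab : h a b = 0 := hUb a (Submodule.subset_span (by simp))
      have eub : h (u0 + u1) b = 1 := by rw [h_add_left, hub, P'.tsE u1 hu1 b hb, add_zero]
      have evb : h (v0 + v1) b = 0 := by
        rw [h_add_left, hUb v0 (Submodule.subset_span (by simp)), P'.tsE v1 hv1 b hb, add_zero]
      refine of_line (hF := hF) P' hk hKG hL' ha haU hv eav fun r => ?_
      have := derived b hb hab (-r)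
      simpa [eub, evb] using this
    rw [not_not] at hu0U
    obtain ⟨p, w, hpw⟩ := Submodule.mem_span_pair.1 hu0U
    have hw0 : w ≠ 0 := fun e => hn (Submodule.mem_span_singleton.2 ⟨p, by
      rw [← hpw, e, zero_smul, add_zero]⟩)
    have hva : v0 ∉ Submodule.span F {a} := fun hh => by
      obtain ⟨t, ht⟩ := Submodule.mem_span_singleton.1 hh
      have ht0 : t ≠ 0 := fun e => hv00 (by rw [← ht, e, zero_smul])
      refine hn (Submodule.mem_span_singleton.2 ⟨p + w / t, ?_⟩)
      rw [← hpw, ← ht, smul_smul, smul_smul, ← add_smul, add_mul, div_mul_cancel₀ _ ht0]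
    obtain ⟨b, hb, hvb, hUb⟩ := P'.exists_in (hF := hF)
      ((Submodule.span_singleton_le_iff_mem _ _).2 ha) hv0 hva
    have hab : h a b = 0 := hUb a (Submodule.mem_span_singleton_self a)
    have eub : h (u0 + u1) b = p := by
      rw [h_add_left, P'.tsE u1 hu1 b hb, add_zero, ← hpw, h_add_left, h_smul_left, h_smul_left, hvb,
        hab, mul_one, mul_zero, add_zero]
    have evb : h (v0 + v1) b = 1 := by rw [h_add_left, hvb, P'.tsE v1 hv1 b hb, add_zero]
    by_cases hp : p = 0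
    · refine of_line (hF := hF) P' hk hKG hL' ha haU (fun hh => hn ?_) eau fun r => ?_
      · have : u0 = 0 := Submodule.disjoint_def.1 P'.compl.disjoint u0 hu0 (by
          simpa using E'.sub_mem hh hu1)
        rw [this]; exact zero_mem _
      · have := derived b hb hab (σ r)
        simpa [eub, evb, hp, frob_frob hF] using this
    · obtain ⟨l, hl⟩ := exists_notfixed (hF := hF) (F := F)
      have hσp : σ p ≠ 0 := fun e => hp (by simpa [frob_frob hF] using congrArg σ e)
      have erl : σ p * (l / σ p) = l := mul_div_cancel₀ _ hσp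
      have erl' : σ (l / σ p) * p = σ l := by
        have := congrArg σ erl
        rwa [map_mul, frob_frob, mul_comm] at this
      have hd := derived b hb hab (l / σ p)
      rw [eub, evb] at hd
      simp only [mul_one, erl] at hd
      refine of_line_one (hF := hF) P' hk hKG hL' ha haU
        (v0 := -l • v0 + σ (l / σ p) • u0 + l • a) (v1 := -l • v1 + σ (l / σ p) • u1)
        (D'.add_mem (D'.add_mem (D'.smul_mem _ hv0) (D'.smul_mem _ hu0)) (D'.smul_mem _ ha))
        (E'.add_mem (E'.smul_mem _ hv1) (E'.smul_mem _ hu1)) (fun hh => hl ?_)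
        (by simp only [h_add_right hF, h_smul_right hF, hav, hau, mul_zero, add_zero]) ?_
      · obtain ⟨t, ht⟩ := Submodule.mem_span_singleton.1 hh
        have h2 := congrArg (fun y => h y b) ht
        have hu0b : h u0 b = p := by rwa [h_add_left, P'.tsE u1 hu1 b hb, add_zero] at eub
        simp only [h_add_left, h_smul_left, hab, hvb, hu0b, erl'] at h2
        linear_combination h2
      · convert hd using 1
        module
  obtain ⟨u0, hu0, u1, hu1, rfl⟩ := P.split u
  obtain ⟨v0, hv0, v1, hv1, rfl⟩ := P.split v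
  by_cases hA : u0 ∈ Submodule.span F {v0}
  · by_cases hA' : u1 ∈ Submodule.span F {v1}
    · left
      obtain ⟨c, rfl⟩ := Submodule.mem_span_singleton.1 hA
      obtain ⟨d, rfl⟩ := Submodule.mem_span_singleton.1 hA'
      have hc : c ≠ 0 := fun e => huE (by rw [e, zero_smul, zero_add]; exact hu1)
      have hcd : c ≠ d := fun e => by
        have := (LinearIndependent.pair_iff.1 hind 1 (-c) (by rw [e]; module)).1
        exact one_ne_zero this
      have h01 : h v0 v1 = 0 := by
        have e : h (c • v0 + d • v1) (v0 + v1) = (c - d) * h v0 v1 + d * h (v0 + v1) (v0 + v1) := by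
          simp only [h_add_left, h_add_right hF, h_smul_left, P.tsD v0 hv0 v0 hv0, P.tsE v1 hv1 v1 hv1]
          ring
        rw [huv, hvv, mul_zero, add_zero] at e
        exact (mul_eq_zero.1 e.symm).resolve_left (sub_ne_zero.2 hcd)
      have h10 := h_zero (hF := hF) h01
      have hv00 : v0 ≠ 0 := fun e => hvE (by rw [e, zero_add]; exact hv1)
      obtain ⟨b, hb, hvb, -⟩ := P.exists_in (hF := hF) (U := (⊥ : Submodule F V)) bot_le hv0
        (by rwa [Submodule.mem_bot])
      obtain ⟨a', ha', hav', hab', ha0'⟩ := P.exists_perp (U := (⊥ : Submodule F V)) v1 b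
        (by rw [finrank_bot]; omega)
      rw [Submodule.mem_bot] at ha0'
      obtain ⟨a, ha, hav, hab, ha0⟩ : ∃ a ∈ D, h a v1 = 0 ∧ h a b = 0 ∧ a ≠ 0 := ⟨a', ha', hav', hab', ha0'⟩
      obtain ⟨l, hl⟩ := exists_notfixed (hF := hF) (F := F)
      have hσc : σ c ≠ 0 := fun e => hc (by simpa [frob_frob hF] using congrArg σ e)
      set r := l / σ c with hr
      have e0 : h a v0 = 0 := P.tsD a ha v0 hv0
      have e0' : h v0 a = 0 := P.tsD v0 hv0 a ha
      have e1' := h_zero (hF := hF) hav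
      have eb1 : h v1 b = 0 := P.tsE v1 hv1 b hb
      set w := (l - σ l) • v0 + l • a with hw
      have hwD : w ∈ D := D.add_mem (D.smul_mem _ hv0) (D.smul_mem _ ha)
      obtain ⟨ℓ, hℓG, hℓ⟩ := exists_S (hF := hF) (u := -a)
        (P.tsD _ (D.neg_mem ha) _ (D.neg_mem ha)) (P.tsE b hb b hb)
        (show h (-a) b = 0 by rw [← neg_one_smul F a, h_smul_left, hab, mul_zero])
      have hℓK := hL (-a) (D.neg_mem ha) b hb
        (by rw [← neg_one_smul F a, h_smul_left, hab, mul_zero]) ℓ hℓG hℓ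
      have he1 : h a ((σ c * r - σ r * d) • v1) = 0 := by rw [h_smul_right hF, hav, mul_zero]
      obtain ⟨m, hmG, hm⟩ := exists_S (hF := hF) (v := (σ c * r - σ r * d) • v1) (P.tsD a ha a ha)
        (P.tsE _ (E.smul_mem _ hv1) _ (E.smul_mem _ hv1)) he1
      have hmK := hL a ha _ (E.smul_mem _ hv1) he1 m hmG hm
      obtain ⟨s, -, hs⟩ := exists_S (hF := hF) (v := w) (P.tsD a ha a ha) (P.tsD w hwD w hwD)
        (P.tsD a ha w hwD)
      obtain ⟨g, hg, hgS⟩ := hS r
      have h1 := conj_isS hℓG hgS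
      have elu : (ℓ : Mn) *ᵥ (c • v0 + d • v1) = c • v0 + d • v1 + c • a := by
        rw [hℓ, h_neg_right (hF := hF)]
        simp only [h_add_left, h_smul_left, e0', e1', hvb, eb1]
        module
      have elv : (ℓ : Mn) *ᵥ (v0 + v1) = v0 + v1 + a := by
        rw [hℓ, h_neg_right (hF := hF)]
        simp only [h_add_left, e0', e1', hvb, eb1]
        module
      rw [elu, Matrix.mulVec_smul, elv] at h1
      have erl : σ c * r = l := by rw [hr, mul_div_cancel₀ _ hσc]
      have erl' : σ r * c = σ l := by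
        have := congrArg σ erl
        rwa [map_mul, frob_frob, mul_comm] at this
      have hwe : w = (σ c * r - σ r * c) • v0 + (σ c * r) • a := by rw [erl, erl', hw]
      have e : s * m * g = ℓ * g * ℓ⁻¹ := gl_ext fun x => by
        rw [h1 x, Units.val_mul, Units.val_mul, ← Matrix.mulVec_mulVec, ← Matrix.mulVec_mulVec,
          hgS x, hm, hs, hwe]
        simp only [h_sub_left, h_sub_right hF, h_add_left, h_add_right hF, h_smul_left, h_smul_right hF,
          map_add, map_sub, map_mul, frob_frob, e0, e0', hav, e1', h01, h10, P.tsD a ha a ha,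
          P.tsD v0 hv0 v0 hv0, P.tsE v1 hv1 v1 hv1]
        module
      refine Or.inl ⟨a, ha, w, hwD, fun hh => ?_, fun hh => ?_, s, ?_, hs⟩
      · obtain ⟨t, ht⟩ := Submodule.mem_span_singleton.1 hh
        have h2 := congrArg (fun y => h y b) ht
        simp only [hw, h_smul_left, h_add_left, hvb, hab] at h2
        have ht0 : t = 0 := by simpa [hl] using h2
        rw [ht0, zero_smul] at ht
        exact ha0 ht.symm
      · have h2 := congrArg (fun y => h y b) hh
        simp only [hw, h_smul_left, h_add_left, hvb, hab] at h2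
        rw [show h (0 : V) b = 0 by simp [Cfsg.hermForm]] at h2
        exact hl (by simpa using h2)
      · have hX := mul_mem (mul_mem hℓK hg) (inv_mem hℓK)
        rw [← e] at hX
        exact (K.mul_mem_cancel_right hmK).1 ((K.mul_mem_cancel_right hg).1 hX)
    · right
      refine key P.symm (hL.symm (hF := hF)) hu1 hu0 hv1 hv0 (fun e => hvD ?_) ?_ ?_ ?_ ?_ hA'
      · rwa [add_comm] at e
      · rwa [add_comm u1]
      · rwa [add_comm v1]
      · rwa [add_comm u1, add_comm v1]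
      · rwa [add_comm u1, add_comm v1]
  · exact Or.inl (key P hL hu0 hu1 hv0 hv1 hvE huu hvv huv hS hA)

include hF in
/-- An element of `SU` interchanging the two subspaces. -/
theorem exists_swap (P : Pair q k D E) : ∃ j ∈ G,
    (∀ x ∈ D, (j : Mn) *ᵥ x ∈ E) ∧ ∀ x ∈ E, (j : Mn) *ᵥ x ∈ D := by
  let b := Module.finBasisOfFinrankEq F D P.finD
  have hdual : ∀ i, ∃ f ∈ E, ∀ l, h (b l : V) f = if l = i then 1 else 0 := fun i => by
    obtain ⟨f, hf, h1, h0⟩ := P.exists_in (hF := hF)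
      (U := Submodule.span F ((fun l => ((b l : D) : V)) '' {l | l ≠ i}))
      (Submodule.span_le.2 (by rintro _ ⟨l, -, rfl⟩; exact (b l).2)) (b i).2 (fun hh => by
        have hli := (b.linearIndependent.map' D.subtype (Submodule.ker_subtype D))
        exact hli.notMem_span_image (s := {l | l ≠ i}) (by simp) hh)
    refine ⟨f, hf, fun l => ?_⟩
    split_ifs with hl
    · rw [hl]; exact h1
    · exact h0 _ (Submodule.subset_span ⟨l, hl, rfl⟩)
  choose f hf hfd using hdual
  have hee : ∀ i l, h (b i : V) (b l : V) = 0 := fun i l => P.tsD _ (b i).2 _ (b l).2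
  have hff : ∀ i l, h (f i) (f l) = 0 := fun i l => P.tsE _ (hf i) _ (hf l)
  have hfe : ∀ i l, h (f i) (b l : V) = if l = i then 1 else 0 := fun i l => by
    rw [← h_swap hF, hfd]
    split_ifs <;> simp
  obtain ⟨c, hc, hcs⟩ := exists_skew hF
  have hcs' : -c⁻¹ + σ (-c⁻¹) = 0 := by
    rw [map_neg, map_inv₀, show σ c = -c by linear_combination hcs]; simp
  have hind : ∀ j, j ≤ k → ∃ g ∈ G, ∀ i : Fin k,
      (i.1 < j → (g : Mn) *ᵥ (b i : V) ∈ E ∧ (g : Mn) *ᵥ f i ∈ D) ∧
        (j ≤ i.1 → (g : Mn) *ᵥ (b i : V) = b i ∧ (g : Mn) *ᵥ f i = f i) := by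
    intro j
    induction j with
    | zero =>
      exact fun _ => ⟨1, one_mem _, fun i => ⟨fun hh => by omega, fun _ => by simp⟩⟩
    | succ j ih =>
      intro hj
      obtain ⟨g, hg, hgi⟩ := ih (by omega)
      obtain ⟨t, htG, ht⟩ := exists_T (hF := hF) (hee ⟨j, by omega⟩ ⟨j, by omega⟩) hcs
      obtain ⟨t', htG', ht'⟩ := exists_T (hF := hF) (hff ⟨j, by omega⟩ ⟨j, by omega⟩) hcs'
      refine ⟨g * (t * t' * t), mul_mem hg (mul_mem (mul_mem htG htG') htG), fun i => ?_⟩
      have act : ∀ x, ((g * (t * t' * t) : GL (Fin n) F) : Mn) *ᵥ x =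
          (g : Mn) *ᵥ ((t : Mn) *ᵥ ((t' : Mn) *ᵥ ((t : Mn) *ᵥ x))) := fun x => by
        simp only [Units.val_mul, ← Matrix.mulVec_mulVec]
      rw [act, act]
      have g0 := (hgi ⟨j, by omega⟩).2 (le_refl _)
      by_cases hi : i = ⟨j, by omega⟩
      · subst hi
        refine ⟨fun _ => ?_, fun hh => by simp at hh⟩
        simp only [ht _, ht' _, h_add_left, h_smul_left, hee, hff, hfd, hfe, if_true, Matrix.mulVec_add,
          Matrix.mulVec_smul, g0.1, g0.2, mul_zero, mul_one, zero_smul, add_zero, zero_add]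
        constructor
        · convert E.smul_mem (-c⁻¹) (hf ⟨j, by omega⟩) using 1
          match_scalars <;> field_simp <;> ring
        · convert D.smul_mem c (b ⟨j, by omega⟩).2 using 1
          match_scalars <;> field_simp <;> ring
      · have w1 : ∀ x, x = (b i : V) ∨ x = f i →
            (t : Mn) *ᵥ ((t' : Mn) *ᵥ ((t : Mn) *ᵥ x)) = x := by
          rintro x (rfl | rfl) <;> simp [ht _, ht' _, hee, hff, hfd, hfe, hi, Ne.symm hi]
        rw [w1 _ (Or.inl rfl), w1 _ (Or.inr rfl)]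
        have : i.1 ≠ j := fun e => hi (Fin.ext e)
        exact ⟨fun hh => (hgi i).1 (by omega), fun hh => (hgi i).2 (by omega)⟩
  obtain ⟨g, hg, hgi⟩ := hind k le_rfl
  have hsum : ∀ x (hx : x ∈ D), x = ∑ i, b.equivFun ⟨x, hx⟩ i • (b i : V) := fun x hx => by
    have := congrArg (fun z : D => (z : V)) (b.sum_equivFun ⟨x, hx⟩)
    simp only [AddSubmonoidClass.coe_finsetSum, Submodule.coe_smul] at this
    exact this.symm
  refine ⟨g, hg, fun x hx => ?_, fun y hy => ?_⟩
  · rw [hsum x hx, Matrix.mulVec_sum]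
    exact Submodule.sum_mem _ fun i _ => by
      rw [Matrix.mulVec_smul]; exact Submodule.smul_mem _ _ ((hgi i).1 i.2).1
  have hy' : y = ∑ i, h y (b i : V) • f i := by
    set z := y - ∑ i, h y (b i : V) • f i with hzd
    have hzE : z ∈ E := E.sub_mem hy (Submodule.sum_mem _ fun i _ => E.smul_mem _ (hf i))
    have hl : ∀ l, h z (b l : V) = 0 := fun l => by
      let L : V →ₗ[F] F :=
        { toFun := fun w => h w (b l : V)
          map_add' := fun a a' => h_add_left _ _ _
          map_smul' := fun c a => h_smul_left _ _ _ }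
      show L z = 0
      rw [hzd, map_sub, map_sum]
      simp [L, h_smul_left, hfe]
    have hz0 : z = 0 := h_nondeg hF fun x => by
      obtain ⟨a, ha, e, he, rfl⟩ := P.split x
      rw [h_add_right hF, P.tsE z hzE e he, add_zero, hsum a ha]
      let L : V →+ F := AddMonoidHom.mk' (fun w => h z w) (fun a a' => h_add_right hF z a a')
      show L _ = 0
      rw [map_sum]
      refine Finset.sum_eq_zero fun i _ => ?_
      show h z _ = 0
      rw [h_smul_right hF, hl, mul_zero]
    exact sub_eq_zero.1 hz0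
  rw [hy', Matrix.mulVec_sum]
  exact Submodule.sum_mem _ fun i _ => by
    rw [Matrix.mulVec_smul]; exact Submodule.smul_mem _ _ ((hgi i).1 i.2).2

include hF in
/-- The stabiliser of a pair of complementary totally singular subspaces is maximal in `SU`. -/
theorem pair_maximal (hk : 3 ≤ k) (hn : n = 2 * k) (D : Fin 2 → Submodule F V)
    (hD : IsMDecomposition k D) (hts : ∀ i, IsTotallySingularFor h (D i)) :
    IsMaximalIn G (decompositionStabilizer D ⊓ G) := by
  refine ⟨lt_of_le_of_ne inf_le_right fun e =>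
    CfsgLib.Aschbacher.not_SU_le_decomposition hF (by omega) (by omega) hD
      (show G ≤ _ from e.ge.trans inf_le_left), fun K hK hKG => ?_⟩
  by_cases hle : K ≤ decompositionStabilizer D
  · exact Or.inl (le_antisymm (le_inf hle hKG) hK)
  obtain ⟨g, hg, hgD⟩ := Set.not_subset.1 hle
  refine Or.inr (le_antisymm hKG (SU_le_of_ctr (hF := hF) (by omega) fun v hv => ?_))
  have hdim : finrank F V = k + k := by rw [Module.finrank_fin_fun]; omega
  have hc : IsCompl (D 0) (D 1) := by
    have h1 : Disjoint (D 0) (D 1) := hD.indep.pairwiseDisjoint (by decide)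
    refine ⟨h1, codisjoint_iff.2 (Submodule.eq_top_of_finrank_eq ?_)⟩
    have h2 := Submodule.finrank_sup_add_finrank_inf_eq (D 0) (D 1)
    rw [h1.eq_bot, finrank_bot, hD.finrank_eq 0, hD.finrank_eq 1] at h2
    rw [hdim]; omega
  have P : Pair q k (D 0) (D 1) := ⟨hD.finrank_eq 0, hD.finrank_eq 1, hc, hts 0, hts 1⟩
  have hstab : ∀ m : GL (Fin n) F, ∀ s : Equiv.Perm (Fin 2),
      (∀ i, ∀ x ∈ D i, (m : Mn) *ᵥ x ∈ D (s i)) → m ∈ decompositionStabilizer D := fun m s hh => by
    refine ⟨s, fun i => Submodule.eq_of_le_of_finrank_eq ?_ ?_⟩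
    · rintro _ ⟨x, hx, rfl⟩
      rw [Matrix.toLin'_apply]
      exact hh i x hx
    · rw [hD.finrank_eq, ← LinearEquiv.finrank_eq (Submodule.equivMapOfInjective _
        (show Function.Injective (Matrix.toLin' (m : Mn)) from
          Matrix.mulVec_injective_iff_isUnit.2 m.isUnit) (D i)), hD.finrank_eq]
  have hL : Levi q (D 0) (D 1) K := fun a ha b hb hab m hm hS => hK ⟨hstab m 1 fun i x hx => by
    rw [hS x]
    fin_cases i
    · show _ ∈ D 0
      rw [P.tsD x hx a ha, zero_smul, add_zero]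
      exact (D 0).sub_mem hx ((D 0).smul_mem _ ha)
    · show _ ∈ D 1
      rw [P.tsE x hx b hb, zero_smul, sub_zero]
      exact (D 1).add_mem hx ((D 1).smul_mem _ hb), hm⟩
  obtain ⟨j, hj, hj0, hj1⟩ := exists_swap (hF := hF) P
  have hjK : j ∈ K := hK ⟨hstab j (Equiv.swap 0 1) fun i x hx => by
    fin_cases i
    · exact hj0 x hx
    · exact hj1 x hx, hj⟩
  let L : V →ₗ[F] V := Matrix.mulVecLin (g : Mn)
  have hinj : Function.Injective L := Matrix.mulVec_injective_iff_isUnit.2 g.isUnit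
  obtain ⟨u, hu, v', hv', huv, hu0, hv0, hout⟩ : ∃ u, u ∈ D 0 ∧ ∃ v, v ∈ D 1 ∧ h u v = 0 ∧ u ≠ 0 ∧
      v ≠ 0 ∧ ((L u ∉ D 0 ∧ L u ∉ D 1) ∨ (L v ∉ D 0 ∧ L v ∉ D 1)) := by
    by_contra hc'
    push Not at hc'
    have h0 : (D 0).map L ≤ D 0 ∨ (D 0).map L ≤ D 1 := le_or_le <| by
      rintro _ ⟨u, hu, rfl⟩
      by_cases hu0 : u = 0
      · left; rw [hu0, map_zero]; exact zero_mem _
      obtain ⟨v, hv, hvu, -, hv0⟩ := P.symm.exists_perp (U := (⊥ : Submodule F V)) u 0
        (by rw [finrank_bot]; omega)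
      rw [Submodule.mem_bot] at hv0
      have := (hc' u hu v hv (h_zero (hF := hF) hvu) hu0 hv0).1
      tauto
    have h1 : (D 1).map L ≤ D 0 ∨ (D 1).map L ≤ D 1 := le_or_le <| by
      rintro _ ⟨v, hv, rfl⟩
      by_cases hv0 : v = 0
      · left; rw [hv0, map_zero]; exact zero_mem _
      obtain ⟨u, hu, huv, -, hu0⟩ := P.exists_perp (U := (⊥ : Submodule F V)) v 0
        (by rw [finrank_bot]; omega)
      rw [Submodule.mem_bot] at hu0
      have := (hc' u hu v hv huv hu0 hv0).2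
      tauto
    have hne : ∀ i, ¬ ((D 0).map L ≤ D i ∧ (D 1).map L ≤ D i) := fun i hh => by
      have h3 : (⊤ : Submodule F V).map L ≤ D i := by
        rw [← hc.sup_eq_top, Submodule.map_sup]; exact sup_le hh.1 hh.2
      have := Submodule.finrank_mono h3
      rw [← LinearEquiv.finrank_eq (Submodule.equivMapOfInjective L hinj ⊤), finrank_top,
        hdim, hD.finrank_eq] at this
      omega
    rcases h0 with a | a <;> rcases h1 with b | b
    · exact hne 0 ⟨a, b⟩
    · exact hgD (hstab g 1 fun i x hx => by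
        fin_cases i <;> [exact a (Submodule.mem_map_of_mem hx); exact b (Submodule.mem_map_of_mem hx)])
    · exact hgD (hstab g (Equiv.swap 0 1) fun i x hx => by
        fin_cases i <;> [exact a (Submodule.mem_map_of_mem hx); exact b (Submodule.mem_map_of_mem hx)])
    · exact hne 1 ⟨a, b⟩
  have hiso : ∀ {i : Fin 2} {x}, x ∈ D i → h (L x) (L x) = 0 := fun {i x} hx => by
    show h ((g : Mn) *ᵥ x) ((g : Mn) *ᵥ x) = 0
    rw [G_isometry (hKG hg)]; exact hts i x hx x hx
  have hS : ∀ r : F, InS q K (L u) (r • L v') := fun r => by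
    have e0 : h u (r • v') = 0 := by rw [h_smul_right hF, huv, mul_zero]
    obtain ⟨m, hm, hmS⟩ := exists_S (hF := hF) (hts 0 u hu u hu)
      (hts 1 _ ((D 1).smul_mem r hv') _ ((D 1).smul_mem r hv')) e0
    have h1 : InS q K u (r • v') := ⟨m, hL u hu _ ((D 1).smul_mem r hv') e0 m hm hmS, hmS⟩
    rw [← map_smul]
    exact h1.conj hg (hKG hg)
  have hB : h (L u) (L v') = 0 := by
    show h ((g : Mn) *ᵥ u) ((g : Mn) *ᵥ v') = 0
    rw [G_isometry (hKG hg), huv]
  have hind : LinearIndependent F ![L u, L v'] := LinearIndependent.pair_iff.2 fun s t hh => by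
    rw [← map_smul, ← map_smul, ← map_add] at hh
    have h' : s • u + t • v' = 0 := hinj (by rw [hh, map_zero])
    have hs : s • u = 0 := Submodule.disjoint_def.1 hc.disjoint _ ((D 0).smul_mem s hu) (by
      rw [eq_neg_of_add_eq_zero_left h']; exact (D 1).neg_mem ((D 1).smul_mem t hv'))
    rw [hs, zero_add] at h'
    exact ⟨(smul_eq_zero.1 hs).resolve_right hu0, (smul_eq_zero.1 h').resolve_right hv0⟩
  have hne : ∀ x, x ≠ 0 → L x ≠ 0 := fun x hx hh => hx (hinj (by rw [hh, map_zero]))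
  have hswap : ∀ {x y : V}, (∀ r : F, InS q K x (r • y)) → ∀ r : F, InS q K y (r • x) := by
    intro x y hS r
    obtain ⟨m, hm, hmS⟩ := hS (-σ r)
    refine ⟨m, hm, fun z => ?_⟩
    rw [hmS z, h_smul_right hF, h_smul_right hF, map_neg, frob_frob]
    module
  have main : ∀ x y : V, x ∉ D 0 → x ∉ D 1 → y ≠ 0 → LinearIndependent F ![x, y] → h x x = 0 →
      h y y = 0 → h x y = 0 → (∀ r : F, InS q K x (r • y)) → Pure q (D 0) K ∨ Pure q (D 1) K := by
    intro x y hx0 hx1 hy hind hxx hyy hxy hS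
    by_cases h0 : y ∈ D 0
    · exact Or.inl (of_line (hF := hF) P (by omega) hKG hL h0 hy hx1 (h_zero (hF := hF) hxy) (hswap hS))
    by_cases h1 : y ∈ D 1
    · exact Or.inr (of_line (hF := hF) P.symm (by omega) hKG (hL.symm (hF := hF)) h1 hy hx0
        (h_zero (hF := hF) hxy) (hswap hS))
    exact of_outer (hF := hF) P (by omega) hKG hL hx1 h0 h1 hind hxx hyy hxy hS
  have hctr : (∀ e ∈ D 0, Ctr hF K e) ∨ ∀ e ∈ D 1, Ctr hF K e := by
    have h3 : Pure q (D 0) K ∨ Pure q (D 1) K := by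
      rcases hout with ⟨a, b⟩ | ⟨a, b⟩
      · exact main _ _ a b (hne v' hv0) hind (hiso hu) (hiso hv') hB hS
      · exact main _ _ a b (hne u hu0) (LinearIndependent.pair_symm_iff.1 hind) (hiso hv') (hiso hu)
          (h_zero (hF := hF) hB) (hswap hS)
    rcases h3 with hp | hp
    · exact Or.inl fun e he => ctr_of_inT (spread (hF := hF) P (by omega) hKG hL hp e he)
    · exact Or.inr fun e he => ctr_of_inT
        (spread (hF := hF) P.symm (by omega) hKG (hL.symm (hF := hF)) hp e he)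
  have hjinv : ∀ {A A' : Submodule F V}, finrank F A = finrank F A' →
      (∀ x ∈ A, (j : Mn) *ᵥ x ∈ A') → ∀ y ∈ A', ∃ x ∈ A, (j : Mn) *ᵥ x = y := by
    intro A A' hr hh y hy
    have : A.map (Matrix.mulVecLin (j : Mn)) = A' := Submodule.eq_of_le_of_finrank_eq
      (Submodule.map_le_iff_le_comap.2 hh) (by
        rw [← hr]
        exact (LinearEquiv.finrank_eq (Submodule.equivMapOfInjective _
          (Matrix.mulVec_injective_iff_isUnit.2 j.isUnit) A)).symm)
    exact Submodule.mem_map.1 (this.ge hy)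
  have hfin : finrank F (D 0) = finrank F (D 1) := by rw [hD.finrank_eq, hD.finrank_eq]
  obtain ⟨hC0, hC1⟩ : (∀ e ∈ D 0, Ctr hF K e) ∧ ∀ e ∈ D 1, Ctr hF K e := by
    rcases hctr with hh | hh
    · refine ⟨hh, fun y hy => ?_⟩
      obtain ⟨x, hx, rfl⟩ := hjinv hfin hj0 y hy
      exact (hh x hx).conj hjK hj
    · refine ⟨fun y hy => ?_, hh⟩
      obtain ⟨x, hx, rfl⟩ := hjinv hfin.symm hj1 y hy
      exact (hh x hx).conj hjK hj
  have move : ∀ {x a : V} {c : F}, Ctr hF K x → Ctr hF K a → h a a = 0 → c + σ c = 0 →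
      Ctr hF K (x + (c * h x a) • a) := by
    intro x a c hx ha haa hcs
    obtain ⟨m, hm, hmT⟩ := exists_T (hF := hF) haa hcs
    have hmK : m ∈ K := ha m c hcs (Matrix.ext_of_mulVec_single fun i => by rw [hmT, tmat_mulVec])
    have := hx.conj hmK hm
    rwa [hmT x] at this
  obtain ⟨a, ha, b, hb, rfl⟩ := P.split v
  by_cases hb0 : b = 0
  · rw [hb0, add_zero]; exact hC0 a ha
  have haa := hts 0 a ha a ha
  have hbb := hts 1 b hb b hb
  have hskew : h b a + σ (h b a) = 0 := by
    rw [h_swap hF]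
    rw [h_add_left, h_add_right hF, h_add_right hF, haa, hbb] at hv
    linear_combination hv
  have hinv : ∀ {x : F}, x + σ x = 0 → x⁻¹ + σ x⁻¹ = 0 := fun {x} hx => by
    rw [map_inv₀, show σ x = -x by linear_combination hx, inv_neg, add_neg_cancel]
  by_cases hab : h b a = 0
  · obtain ⟨a1, ha1, hb1, -⟩ := P.symm.exists_in (hF := hF) (U := (⊥ : Submodule F V)) bot_le hb
      (by rwa [Submodule.mem_bot])
    obtain ⟨c, hc, hcs⟩ := exists_skew hF
    have hcb : h b (c • a1) = -c := by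
      rw [h_smul_right hF, hb1, mul_one]; linear_combination hcs
    have hskc : (-c : F) + σ (-c) = 0 := by rw [map_neg]; linear_combination -hcs
    have h1 : Ctr hF K (b + c • a1) := by
      have := move (c := (-c)⁻¹) (hC1 b hb) ((hC0 a1 ha1).smul c)
        (hts 0 _ ((D 0).smul_mem c ha1) _ ((D 0).smul_mem c ha1)) (hinv hskc)
      rwa [hcb, inv_mul_cancel₀ (neg_ne_zero.2 hc), one_smul] at this
    have hd : a - c • a1 ∈ D 0 := (D 0).sub_mem ha ((D 0).smul_mem c ha1)
    have e : h (b + c • a1) (a - c • a1) = c := by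
      rw [h_add_left, hts 0 _ ((D 0).smul_mem c ha1) _ hd, h_sub_right hF, hab, hcb]; ring
    have := move (c := c⁻¹) h1 (hC0 _ hd) (hts 0 _ hd _ hd) (hinv hcs)
    rw [e, inv_mul_cancel₀ hc, one_smul] at this
    convert this using 1
    abel
  · have := move (c := (h b a)⁻¹) (hC1 b hb) (hC0 a ha) haa (hinv hskew)
    rwa [inv_mul_cancel₀ hab, one_smul, add_comm] at this

end CfsgLib.MaxSub.PairSU
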