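import Cfsg.Agent.Lib.OrthCover.Six
import Cfsg.Agent.Lib.MaxSub.Frame.Six
import Cfsg.Agent.Lib.MaxSub.Frame.Main
import Cfsg.Agent.Lib.PauliFour.Common
import Cfsg.Agent.Lib.Aschbacher.SympTwoGroup

/-!
The normaliser of a group `4 ∘ 2^(1+4)` in `SL₄(p)`: in Plücker coordinates the group is diagonal with respect to
an orthonormal basis of the six-dimensional space, so its normaliser is the stabiliser of an orthogonal frame,
which is maximal over a prime field.
-/

set_option autoImplicit false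
set_option maxHeartbeats 800000
set_option linter.unusedSimpArgs false

namespace CfsgLib.MaxSub.SLPauli

open Matrix QuadraticMap Module Cfsg.Geo CfsgLib.WittExtension CfsgLib.Lagrangian CfsgLib.PauliFour
open CfsgLib.MaxSub.Frame (Q1 ee IsE Mono Ov Q1_apply)
open scoped MatrixGroups

variable {F : Type*} [Field F]

local notation "M4" => Matrix (Fin 4) (Fin 4) F
local notation "GL4" => GL (Fin 4) F
local notation "V6" => (Fin 3 ⊕ Fin 3 → F)

/-- The first standard generator. -/
def A0 (F : Type*) [Field F] : Matrix (Fin 4) (Fin 4) F := !![1, 0, 0, 0; 0, -1, 0, 0; 0, 0, 1, 0; 0, 0, 0, -1]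

/-- The second standard generator. -/
def B0 (F : Type*) [Field F] : Matrix (Fin 4) (Fin 4) F := !![0, 1, 0, 0; 1, 0, 0, 0; 0, 0, 0, 1; 0, 0, 1, 0]

/-- The third standard generator. -/
def C0 (i : F) : Matrix (Fin 4) (Fin 4) F := !![i, 0, 0, 0; 0, i, 0, 0; 0, 0, -i, 0; 0, 0, 0, -i]

/-- The fourth standard generator. -/
def D0 (F : Type*) [Field F] : Matrix (Fin 4) (Fin 4) F := !![0, 0, -1, 0; 0, 0, 0, -1; 1, 0, 0, 0; 0, 1, 0, 0]

/-- The standard generators. -/
def gen0 (i : F) : Fin 4 → Matrix (Fin 4) (Fin 4) F := ![A0 F, B0 F, C0 i, D0 F]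

/-- Their signs on the six lines. -/
def sgn : Fin 4 → Fin 6 → Bool :=
  ![![false, true, false, false, true, false], ![false, false, true, false, true, false],
    ![false, true, true, false, true, true], ![true, true, true, false, true, false]]

/-- The sign as an element of the field. -/
def sF (b : Bool) : F := if b then 1 else -1

theorem sgn_separates : ∀ j l : Fin 6, j ≠ l → ∃ r, sgn r j ≠ sgn r l := by decide

theorem det_gen0 {i : F} (hi : i * i = -1) (r : Fin 4) : (gen0 i r).det = 1 := by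
  fin_cases r <;> simp [gen0, A0, B0, C0, D0, Matrix.det_succ_row_zero, Fin.sum_univ_succ, Fin.succAbove]
  linear_combination (i * i - 1) * hi

/-- The orthonormal basis in Plücker coordinates. -/
def fr (i : F) (x : Fin 6 → F) : Fin 3 ⊕ Fin 3 → F :=
  Sum.elim ![x 0 + i * x 3, x 1 + i * x 4, x 2 + i * x 5] ![x 0 - i * x 3, x 1 - i * x 4, x 2 - i * x 5]

/-- Its coordinates. -/
def frInv (i : F) (v : Fin 3 ⊕ Fin 3 → F) : Fin 6 → F :=
  ![2⁻¹ * (v (.inl 0) + v (.inr 0)), 2⁻¹ * (v (.inl 1) + v (.inr 1)), 2⁻¹ * (v (.inl 2) + v (.inr 2)),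
    -(i * 2⁻¹) * (v (.inl 0) - v (.inr 0)), -(i * 2⁻¹) * (v (.inl 1) - v (.inr 1)),
    -(i * 2⁻¹) * (v (.inl 2) - v (.inr 2))]

theorem fr_form {i : F} (hi : i * i = -1) (x : Fin 6 → F) : Qp 3 F (fr i x) = x ⬝ᵥ x := by
  rw [Qp_apply]
  simp [Cfsg.quadFormPlus, fr, dotProduct, Fin.sum_univ_six, Fin.sum_univ_three]
  linear_combination -(x 3 * x 3 + x 4 * x 4 + x 5 * x 5) * hi

theorem T_gen0 {i : F} (hi : i * i = -1) (r : Fin 4) (x : Fin 6 → F) :
    Plucker.T (gen0 i r) (fr i x) = fr i fun k => sF (sgn r k) * x k := by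
  funext s
  rcases s with j | j <;> fin_cases r <;> fin_cases j <;>
    simp [gen0, A0, B0, C0, D0, fr, sgn, sF, Plucker.T, Plucker.vec, Plucker.toA, Plucker.U, Matrix.mul_apply,
      Matrix.vecMul, dotProduct, Fin.sum_univ_four]
  all_goals first
    | ring1
    | linear_combination (x 0 + i * x 3) * hi
    | linear_combination (x 0 - i * x 3) * hi
    | linear_combination -(x 1 + i * x 4) * hi
    | linear_combination -(x 1 - i * x 4) * hi
    | linear_combination -(x 2 + i * x 5) * hi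
    | linear_combination -(x 2 - i * x 5) * hi
    | linear_combination -(x 0 + i * x 3) * hi
    | linear_combination -(x 0 - i * x 3) * hi
    | linear_combination (x 1 + i * x 4) * hi
    | linear_combination (x 1 - i * x 4) * hi
    | linear_combination (x 2 + i * x 5) * hi
    | linear_combination (x 2 - i * x 5) * hi

theorem T_smul (c : F) (v : V6) : Plucker.T (c • (1 : M4)) v = (c * c) • v := by
  refine Plucker.toA_injective ?_
  rw [Plucker.toA_T, Plucker.toA_smul, Matrix.transpose_smul, Matrix.transpose_one, Matrix.smul_mul, Matrix.one_mul,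
    Matrix.mul_smul, Matrix.mul_one, smul_smul]

variable {R : Subgroup (GL (Fin 4) F)}

/-- A basis in which the generators are standard. -/
theorem exists_basis (h2 : (2 : F) ≠ 0) (f : PauliFour.Frame R) {i : F} (hi : i * i = -1) :
    ∃ P : GL (Fin 4) F, ∀ r, (![f.a, f.b, f.c, f.d] r : GL4).1 * P.1 = P.1 * gen0 i r := by
  classical
  have haa : f.a.1 * f.a.1 = 1 := congrArg Units.val f.aa
  have hbb : f.b.1 * f.b.1 = 1 := congrArg Units.val f.bb
  have hcc : f.c.1 * f.c.1 = -1 := congrArg Units.val f.cc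
  have hdd : f.d.1 * f.d.1 = -1 := congrArg Units.val f.dd
  have hba : f.b.1 * f.a.1 = -(f.a.1 * f.b.1) := congrArg Units.val f.ba
  have hdc : f.d.1 * f.c.1 = -(f.c.1 * f.d.1) := congrArg Units.val f.dc
  have hca : f.c.1 * f.a.1 = f.a.1 * f.c.1 := congrArg Units.val f.ca
  have hcb : f.c.1 * f.b.1 = f.b.1 * f.c.1 := congrArg Units.val f.cb
  have hda : f.d.1 * f.a.1 = f.a.1 * f.d.1 := congrArg Units.val f.da
  have hdb : f.d.1 * f.b.1 = f.b.1 * f.d.1 := congrArg Units.val f.db
  -- traces vanish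
  have htr : ∀ (g : GL4) (x : M4), g.1 * x = -(x * g.1) → x.trace = 0 := fun g x e => by
    have e' : g.1 * x * (g⁻¹).1 = -x := by rw [e, Matrix.neg_mul, Matrix.mul_assoc, Units.mul_inv, Matrix.mul_one]
    have := congrArg Matrix.trace e'
    rw [Matrix.trace_units_conj, Matrix.trace_neg] at this
    exact (mul_eq_zero.1 (show (2 : F) * x.trace = 0 by linear_combination this)).resolve_left h2
  set X : M4 := (1 + f.a.1) * (1 - i • f.c.1) with hX
  have hXt : X.trace = 4 := by
    rw [hX, Matrix.add_mul, Matrix.one_mul, Matrix.mul_sub, Matrix.mul_one, Matrix.mul_smul]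
    simp only [Matrix.trace_add, Matrix.trace_sub, Matrix.trace_smul]
    rw [htr f.b _ hba, htr f.d _ hdc, htr f.b (f.a.1 * f.c.1) (by
      rw [← Matrix.mul_assoc, hba, Matrix.neg_mul, Matrix.mul_assoc, ← hcb, ← Matrix.mul_assoc]),
      Matrix.trace_one]
    simp
  have hX0 : X ≠ 0 := fun e => by
    rw [e, Matrix.trace_zero] at hXt
    exact mul_ne_zero h2 h2 (by linear_combination -hXt)
  obtain ⟨w, hw⟩ : ∃ w, X *ᵥ w ≠ 0 := by
    by_contra hh
    push Not at hh
    exact hX0 (Matrix.ext_of_mulVec_single fun j => by rw [hh, Matrix.zero_mulVec])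
  set v := X *ᵥ w with hv
  have hav : f.a.1 *ᵥ v = v := by
    rw [hv, Matrix.mulVec_mulVec, hX, ← Matrix.mul_assoc, Matrix.mul_add, Matrix.mul_one, haa, add_comm]
  have hcv : f.c.1 *ᵥ v = i • v := by
    rw [hv, Matrix.mulVec_mulVec, ← Matrix.smul_mulVec]
    congr 1
    rw [hX, ← Matrix.mul_assoc, Matrix.mul_add, Matrix.mul_one, hca,
      show f.c.1 + f.a.1 * f.c.1 = (1 + f.a.1) * f.c.1 by rw [Matrix.add_mul, Matrix.one_mul], Matrix.mul_assoc,
      ← Matrix.mul_smul]
    congr 1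
    rw [Matrix.mul_sub, Matrix.mul_one, Matrix.mul_smul, hcc, smul_sub, smul_smul, hi, smul_neg, neg_one_smul]
    abel
  -- the columns
  set col : Fin 4 → Fin 4 → F :=
    ![v, f.b.1 *ᵥ v, f.d.1 *ᵥ v, f.b.1 *ᵥ (f.d.1 *ᵥ v)] with hcol
  set P : M4 := Matrix.of fun r j => col j r with hP
  have hPcol : ∀ (x : M4) (j r : Fin 4), (x * P) r j = (x *ᵥ col j) r := fun x j r => rfl
  have k1 : ∀ (x y : M4) (u : Fin 4 → F), x *ᵥ (y *ᵥ u) = (x * y) *ᵥ u := fun x y u => Matrix.mulVec_mulVec u x y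
  have ea : ∀ j, f.a.1 *ᵥ col j = (![1, -1, 1, -1] j : F) • col j := by
    intro j
    fin_cases j
    · simpa [hcol] using hav
    · show f.a.1 *ᵥ (f.b.1 *ᵥ v) = (-1 : F) • (f.b.1 *ᵥ v)
      rw [k1, show f.a.1 * f.b.1 = -(f.b.1 * f.a.1) by rw [hba, neg_neg], Matrix.neg_mulVec, ← k1, hav, neg_one_smul]
    · show f.a.1 *ᵥ (f.d.1 *ᵥ v) = (1 : F) • (f.d.1 *ᵥ v)
      rw [k1, ← hda, ← k1, hav, one_smul]
    · show f.a.1 *ᵥ (f.b.1 *ᵥ (f.d.1 *ᵥ v)) = (-1 : F) • (f.b.1 *ᵥ (f.d.1 *ᵥ v))
      rw [k1, show f.a.1 * f.b.1 = -(f.b.1 * f.a.1) by rw [hba, neg_neg], Matrix.neg_mulVec, ← k1,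
        k1 f.a.1 f.d.1, ← hda, ← k1 f.d.1 f.a.1, hav, neg_one_smul]
  have ec : ∀ j, f.c.1 *ᵥ col j = (![i, i, -i, -i] j : F) • col j := by
    intro j
    have ed : f.c.1 *ᵥ (f.d.1 *ᵥ v) = (-i) • (f.d.1 *ᵥ v) := by
      rw [k1, show f.c.1 * f.d.1 = -(f.d.1 * f.c.1) by rw [hdc, neg_neg], Matrix.neg_mulVec, ← k1, hcv,
        Matrix.mulVec_smul, neg_smul]
    fin_cases j
    · simpa [hcol] using hcv
    · show f.c.1 *ᵥ (f.b.1 *ᵥ v) = i • (f.b.1 *ᵥ v)
      rw [k1, hcb, ← k1, hcv, Matrix.mulVec_smul]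
    · exact ed
    · show f.c.1 *ᵥ (f.b.1 *ᵥ (f.d.1 *ᵥ v)) = (-i) • (f.b.1 *ᵥ (f.d.1 *ᵥ v))
      rw [k1, hcb, ← k1, ed, Matrix.mulVec_smul]
  have eb : ∀ j, f.b.1 *ᵥ col j = col (![1, 0, 3, 2] j) := by
    intro j
    fin_cases j <;> simp [hcol, hbb, ← Matrix.mul_assoc]
  have ed : ∀ j, f.d.1 *ᵥ col j = (![1, 1, -1, -1] j : F) • col (![2, 3, 0, 1] j) := by
    intro j
    fin_cases j
    · simp [hcol]
    · show f.d.1 *ᵥ (f.b.1 *ᵥ v) = (1 : F) • (f.b.1 *ᵥ (f.d.1 *ᵥ v))
      rw [k1, hdb, ← k1, one_smul]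
    · show f.d.1 *ᵥ (f.d.1 *ᵥ v) = (-1 : F) • v
      rw [k1, hdd, Matrix.neg_mulVec, Matrix.one_mulVec, neg_one_smul]
    · show f.d.1 *ᵥ (f.b.1 *ᵥ (f.d.1 *ᵥ v)) = (-1 : F) • (f.b.1 *ᵥ v)
      rw [k1, hdb, ← k1, k1 f.d.1 f.d.1, hdd, Matrix.neg_mulVec, Matrix.one_mulVec, Matrix.mulVec_neg, neg_one_smul]
  -- independence
  have hinj : Function.Injective P.mulVec := by
    rw [Matrix.mulVec_injective_iff]
    refine Fintype.linearIndependent_iff.2 fun c hc => ?_
    replace hc : ∑ j, c j • col j = 0 := hc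
    have hA : ∑ j, (![1, -1, 1, -1] j * c j : F) • col j = 0 := by
      have := congrArg (f.a.1 *ᵥ ·) hc
      simp only [Matrix.mulVec_sum, Matrix.mulVec_smul, ea, smul_smul, Matrix.mulVec_zero] at this
      simpa only [mul_comm (c _)] using this
    have hC : ∑ j, (![i, i, -i, -i] j * c j : F) • col j = 0 := by
      have := congrArg (f.c.1 *ᵥ ·) hc
      simp only [Matrix.mulVec_sum, Matrix.mulVec_smul, ec, smul_smul, Matrix.mulVec_zero] at this
      simpa only [mul_comm (c _)] using this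
    have hAC : ∑ j, (![i, i, -i, -i] j * (![1, -1, 1, -1] j * c j) : F) • col j = 0 := by
      have := congrArg (f.c.1 *ᵥ ·) hA
      simp only [Matrix.mulVec_sum, Matrix.mulVec_smul, ec, smul_smul, Matrix.mulVec_zero] at this
      simpa only [mul_comm (_ * c _)] using this
    have hcol0 : ∀ j, col j ≠ 0 := by
      have hinj' : ∀ (g : GL4) u, g.1 *ᵥ u = 0 → u = 0 := fun g u e => by
        have := congrArg ((g⁻¹).1 *ᵥ ·) e
        simpa [Matrix.mulVec_mulVec] using this
      intro j e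
      fin_cases j
      · exact hw e
      · exact hw (hinj' _ _ e)
      · exact hw (hinj' _ _ e)
      · exact hw (hinj' _ _ (hinj' _ _ e))
    simp only [Fin.sum_univ_four] at hc hA hC hAC
    intro j
    have key : (4 : F) • (c j • col j) = 0 := by
      funext r
      have h0 := congrFun hc r
      have h1 := congrFun hA r
      have h3 := congrFun hC r
      have h4 := congrFun hAC r
      simp [Matrix.cons_val_one] at h0 h1 h3 h4
      simp only [Pi.smul_apply, smul_eq_mul, Pi.zero_apply]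
      fin_cases j <;> simp only [Fin.zero_eta, Fin.mk_one, Fin.reduceFinMk]
      · linear_combination h0 + h1 - i * (h3 + h4) +
          2 * (c 0 * col 0 r - c 2 * col 2 r) * hi
      · linear_combination h0 - h1 - i * (h3 - h4) + 2 * (c 1 * col 1 r - c 3 * col 3 r) * hi
      · linear_combination h0 + h1 + i * (h3 + h4) - 2 * (c 0 * col 0 r - c 2 * col 2 r) * hi
      · linear_combination h0 - h1 + i * (h3 - h4) - 2 * (c 1 * col 1 r - c 3 * col 3 r) * hi
    have h4 : (4 : F) ≠ 0 := fun e => mul_ne_zero h2 h2 (by linear_combination e)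
    exact (smul_eq_zero.1 ((smul_eq_zero.1 key).resolve_left h4)).resolve_right (hcol0 j)
  obtain ⟨U, hU⟩ : IsUnit P := Matrix.mulVec_injective_iff_isUnit.1 hinj
  refine ⟨U, fun r => ?_⟩
  rw [hU]
  ext s j
  rw [hPcol, Matrix.mul_apply, Fin.sum_univ_four]
  fin_cases r
  · show (f.a.1 *ᵥ col j) s = _
    rw [ea]; fin_cases j <;> simp [gen0, A0, hP]
  · show (f.b.1 *ᵥ col j) s = _
    rw [eb]; fin_cases j <;> simp [gen0, B0, hP]
  · show (f.c.1 *ᵥ col j) s = _
    rw [ec]; fin_cases j <;> simp [gen0, C0, hP, mul_comm]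
  · show (f.d.1 *ᵥ col j) s = _
    rw [ed]; fin_cases j <;> simp [gen0, D0, hP]

variable [Fintype F]

theorem diag_inv {g : quadIso (Q1 F 6)} {k : Fin 6} (h : g.1 (ee k) = ee k ∨ g.1 (ee k) = -ee k) :
    g⁻¹.1 (ee k) = ee k ∨ g⁻¹.1 (ee k) = -ee k := by
  have e : g⁻¹.1 (g.1 (ee k)) = ee k := g.1.symm_apply_apply _
  rcases h with h | h <;> rw [h] at e
  · exact Or.inl e
  · exact Or.inr (by rw [map_neg] at e; exact neg_eq_iff_eq_neg.1 e)

/-- The isometries fixing six lines. -/
def diagGroup (F : Type*) [Field F] [Fintype F] : Subgroup (quadIso (Q1 F 6)) where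
  carrier := {g | ∀ k, g.1 (ee k) = ee k ∨ g.1 (ee k) = -ee k}
  one_mem' _ := Or.inl rfl
  mul_mem' {g h} hg hh k := by
    show g.1 (h.1 (ee k)) = ee k ∨ g.1 (h.1 (ee k)) = -ee k
    rcases hh k with e | e <;> rw [e]
    · exact hg k
    · rw [map_neg]
      rcases hg k with e' | e' <;> rw [e'] <;> simp
  inv_mem' {_} hg k := diag_inv (hg k)

/-- The monomial isometries form a subgroup. -/
def monoGroup (F : Type*) [Field F] [Fintype F] : Subgroup (quadIso (Q1 F 6)) where
  carrier := {g | Mono g}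
  one_mem' := Frame.mono_one
  mul_mem' ha hb := ha.mul hb
  inv_mem' hg := Frame.Six.mono_inv hg

theorem mem_diag_iff {g : quadIso (Q1 F 6)} :
    g ∈ diagGroup F ↔ ∀ k, g.1 (ee k) = ee k ∨ g.1 (ee k) = -ee k := Iff.rfl

theorem mono_conj_diag {m g : quadIso (Q1 F 6)} (hm : Mono m) (hg : g ∈ diagGroup F) :
    m * g * m⁻¹ ∈ diagGroup F := by
  refine mem_diag_iff.2 fun k => ?_
  have hk : m.1 (m⁻¹.1 (ee k)) = ee k := m.1.apply_symm_apply _
  obtain ⟨j, hj⟩ := Frame.Six.mono_inv hm k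
  show m.1 (g.1 (m⁻¹.1 (ee k))) = ee k ∨ m.1 (g.1 (m⁻¹.1 (ee k))) = -ee k
  rcases hj with e | e <;> rw [e] at hk ⊢ <;> rcases hg j with e' | e'
  · exact Or.inl (by rw [e', hk])
  · exact Or.inr (by rw [e', map_neg, hk])
  · exact Or.inl (by rw [map_neg g.1, e', hk])
  · exact Or.inr (by rw [map_neg g.1, e', neg_neg, ← hk, map_neg, neg_neg])

theorem card_diag_le (h2 : (2 : F) ≠ 0) :
    Nat.card (diagGroup F ⊓ commutator (quadIso (Q1 F 6)) : Subgroup (quadIso (Q1 F 6))) ≤ 32 := by
  classical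
  refine (Nat.card_le_card_of_injective
    (fun g : (diagGroup F ⊓ commutator (quadIso (Q1 F 6)) : Subgroup (quadIso (Q1 F 6))) =>
      fun k : Fin 5 => decide (g.1.1 (ee k.castSucc) = ee k.castSucc)) fun g g' e => ?_).trans (by simp)
  have key : ∀ g : quadIso (Q1 F 6), g ∈ diagGroup F → g ∈ commutator (quadIso (Q1 F 6)) →
      ∀ v m, g.1 v m = (if g.1 (ee m : Fin 6 → F) = ee m then (1 : F) else -1) * v m := by
    intro g hg _ v m
    have h := Frame.dot_map g h2 v (ee m)
    rcases hg m with e | e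
    · rw [if_pos e, one_mul]
      rw [e, Frame.dot_ee, Frame.dot_ee] at h
      exact h
    · rw [if_neg (fun e' => by
        rw [e'] at e
        have := congrFun e m
        rw [Frame.ee_self, Pi.neg_apply, Frame.ee_self] at this
        exact h2 (by linear_combination this))]
      rw [e, dotProduct_neg, Frame.dot_ee, Frame.dot_ee] at h
      linear_combination -h
  set s : quadIso (Q1 F 6) → Fin 6 → F := fun g m => if g.1 (ee m : Fin 6 → F) = ee m then 1 else -1 with hs
  have hprod : ∀ g : quadIso (Q1 F 6), g ∈ diagGroup F → g ∈ commutator (quadIso (Q1 F 6)) → ∏ m, s g m = 1 := by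
    intro g hg hc
    have := Frame.Six.det_eq_one hc 1 (s g) fun v m => key g hg hc v m
    simpa using this
  have hagree : ∀ k : Fin 5, s g.1 k.castSucc = s g'.1 k.castSucc := fun k => by
    have := congrFun e k
    simp only [decide_eq_decide] at this
    simp only [hs]
    exact if_congr this rfl rfl
  have hlast : s g.1 (Fin.last 5) = s g'.1 (Fin.last 5) := by
    have h1 := hprod _ g.2.1 g.2.2
    have h1' := hprod _ g'.2.1 g'.2.2
    rw [Fin.prod_univ_castSucc, Finset.prod_congr rfl fun k _ => hagree k] at h1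
    rw [Fin.prod_univ_castSucc] at h1'
    exact mul_left_cancel₀ (fun e0 => by rw [e0, zero_mul] at h1'; exact zero_ne_one h1') (h1.trans h1'.symm)
  refine Subtype.ext (Frame.ext_iso fun v => funext fun m => ?_)
  rw [key _ g.2.1 g.2.2, key _ g'.2.1 g'.2.2]
  congr 1
  induction m using Fin.lastCases with
  | last => exact hlast
  | cast k => exact hagree k

omit [Fintype F] in
theorem center_scalar (hirr : ∀ M : M4, (∀ s ∈ R, M * (s : M4) = (s : M4) * M) → ∃ c : F, M = c • 1)
    {z : R} (hz : z ∈ Subgroup.center R) : (z : GL4) ∈ Cfsg.Geo.scalars (Fin 4) F := by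
  obtain ⟨c, hc⟩ := hirr (z : GL4) fun s hs =>
    congrArg (fun w : R => ((w : GL4) : M4)) (Subgroup.mem_center_iff.1 hz ⟨s, hs⟩).symm
  obtain ⟨u, hu, -⟩ := PauliFour.eq_sc_of_coe hc
  exact (Cfsg.Geo.mem_scalars_iff _).2 ⟨u, by rw [hu]; exact hc⟩

/-- The data of the class in dimension four give a group of order 64. -/
theorem data_card (hR : IsLinearSymplecticTypeData 2 R) :
    Nat.card (Subgroup.center R) = 4 ∧ Nat.card R = 2 ^ 6 := by
  classical
  obtain ⟨p, e, -, -, hd⟩ := hR.field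
  rcases hd with ⟨hodd, -⟩ | ⟨-, -, hZ, -, m, hm⟩ | ⟨-, -, hι, -⟩
  · exact absurd hodd (by decide)
  swap
  · rw [Fintype.card_fin] at hι
    exact absurd hι (by norm_num)
  haveI : Finite R := Nat.finite_of_card_ne_zero (by rw [hm]; positivity)
  refine ⟨hZ, ?_⟩
  have h4 : ∀ x : R, x ^ 4 = 1 := fun x => by
    have := Monoid.pow_exponent_eq_one x
    rwa [hR.symplecticType.exponent_eq] at this
  have hcomm := PauliFour.commutator_mem_center hR.symplecticType.pGroup h4
    hR.symplecticType.cyclic_of_characteristic (Or.inl hZ)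
  have hirr : ∀ M : M4, (∀ s ∈ R, M * (s : M4) = (s : M4) * M) → ∃ c : F, M = c • 1 := fun M hM =>
    hR.absIrred.2 M fun s hs' => by obtain ⟨g, hg, rfl⟩ := hs'; exact hM g hg
  have hA := CfsgLib.Aschbacher.card_quotient_scalars (A := R) hR.absIrred fun a ha b hb => by
    have := center_scalar hirr (hcomm ⟨a, ha⟩ ⟨b, hb⟩)
    simpa using this
  have hS : (Cfsg.Geo.scalars (Fin 4) F).subgroupOf R = Subgroup.center R := by
    ext z
    refine ⟨fun hz => Subgroup.mem_center_iff.2 fun w => Subtype.ext ?_, center_scalar hirr⟩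
    obtain ⟨c, hc⟩ := (Cfsg.Geo.mem_scalars_iff _).1 (Subgroup.mem_subgroupOf.1 hz)
    refine Units.ext ?_
    show (w : GL4).1 * (z : GL4).1 = (z : GL4).1 * (w : GL4).1
    rw [hc, Matrix.mul_smul, Matrix.mul_one, Matrix.smul_mul, Matrix.one_mul]
  rw [hS, Fintype.card_fin] at hA
  rw [Subgroup.card_eq_card_quotient_mul_card_subgroup (Subgroup.center R), hA, hZ]
  norm_num

set_option maxHeartbeats 3200000 in
/-- Maximality from the action on the six-dimensional space. -/
theorem maximal_of_action (h2 : (2 : F) ≠ 0) (hp : (Fintype.card F).Prime) (hS : PauliFour.Sys R)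
    (hR6 : Nat.card R = 2 ^ 6) (f : PauliFour.Frame R) (φ : specialLinear (Fin 4) F →* quadIso (Q1 F 6))
    (hrange : φ.range = commutator (quadIso (Q1 F 6))) (hker : Nat.card φ.ker ≤ 2)
    (w : Fin 4 → specialLinear (Fin 4) F) (hw : ∀ r, (w r).1 = ![f.a, f.b, f.c, f.d] r)
    (hgen : ∀ r k, (φ (w r)).1 (ee k) = (sF (sgn r k) : F) • ee k)
    (hsc : ∀ u : Fˣ, sc u ∈ R → (sc u : GL4) ∈ ((diagGroup F).comap φ).map (specialLinear (Fin 4) F).subtype) :
    IsMaximalIn (specialLinear (Fin 4) F) (subgroupNormalizer R ⊓ specialLinear (Fin 4) F) := by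
  classical
  haveI : Finite R := Nat.finite_of_card_ne_zero (by rw [hR6]; norm_num)
  set D : Subgroup GL4 := ((diagGroup F).comap φ).map (specialLinear (Fin 4) F).subtype with hD
  have hsF : ∀ b : Bool, (sF b : F) = 1 ∨ (sF b : F) = -1 := fun b => by cases b <;> simp [sF]
  have hgD : ∀ r, (![f.a, f.b, f.c, f.d] r : GL4) ∈ D := fun r => by
    refine Subgroup.mem_map.2 ⟨w r, Subgroup.mem_comap.2 (mem_diag_iff.2 fun k => ?_), hw r⟩
    rw [hgen]
    exact (hsF (sgn r k)).imp (fun e => by rw [e, one_smul]) fun e => by rw [e, neg_one_smul]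
  have hscD := hsc
  have hRD : R ≤ D := fun x hx => by
    obtain ⟨u, hu, e⟩ := eq_rep f hS hx
    rw [e, rep]
    exact mul_mem (hscD u hu) (mul_mem (mul_mem (mul_mem (pow_mem (hgD 0) _) (pow_mem (hgD 1) _))
      (pow_mem (hgD 2) _)) (pow_mem (hgD 3) _))
  have hRDeq : R = D := by
    refine Subgroup.eq_of_le_of_card_ge hRD ?_
    rw [hR6, hD, Subgroup.card_map_of_injective (Subgroup.subtype_injective _)]
    set ψ := φ.comp ((diagGroup F).comap φ).subtype with hψ
    have hk : Nat.card ψ.ker ≤ 2 := le_trans (Nat.card_le_card_of_injective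
      (fun g : ψ.ker => (⟨g.1.1, g.2⟩ : φ.ker)) fun g g' e => Subtype.ext (Subtype.ext
        (congrArg (fun z : φ.ker => z.1) e))) hker
    have hr : Nat.card ψ.range ≤ 32 := le_trans (Subgroup.card_le_of_le
      (show ψ.range ≤ diagGroup F ⊓ commutator (quadIso (Q1 F 6)) by
        rintro _ ⟨g, rfl⟩
        exact ⟨g.2, hrange ▸ ⟨g.1, rfl⟩⟩)) (card_diag_le h2)
    rw [← Subgroup.card_mul_index ψ.ker, Subgroup.index_ker]
    exact (Nat.mul_le_mul hk hr).trans (by norm_num)
  -- the normaliser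
  have hN : ∀ g : specialLinear (Fin 4) F, g.1 ∈ subgroupNormalizer R ↔ Mono (φ g) := by
    intro g
    rw [show subgroupNormalizer R = Subgroup.normalizer (R : Set GL4) from rfl]
    constructor
    · intro hg k
      have heig : ∀ r, ∃ σ : F, (σ = 1 ∨ σ = -1) ∧
          (φ (w r)).1 ((φ g).1 (ee k)) = σ • (φ g).1 (ee k) := by
        intro r
        have hgR : (![f.a, f.b, f.c, f.d] r : GL4) ∈ R := by
          fin_cases r <;> simp [f.ha, f.hb, f.hc, f.hd]
        have h' : g.1⁻¹ * ![f.a, f.b, f.c, f.d] r * (g.1⁻¹)⁻¹ ∈ R := PauliFour.conj_mem (inv_mem hg) hgR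
        obtain ⟨z, hz, hze⟩ := Subgroup.mem_map.1 (hRDeq.le h')
        have hz' : w r * g = g * z := Subtype.ext (by
          show (w r).1 * g.1 = g.1 * z.1
          rw [hw r]
          rw [show z.1 = _ from hze]
          group)
        have := congrArg (fun w : quadIso (Q1 F 6) => w.1 (ee k)) (congrArg φ hz')
        simp only [map_mul] at this
        change (φ _).1 ((φ g).1 (ee k)) = (φ g).1 ((φ z).1 (ee k)) at this
        rcases Subgroup.mem_comap.1 hz k with e | e
        · exact ⟨1, Or.inl rfl, by rw [this, e, one_smul]⟩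
        · exact ⟨-1, Or.inr rfl, by rw [this, e, map_neg, neg_one_smul]⟩
      set v := (φ g).1 (ee k) with hv
      refine Frame.isE_of_card (Frame.norm_image h2 _ k) (Finset.card_le_one.2 fun j hj l hl => ?_)
      rw [Frame.mem_supp] at hj hl
      by_contra hjl
      obtain ⟨r, hr⟩ := sgn_separates j l hjl
      obtain ⟨σ, hσ, hσv⟩ := heig r
      have hval : ∀ m, (φ (w r)).1 v m = sF (sgn r m) * v m := fun m => by
        have h := Frame.dot_map (φ (w r)) h2 v (ee m)
        rw [hgen, dotProduct_smul, Frame.dot_ee, Frame.dot_ee, smul_eq_mul] at h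
        have hsq : sF (sgn r m) * sF (sgn r m) = (1 : F) := by
          rcases hsF (sgn r m) with e | e <;> rw [e] <;> ring
        linear_combination (sF (sgn r m) : F) * h - (φ (w r)).1 v m * hsq
      have e1 : ∀ m, v m ≠ 0 → sF (sgn r m) = σ := fun m hm => by
        have := congrFun hσv m
        rw [hval, Pi.smul_apply, smul_eq_mul] at this
        exact mul_right_cancel₀ hm this
      have e2 : (sF (sgn r j) : F) = sF (sgn r l) := (e1 j hj).trans (e1 l hl).symm
      rcases Bool.eq_false_or_eq_true (sgn r j) with e3 | e3 <;>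
        rcases Bool.eq_false_or_eq_true (sgn r l) with e4 | e4 <;> rw [e3, e4] at hr e2 <;> simp [sF] at hr e2 <;>
        exact h2 (by first | linear_combination e2 | linear_combination -e2)
    · intro hg
      have key : ∀ y : specialLinear (Fin 4) F, Mono (φ y) → ∀ x ∈ R, y.1 * x * y.1⁻¹ ∈ R := by
        intro y hy x hx
        obtain ⟨z, hz, rfl⟩ := Subgroup.mem_map.1 (hRDeq.le hx)
        refine hRDeq.ge ?_
        refine Subgroup.mem_map.2 ⟨y * z * y⁻¹, Subgroup.mem_comap.2 ?_, rfl⟩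
        rw [map_mul, map_mul, map_inv]
        exact mono_conj_diag hy hz
      rw [Subgroup.mem_normalizer_iff]
      refine fun x => ⟨key g hg x, fun hx => ?_⟩
      have := key g⁻¹ (by rw [map_inv]; exact Frame.Six.mono_inv hg) _ hx
      simpa [mul_assoc] using this
  -- maximality
  refine ⟨lt_of_le_of_ne inf_le_right fun e => ?_, fun M hM hMG => ?_⟩
  · obtain ⟨v, hv, hvE⟩ := Frame.exists_not_isE (F := F) (n := 6) h2 (by norm_num)
    have hfr : 5 ≤ finrank F (Fin 6 → F) := by simp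
    obtain ⟨k, hk, hkv⟩ := OmegaSimple.transitive' (Q1 F 6) (Frame.nondeg h2) hfr _
      (fun e w he0 he hew g hg => OmegaSimple.eich_mem (Q1 F 6) (Frame.nondeg h2) hfr he0 he hew hg)
      (a := ee 0) (b := v) (by rw [Q1_apply, Frame.ee_norm]; exact one_ne_zero)
      (by rw [Q1_apply, Q1_apply, Frame.ee_norm, hv])
    rw [← OmegaSimple.commutator_eq (Q1 F 6) (Frame.nondeg h2) hfr, ← hrange] at hk
    obtain ⟨g, rfl⟩ := hk
    have h1 := (hN g).1 (e.ge g.2).1 0
    rw [hkv] at h1
    exact hvE h1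
  by_cases hle : M ≤ subgroupNormalizer R
  · exact Or.inl (le_antisymm (le_inf hle hMG) hM)
  obtain ⟨g, hg, hgn⟩ := SetLike.not_le_iff_exists.1 hle
  refine Or.inr (le_antisymm hMG fun x hx => ?_)
  set K := (M.subgroupOf (specialLinear (Fin 4) F)).map φ with hK
  have O : Ov K := ⟨h2, hrange ▸ Subgroup.map_le_range _ _, fun y hy hym => by
    rw [← hrange] at hy
    obtain ⟨z, rfl⟩ := hy
    exact Subgroup.mem_map_of_mem φ (Subgroup.mem_subgroupOf.2 (hM ⟨(hN z).2 hym, z.2⟩))⟩
  have htop := Frame.overgroup_top_six O hp (g := φ ⟨g, hMG hg⟩)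
    (Subgroup.mem_map_of_mem φ (Subgroup.mem_subgroupOf.2 hg)) fun hm => hgn ((hN ⟨g, hMG hg⟩).2 hm)
  obtain ⟨k, hk, hke⟩ := Subgroup.mem_map.1 (htop (hrange ▸ ⟨(⟨x, hx⟩ : specialLinear (Fin 4) F), rfl⟩ :
    φ ⟨x, hx⟩ ∈ commutator (quadIso (Q1 F 6))))
  obtain ⟨z, hzdef⟩ : ∃ z : specialLinear (Fin 4) F, z = k⁻¹ * ⟨x, hx⟩ := ⟨_, rfl⟩
  have h1 : z.1 ∈ subgroupNormalizer R := (hN z).2 (by
    rw [hzdef, map_mul, map_inv, hke, inv_mul_cancel]; exact Frame.mono_one)
  have hzM : z.1 ∈ M := hM (Subgroup.mem_inf.2 ⟨h1, SetLike.coe_mem z⟩)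
  have h3 := M.mul_mem (Subgroup.mem_subgroupOf.1 hk) hzM
  rw [hzdef, Subgroup.coe_mul, Subgroup.coe_inv, mul_inv_cancel_left] at h3
  exact h3

set_option maxHeartbeats 3200000 in
/-- The normaliser of a group `4 ∘ 2^(1+4)` is maximal, from the standard properties. -/
theorem sl_pauli_maximal_sys (hp : (Fintype.card F).Prime) {R : Subgroup (GL (Fin 4) F)} (hS : PauliFour.Sys R)
    (hZ : Nat.card (Subgroup.center R) = 4) :
    IsMaximalIn (specialLinear (Fin 4) F) (subgroupNormalizer R ⊓ specialLinear (Fin 4) F) := by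
  classical
  have h2 := hS.two
  have hR6 : Nat.card R = 2 ^ 6 := by rw [hS.card, hZ]; norm_num
  haveI : Finite R := hS.fin
  obtain ⟨i, hi'⟩ : IsSquare (-1 : F) := by
    by_contra hno
    haveI := hS.nonempty
    choose u hu using hS.center_scalar
    have hb : ∀ z : Subgroup.center R, u z = 1 ∨ u z = -1 := fun z => by
      have e4 : (u z : F) ^ 4 = 1 := by
        rw [← Units.val_pow_eq_pow_val, show u z ^ 4 = 1 from PauliFour.sc_injective (ι := Fin 4) (by
          rw [map_pow, map_one, ← hu]; exact hS.pow_four _ (z : R).2), Units.val_one]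
      rcases mul_self_eq_one_iff.1 (show ((u z : F) * u z) * (u z * u z) = 1 by linear_combination e4) with e | e
      · exact (mul_self_eq_one_iff.1 e).imp (fun h => Units.ext h)
          fun h => Units.ext (by rw [h, Units.val_neg, Units.val_one])
      · exact absurd ⟨_, e.symm⟩ hno
    have hle := Nat.card_le_card_of_injective (fun z : Subgroup.center R => decide (u z = 1)) fun z z' e => by
      simp only [decide_eq_decide] at e
      refine Subtype.ext (Subtype.ext ?_)
      rw [hu z, hu z']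
      rcases hb z with a | a
      · rw [a, e.1 a]
      · rcases hb z' with a' | a'
        · rw [a', e.2 a']
        · rw [a, a']
    rw [hZ] at hle
    simp at hle
  have hi : i * i = -1 := hi'.symm
  have hi0 : i ≠ 0 := fun e => by rw [e, zero_mul] at hi; exact one_ne_zero (neg_eq_zero.1 hi.symm)
  set iu : Fˣ := Units.mk0 i hi0 with hiu
  have hiu4 : iu ^ 4 = 1 := Units.ext (by
    rw [Units.val_pow_eq_pow_val, Units.val_one]
    show i ^ 4 = 1
    linear_combination (i * i - 1) * hi)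
  obtain ⟨f⟩ := hS.exists_frame (Or.inl ⟨sc iu, hS.scalar_mem hZ hiu4, Units.ext (by
    rw [Units.val_mul, coe_sc, Matrix.smul_mul, Matrix.one_mul, smul_smul,
      show ((iu : Fˣ) : F) * iu = -1 from hi, Units.val_neg, Units.val_one, neg_one_smul]),
    fun g => sc_comm iu g⟩)
  obtain ⟨P, hP⟩ := exists_basis h2 f hi
  let Φ : (Fin 6 → F) ≃ₗ[F] (Fin 3 ⊕ Fin 3 → F) :=
    { toFun := fr i
      invFun := frInv i
      map_add' := fun x y => funext fun s => by rcases s with j | j <;> fin_cases j <;> simp [fr] <;> ring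
      map_smul' := fun c x => funext fun s => by rcases s with j | j <;> fin_cases j <;> simp [fr] <;> ring
      left_inv := fun x => funext fun k => by
        fin_cases k <;> simp [fr, frInv] <;> field_simp <;>
          first | ring1 | linear_combination -x 3 * hi | linear_combination -x 4 * hi | linear_combination -x 5 * hi |
            linear_combination -(2 * x 3) * hi | linear_combination -(2 * x 4) * hi |
            linear_combination -(2 * x 5) * hi
      right_inv := fun v => funext fun s => by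
        rcases s with j | j <;> fin_cases j <;> simp [fr, frInv] <;> field_simp
        · linear_combination -(v (.inl 0) - v (.inr 0)) * hi
        · linear_combination -(v (.inl 1) - v (.inr 1)) * hi
        · linear_combination -(v (.inl 2) - v (.inr 2)) * hi
        · linear_combination (v (.inl 0) - v (.inr 0)) * hi
        · linear_combination (v (.inl 1) - v (.inr 1)) * hi
        · linear_combination (v (.inl 2) - v (.inr 2)) * hi }
  have hΦ : ∀ x, Qp 3 F (Φ x) = x ⬝ᵥ x := fr_form hi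
  let Ψ : quadIso (Qp 3 F) →* quadIso (Q1 F 6) :=
    { toFun := fun g => ⟨Φ.trans (g.1.trans Φ.symm), fun x => by
        show Q1 F 6 (Φ.symm (g.1 (Φ x))) = Q1 F 6 x
        rw [Q1_apply, Q1_apply, ← hΦ, ← hΦ, LinearEquiv.apply_symm_apply, g.2]⟩
      map_one' := Subtype.ext (LinearEquiv.ext fun x => Φ.symm_apply_apply x)
      map_mul' := fun g g' => Subtype.ext (LinearEquiv.ext fun x => by
        show Φ.symm (g.1 (g'.1 (Φ x))) = Φ.symm (g.1 (Φ (Φ.symm (g'.1 (Φ x)))))
        rw [LinearEquiv.apply_symm_apply]) }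
  have hΨs : Function.Surjective Ψ := fun k => by
    refine ⟨⟨Φ.symm.trans (k.1.trans Φ), fun v => ?_⟩, Subtype.ext (LinearEquiv.ext fun x => ?_)⟩
    · show Qp 3 F (Φ (k.1 (Φ.symm v))) = Qp 3 F v
      rw [hΦ, Frame.dot_map k h2, ← hΦ, LinearEquiv.apply_symm_apply]
    · show Φ.symm (Φ (k.1 (Φ.symm (Φ x)))) = k.1 x
      rw [LinearEquiv.symm_apply_apply, LinearEquiv.symm_apply_apply]
  have hdetc : ∀ g : specialLinear (Fin 4) F, (P⁻¹ * g.1 * P).1.det = 1 := fun g => by
    rw [Units.val_mul, Units.val_mul, Matrix.det_units_conj' P g.1.1]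
    exact congrArg Units.val (MonoidHom.mem_ker.1 g.2)
  let θ : specialLinear (Fin 4) F →* SL(4, F) :=
    { toFun := fun g => ⟨(P⁻¹ * g.1 * P).1, hdetc g⟩
      map_one' := Subtype.ext (by simp)
      map_mul' := fun g g' => Subtype.ext (by
        show (P⁻¹ * (g.1 * g'.1) * P).1 = (P⁻¹ * g.1 * P).1 * (P⁻¹ * g'.1 * P).1
        rw [← Units.val_mul]
        congr 1
        group) }
  let φ : specialLinear (Fin 4) F →* quadIso (Q1 F 6) := (Ψ.comp OrthCover.sixIso).comp θ
  have hφ : ∀ g x, (φ g).1 x = Φ.symm (Plucker.T (P⁻¹ * g.1 * P).1 (Φ x)) := fun g x => rfl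
  have hrange : φ.range = commutator (quadIso (Q1 F 6)) := by
    have hθ : Function.Surjective θ := fun s => by
      let u : GL4 := Matrix.SpecialLinearGroup.toGL s
      refine ⟨⟨P * u * P⁻¹, MonoidHom.mem_ker.2 (Units.ext ?_)⟩, Subtype.ext ?_⟩
      · show (P * u * P⁻¹).1.det = 1
        rw [Units.val_mul, Units.val_mul, Matrix.det_units_conj P u.1]
        exact s.2
      · show (P⁻¹ * (P * u * P⁻¹) * P).1 = s.1
        rw [show P⁻¹ * (P * u * P⁻¹) * P = u by group]
        rfl
    rw [show φ.range = ((Ψ.comp OrthCover.sixIso).comp θ).range from rfl, MonoidHom.range_comp,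
      MonoidHom.range_eq_top.2 hθ, ← MonoidHom.range_eq_map, MonoidHom.range_comp, OrthCover.sixIso_range h2,
      _root_.commutator_def, _root_.commutator_def, Subgroup.map_commutator _ _ Ψ,
      Subgroup.map_top_of_surjective _ hΨs]
  have hker : Nat.card φ.ker ≤ 2 := by
    have hΨi : Function.Injective Ψ := fun g g' e => Subtype.ext (LinearEquiv.ext fun v => by
      have := congrArg (fun z : quadIso (Q1 F 6) => Φ (z.1 (Φ.symm v))) e
      change Φ (Φ.symm (g.1 (Φ (Φ.symm v)))) = Φ (Φ.symm (g'.1 (Φ (Φ.symm v)))) at this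
      simpa using this)
    refine (Nat.card_le_card_of_injective
      (fun g : φ.ker => (⟨θ g.1, hΨi (g.2.trans (map_one Ψ).symm)⟩ : (OrthCover.sixIso (F := F)).ker)) ?_).trans
        OrthCover.card_sixIso_ker
    intro g g' e
    refine Subtype.ext (Subtype.ext ?_)
    have e' : (P⁻¹ * g.1.1 * P) = P⁻¹ * g'.1.1 * P :=
      Units.ext (congrArg (fun z : (OrthCover.sixIso (F := F)).ker => z.1.1) e)
    exact mul_left_cancel (mul_right_cancel e')
  -- the group is diagonal
  have hgenSL : ∀ r, (![f.a, f.b, f.c, f.d] r : GL4) ∈ specialLinear (Fin 4) F := fun r =>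
    MonoidHom.mem_ker.2 (Units.ext (by
      have h := congrArg Matrix.det (hP r)
      rw [Matrix.det_mul, Matrix.det_mul, det_gen0 hi, mul_one] at h
      exact mul_right_cancel₀ (IsUnit.ne_zero ((Matrix.isUnit_iff_isUnit_det _).1 P.isUnit))
        (by rw [Units.val_one, one_mul]; exact h)))
  have hgen : ∀ r k, (φ ⟨_, hgenSL r⟩).1 (ee k) = (sF (sgn r k) : F) • ee k := fun r k => by
    rw [hφ, show (P⁻¹ * ![f.a, f.b, f.c, f.d] r * P).1 = gen0 i r by
      rw [Units.val_mul, Units.val_mul, Matrix.mul_assoc, hP r, ← Matrix.mul_assoc, Units.inv_mul, Matrix.one_mul],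
      show Φ (ee k) = fr i (ee k) from rfl, T_gen0 hi]
    refine (Φ.symm_apply_apply (fun m => sF (sgn r m) * (ee k : Fin 6 → F) m)).trans (funext fun m => ?_)
    rw [Pi.smul_apply, smul_eq_mul, Frame.ee_apply]
    split_ifs with h <;> simp [h]
  refine maximal_of_action h2 hp hS hR6 f φ hrange hker (fun r => ⟨_, hgenSL r⟩) (fun _ => rfl) hgen
    fun u hu => ?_
  have hu4 : u ^ 4 = 1 := sc_injective (ι := Fin 4) (by rw [map_pow, map_one]; exact hS.pow_four _ hu)
  have hmem : (sc u : GL4) ∈ specialLinear (Fin 4) F := MonoidHom.mem_ker.2 (by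
    rw [PauliFour.det_sc (Fintype.card_fin 4), hu4])
  refine Subgroup.mem_map.2 ⟨⟨_, hmem⟩, Subgroup.mem_comap.2 (mem_diag_iff.2 fun k => ?_), rfl⟩
  have hsq : ((u : F) * u) * ((u : F) * u) = 1 := by
    have := congrArg Units.val hu4
    rw [Units.val_pow_eq_pow_val, Units.val_one] at this
    linear_combination this
  rw [hφ, show P⁻¹ * sc u * P = (sc u : GL4) by rw [mul_assoc, sc_comm, inv_mul_cancel_left], coe_sc, T_smul,
    map_smul, LinearEquiv.symm_apply_apply]
  exact (mul_self_eq_one_iff.1 hsq).imp (fun e => by rw [e, one_smul]) fun e => by rw [e, neg_one_smul]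

/-- The normaliser of a group `4 ∘ 2^(1+4)` is maximal in the special linear group. -/
theorem sl_pauli_maximal {p : ℕ} (hp : p.Prime) (hF : Fintype.card F = p) (hp4 : p % 4 = 1)
    {R : Subgroup (GL (Fin 4) F)} (hR : IsLinearSymplecticTypeData 2 R) :
    IsMaximalIn (specialLinear (Fin 4) F) (subgroupNormalizer R ⊓ specialLinear (Fin 4) F) := by
  have h2 : (2 : F) ≠ 0 :=
    CfsgLib.FiniteForms.two_ne_zero_of_odd (F := F) rfl (hF ▸ hp.odd_of_ne_two (by omega))
  obtain ⟨hZ, hR6⟩ := data_card hR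
  haveI : Finite R := Nat.finite_of_card_ne_zero (by rw [hR6]; norm_num)
  exact sl_pauli_maximal_sys (hF ▸ hp)
    (Sys.of_hyp h2 (Fintype.card_fin 4) hR.symplecticType hR.absIrred (Or.inl ⟨hZ, hR6⟩)) hZ

end CfsgLib.MaxSub.SLPauli
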