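/-
A large upper unitriangular group with one lower element generates `SL₂`, up to sign.
-/
import Mathlib
import Cfsg.Agent.Lib.DicksonFull.Solvabilizer
import Cfsg.Agent.Lib.Aschbacher.Subfield

set_option autoImplicit false
set_option maxHeartbeats 400000

namespace CfsgLib.MaxSub.Plane

open Matrix CfsgLib.DicksonFull
open CfsgLib.Dickson (up lo)
open CfsgLib.PSL2 (mk mk_eq_mk)

variable {F : Type*} [Field F] [Fintype F]

local notation "SL" => Matrix.SpecialLinearGroup (Fin 2) F
local notation "PSL" => Matrix.ProjectiveSpecialLinearGroup (Fin 2) F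

theorem card_dihedral_bound (p k : ℕ) [Fact p.Prime] (hk : ¬ p ∣ k) {A : Set (DihedralGroup k)}
    (hA : ∀ a ∈ A, a ^ p = 1) (hAA : ∀ a ∈ A, ∀ b ∈ A, (a * b) ^ p = 1) : A.ncard ≤ 2 := by
  classical
  have hrot : ∀ i : ZMod k, (DihedralGroup.r i) ^ p = 1 → i = 0 := by
    intro i hi
    rw [DihedralGroup.r_pow, DihedralGroup.one_def] at hi
    have hi' : i * (p : ZMod k) = 0 := by simpa using DihedralGroup.r.inj hi
    have hu : IsUnit (p : ZMod k) := by
      rw [ZMod.isUnit_iff_coprime]
      exact ((Fact.out : p.Prime).coprime_iff_not_dvd).2 hk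
    exact hu.mul_left_eq_zero.1 hi'
  by_contra hA2
  push Not at hA2
  have hfin : A.Finite := Set.finite_of_ncard_pos (by omega)
  have hsr : ∀ a ∈ A, a ≠ 1 → ∃ i, a = DihedralGroup.sr i := by
    rintro (i | i) ha hne
    · exact absurd (by rw [hrot i (hA _ ha)]; rfl) hne
    · exact ⟨i, rfl⟩
  obtain ⟨a, ha, b, hb, ha1, hb1, hab⟩ : ∃ a ∈ A, ∃ b ∈ A, a ≠ 1 ∧ b ≠ 1 ∧ a ≠ b := by
    have h1 : 1 < (A \ {1}).ncard := by
      have := Set.ncard_le_ncard_diff_add_ncard A {1}
      rw [Set.ncard_singleton] at this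
      omega
    obtain ⟨a, b, ha, hb, hab⟩ := (Set.one_lt_ncard_iff (hfin.subset Set.diff_subset)).1 h1
    exact ⟨a, ha.1, b, hb.1, ha.2, hb.2, hab⟩
  obtain ⟨i, rfl⟩ := hsr a ha ha1
  obtain ⟨j, rfl⟩ := hsr b hb hb1
  have h := hAA _ ha _ hb
  rw [DihedralGroup.sr_mul_sr] at h
  exact hab (by rw [(sub_eq_zero.1 (hrot _ h))])

theorem a4_invol :
    ∀ a b : alternatingGroup (Fin 4), a ^ 2 = 1 → b ^ 2 = 1 → a * b = b * a := by decide +kernel

theorem s4_four : ∃ a : Equiv.Perm (Fin 4), orderOf a = 4 := by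
  refine ⟨finRotate 4, ?_⟩
  have := (isCycle_finRotate (n := 2)).orderOf
  rwa [support_finRotate, Finset.card_univ, Fintype.card_fin] at this

theorem eq_two_of_sq_dvd {p N : ℕ} (hp : p.Prime) (hN : N = 12 ∨ N = 24 ∨ N = 60)
    (h : p ^ 2 ∣ N) : p = 2 := by
  have h2 := hp.two_le
  have hle : p ^ 2 ≤ 60 := (Nat.le_of_dvd (by omega) h).trans (by omega)
  have hp8 : p < 8 := by nlinarith
  rcases hN with rfl | rfl | rfl <;> interval_cases p <;> first | rfl | (exfalso; revert hp h; norm_num)

omit [Fintype F] in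
theorem quart_of_order {b : F} (h2 : (2 : F) = 0)
    (h : mk (up b * lo (1 : F)) ^ 2 = 1 ∨ mk (up b * lo (1 : F)) ^ 3 = 1 ∨
      mk (up b * lo (1 : F)) ^ 5 = 1) : b ^ 4 = b := by
  have key : ∀ g : SL, mk g = 1 → g.1 1 0 = 0 := fun g hg => by
    rw [← map_one mk] at hg
    rcases mk_eq_mk.1 hg with e | e
    · rw [← e]; simp
    · have := congrFun (congrFun e 1) 0
      simp at this
      exact this
  rcases h with e | e | e <;> rw [← map_pow] at e <;> have := key _ e <;>
    simp [pow_succ, Dickson.mul_entry] at this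
  · linear_combination (b ^ 3 - 1 - 2 * 0) * this - (b ^ 3 - 1) * h2
  · have hb : (b - 1) ^ 2 = 0 := by linear_combination this - (3 * b + 1) * h2
    rw [sub_eq_zero.1 ((pow_eq_zero_iff two_ne_zero).1 hb), one_pow]
  · have hb : (b ^ 2 + b + 1) ^ 2 = 0 := by
      linear_combination this - (3 * b ^ 3 + 9 * b ^ 2 + 9 * b + 2) * h2
    linear_combination (b * (b - 1)) * (pow_eq_zero_iff two_ne_zero).1 hb

/-- A big elementary group of upper elements and one lower element. -/
theorem gen_top {G : Subgroup SL} {B : AddSubgroup F} (hlo : lo 1 ∈ G)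
    (hB : ∀ b ∈ B, up b ∈ G) (hbig : ∀ p : ℕ, p.Prime → CharP F p → p ^ 2 ≤ Nat.card B)
    (hS : ∀ S : Subfield F, (∀ b ∈ B, b ∈ S) → S = ⊤) (k : SL) : k ∈ G ∨ -k ∈ G := by
  classical
  obtain ⟨p, hp⟩ := CharP.exists F
  obtain ⟨e', hpp, hF⟩ := FiniteField.card F p
  haveI : Fact p.Prime := ⟨hpp⟩
  set H : Subgroup PSL := G.map mk with hH
  suffices hT : H = ⊤ by
    obtain ⟨g, hg, hgk⟩ := Subgroup.mem_map.1 (hT ▸ Subgroup.mem_top (mk k) : mk k ∈ H)
    rcases mk_eq_mk.1 hgk.symm with h | h
    · exact Or.inl (by rwa [show k = g from Subtype.ext h.symm])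
    · refine Or.inr ?_
      rwa [show -k = g from Subtype.ext (by rw [Matrix.SpecialLinearGroup.coe_neg, h])]
  -- the image of the upper elements
  have hup : ∀ b ∈ B, mk (up b) ∈ H := fun b hb => Subgroup.mem_map_of_mem mk (hB b hb)
  have hlo' : mk (lo (1 : F)) ∈ H := Subgroup.mem_map_of_mem mk hlo
  have hinj : Function.Injective fun b : B => (⟨mk (up (b : F)), hup b b.2⟩ : H) := by
    intro b c e
    have e' : mk (up (b : F)) = mk (up (c : F)) := congrArg Subtype.val e
    apply Subtype.ext
    rcases mk_eq_mk.1 e' with h | h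
    · simpa using (congrFun (congrFun h 0) 1).symm
    · have h00 : (1 : F) = -1 := by simpa using congrFun (congrFun h 0) 0
      have h01 : (c : F) = -(b : F) := by simpa using congrFun (congrFun h 0) 1
      have h2 : (2 : F) = 0 := by linear_combination h00
      linear_combination (b : F) * h2 - h01 - (c : F) * h2 + (c : F) * h2
  have hBH : Nat.card B ≤ Nat.card H := Nat.card_le_card_of_injective _ hinj
  have hp2 := hbig p hpp hp
  have hB4 : 4 ≤ Nat.card B :=
    le_trans (Nat.pow_le_pow_left hpp.two_le 2 : 2 ^ 2 ≤ p ^ 2) hp2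
  -- the square of the characteristic divides the order
  have hdvd : p ^ 2 ∣ Nat.card H := by
    let f : Multiplicative B →* H :=
      { toFun := fun b => ⟨mk (up ((Multiplicative.toAdd b : B) : F)),
          hup _ (Multiplicative.toAdd b : B).2⟩
        map_one' := Subtype.ext (by
          show mk (up (((0 : B)) : F)) = 1
          rw [AddSubgroup.coe_zero, Dickson.up_zero, map_one])
        map_mul' := fun b c => Subtype.ext (by
          show mk (up (((Multiplicative.toAdd b + Multiplicative.toAdd c : B)) : F)) = mk (up _) * mk (up _)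
          rw [← map_mul, Dickson.up_mul, AddSubgroup.coe_add]) }
    have hf : Function.Injective f := fun b c e => Multiplicative.toAdd.injective (hinj e)
    have h1 := Subgroup.card_dvd_of_injective f hf
    rw [Nat.card_congr Multiplicative.toAdd] at h1
    refine dvd_trans ?_ h1
    obtain ⟨i, -, hi⟩ := (Nat.dvd_prime_pow hpp).1
      (hF ▸ Nat.card_eq_fintype_card (α := F) ▸ AddSubgroup.card_addSubgroup_dvd_card B :
        Nat.card B ∣ p ^ (e' : ℕ))
    rw [hi] at hp2 ⊢
    exact pow_dvd_pow p ((Nat.pow_le_pow_iff_right hpp.one_lt).1 hp2)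
  obtain ⟨b₀, hb₀, hb₀0⟩ : ∃ b ∈ B, b ≠ 0 := by
    by_contra hc
    push Not at hc
    haveI : Subsingleton B := ⟨fun x y => Subtype.ext (by rw [hc x x.2, hc y y.2])⟩
    have : Nat.card B ≤ 1 := Finite.card_le_one_iff_subsingleton.2 inferInstance
    omega
  have hnc : ¬ Commute (mk (lo (1 : F))) (mk (up b₀)) := by
    intro h
    have h1 : mk (lo (1 : F) * up b₀) = mk (up b₀ * lo 1) := by rw [map_mul, map_mul]; exact h
    rcases mk_eq_mk.1 h1 with h | h
    · exact hb₀0 (by simpa [Dickson.mul_entry] using congrFun (congrFun h 0) 0)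
    · have h10 := congrFun (congrFun h 1) 0
      have h00 := congrFun (congrFun h 0) 0
      simp [Dickson.mul_entry] at h10 h00
      have h2 : (2 : F) = 0 := by linear_combination h10
      refine hb₀0 ?_
      linear_combination h00 - h2
  have hlop : orderOf (mk (lo (1 : F))) = p := order_p_mk_lo p one_ne_zero
  rcases kind (psl (F := F) p) H with h | ⟨x, hx, hxH, h⟩ | ⟨x, hx, hxH, ⟨h⟩⟩ | ⟨h⟩ | ⟨h⟩ | ⟨h⟩ |
    ⟨u, huH, hu, h⟩ | ⟨u, v, huH, hu, hvH, hv, huv, Q, hQ, h3, hh, hBor, -⟩
  · have : Nat.card H = 1 := by rw [h, Subgroup.card_bot]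
    omega
  · exact absurd (tor_comm hx (h hlo') (h (hup b₀ hb₀))) hnc
  · exfalso
    let A : Set (DihedralGroup (Nat.card (tor (psl p) H x))) :=
      Set.range fun b : B => h ⟨mk (up (b : F)), hup b b.2⟩
    have hA : A.ncard = Nat.card B := by
      exact Set.ncard_range_of_injective (h.injective.comp hinj)
    have hpow : ∀ t : F, mk (up t) ^ p = 1 := fun t => by
      rw [← map_pow, Dickson.up_pow, CharP.cast_eq_zero, zero_mul, Dickson.up_zero, map_one]
    have hb : A.ncard ≤ 2 := by
      refine card_dihedral_bound p _ (not_dvd_tor (psl p) hx) ?_ ?_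
      · rintro _ ⟨b, rfl⟩
        rw [← map_pow, show (⟨mk (up (b : F)), hup b b.2⟩ : H) ^ p = 1 from Subtype.ext (hpow _),
          map_one]
      · rintro _ ⟨b, rfl⟩ _ ⟨c, rfl⟩
        rw [← map_mul, ← map_pow, show ((⟨mk (up (b : F)), hup b b.2⟩ : H) * ⟨mk (up (c : F)),
          hup c c.2⟩) ^ p = 1 from Subtype.ext (by
            show (mk (up (b : F)) * mk (up (c : F))) ^ p = 1
            rw [← map_mul, Dickson.up_mul]; exact hpow _), map_one]
    omega
  · exfalso
    rw [Nat.card_congr h.some.toEquiv, nat_card_alternatingGroup, Nat.card_fin] at hdvd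
    simp only [Nat.factorial] at hdvd
    have hp : p = 2 := eq_two_of_sq_dvd hpp (by norm_num) hdvd
    have hsq : ∀ g : PSL, orderOf g = p → g ^ 2 = 1 := fun g hg =>
      (congrArg (g ^ ·) (hp.symm.trans hg.symm)).trans (pow_orderOf_eq_one g)
    have h1 : (h.some ⟨_, hlo'⟩) ^ 2 = 1 := by
      rw [← map_pow, show (⟨_, hlo'⟩ : H) ^ 2 = 1 from Subtype.ext (hsq _ hlop), map_one]
    have h2 : (h.some ⟨_, hup b₀ hb₀⟩) ^ 2 = 1 := by
      rw [← map_pow, show (⟨_, hup b₀ hb₀⟩ : H) ^ 2 = 1 from
        Subtype.ext (hsq _ (order_p_mk_up p hb₀0)), map_one]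
    have h3 := a4_invol _ _ h1 h2
    rw [← map_mul, ← map_mul] at h3
    exact hnc (congrArg Subtype.val (h.some.injective h3))
  · exfalso
    rw [Nat.card_congr h.some.toEquiv, Nat.card_perm, Nat.card_fin] at hdvd
    simp only [Nat.factorial] at hdvd
    have hp : p = 2 := eq_two_of_sq_dvd hpp (by norm_num) hdvd
    obtain ⟨a, ha⟩ := s4_four
    have ho : orderOf ((h.some.symm a : H) : PSL) = 4 := by
      rw [Subgroup.orderOf_coe, MulEquiv.orderOf_eq, ha]
    have hne : ((h.some.symm a : H) : PSL) ≠ 1 := fun e1 => by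
      rw [e1, orderOf_one] at ho; omega
    rcases (psl (F := F) p).order_cases _ hne with ⟨-, hs⟩ | hs
    · exact hs (by rw [ho, hp]; norm_num)
    · omega
  · rw [Nat.card_congr h.some.toEquiv, nat_card_alternatingGroup, Nat.card_fin] at hdvd
    simp only [Nat.factorial] at hdvd
    have hp : p = 2 := eq_two_of_sq_dvd hpp (by norm_num) hdvd
    subst hp
    have h2 : (2 : F) = 0 := CharTwo.two_eq_zero
    have hquart : ∀ b ∈ B, b ^ 4 = b := fun b hb => by
      have hmem : mk (up b * lo 1) ∈ H := by rw [map_mul]; exact H.mul_mem (hup b hb) hlo'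
      refine quart_of_order h2 ?_
      have hh : ∀ i : ℕ, (h.some ⟨_, hmem⟩) ^ i = 1 → mk (up b * lo (1 : F)) ^ i = 1 := fun i hi => by
        rw [← map_pow, ← map_one h.some] at hi
        exact congrArg Subtype.val (h.some.injective hi)
      exact (a5_orders (h.some ⟨_, hmem⟩)).imp (hh 2) (Or.imp (hh 3) (hh 5))
    haveI : Fact (Nat.Prime 2) := ⟨Nat.prime_two⟩
    let S₄ : Subfield F :=
      { carrier := {x | x ^ 4 = x}
        one_mem' := one_pow 4
        zero_mem' := zero_pow (by norm_num)
        mul_mem' := fun {a c} ha hc => by rw [Set.mem_setOf_eq, mul_pow, ha, hc]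
        add_mem' := fun {a c} ha hc => by
          rw [Set.mem_setOf_eq, show (4 : ℕ) = 2 ^ 2 by norm_num, add_pow_char_pow,
            show (2 : ℕ) ^ 2 = 4 by norm_num, ha, hc]
        neg_mem' := fun {a} ha => by rw [Set.mem_setOf_eq, Even.neg_pow (by decide), ha, CharTwo.neg_eq]
        inv_mem' := fun a ha => by rw [Set.mem_setOf_eq, inv_pow, ha] }
    have hall : ∀ x : F, x ^ 4 = x := fun x => by
      have hx : x ∈ S₄ := by rw [hS S₄ hquart]; trivial
      exact hx
    have hq4 : Fintype.card F ≤ 4 := by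
      obtain ⟨g, hg⟩ := IsCyclic.exists_ofOrder_eq_natCard (α := Fˣ)
      have h3 : g ^ 3 = 1 := Units.ext (mul_left_cancel₀ g.ne_zero (by
        rw [Units.val_pow_eq_pow_val, ← pow_succ', hall, Units.val_one, mul_one]))
      have h4 := Nat.le_of_dvd (by norm_num) (hg ▸ orderOf_dvd_of_pow_eq_one h3)
      rw [Nat.card_units, Nat.card_eq_fintype_card] at h4
      omega
    refine Subgroup.eq_top_of_le_card H ?_
    rw [Nat.card_congr h.some.toEquiv, nat_card_alternatingGroup, Nat.card_fin]
    simp only [Nat.factorial]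
    have hc := card_psl (F := F)
    rcases gcd_cases (F := F) 2 with ⟨hg, -⟩ | ⟨hg, -⟩
    · rw [hg, one_mul] at hc
      rw [hc]
      have : Fintype.card F ^ 2 - 1 ≤ 15 := by
        have := Nat.pow_le_pow_left hq4 2
        omega
      calc _ ≤ 4 * 15 := Nat.mul_le_mul hq4 this
        _ = _ := by norm_num
    · have hev : Even (Fintype.card F) := by
        rw [hF]; exact (Nat.even_pow.2 ⟨even_two, e'.ne_zero⟩)
      obtain ⟨j, hj⟩ := hev
      have := Nat.gcd_dvd_right 2 (Fintype.card F - 1)
      rw [hg] at this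
      have := Fintype.card_pos (α := F)
      omega
  · refine absurd ?_ hnc
    have hpw : ∀ g : PSL, orderOf g = p → g ^ p = 1 := fun g hg => by
      rw [← hg]; exact pow_orderOf_eq_one g
    have h1 := mem_cent.1 (mem_cent_of_mem_bor p hu (h hlo') (hpw _ hlop))
    have h2 := mem_cent.1 (mem_cent_of_mem_bor p hu (h (hup b₀ hb₀))
      (hpw _ (order_p_mk_up p hb₀0)))
    exact ((psl (F := F) p).u_cen u _ _ hu h1 h2).1
  · obtain ⟨S, hSQ, hStr⟩ := field_trace p huH hu hvH hv huv Q hQ hh
    have hsq : ∀ b ∈ B, (2 + b) ^ 2 ∈ S := fun b hb => by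
      have := hStr (up b * lo 1) (by rw [map_mul]; exact H.mul_mem (hup b hb) hlo')
      rwa [show (up b * lo (1 : F)).1.trace = 2 + b by
        rw [Matrix.trace_fin_two, Dickson.mul_entry, Dickson.mul_entry]; simp; ring] at this
    have hS' : S = ⊤ := hS S fun b hb => by
      by_cases h2 : (2 : F) = 0
      · haveI : CharP F 2 := CharTwo.of_one_ne_zero_of_two_eq_zero one_ne_zero h2
        haveI : ExpChar F 2 := ExpChar.prime Nat.prime_two
        haveI : Fintype S := Fintype.ofFinite _
        haveI : CharP S 2 := (RingHom.charP_iff _ S.subtype.injective 2).2 ‹_›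
        have h' := hsq b hb
        rw [h2, zero_add] at h'
        obtain ⟨y, hy⟩ := (FiniteField.isSquare_of_char_two (ringChar.eq S 2) (⟨b ^ 2, h'⟩ : S))
        have hy' : (y : F) ^ 2 = b ^ 2 := by
          rw [sq (y : F)]; exact (congrArg Subtype.val hy).symm
        have hz : ((y : F) - b) ^ 2 = 0 := by linear_combination hy' + (b * b - (y : F) * b) * h2
        rw [← sub_eq_zero.1 ((pow_eq_zero_iff two_ne_zero).1 hz)]
        exact y.2
      · have h8 : 8 * b ∈ S := by
          have := S.sub_mem (hsq b hb) (hsq (-b) (B.neg_mem hb))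
          rwa [show (2 + b) ^ 2 - (2 + -b) ^ 2 = 8 * b by ring] at this
        have h8S : (8 : F) ∈ S := by
          have h1 := S.add_mem S.one_mem S.one_mem
          have h4 := S.add_mem h1 h1
          have := S.add_mem h4 h4
          convert this using 1
          norm_num
        have h80 : (8 : F) ≠ 0 := by
          rw [show (8 : F) = 2 ^ 3 by norm_num]
          exact pow_ne_zero 3 h2
        rw [show b = 8 * b / 8 by rw [mul_div_cancel_left₀ b h80]]
        exact S.div_mem h8 h8S
    have hQq : Q = Fintype.card F := by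
      rw [← hSQ, hS', ← Nat.card_eq_fintype_card]
      exact Nat.card_congr (Equiv.subtypeUnivEquiv fun x => Subfield.mem_top x)
    subst hQq
    by_contra hne
    set q := Fintype.card F with hq
    have hq1 : 1 < q := Fintype.one_lt_card
    have hBq : Nat.card B ≤ q := by
      rw [hq, ← Nat.card_eq_fintype_card]
      exact Nat.card_le_card_of_injective _ Subtype.val_injective
    have hlow : (q + 1) * (q * (q - 1)) ≤ 2 * Nat.card H := by
      rw [hh, mul_left_comm 2]
      refine Nat.mul_le_mul_left _ ?_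
      rcases hBor with h | h <;> omega
    have hq4 : 4 ≤ q := hB4.trans hBq
    by_cases h4 : q = 4
    · apply hne
      obtain ⟨K', D, -, hD, -, -⟩ := borel_compl (psl (F := F) p) huH hu
      rw [hQ, h4] at hD
      rw [h4] at hh hBor
      refine Subgroup.eq_top_of_le_card H ?_
      have hc := card_psl (F := F)
      rw [← hq, h4, show Nat.gcd 2 (4 - 1) = 1 from rfl, one_mul] at hc
      rw [hc]
      show 60 ≤ _
      rcases hBor with h | h <;> omega
    have hq8 : 8 ≤ q := by
      obtain ⟨i, -, hi⟩ := (Nat.dvd_prime_pow hpp).1 (dvd_refl (p ^ (e' : ℕ)))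
      rcases Nat.lt_or_ge p 3 with hlt | hge
      · have hp2' : p = 2 := le_antisymm (by omega) hpp.two_le
        have hqe : q = 2 ^ (e' : ℕ) := by rw [hF, hp2']
        rcases Nat.lt_or_ge (e' : ℕ) 3 with h3 | h3
        · interval_cases hee : (e' : ℕ) <;> omega
        · rw [hqe]; exact le_trans (by norm_num) (Nat.pow_le_pow_right (by norm_num) h3)
      · have := (Nat.pow_le_pow_left hge 2).trans (hp2.trans hBq)
        omega
    have hlow2 : 4 * (q + 1) * q < 2 * Nat.card H + (q + 1) * q := by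
      have h7 : (q + 1) * (q * 7) ≤ (q + 1) * (q * (q - 1)) :=
        Nat.mul_le_mul_left _ (Nat.mul_le_mul_left _ (by omega))
      nlinarith
    rcases proper_cases p hne with ⟨k, hk, hiso⟩ | ⟨e⟩ | ⟨e⟩ | ⟨e⟩ | ⟨u', hu', hle⟩ |
      ⟨Q', m, -, -, -, -, hQ'3, hm, hQm, hle, -, -⟩
    · have hk' : k ≤ q + 1 := by
        rcases hk with hk | hk
        · refine (Nat.le_of_dvd (Nat.div_pos ?_ (Nat.gcd_pos_of_pos_left _ (by omega))) hk).trans
            (Nat.div_le_self _ _)
          exact (Nat.gcd_le_left _ (by omega)).trans (by omega)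
        · rcases Nat.eq_zero_or_pos ((q - 1) / Nat.gcd 2 (q - 1)) with h0 | h0
          · exfalso
            rcases Nat.div_eq_zero_iff.1 h0 with h0 | h0
            · simp [Nat.gcd_eq_zero_iff] at h0
            · have := Nat.gcd_le_right 2 (show 0 < q - 1 by omega)
              omega
          · exact ((Nat.le_of_dvd h0 hk).trans (Nat.div_le_self _ _)).trans (by omega)
      have hc : Nat.card H ≤ 2 * (q + 1) := by
        rcases hiso with ⟨-, h⟩ | ⟨e⟩
        · omega
        · rw [Nat.card_congr e.some.toEquiv, DihedralGroup.nat_card]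
          omega
      nlinarith [hlow2]
    · rw [Nat.card_congr e.some.toEquiv, nat_card_alternatingGroup, Nat.card_fin] at hlow2
      norm_num [Nat.factorial] at hlow2
      nlinarith
    · rw [Nat.card_congr e.some.toEquiv, Nat.card_perm, Nat.card_fin] at hlow2
      norm_num [Nat.factorial] at hlow2
      nlinarith
    · rw [Nat.card_congr e.some.toEquiv, nat_card_alternatingGroup, Nat.card_fin] at hlow2
      norm_num [Nat.factorial] at hlow2
      nlinarith
    · have h1 := card_bor (F := F) p hu'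
      have h2 := Nat.le_of_dvd Nat.card_pos (Subgroup.card_dvd_of_le hle)
      have hg : 1 ≤ Nat.gcd 2 (q - 1) := Nat.gcd_pos_of_pos_left _ (by omega)
      have h3 : Nat.card (bor u' : Subgroup PSL) ≤ q * (q - 1) := by
        rw [← h1]; exact Nat.le_mul_of_pos_left _ hg
      have hlow : (q + 1) * q ≤ Nat.card H := by nlinarith [hlow2]
      have : q * (q - 1) < (q + 1) * q := by
        rw [mul_comm (q + 1) q]; exact Nat.mul_lt_mul_of_pos_left (by omega) (by omega)
      omega
    · have h1 : Q' ^ 2 ≤ q := (Nat.pow_le_pow_right (by omega) hm).trans hQm.le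
      have h2 : Q' * (Q' ^ 2 - 1) ≤ Q' * q := Nat.mul_le_mul_left _ (by omega)
      have hQ'q : Q' ≤ q := le_trans (Nat.le_self_pow (by norm_num) Q') h1
      nlinarith

end CfsgLib.MaxSub.Plane
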