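/-
The subfield subgroups are maximal in `SL`.
-/
import Cfsg.Agent.Lib.MaxSub.FormMaximalSL
import Cfsg.Agent.Lib.MaxSub.RationalTools
import Cfsg.Agent.Lib.MaxSub.PlaneGeneration
import Cfsg.Agent.Lib.Aschbacher.Proper

set_option autoImplicit false
set_option maxHeartbeats 800000

namespace CfsgLib.MaxSub.SubfieldSL

open Matrix Module Cfsg Cfsg.Geo
open CfsgLib.SLCentre CfsgLib.PSLn CfsgLib.MaxSub.Rational

variable {F : Type*} [Field F] {n : ℕ}

local notation "V" => Fin n → F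
local notation "SL" => Matrix.SpecialLinearGroup (Fin n) F
local notation "Mn" => Matrix (Fin n) (Fin n) F

/-- A subfield over a maximal one. -/
theorem eq_top_of_mem [Fintype F] {F₀ S : Subfield F} {r : ℕ} (hr : r.Prime)
    (hc : Fintype.card F = Nat.card F₀ ^ r) (hle : F₀ ≤ S) {x : F} (hx : x ∈ S) (hx0 : x ∉ F₀) :
    S = ⊤ := by
  by_contra hS
  obtain ⟨F₁, r', hle', hr', hc'⟩ := CfsgLib.Aschbacher.exists_subfield_prime hS
  haveI : Fintype F₀ := Fintype.ofFinite _
  haveI : Fintype F₁ := Fintype.ofFinite _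
  letI : Algebra F₀ F₁ := (Subfield.inclusion (hle.trans hle')).toAlgebra
  have h1 : Nat.card F₁ = Nat.card F₀ ^ finrank F₀ F₁ := by
    rw [Nat.card_eq_fintype_card, Nat.card_eq_fintype_card]
    exact Module.card_eq_pow_finrank
  have h2 : 1 < Nat.card F₀ := by rw [Nat.card_eq_fintype_card]; exact Fintype.one_lt_card
  rw [hc, h1, ← pow_mul] at hc'
  have h3 : r = finrank F₀ F₁ * r' := Nat.pow_right_injective h2 hc'
  have h4 : r' = r := ((Nat.dvd_prime hr).1 ⟨_, h3.trans (mul_comm _ _)⟩).resolve_left hr'.one_lt.ne'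
  rw [h4] at h3
  have h5 : finrank F₀ F₁ = 1 := by
    have := hr.pos
    nlinarith
  rw [h5, pow_one] at h1
  refine hx0 ?_
  have hb : Function.Bijective (Subfield.inclusion (hle.trans hle')) :=
    (Fintype.bijective_iff_injective_and_card _).2
      ⟨RingHom.injective _, by rw [← Nat.card_eq_fintype_card, ← Nat.card_eq_fintype_card, h1]⟩
  obtain ⟨y, hy⟩ := hb.2 ⟨x, hle' hx⟩
  have : (y : F) = x := congrArg Subtype.val hy
  rw [← this]
  exact y.2

variable {F₀ : Subfield F}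

theorem rat_dot {φ c : V} (hφ : Rat F₀ φ) (hc : Rat F₀ c) : φ ⬝ᵥ c ∈ F₀ :=
  sum_mem fun i _ => F₀.mul_mem (hφ i) (hc i)

/-- A minor. -/
theorem exists_minor {φ χ : V} (hχ : χ ≠ 0) (h : ∀ c : F, φ ≠ c • χ) :
    ∃ i j, φ i * χ j - φ j * χ i ≠ 0 := by
  by_contra hc
  push Not at hc
  obtain ⟨j, hj⟩ := Function.ne_iff.1 hχ
  refine h (φ j / χ j) (funext fun i => ?_)
  rw [Pi.smul_apply, smul_eq_mul, div_mul_eq_mul_div, eq_div_iff hj]
  linear_combination hc i j

/-- A rational vector orthogonal to the second argument but not to the first. -/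
theorem exists_sep {φ χ : V} (hχr : Rat F₀ χ) (hχ : χ ≠ 0) (h : ∀ c : F, φ ≠ c • χ) :
    ∃ z, Rat F₀ z ∧ χ ⬝ᵥ z = 0 ∧ φ ⬝ᵥ z ≠ 0 := by
  obtain ⟨i, j, hij⟩ := exists_minor hχ h
  refine ⟨χ j • Pi.single i 1 - χ i • Pi.single j 1,
    rat_sub (rat_smul (hχr j) (rat_single i)) (rat_smul (hχr i) (rat_single j)), ?_, ?_⟩
  · simp only [dotProduct_sub, dotProduct_smul, dotProduct_single, smul_eq_mul]; ring
  · simp only [dotProduct_sub, dotProduct_smul, dotProduct_single, smul_eq_mul]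
    exact fun e => hij (by linear_combination e)

/-- A rational vector orthogonal to two independent rational vectors. -/
theorem exists_perp_two (hn : 3 ≤ n) {a z : V} (ha : Rat F₀ a) (hz : Rat F₀ z) (hz0 : z ≠ 0)
    (h : ∀ c : F, a ≠ c • z) : ∃ ψ, Rat F₀ ψ ∧ ψ ≠ 0 ∧ ψ ⬝ᵥ a = 0 ∧ ψ ⬝ᵥ z = 0 := by
  obtain ⟨i, j, hij⟩ := exists_minor hz0 h
  have hne : i ≠ j := fun e => hij (by rw [e, sub_self])
  obtain ⟨k, hki, hkj⟩ : ∃ k, k ≠ i ∧ k ≠ j := by
    have h1 : ({i, j} : Finset (Fin n)) ≠ Finset.univ := fun e => by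
      have h2 := congrArg Finset.card e
      rw [Finset.card_univ, Fintype.card_fin, Finset.card_pair hne] at h2
      omega
    obtain ⟨k, hk⟩ : ∃ k, k ∉ ({i, j} : Finset (Fin n)) := by
      by_contra hall
      push Not at hall
      exact h1 (Finset.eq_univ_of_forall hall)
    simp only [Finset.mem_insert, Finset.mem_singleton, not_or] at hk
    exact ⟨k, hk⟩
  refine ⟨(a j * z k - a k * z j) • Pi.single i 1 + (a k * z i - a i * z k) • Pi.single j 1
    + (a i * z j - a j * z i) • Pi.single k 1, ?_, fun e => hij ?_, ?_, ?_⟩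
  · exact rat_add (rat_add (rat_smul (F₀.sub_mem (F₀.mul_mem (ha j) (hz k)) (F₀.mul_mem (ha k) (hz j)))
      (rat_single i)) (rat_smul (F₀.sub_mem (F₀.mul_mem (ha k) (hz i)) (F₀.mul_mem (ha i) (hz k)))
      (rat_single j))) (rat_smul (F₀.sub_mem (F₀.mul_mem (ha i) (hz j)) (F₀.mul_mem (ha j) (hz i)))
      (rat_single k))
  · have := congrFun e k
    simpa [hki, hkj] using this
  · simp only [add_dotProduct, smul_dotProduct, single_dotProduct, smul_eq_mul]; ring
  · simp only [add_dotProduct, smul_dotProduct, single_dotProduct, smul_eq_mul]; ring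

variable {K : Subgroup (Matrix.SpecialLinearGroup (Fin n) F)}

theorem hasTv_smul_centre {a φ : V} {t : F} (ht : t ≠ 0) (h : HasTv K a φ) :
    HasTv K (t • a) (t⁻¹ • φ) :=
  HasTv.scale (inv_ne_zero ht) (by rwa [smul_smul, inv_mul_cancel₀ ht, one_smul])

/-- The scalar `l` is available on all rational root elements. -/
def Scal (F₀ : Subfield F) (K : Subgroup SL) (l : F) : Prop :=
  ∀ a ψ : V, Rat F₀ a → Rat F₀ ψ → ψ ⬝ᵥ a = 0 → HasTv K a (l • ψ)

/-- All axes from one. -/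
theorem scal_axes (hn : 3 ≤ n) (hrat : Scal F₀ K 1) {a φ : V} {l : F} (ha : Rat F₀ a) (ha0 : a ≠ 0)
    (hφ : Rat F₀ φ) (hφ0 : φ ≠ 0) (hφa : φ ⬝ᵥ a = 0) (h : HasTv K a (l • φ)) {ψ : V}
    (hψ : Rat F₀ ψ) (hψa : ψ ⬝ᵥ a = 0) : HasTv K a (l • ψ) := by
  have step : ∀ {φ ψ : V}, Rat F₀ φ → Rat F₀ ψ → ψ ≠ 0 → ψ ⬝ᵥ a = 0 → HasTv K a (l • φ) →
      (∀ c : F, φ ≠ c • ψ) → HasTv K a (l • ψ) := by
    intro φ ψ hφ hψ hψ0 hψa h hind
    obtain ⟨z, hz, hψz, hφz⟩ := exists_sep hψ hψ0 hind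
    have hs : Rat F₀ ((φ ⬝ᵥ z)⁻¹ • ψ) := rat_smul (F₀.inv_mem (rat_dot hφ hz)) hψ
    have h' := hrat z ((φ ⬝ᵥ z)⁻¹ • ψ) hz hs (by rw [smul_dotProduct, hψz, smul_zero])
    rw [one_smul] at h'
    have := h.comm h' (by rw [smul_dotProduct, hψa, smul_zero])
    rwa [smul_dotProduct, smul_smul, smul_eq_mul, mul_assoc, mul_inv_cancel₀ hφz, mul_one] at this
  by_cases hψ0 : ψ = 0
  · rw [hψ0, smul_zero]; exact HasTv.zero a
  by_cases hind : ∀ c : F, φ ≠ c • ψ
  · exact step hφ hψ hψ0 hψa h hind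
  push Not at hind
  obtain ⟨c, hc⟩ := hind
  obtain ⟨k, hk⟩ := Function.ne_iff.1 ha0
  obtain ⟨i, j, hik, hjk, hij⟩ : ∃ i j : Fin n, i ≠ k ∧ j ≠ k ∧ i ≠ j := by
    have h1 : 1 < ((Finset.univ : Finset (Fin n)).erase k).card := by
      rw [Finset.card_erase_of_mem (Finset.mem_univ k), Finset.card_univ, Fintype.card_fin]; omega
    obtain ⟨i, hi, j, hj, hij⟩ := Finset.one_lt_card.1 h1
    exact ⟨i, j, Finset.ne_of_mem_erase hi, Finset.ne_of_mem_erase hj, hij⟩
  set ρ := fun l : Fin n => a k • (Pi.single l 1 : V) - a l • Pi.single k 1 with hρ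
  have hρr : ∀ l, Rat F₀ (ρ l) := fun l =>
    rat_sub (rat_smul (ha k) (rat_single l)) (rat_smul (ha l) (rat_single k))
  have hρa : ∀ l, ρ l ⬝ᵥ a = 0 := fun l => by
    simp only [hρ, sub_dotProduct, smul_dotProduct, single_dotProduct, smul_eq_mul]; ring
  obtain ⟨l', hl'⟩ : ∃ l' ∈ ({i, j} : Finset (Fin n)), ∀ c : F, ρ l' ≠ c • φ := by
    by_contra hc'
    push Not at hc'
    obtain ⟨c₁, h1⟩ := hc' i (by simp)
    obtain ⟨c₂, h2⟩ := hc' j (by simp)
    have e1 := congrFun h1 i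
    have e2 := congrFun h2 i
    have e3 := congrFun h2 j
    simp [hρ, hik, hjk, hij] at e1 e2 e3
    rcases e2 with e2 | e2
    · rw [e2, zero_mul] at e3; exact hk (by simpa using e3)
    · rw [e2, mul_zero] at e1; exact hk (by simpa using e1)
  have hρ0 : ρ l' ≠ 0 := fun e => hl'.2 0 (by rw [e, zero_smul])
  have hind1 : ∀ c : F, φ ≠ c • ρ l' := fun d e => by
    have hd : d ≠ 0 := fun h0 => hφ0 (by rw [e, h0, zero_smul])
    exact hl'.2 d⁻¹ (by rw [e, smul_smul, inv_mul_cancel₀ hd, one_smul])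
  have h1 := step hφ (hρr l') hρ0 (hρa l') h hind1
  refine step (hρr l') hψ hψ0 hψa h1 fun d e => ?_
  have hc0 : c ≠ 0 := fun h0 => hφ0 (by rw [hc, h0, zero_smul])
  exact hl'.2 (d * c⁻¹) (by rw [e, hc, smul_smul, mul_assoc, inv_mul_cancel₀ hc0, mul_one])

/-- All rational root elements from one. -/
theorem scal_of_witness (hn : 3 ≤ n) (hrat : Scal F₀ K 1) {a φ : V} {l : F} (ha : Rat F₀ a)
    (ha0 : a ≠ 0) (hφ : Rat F₀ φ) (hφ0 : φ ≠ 0) (hφa : φ ⬝ᵥ a = 0) (h : HasTv K a (l • φ)) :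
    Scal F₀ K l := by
  intro z χ hz hχ hχz
  by_cases hz0 : z = 0
  · subst hz0
    exact (full_zero (H := K)) _ (dotProduct_zero _)
  by_cases hind : ∀ c : F, a ≠ c • z
  · obtain ⟨ψ, hψ, hψ0, hψa, hψz⟩ := exists_perp_two hn ha hz hz0 hind
    obtain ⟨y, hy, hzy, hay⟩ := exists_sep hz hz0 hind
    have hψ' : Rat F₀ ((a ⬝ᵥ y)⁻¹ • y) := rat_smul (F₀.inv_mem (rat_dot ha hy)) hy
    have e1 : ((a ⬝ᵥ y)⁻¹ • y) ⬝ᵥ z = 0 := by
      rw [smul_dotProduct, dotProduct_comm y z, hzy, smul_zero]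
    have h1 := hrat z _ hz hψ' e1
    rw [one_smul] at h1
    have h2 := h1.comm (scal_axes hn hrat ha ha0 hφ hφ0 hφa h hψ hψa)
      (by rw [smul_dotProduct, hψz, smul_zero])
    rw [smul_dotProduct, dotProduct_comm y a, smul_eq_mul, inv_mul_cancel₀ hay, one_smul] at h2
    exact scal_axes hn hrat hz hz0 hψ hψ0 hψz h2 hχ hχz
  · push Not at hind
    obtain ⟨c, rfl⟩ := hind
    have hc0 : c ≠ 0 := fun h0 => ha0 (by rw [h0, zero_smul])
    have hcm : c ∈ F₀ := by
      obtain ⟨k, hk⟩ := Function.ne_iff.1 hz0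
      have hk' : z k ≠ 0 := hk
      rw [show c = (c • z) k / z k by rw [Pi.smul_apply, smul_eq_mul, mul_div_cancel_right₀ c hk']]
      exact F₀.div_mem (ha k) (hz k)
    have hχa : (c⁻¹ • χ) ⬝ᵥ (c • z) = 0 := by
      rw [smul_dotProduct, dotProduct_smul, hχz, smul_zero, smul_zero]
    have := hasTv_smul_centre (inv_ne_zero hc0)
      (scal_axes hn hrat ha ha0 hφ hφ0 hφa h (rat_smul (F₀.inv_mem hcm) hχ) hχa)
    rwa [smul_smul, inv_mul_cancel₀ hc0, one_smul, inv_inv, smul_smul, smul_smul,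
      show c * l * c⁻¹ = l by field_simp] at this

/-- The group is everything. -/
theorem eq_top_of_scal [Fintype F] (hn : 3 ≤ n) {r : ℕ} (hr : r.Prime)
    (hc : Fintype.card F = Nat.card F₀ ^ r) (hrat : Scal F₀ K 1) {l : F} (hl : Scal F₀ K l)
    (hl0 : l ∉ F₀) : K = ⊤ := by
  have add : ∀ {x y : F}, Scal F₀ K x → Scal F₀ K y → Scal F₀ K (x + y) :=
    fun hx hy a ψ ha hψ e => by rw [add_smul]; exact (hx a ψ ha hψ e).add (hy a ψ ha hψ e)
  let i : Fin n := ⟨0, by omega⟩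
  let j : Fin n := ⟨1, by omega⟩
  let k : Fin n := ⟨2, by omega⟩
  have hij : i ≠ j := by simp [i, j, Fin.ext_iff]
  have hjk : j ≠ k := by simp [j, k, Fin.ext_iff]
  have hik : i ≠ k := by simp [i, k, Fin.ext_iff]
  have e0 : ∀ {a b : Fin n}, a ≠ b → (Pi.single a 1 : V) ⬝ᵥ Pi.single b 1 = 0 := fun h => by
    rw [single_dotProduct, one_mul, Pi.single_eq_of_ne h]
  have mul : ∀ {x y : F}, Scal F₀ K x → Scal F₀ K y → Scal F₀ K (x * y) := by
    intro x y hx hy
    refine scal_of_witness hn hrat (a := Pi.single i 1) (φ := Pi.single k 1) (rat_single i)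
      (fun e => one_ne_zero (α := F) (by simpa using congrFun e i)) (rat_single k)
      (fun e => one_ne_zero (α := F) (by simpa using congrFun e k)) (e0 hik.symm) ?_
    have h1 := (hx _ _ (rat_single i) (rat_single j) (e0 hij.symm)).comm
      (hy _ _ (rat_single j) (rat_single k) (e0 hjk.symm))
      (by rw [smul_dotProduct, e0 hik.symm, smul_zero])
    rwa [smul_dotProduct, single_dotProduct, one_mul, Pi.single_eq_same, smul_smul, smul_eq_mul,
      mul_one] at h1
  have neg : ∀ {x : F}, Scal F₀ K x → Scal F₀ K (-x) :=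
    fun hx a ψ ha hψ e => by rw [neg_smul]; exact (hx a ψ ha hψ e).neg
  let R : Subring F :=
    { carrier := {x | Scal F₀ K x}
      one_mem' := hrat
      mul_mem' := mul
      zero_mem' := fun a ψ _ _ _ => by rw [zero_smul]; exact HasTv.zero a
      add_mem' := add
      neg_mem' := neg }
  let S : Subfield F :=
    { R with
      inv_mem' := fun x hx => by
        by_cases hx0 : x = 0
        · rw [hx0, _root_.inv_zero]; exact R.zero_mem
        · have h1 : x ^ (Fintype.card F - 1) = 1 := FiniteField.pow_card_sub_one_eq_one x hx0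
          have h2 := Fintype.one_lt_card (α := F)
          rw [show Fintype.card F - 1 = Fintype.card F - 2 + 1 by omega, pow_succ] at h1
          rw [show x⁻¹ = x ^ (Fintype.card F - 2) from (eq_inv_of_mul_eq_one_left h1).symm]
          exact R.pow_mem hx _ }
  have hle : F₀ ≤ S := fun x hx a ψ ha hψ e => by
    have := hrat a (x • ψ) ha (rat_smul hx hψ) (by rw [smul_dotProduct, e, smul_zero])
    rwa [one_smul] at this
  have hS : ∀ x, Scal F₀ K x := fun x => by
    have : x ∈ S := by rw [eq_top_of_mem hr hc hle (x := l) hl hl0]; trivial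
    exact this
  have hfull : ∀ a, Full K (Pi.single a 1 : V) := by
    intro a φ hφ
    rw [dotProduct_single, mul_one] at hφ
    have : ∀ s : Finset (Fin n), HasTv K (Pi.single a 1) (∑ b ∈ s, φ b • (Pi.single b 1 : V)) := by
      intro s
      induction s using Finset.induction with
      | empty => rw [Finset.sum_empty]; exact HasTv.zero _
      | insert b s hb ih =>
        rw [Finset.sum_insert hb]
        refine HasTv.add ?_ ih
        by_cases hba : b = a
        · rw [hba, hφ, zero_smul]; exact HasTv.zero _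
        · exact hS _ _ _ (rat_single a) (rat_single b) (e0 hba)
    convert this Finset.univ
    exact pi_eq_sum_univ' φ
  refine eq_top_of_full (by omega) (eq_top_iff.2 fun x _ => ?_)
  rw [pi_eq_sum_univ' x]
  exact Submodule.sum_mem _ fun a _ => Submodule.smul_mem _ _ (hfull a)

/-- A rational vector annihilating a nonrational centre gives a new scalar. -/
theorem exists_scal (hn : 3 ≤ n) (hrat : Scal F₀ K 1) {a φ χ : V} (h : HasTv K a φ) (hφ : φ ≠ 0)
    (hχ : Rat F₀ χ) (hχ0 : χ ≠ 0) (hχa : χ ⬝ᵥ a = 0) (hno : ∀ (c : F) w, Rat F₀ w → a ≠ c • w) :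
    ∃ l, l ∉ F₀ ∧ Scal F₀ K l := by
  obtain ⟨c, hc0, h1⟩ : ∃ c : F, c ≠ 0 ∧ HasTv K a (c • χ) := by
    by_cases hind : ∀ c : F, φ ≠ c • χ
    · obtain ⟨z, hz, hχz, hφz⟩ := exists_sep hχ hχ0 hind
      have h' := hrat z χ hz hχ hχz
      rw [one_smul] at h'
      exact ⟨_, hφz, h.comm h' hχa⟩
    · push Not at hind
      obtain ⟨c, rfl⟩ := hind
      exact ⟨c, fun h0 => hφ (by rw [h0, zero_smul]), h⟩
  obtain ⟨i, hi⟩ : ∃ i, c * a i ∉ F₀ := by
    by_contra hall
    push Not at hall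
    exact hno c⁻¹ (c • a) (fun i => hall i) (by rw [smul_smul, inv_mul_cancel₀ hc0, one_smul])
  have hind : ∀ d : F, χ ≠ d • (Pi.single i 1 : V) := fun d e => by
    have hd : d ≠ 0 := fun h0 => hχ0 (by rw [e, h0, zero_smul])
    rw [e, smul_dotProduct, single_dotProduct, one_mul, smul_eq_zero, or_iff_right hd] at hχa
    exact hi (by rw [hχa, mul_zero]; exact F₀.zero_mem)
  obtain ⟨w, hw, hw0, hwχ, hwi⟩ :=
    exists_perp_two hn hχ (rat_single i) (fun e => one_ne_zero (α := F) (by simpa using congrFun e i)) hind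
  have e1 : (Pi.single i 1 : V) ⬝ᵥ w = 0 := by rw [dotProduct_comm]; exact hwi
  have h' := hrat w _ hw (rat_single i) e1
  rw [one_smul] at h'
  have h2 := h'.comm h1 (by rw [smul_dotProduct, dotProduct_comm, hwχ, smul_zero])
  rw [single_dotProduct, one_mul, smul_smul, mul_comm] at h2
  exact ⟨_, hi, scal_of_witness hn hrat hw hw0 hχ hχ0 (by rw [dotProduct_comm, hwχ]) h2⟩

/-- A centre with independent coordinates gives a new scalar. -/
theorem exists_scal_of_indep [Fintype F] (hn : 3 ≤ n) {r : ℕ} (hr : r.Prime)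
    (hc : Fintype.card F = Nat.card F₀ ^ r) (hrat : Scal F₀ K 1) {a φ : V} (h : HasTv K a φ)
    (hφ : φ ≠ 0) (hno : ∀ χ, Rat F₀ χ → χ ⬝ᵥ a = 0 → χ = 0) : ∃ l, l ∉ F₀ ∧ Scal F₀ K l := by
  classical
  obtain ⟨j, hj⟩ := Function.ne_iff.1 hφ
  have hj' : φ j ≠ 0 := hj
  obtain ⟨v, hv⟩ : ∃ v, v = φ j • a := ⟨_, rfl⟩
  obtain ⟨ψ, hψ⟩ : ∃ ψ, ψ = (φ j)⁻¹ • φ := ⟨_, rfl⟩
  have hT : HasTv K v ψ := hv ▸ hψ ▸ hasTv_smul_centre hj' h
  have hψj : ψ j = 1 := by rw [hψ, Pi.smul_apply, smul_eq_mul, inv_mul_cancel₀ hj']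
  have hnov : ∀ χ, Rat F₀ χ → χ ⬝ᵥ v = 0 → χ = 0 := fun χ hχ e => hno χ hχ (by
    rw [hv, dotProduct_smul, smul_eq_zero] at e; exact e.resolve_left hj')
  obtain ⟨w, hw⟩ : ∃ w : V, w = Pi.single j 1 := ⟨_, rfl⟩
  let B : AddSubgroup F :=
    { carrier := {x | ∃ θ : V, Rat F₀ θ ∧ θ j = 0 ∧ θ ⬝ᵥ v = x}
      zero_mem' := ⟨0, rat_zero, rfl, zero_dotProduct v⟩
      add_mem' := by
        rintro _ _ ⟨θ, hθ, hθj, rfl⟩ ⟨θ', hθ', hθ'j, rfl⟩
        exact ⟨θ + θ', rat_add hθ hθ', by rw [Pi.add_apply, hθj, hθ'j, add_zero],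
          add_dotProduct θ θ' v⟩
      neg_mem' := by
        rintro _ ⟨θ, hθ, hθj, rfl⟩
        exact ⟨-θ, fun i => F₀.neg_mem (hθ i), by rw [Pi.neg_apply, hθj, neg_zero],
          neg_dotProduct θ v⟩ }
  -- the group induced on the plane
  have hfin : ∀ y : SL, y ∈ K → ∀ x : V, (y⁻¹).1 *ᵥ (y.1 *ᵥ x) = x := fun y _ x => by
    rw [Matrix.mulVec_mulVec, ← Matrix.SpecialLinearGroup.coe_mul, inv_mul_cancel]
    exact Matrix.one_mulVec x
  let G2 : Subgroup (Matrix.SpecialLinearGroup (Fin 2) F) :=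
    { carrier := {k | ∃ y ∈ K, y.1 *ᵥ w = k.1 0 0 • w + k.1 1 0 • v ∧
        y.1 *ᵥ v = k.1 0 1 • w + k.1 1 1 • v}
      one_mem' := ⟨1, K.one_mem, by simp, by simp⟩
      mul_mem' := by
        rintro k k' ⟨y, hy, e1, e2⟩ ⟨y', hy', e1', e2'⟩
        refine ⟨y * y', K.mul_mem hy hy', ?_, ?_⟩
        · rw [Matrix.SpecialLinearGroup.coe_mul, ← Matrix.mulVec_mulVec, e1', Matrix.mulVec_add,
            Matrix.mulVec_smul, Matrix.mulVec_smul, e1, e2, Dickson.mul_entry, Dickson.mul_entry]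
          module
        · rw [Matrix.SpecialLinearGroup.coe_mul, ← Matrix.mulVec_mulVec, e2', Matrix.mulVec_add,
            Matrix.mulVec_smul, Matrix.mulVec_smul, e1, e2, Dickson.mul_entry, Dickson.mul_entry]
          module
      inv_mem' := by
        rintro k ⟨y, hy, e1, e2⟩
        obtain ⟨i00, i01, i10, i11⟩ := Dickson.inv_entries k
        have hd := Dickson.det_eq k
        refine ⟨y⁻¹, K.inv_mem hy, ?_, ?_⟩
        · rw [i00, i10]
          conv_lhs => rw [show w = y.1 *ᵥ (k.1 1 1 • w + (-k.1 1 0) • v) by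
            rw [Matrix.mulVec_add, Matrix.mulVec_smul, Matrix.mulVec_smul, e1, e2, smul_add,
              smul_add, smul_smul, smul_smul, smul_smul, smul_smul]
            match_scalars <;> first | linear_combination hd | linear_combination -hd | ring]
          exact hfin y hy _
        · rw [i01, i11]
          conv_lhs => rw [show v = y.1 *ᵥ ((-k.1 0 1) • w + k.1 0 0 • v) by
            rw [Matrix.mulVec_add, Matrix.mulVec_smul, Matrix.mulVec_smul, e1, e2, smul_add,
              smul_add, smul_smul, smul_smul, smul_smul, smul_smul]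
            match_scalars <;> first | linear_combination hd | linear_combination -hd | ring]
          exact hfin y hy _ }
  have hlo : Dickson.lo 1 ∈ G2 := by
    obtain ⟨e, m⟩ := hT
    refine ⟨_, m, ?_, ?_⟩
    · rw [tv_mulVec, hw, dotProduct_single, hψj, mul_one]; simp
    · rw [tv_mulVec, e]; simp
  have hup : ∀ b ∈ B, Dickson.up b ∈ G2 := by
    rintro _ ⟨θ, hθ, hθj, rfl⟩
    have hθw : θ ⬝ᵥ w = 0 := by rw [hw, dotProduct_single, mul_one, hθj]
    obtain ⟨e, m⟩ := hrat w θ (hw ▸ rat_single j) hθ hθw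
    refine ⟨_, m, ?_, ?_⟩
    · rw [tv_mulVec, smul_dotProduct, hθw]; simp
    · rw [tv_mulVec, one_smul]; simp; abel
  have hbig : ∀ p : ℕ, p.Prime → CharP F p → p ^ 2 ≤ Nat.card B := by
    intro p hp hchar
    have hne : ∀ θ : {i // i ≠ j} → F₀, (fun i => if hi : i = j then (0 : F) else θ ⟨i, hi⟩) j = 0 :=
      fun θ => by simp
    let m : ({i // i ≠ j} → F₀) → B := fun θ => ⟨(fun i => if hi : i = j then (0 : F) else
      θ ⟨i, hi⟩) ⬝ᵥ v, _, fun i => by
        split
        · exact F₀.zero_mem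
        · exact (θ _).2, hne θ, rfl⟩
    have hm : Function.Injective m := fun θ θ' e => by
      have e' := congrArg Subtype.val e
      simp only [m] at e'
      rw [← sub_eq_zero, ← sub_dotProduct] at e'
      have h0 := hnov _ (fun i => by
        rw [Pi.sub_apply]
        split
        · simp [F₀.zero_mem]
        · exact F₀.sub_mem (θ _).2 (θ' _).2) e'
      funext i
      have h1 := congrFun h0 i.1
      rw [Pi.sub_apply, dif_neg i.2, dif_neg i.2] at h1
      exact Subtype.ext (sub_eq_zero.1 h1)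
    refine le_trans ?_ (Nat.card_le_card_of_injective m hm)
    haveI : Fintype F₀ := Fintype.ofFinite _
    rw [Nat.card_eq_fintype_card, Fintype.card_fun, Fintype.card_subtype_compl, Fintype.card_fin,
      Fintype.card_subtype_eq]
    haveI : CharP F₀ p := (RingHom.charP_iff _ F₀.subtype.injective p).2 hchar
    obtain ⟨d, -, hd⟩ := FiniteField.card F₀ p
    refine le_trans ?_ (Nat.pow_le_pow_left (hd ▸ Nat.le_self_pow d.ne_zero p) (n - 1))
    exact Nat.pow_le_pow_right hp.pos (by omega)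
  have hS : ∀ S : Subfield F, (∀ b ∈ B, b ∈ S) → S = ⊤ := by
    intro S hS
    obtain ⟨k, l, hk, hl, hkl⟩ : ∃ k l : Fin n, k ≠ j ∧ l ≠ j ∧ k ≠ l := by
      have h1 : 1 < ((Finset.univ : Finset (Fin n)).erase j).card := by
        rw [Finset.card_erase_of_mem (Finset.mem_univ j), Finset.card_univ, Fintype.card_fin]; omega
      obtain ⟨k, hk, l, hl, hkl⟩ := Finset.one_lt_card.1 h1
      exact ⟨k, l, Finset.ne_of_mem_erase hk, Finset.ne_of_mem_erase hl, hkl⟩
    have hmem : ∀ {i : Fin n}, i ≠ j → ∀ t ∈ F₀, t * v i ∈ S := fun {i} hi t ht =>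
      hS _ ⟨t • Pi.single i 1, rat_smul ht (rat_single i), by simp [Ne.symm hi],
        by rw [smul_dotProduct, single_dotProduct, one_mul, smul_eq_mul]⟩
    have hvk : v k ≠ 0 := fun e => one_ne_zero (congrFun (hnov _ (rat_single k)
      (by rw [single_dotProduct, e, mul_zero])) k |>.symm.trans (Pi.single_eq_same k 1)).symm
    have hkS : v k ∈ S := by simpa using hmem hk 1 F₀.one_mem
    have hle : F₀ ≤ S := fun t ht => by
      rw [show t = t * v k / v k by rw [mul_div_cancel_right₀ t hvk]]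
      exact S.div_mem (hmem hk t ht) hkS
    refine eq_top_of_mem hr hc hle (x := v l / v k)
      (S.div_mem (by simpa using hmem hl 1 F₀.one_mem) hkS) fun hmem' => ?_
    have h0 := congrFun (hnov ((Pi.single l 1 : V) - (v l / v k) • Pi.single k 1)
      (rat_sub (rat_single l) (rat_smul hmem' (rat_single k))) (by
        rw [sub_dotProduct, smul_dotProduct, single_dotProduct, single_dotProduct, one_mul, one_mul,
          smul_eq_mul, div_mul_cancel₀ _ hvk, sub_self])) l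
    simp [Ne.symm hkl] at h0
  have hgen := Plane.gen_top hlo hup hbig hS
  -- an irrational axis at a rational centre
  obtain ⟨χ, hχT, hχn⟩ : ∃ χ : V, HasTv K w χ ∧ ¬ Rat F₀ χ := by
    by_contra hall
    push Not at hall
    have hsq : ∀ (c : F), c ≠ 0 → ∀ b ∈ B, c ^ 2 * b ∈ B := by
      rintro c hc0 _ ⟨θ, hθ, hθj, rfl⟩
      obtain ⟨s, hs2, y, hy, e1, e2⟩ : ∃ s : F, s ^ 2 = c ^ 2 ∧ ∃ y ∈ K,
          y.1 *ᵥ w = s • w ∧ y.1 *ᵥ v = s⁻¹ • v := by
        let d : Matrix.SpecialLinearGroup (Fin 2) F :=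
          ⟨!![c, 0; 0, c⁻¹], by simp [Matrix.det_fin_two, hc0]⟩
        rcases hgen d with ⟨y, hy, e1, e2⟩ | ⟨y, hy, e1, e2⟩
        · exact ⟨c, rfl, y, hy, by simpa [d] using e1, by simpa [d] using e2⟩
        · rw [Matrix.SpecialLinearGroup.coe_neg] at e1 e2
          exact ⟨-c, by ring, y, hy, by simpa [d] using e1, by simpa [d, inv_neg] using e2⟩
      have hs0 : s ≠ 0 := fun h0 => hc0 (by simpa [h0] using hs2.symm)
      have hθw : θ ⬝ᵥ w = 0 := by rw [hw, dotProduct_single, mul_one, hθj]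
      have h0 := hrat w θ (hw ▸ rat_single j) hθ hθw
      rw [one_smul, show θ = (θ ᵥ* (y⁻¹).1) ᵥ* y.1 by
        rw [Matrix.vecMul_vecMul, ← Matrix.SpecialLinearGroup.coe_mul, inv_mul_cancel]
        exact (Matrix.vecMul_one θ).symm] at h0
      have h1 := h0.conj hy
      rw [e1] at h1
      have h2 := h1.scale hs0
      refine ⟨_, hall _ h2, ?_, ?_⟩
      · have := h2.dot
        rwa [hw, dotProduct_single, mul_one] at this
      · rw [smul_dotProduct, ← Matrix.dotProduct_mulVec,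
          show (y⁻¹).1 *ᵥ v = s • v by
            conv_lhs => rw [show v = y.1 *ᵥ (s • v) by
              rw [Matrix.mulVec_smul, e2, smul_smul, mul_inv_cancel₀ hs0, one_smul]]
            exact hfin y hy _,
          dotProduct_smul, ← hs2, smul_eq_mul, smul_eq_mul]
        ring
    obtain ⟨b, hb, hb0⟩ : ∃ b ∈ B, b ≠ 0 := by
      by_contra hcon
      push Not at hcon
      haveI : Subsingleton B := ⟨fun x y => Subtype.ext (by rw [hcon x x.2, hcon y y.2])⟩
      have : Nat.card B ≤ 1 := Finite.card_le_one_iff_subsingleton.2 inferInstance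
      obtain ⟨p, hp⟩ := CharP.exists F
      obtain ⟨-, hpp, -⟩ := FiniteField.card F p
      have := hbig p hpp hp
      have := Nat.pow_le_pow_left hpp.two_le 2
      omega
    have htop : ∀ x : F, x * b ∈ B := by
      have hsq' : ∀ x : F, x ^ 2 * b ∈ B := fun x => by
        by_cases hx : x = 0
        · rw [hx]; simp
        · exact hsq x hx b hb
      intro x
      by_cases h2 : (2 : F) = 0
      · haveI : CharP F 2 := CharTwo.of_one_ne_zero_of_two_eq_zero one_ne_zero h2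
        obtain ⟨y, hy⟩ := FiniteField.isSquare_of_char_two (ringChar.eq F 2) x
        rw [hy, ← sq]
        exact hsq' y
      · have := B.sub_mem (B.sub_mem (hsq' (x / 2 + 1)) (hsq' (x / 2))) (hsq' 1)
        convert this using 1
        field_simp
        ring
    obtain ⟨θ, hθ, hθj, hθv⟩ := htop (v j / b)
    rw [div_mul_cancel₀ _ hb0] at hθv
    have h0 := congrFun (hnov ((Pi.single j 1 : V) - θ) (rat_sub (rat_single j) hθ) (by
      rw [sub_dotProduct, single_dotProduct, one_mul, hθv, sub_self])) j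
    simp [hθj] at h0
  simp only [Rational.Rat, not_forall] at hχn
  obtain ⟨i, hi⟩ := hχn
  have hij : i ≠ j := fun e => hi (by
    subst e
    have := hχT.dot
    rw [hw, dotProduct_single, mul_one] at this
    rw [this]; exact F₀.zero_mem)
  obtain ⟨k, hki, hkj⟩ : ∃ k, k ≠ i ∧ k ≠ j := by
    have h1 : 0 < (((Finset.univ : Finset (Fin n)).erase i).erase j).card := by
      rw [Finset.card_erase_of_mem (Finset.mem_erase.2 ⟨hij.symm, Finset.mem_univ j⟩),
        Finset.card_erase_of_mem (Finset.mem_univ i), Finset.card_univ, Fintype.card_fin]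
      omega
    obtain ⟨k, hk⟩ := Finset.card_pos.1 h1
    exact ⟨k, Finset.ne_of_mem_erase (Finset.mem_of_mem_erase hk), Finset.ne_of_mem_erase hk⟩
  have hki0 : (Pi.single k 1 : V) ⬝ᵥ Pi.single i 1 = 0 := by
    rw [single_dotProduct, one_mul, Pi.single_eq_of_ne hki]
  have h' := hrat _ _ (rat_single i) (rat_single k) hki0
  rw [one_smul] at h'
  have hkw : (Pi.single k 1 : V) ⬝ᵥ w = 0 := by
    rw [hw, single_dotProduct, one_mul, Pi.single_eq_of_ne hkj]
  have h2 := hχT.comm h' hkw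
  subst hw
  rw [dotProduct_single, mul_one] at h2
  exact ⟨χ i, hi, scal_of_witness (by omega) hrat (rat_single j)
    (fun e => one_ne_zero (α := F) (by simpa using congrFun e j)) (rat_single k)
    (fun e => one_ne_zero (α := F) (by simpa using congrFun e k)) hkw h2⟩

/-- The rational case. -/
theorem maximal_one [Fintype F] (hn : 3 ≤ n) {r : ℕ} (hr : r.Prime)
    (hc : Fintype.card F = Nat.card F₀ ^ r) :
    IsMaximalIn (specialLinear (Fin n) F)
      (subfieldSubgroup F₀ (1 : GL (Fin n) F) ⊓ specialLinear (Fin n) F) := by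
  refine ⟨lt_of_le_of_ne inf_le_right fun e => ?_, fun M hle hMG => ?_⟩
  · exact CfsgLib.Aschbacher.not_le_subfieldSubgroup hr hc 1 (by rw [Fintype.card_fin]; omega)
      (e.ge.trans inf_le_left)
  by_cases hMH : M ≤ subfieldSubgroup F₀ (1 : GL (Fin n) F)
  · exact Or.inl (le_antisymm (le_inf hMH hMG) hle)
  refine Or.inr (le_antisymm hMG (specialLinear_le_of_top ?_))
  set K := M.comap (Matrix.SpecialLinearGroup.toGL : SL →* GL (Fin n) F) with hK
  have hrat : Scal F₀ K 1 := by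
    intro a ψ ha hψ e
    rw [one_smul]
    refine ⟨e, hle ⟨mem_of_maps fun u hu => ?_, Units.ext (tv a ψ e).2⟩⟩
    simp only [Units.val_one, Matrix.one_mulVec]
    exact ⟨u + (ψ ⬝ᵥ u) • a, rat_add hu (rat_smul (rat_dot hψ hu) ha), tv_mulVec a ψ e u⟩
  haveI : Nonempty (Fin n) := ⟨⟨0, by omega⟩⟩
  obtain ⟨g, hgM, hgS⟩ := SetLike.not_le_iff_exists.1 hMH
  obtain ⟨u, hu, hmov⟩ := Rational.exists_moved hgS
  simp only [Units.val_one, Matrix.one_mulVec] at hmov
  obtain ⟨gs, hgs, hgs'⟩ := exists_sl_of hMG hgM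
  have hu0 : u ≠ 0 := fun e => hmov 1 0 rat_zero (by rw [e, smul_zero, Matrix.mulVec_zero])
  obtain ⟨ψ₀, hψ₀, hψ₀0, hψ₀u⟩ : ∃ ψ₀ : V, Rat F₀ ψ₀ ∧ ψ₀ ≠ 0 ∧ ψ₀ ⬝ᵥ u = 0 := by
    obtain ⟨k, hk⟩ := Function.ne_iff.1 hu0
    have hk' : u k ≠ 0 := hk
    obtain ⟨l, hl⟩ : ∃ l : Fin n, l ≠ k := Fintype.exists_ne_of_one_lt_card (by rw [Fintype.card_fin]; omega) k
    refine ⟨u k • Pi.single l 1 - u l • Pi.single k 1,
      rat_sub (rat_smul (hu k) (rat_single l)) (rat_smul (hu l) (rat_single k)),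
      fun e => hk' (by simpa [hl] using congrFun e l), ?_⟩
    simp only [sub_dotProduct, smul_dotProduct, single_dotProduct, smul_eq_mul]; ring
  have e0 : ψ₀ = (ψ₀ ᵥ* (gs⁻¹).1) ᵥ* gs.1 := by
    rw [Matrix.vecMul_vecMul, ← Matrix.SpecialLinearGroup.coe_mul, inv_mul_cancel]
    exact (Matrix.vecMul_one ψ₀).symm
  have h0 := hrat u ψ₀ hu hψ₀ hψ₀u
  rw [one_smul, e0] at h0
  have h1 := h0.conj hgs
  have hφ : ψ₀ ᵥ* (gs⁻¹).1 ≠ 0 := fun e => hψ₀0 (by rw [e0, e, Matrix.zero_vecMul])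
  rw [hgs'] at h1
  obtain ⟨l, hl0, hl⟩ : ∃ l, l ∉ F₀ ∧ Scal F₀ K l := by
    by_cases hχ : ∀ χ, Rat F₀ χ → χ ⬝ᵥ ((g : Mn) *ᵥ u) = 0 → χ = 0
    · exact exists_scal_of_indep hn hr hc hrat h1 hφ hχ
    · push Not at hχ
      obtain ⟨χ, hχr, hχu, hχ0⟩ := hχ
      exact exists_scal (by omega) hrat h1 hφ hχr hχ0 hχu fun c w hw e => hmov c w hw e
  exact eq_top_of_scal (by omega) hr hc hrat hl hl0

/-- The subfield subgroup is maximal. -/
theorem sl_subfield_maximal [Fintype F] (hn : 3 ≤ n) {r : ℕ} (hr : r.Prime)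
    (hc : Fintype.card F = Nat.card F₀ ^ r) (P : GL (Fin n) F) :
    IsMaximalIn (specialLinear (Fin n) F)
      (subfieldSubgroup F₀ P ⊓ specialLinear (Fin n) F) := by
  obtain ⟨hlt, hmax⟩ := maximal_one (F₀ := F₀) hn hr hc
  let φ := MulAut.conj P
  have hS : (specialLinear (Fin n) F).map φ.toMonoidHom = specialLinear (Fin n) F := by
    ext x
    rw [Subgroup.map_equiv_eq_comap_symm', Subgroup.mem_comap, specialLinear, MonoidHom.mem_ker,
      MonoidHom.mem_ker]
    simp [φ, mul_comm]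
  have hH : (subfieldSubgroup F₀ (1 : GL (Fin n) F)).map φ.toMonoidHom = subfieldSubgroup F₀ P := by
    rw [subfieldSubgroup, subfieldSubgroup, Subgroup.map_map]
    congr 1
    refine MonoidHom.ext fun x => ?_
    simp [φ]
  have e : (subfieldSubgroup F₀ (1 : GL (Fin n) F) ⊓ specialLinear (Fin n) F).map φ.toMonoidHom =
      subfieldSubgroup F₀ P ⊓ specialLinear (Fin n) F := by
    rw [Subgroup.map_inf _ _ _ φ.injective, hH, hS]
  refine ⟨?_, fun M hle hMG => ?_⟩
  · have := (Subgroup.map_lt_map_iff_of_injective (f := φ.toMonoidHom) φ.injective).2 hlt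
    rwa [e, hS] at this
  have hM : M = (M.comap φ.toMonoidHom).map φ.toMonoidHom :=
    (Subgroup.map_comap_eq_self_of_surjective φ.surjective M).symm
  rcases hmax (M.comap φ.toMonoidHom) (Subgroup.map_le_iff_le_comap.1 (e.le.trans hle))
    ((Subgroup.comap_mono (hMG.trans hS.ge)).trans_eq
      (Subgroup.comap_map_eq_self_of_injective φ.injective _)) with h | h
  · exact Or.inl (hM.trans (by rw [h, e]))
  · exact Or.inr (hM.trans (by rw [h, hS]))

end CfsgLib.MaxSub.SubfieldSL
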