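/-
Isotropic vectors with prescribed values in small dimensions.
-/
import Cfsg.Agent.Lib.MaxSub.HermVectors

set_option autoImplicit false
set_option maxHeartbeats 400000

namespace CfsgLib.MaxSub.Herm

open Module Cfsg Cfsg.Geo

variable {F : Type*} [Field F] [Finite F] {σ : F ≃+* F} {n : ℕ} {f : (Fin n → F) → (Fin n → F) → F}

omit [Finite F] in
/-- A trace one scalar. -/
theorem exists_trace (hne : σ ≠ RingEquiv.refl F) (h2 : ∀ a, σ (σ a) = a) : ∃ ξ : F, ξ + σ ξ = 1 := by
  obtain ⟨t, ht⟩ : ∃ t : F, t + σ t ≠ 0 := by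
    by_contra hc
    push Not at hc
    have h1 := hc 1
    rw [map_one] at h1
    exact hne (RingEquiv.ext fun t => by
      show σ t = t
      linear_combination hc t - t * h1)
  refine ⟨t / (t + σ t), ?_⟩
  rw [map_div₀, map_add, h2, add_comm (σ t) t, ← add_div, div_self ht]

/-- Adjusting along a perpendicular vector. -/
theorem adjust (hf : IsUnitaryForm σ f) {k : ℕ} {u : Fin k → (Fin n → F)} {a : Fin k → F} {p s : Fin n → F}
    (hp : ∀ i, f p (u i) = a i) (hs : ∀ i, f s (u i) = 0) (h : f s s ≠ 0 ∨ f p s ≠ 0) :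
    ∃ z, f z z = 0 ∧ ∀ i, f z (u i) = a i := by
  suffices ∃ c : F, f (p + c • s) (p + c • s) = 0 by
    obtain ⟨c, hc⟩ := this
    exact ⟨_, hc, fun i => by rw [hf.add_left, hf.smul_left, hs, mul_zero, add_zero, hp]⟩
  have hσp : σ (f p p) = f p p := (hf.herm _ _).symm
  have hexp : ∀ c : F, f (p + c • s) (p + c • s) =
      f p p + σ c * f p s + c * σ (f p s) + c * σ c * f s s := fun c => by
    rw [hf.add_left, add_right hf, add_right hf, smul_right hf, hf.smul_left, hf.smul_left,
      smul_right hf, hf.herm s p]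
    ring
  by_cases hss : f s s = 0
  · have hps := h.resolve_left (not_not.2 hss)
    obtain ⟨ξ, hξ⟩ := exists_trace hf.ne_refl hf.involutive
    refine ⟨σ (-(f p p) * ξ / f p s), ?_⟩
    rw [hexp, hss, mul_zero, add_zero, hf.involutive, div_mul_cancel₀ _ hps, map_div₀, map_mul, map_neg,
      hσp, div_mul_cancel₀ _ ((map_ne_zero σ).2 hps)]
    linear_combination (-(f p p)) * hξ
  · have hσs : σ (f s s) = f s s := (hf.herm _ _).symm
    obtain ⟨b, hb⟩ := exists_norm hf.ne_refl hf.involutive
      (c := (f p s * σ (f p s) - f p p * f s s) / (f s s * f s s)) (by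
        rw [map_div₀, map_sub, map_mul, map_mul, map_mul, hf.involutive, hσp, hσs, mul_comm (σ (f p s))])
    refine ⟨b - f p s / f s s, ?_⟩
    rw [hexp, map_sub, map_div₀, hσs]
    rw [eq_div_iff (mul_ne_zero hss hss)] at hb
    refine mul_left_cancel₀ hss ?_
    rw [mul_zero]
    field_simp
    linear_combination hb

/-- In dimension one more than the number of vectors. -/
theorem exists_iso_values_top (hf : IsUnitaryForm σ f) {k : ℕ} {u : Fin k → (Fin n → F)}
    (hu : LinearIndependent F u) (hk : k + 1 = n) (a : Fin k → F)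
    (hrad : ∀ γ : Fin k → F, (∀ i, f (∑ j, γ j • u j) (u i) = 0) → γ ≠ 0 → ∑ j, σ (γ j) * a j ≠ 0) :
    ∃ z, f z z = 0 ∧ ∀ i, f z (u i) = a i := by
  obtain ⟨p, hp⟩ := values_surjective hf hu a
  have hp' : ∀ i, f p (u i) = a i := fun i => congrFun hp i
  set S := LinearMap.ker (LinearMap.pi fun i => lin hf (u i)) with hS
  have hdim := finrank_ker_values hf hu
  obtain ⟨s, hsS, hs0⟩ := Submodule.exists_mem_ne_zero_of_ne_bot (p := S) fun e => by
    rw [← hS, e, finrank_bot] at hdim; omega
  have hs : ∀ i, f s (u i) = 0 := fun i => congrFun hsS i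
  refine adjust hf hp' hs ?_
  by_cases hss : f s s = 0
  swap
  · exact Or.inl hss
  refine Or.inr ?_
  have hmem : s ∈ Submodule.span F (Set.range u) := by
    by_contra hns
    have hli : LinearIndependent F (Fin.snoc u s : Fin (k + 1) → (Fin n → F)) :=
      linearIndependent_finSnoc.2 ⟨hu, hns⟩
    have h1 := finrank_ker_values hf hli
    refine hs0 ((Submodule.mem_bot F).1 ((Submodule.finrank_eq_zero.1
      (by omega : finrank F (LinearMap.ker (LinearMap.pi fun i => lin hf
        ((Fin.snoc u s : Fin (k + 1) → (Fin n → F)) i))) = 0)) ▸ ?_))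
    ext i
    refine Fin.lastCases ?_ (fun j => ?_) i
    · show f s (Fin.snoc (α := fun _ => Fin n → F) u s (Fin.last k)) = 0
      rw [Fin.snoc_last, hss]
    · show f s (Fin.snoc (α := fun _ => Fin n → F) u s (Fin.castSucc j)) = 0
      rw [Fin.snoc_castSucc, hs]
  obtain ⟨γ, rfl⟩ := (Submodule.mem_span_range_iff_exists_fun F).1 hmem
  have hγ : γ ≠ 0 := fun e => hs0 (by simp [e])
  have hr := hrad γ hs hγ
  let L : (Fin n → F) →+ F := AddMonoidHom.mk' (fun y => f p y) (add_right hf p)
  intro e
  refine hr ?_
  rw [← e]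
  show _ = L _
  rw [map_sum]
  exact Finset.sum_congr rfl fun j _ => by
    show _ = f p (_ • u j)
    rw [smul_right hf, hp']

/-- Two vectors in dimension four. -/
theorem exists_iso_values_pair (hf : IsUnitaryForm σ f) {k : ℕ} {u : Fin k → (Fin n → F)}
    (hu : LinearIndependent F u) (hk : 2 * k = n) (a : Fin k → F) :
    ∃ z, f z z = 0 ∧ ∀ i, f z (u i) = a i := by
  by_cases hc : ∃ i j, f (u i) (u j) ≠ 0
  · exact exists_iso_values_of hf hu (Or.inr ⟨hk, hc⟩) a
  push Not at hc
  by_cases ha : ∃ j, a j ≠ 0
  · obtain ⟨j, hj⟩ := ha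
    obtain ⟨p, hp⟩ := values_surjective hf hu a
    exact adjust hf (fun i => congrFun hp i) (fun i => hc j i)
      (Or.inr (by rw [show f p (u j) = a j from congrFun hp j]; exact hj))
  · push Not at ha
    exact ⟨0, zero_left hf 0, fun i => by rw [zero_left hf, ha i]⟩

/-- Three vectors in dimension five, two of them forming a hyperbolic pair. -/
theorem exists_iso_values_five (hf : IsUnitaryForm σ f) {u : Fin 3 → (Fin n → F)}
    (hu : LinearIndependent F u) (hn : n = 5) (a : Fin 3 → F) {i j : Fin 3} (hi : f (u i) (u i) = 0)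
    (hj : f (u j) (u j) = 0) (hij : f (u i) (u j) ≠ 0) :
    ∃ z, f z z = 0 ∧ ∀ i, f z (u i) = a i := by
  obtain ⟨p, hp⟩ := values_surjective hf hu a
  set S := LinearMap.ker (LinearMap.pi fun i => lin hf (u i)) with hS
  have hdim := finrank_ker_values hf hu
  rw [← hS] at hdim
  obtain ⟨s, hsS, hs⟩ : ∃ s ∈ S, f s s ≠ 0 := by
    by_contra hc
    push Not at hc
    have hTI : ∀ x ∈ S, ∀ y ∈ S, f x y = 0 := fun x hx y hy => by
      by_contra hxy
      have h0 : ∀ b : F, σ b * f x y + b * σ (f x y) = 0 := fun b => by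
        have := hc _ (S.add_mem hx (S.smul_mem b hy))
        rw [hf.add_left, add_right hf, add_right hf, hc x hx, smul_right hf, hf.smul_left,
          hf.smul_left, smul_right hf, hc y hy, hf.herm y x] at this
        linear_combination this
      refine hf.ne_refl (RingEquiv.ext fun b => ?_)
      have h1 := h0 1
      have h2 := h0 b
      rw [map_one] at h1
      refine mul_right_cancel₀ hxy ?_
      show σ b * f x y = b * f x y
      linear_combination h2 - b * h1
    -- the perpendicular of `S` is spanned by the three vectors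
    have hli : LinearIndependent F fun i => ((Module.finBasis F S i : S) : Fin n → F) :=
      (Module.finBasis F S).linearIndependent.map' S.subtype (Submodule.ker_subtype S)
    have h1 := finrank_ker_values hf hli
    set S' := LinearMap.ker (LinearMap.pi fun i => lin hf ((Module.finBasis F S i : S) : Fin n → F))
    have hle : Submodule.span F (Set.range u) ≤ S' := Submodule.span_le.2 (Set.range_subset_iff.2 fun l => by
      ext m
      show f (u l) _ = 0
      have hm : ((Module.finBasis F S m : S) : Fin n → F) ∈ S := (Module.finBasis F S m).2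
      rw [hf.herm, show f _ (u l) = 0 from congrFun hm l, map_zero])
    have heq := Submodule.eq_of_le_of_finrank_le hle (by
      rw [finrank_span_eq_card hu, Fintype.card_fin]; omega)
    have hSle : S ≤ Submodule.span F (Set.range u) := heq ▸ fun x hx => by
      ext m
      exact hTI x hx _ (Module.finBasis F S m).2
    have hli2 : LinearIndependent F ![u i, u j] := LinearIndependent.pair_iff.2 fun c d e => by
      have e1 := congrArg (fun x => f x (u i)) e
      have e2 := congrArg (fun x => f x (u j)) e
      simp only [hf.add_left, hf.smul_left, hi, hj, mul_zero, zero_add, add_zero, zero_left hf] at e1 e2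
      exact ⟨(mul_eq_zero.1 e2).resolve_right hij,
        (mul_eq_zero.1 e1).resolve_right fun e => hij (by rw [hf.herm, e, map_zero])⟩
    have hdisj : S ⊓ Submodule.span F (Set.range ![u i, u j]) = ⊥ := by
      rw [eq_bot_iff]
      rintro x ⟨hx, hx'⟩
      obtain ⟨c, rfl⟩ := (Submodule.mem_span_range_iff_exists_fun F).1 hx'
      have e1 : f (∑ l, c l • ![u i, u j] l) (u i) = 0 := congrFun hx i
      have e2 : f (∑ l, c l • ![u i, u j] l) (u j) = 0 := congrFun hx j
      simp only [Fin.sum_univ_two, Matrix.cons_val_zero, Matrix.cons_val_one, hf.add_left, hf.smul_left,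
        hi, hj, mul_zero, zero_add, add_zero] at e1 e2
      have c0 : c 0 = 0 := (mul_eq_zero.1 e2).resolve_right hij
      have c1 : c 1 = 0 := (mul_eq_zero.1 e1).resolve_right fun e => hij (by rw [hf.herm, e, map_zero])
      simp [Fin.sum_univ_two, c0, c1]
    have h3 := Submodule.finrank_sup_add_finrank_inf_eq S (Submodule.span F (Set.range ![u i, u j]))
    rw [hdisj, finrank_bot, finrank_span_eq_card hli2, Fintype.card_fin] at h3
    have h4 : S ⊔ Submodule.span F (Set.range ![u i, u j]) ≤ Submodule.span F (Set.range u) :=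
      sup_le hSle (Submodule.span_le.2 (Set.range_subset_iff.2 fun l => by
        fin_cases l <;> exact Submodule.subset_span ⟨_, rfl⟩))
    have h5 := Submodule.finrank_mono h4
    rw [finrank_span_eq_card hu, Fintype.card_fin] at h5
    omega
  exact adjust hf (fun i => congrFun hp i) (fun i => congrFun hsS i) (Or.inl hs)

end CfsgLib.MaxSub.Herm
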