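/-
The even permutations preserving a partition form a maximal subgroup of the alternating group.
-/
import Cfsg.Agent.Lib.MaxSub.Imprimitive

set_option autoImplicit false
set_option linter.style.haveILetI false
set_option linter.unusedSectionVars false

namespace CfsgLib.MaxSub

open Equiv MulAction
open scoped Pointwise

variable {Ω ι : Type*} [Fintype Ω] [DecidableEq Ω]

theorem swap_comm_of_distinct {a b c d : Ω} (h1 : a ≠ c) (h2 : a ≠ d) (h3 : b ≠ c) (h4 : b ≠ d) :
    Commute (swap a b) (swap c d) :=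
  (Perm.Disjoint.commute fun x => by
    by_cases e1 : x = a
    · subst e1; exact Or.inr (swap_apply_of_ne_of_ne h1 h2)
    by_cases e2 : x = b
    · subst e2; exact Or.inr (swap_apply_of_ne_of_ne h3 h4)
    exact Or.inl (swap_apply_of_ne_of_ne e1 e2))

theorem threeCycle_of_doubles {a b c d e f g : Ω} (h : [a, b, c, d, e, f, g].Nodup) :
    ((swap a b * swap c d) * (swap a e * swap f g)) ^ 4 = swap a b * swap a e ∧
      (swap a b * swap a e).IsThreeCycle := by
  simp only [List.nodup_cons, List.mem_cons, List.not_mem_nil, or_false, not_or, List.nodup_nil, and_true, not_false_eq_true] at h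
  obtain ⟨⟨ab, ac, ad, ae, af, ag⟩, ⟨bc, bd, be, bf, bg⟩, ⟨cd, ce, cf, cg⟩, ⟨de, df, dg⟩, ⟨ef, eg⟩, fg⟩ := h
  have hu := Perm.isThreeCycle_swap_mul_swap_same ab ae be
  refine ⟨?_, hu⟩
  have c1 : Commute (swap c d) (swap a e) := swap_comm_of_distinct (Ne.symm ac) ce (Ne.symm ad) de
  have hre : (swap a b * swap c d) * (swap a e * swap f g) = (swap a b * swap a e) * (swap c d * swap f g) := by
    rw [mul_assoc, ← mul_assoc (swap c d), c1.eq]; simp only [mul_assoc]
  have huv : Commute (swap a b * swap a e) (swap c d * swap f g) :=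
    ((swap_comm_of_distinct ac ad bc bd).mul_left (swap_comm_of_distinct ac ad (Ne.symm ce) (Ne.symm de))).mul_right
      ((swap_comm_of_distinct af ag bf bg).mul_left (swap_comm_of_distinct af ag ef eg))
  have hv : (swap c d * swap f g) ^ 2 = 1 := by
    rw [(swap_comm_of_distinct cf cg df dg).mul_pow, pow_two, pow_two, swap_mul_self, swap_mul_self, one_mul]
  have h3 : (swap a b * swap a e) ^ 3 = 1 := by
    have := pow_orderOf_eq_one (swap a b * swap a e)
    rwa [hu.orderOf] at this
  rw [hre, huv.mul_pow, show (swap c d * swap f g) ^ 4 = 1 by rw [show 4 = 2 * 2 from rfl, pow_mul, hv, one_pow],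
    mul_one, pow_succ, h3, one_mul]

variable (a : ℕ) (f : Ω → ι) [Fintype ι] (ha : 2 ≤ a) (hf : ∀ i : ι, Nat.card {x : Ω // f x = i} = a)

include hf in
theorem exists_fibre_point [Nonempty ι] (ha : 2 ≤ a) (i : ι) : ∃ x, f x = i := by
  haveI : Nonempty {x : Ω // f x = i} := Finite.card_pos_iff.mp (by rw [hf]; omega)
  obtain ⟨⟨x, hx⟩⟩ := this
  exact ⟨x, hx⟩

include hf in
/-- A transposition inside a fibre avoiding two given points. -/
theorem exists_spare [DecidableEq ι] (ha : 2 ≤ a) (hb : 2 ≤ Fintype.card ι) (h3 : 3 ≤ a ∨ 3 ≤ Fintype.card ι)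
    (p q : Ω) : ∃ u v, u ≠ v ∧ f u = f v ∧ u ≠ p ∧ u ≠ q ∧ v ≠ p ∧ v ≠ q := by
  classical
  haveI : Nonempty ι := Fintype.card_pos_iff.mp (by omega)
  by_cases hr : ∃ i, i ≠ f p ∧ i ≠ f q
  · obtain ⟨i, hip, hiq⟩ := hr
    haveI : Nontrivial {z : Ω // f z = i} := Finite.one_lt_card_iff_nontrivial.mp (by rw [hf]; omega)
    obtain ⟨⟨u, hu⟩, ⟨v, hv⟩, huv⟩ := exists_pair_ne {z : Ω // f z = i}
    exact ⟨u, v, fun e => huv (Subtype.ext e), hu.trans hv.symm, fun e => hip (by rw [← hu, e]),
      fun e => hiq (by rw [← hu, e]), fun e => hip (by rw [← hv, e]), fun e => hiq (by rw [← hv, e])⟩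
  simp only [not_exists, not_and, not_not] at hr
  have hb2 : Fintype.card ι ≤ 2 := by
    rw [← Finset.card_univ]
    exact (Finset.card_le_card (t := ({f p, f q} : Finset ι)) fun i _ => by
      simp only [Finset.mem_insert, Finset.mem_singleton]
      exact or_iff_not_imp_left.mpr (hr i)).trans Finset.card_le_two
  have hpq : f p ≠ f q := fun e => by
    haveI : Nontrivial ι := Fintype.one_lt_card_iff_nontrivial.mp (by omega)
    obtain ⟨i, hi⟩ := exists_ne (f p)
    exact hi ((hr i hi).trans e.symm)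
  have hcard : 1 < ((Finset.univ.filter fun z => f z = f p).erase p).card := by
    rw [Finset.card_erase_of_mem (by simp), ← Fintype.card_subtype, ← Nat.card_eq_fintype_card, hf]; omega
  obtain ⟨u, hu, v, hv, huv⟩ := Finset.one_lt_card.mp hcard
  simp only [Finset.mem_erase, Finset.mem_filter, Finset.mem_univ, true_and] at hu hv
  exact ⟨u, v, huv, hu.2.trans hv.2.symm, hu.1, fun e => hpq (by rw [← e, hu.2]), hv.1, fun e => hpq (by rw [← e, hv.2])⟩

theorem sign_swap_mul {σ : Perm Ω} {u v : Ω} (huv : u ≠ v) (h : σ ∉ alternatingGroup Ω) :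
    swap u v * σ ∈ alternatingGroup Ω := by
  rw [Perm.mem_alternatingGroup] at h ⊢
  rw [map_mul, Perm.sign_swap huv, (Int.units_eq_one_or _).resolve_left h]
  rfl

include hf in
/-- An even element with the same two images. -/
theorem exists_even [DecidableEq ι] (ha : 2 ≤ a) (hb : 2 ≤ Fintype.card ι) (h3 : 3 ≤ a ∨ 3 ≤ Fintype.card ι)
    {σ : Perm Ω} (hσ : σ ∈ fibreGroup f) (p q : Ω) :
    ∃ τ ∈ fibreGroup f ⊓ alternatingGroup Ω, τ p = σ p ∧ τ q = σ q := by
  by_cases h : σ ∈ alternatingGroup Ω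
  · exact ⟨σ, ⟨hσ, h⟩, rfl, rfl⟩
  obtain ⟨u, v, huv, hf', h1, h2, h4, h5⟩ := exists_spare a f hf ha hb h3 (σ p) (σ q)
  refine ⟨swap u v * σ, ⟨mul_mem (swap_mem_fibre hf') hσ, sign_swap_mul huv h⟩, ?_, ?_⟩
  · rw [Perm.mul_apply, swap_apply_of_ne_of_ne h1.symm h4.symm]
  · rw [Perm.mul_apply, swap_apply_of_ne_of_ne h2.symm h5.symm]

include hf in
theorem even_primitive [DecidableEq ι] (ha : 2 ≤ a) (hb : 2 ≤ Fintype.card ι) (h3 : 3 ≤ a ∨ 3 ≤ Fintype.card ι)
    {G : Subgroup (Perm Ω)} (hG : fibreGroup f ⊓ alternatingGroup Ω < G) (hGA : G ≤ alternatingGroup Ω) :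
    IsPreprimitive G Ω := by
  classical
  haveI : Nonempty ι := Fintype.card_pos_iff.mp (by omega)
  have heven := fun (σ : Perm Ω) (hσ : σ ∈ fibreGroup f) => exists_even a f hf ha hb h3 hσ
  obtain ⟨g₁, hg₁, hg₁''⟩ := SetLike.exists_of_lt hG
  have hg₁' : g₁ ∉ fibreGroup f := fun h => hg₁'' ⟨h, hGA hg₁⟩
  have htr : ∀ p x, ∃ τ ∈ fibreGroup f ⊓ alternatingGroup Ω, τ p = x := fun p x => by
    obtain ⟨τ, hτ, hτf⟩ := fibre_lift a f hf (swap (f p) (f x))
    obtain ⟨τ', hτ', e, -⟩ := heven (swap (τ p) x * τ)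
      (mul_mem (swap_mem_fibre (by rw [hτf, swap_apply_left])) hτ) p p
    exact ⟨τ', hτ', e.trans (swap_apply_left _ _)⟩
  haveI : IsPretransitive G Ω := ⟨fun p x => by
    obtain ⟨τ, hτ, e⟩ := htr p x
    exact ⟨⟨τ, hG.le hτ⟩, e⟩⟩
  refine ⟨fun {B} hB => ?_⟩
  by_contra hnt
  rw [IsTrivialBlock, not_or] at hnt
  obtain ⟨hns, hnu⟩ := hnt
  obtain ⟨p, hp, q, hq, hpq⟩ := Set.not_subsingleton_iff.mp hns
  have hfix : ∀ σ ∈ fibreGroup f, ∀ z ∈ B, σ z = z → ∀ w ∈ B, σ w ∈ B := by
    intro σ hσ z hz e w hw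
    obtain ⟨τ, hτ, e1, e2⟩ := heven σ hσ z w
    have h : (⟨τ, hG.le hτ⟩ : G) • B = (1 : G) • B := by
      by_contra hne'
      exact Set.disjoint_left.mp (hB hne') (Set.smul_mem_smul_set hz : τ z ∈ _) (by rw [one_smul, e1, e]; exact hz)
    rw [one_smul] at h
    rw [← e2, ← h]
    exact Set.smul_mem_smul_set hw
  have hfibre : ∀ z ∈ B, ∀ w, f w = f z → w ∈ B := by
    intro z hz w hw
    by_cases hwz : w = z
    · exact hwz ▸ hz
    obtain ⟨u, hu, huz⟩ : ∃ u ∈ B, u ≠ z := by
      by_cases h : p = z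
      · exact ⟨q, hq, fun e => hpq (h.trans e.symm)⟩
      · exact ⟨p, hp, h⟩
    by_cases huw : u = w
    · exact huw ▸ hu
    have := hfix _ (swap_mem_fibre hw.symm) u hu (swap_apply_of_ne_of_ne huz huw) z hz
    rwa [swap_apply_left] at this
  by_cases hone : ∀ z ∈ B, f z = f p
  · have hBeq : ∀ z, z ∈ B ↔ f z = f p := fun z => ⟨hone z, fun h => hfibre p hp z h⟩
    have hfib : ∀ k : G, ∀ z, z ∈ k • B ↔ f z = f ((k : Perm Ω) p) := by
      intro k z
      obtain ⟨τ, hτ, hτp⟩ := htr p ((k : Perm Ω) p)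
      have e : (⟨τ, hG.le hτ⟩ : G) • B = k • B := by
        by_contra hne'
        exact Set.disjoint_left.mp (hB hne') (Set.smul_mem_smul_set hp) ⟨p, hp, hτp.symm⟩
      rw [← e, ← hτp]
      constructor
      · rintro ⟨u, hu, rfl⟩
        exact (hτ.1 u p).mp ((hBeq u).mp hu)
      · intro h
        refine ⟨τ⁻¹ z, (hBeq _).mpr ((hτ.1 _ p).mpr ?_), ?_⟩
        · rw [Perm.inv_def, τ.apply_symm_apply]; exact h
        · show τ (τ⁻¹ z) = z
          rw [Perm.inv_def, τ.apply_symm_apply]
    refine hg₁' fun x y => ?_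
    obtain ⟨τ, hτ, hτp⟩ := htr p x
    have h1 := hfib ⟨τ, hG.le hτ⟩ y
    have h2 := hfib (⟨g₁, hg₁⟩ * ⟨τ, hG.le hτ⟩) (g₁ y)
    rw [mul_smul] at h2
    have h3 : g₁ y ∈ (⟨g₁, hg₁⟩ : G) • (⟨τ, hG.le hτ⟩ : G) • B ↔ y ∈ (⟨τ, hG.le hτ⟩ : G) • B :=
      Set.smul_mem_smul_set_iff
    simp only [Subgroup.coe_mul, Perm.mul_apply, hτp] at h1 h2
    rw [eq_comm, ← h1, ← h3, h2, eq_comm]
  · simp only [not_forall] at hone
    obtain ⟨q', hq', hqp⟩ := hone
    refine hnu (Set.eq_univ_of_forall fun w => ?_)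
    by_cases h1 : f w = f p
    · exact hfibre p hp w h1
    by_cases h2 : f w = f q'
    · exact hfibre q' hq' w h2
    obtain ⟨σ, hσ, hσf⟩ := fibre_lift a f hf (swap (f q') (f w))
    have hσp : f (σ p) = f p := by rw [hσf, swap_apply_of_ne_of_ne (Ne.symm hqp) (Ne.symm h1)]
    have hm : swap (σ q') w * (swap (σ p) p * σ) ∈ fibreGroup f :=
      mul_mem (swap_mem_fibre (by rw [hσf, swap_apply_left])) (mul_mem (swap_mem_fibre hσp) hσ)
    have e1 : (swap (σ q') w * (swap (σ p) p * σ)) p = p := by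
      rw [Perm.mul_apply, Perm.mul_apply, swap_apply_left, swap_apply_of_ne_of_ne]
      · intro e; exact h1 (by rw [← swap_apply_left (f q') (f w), ← hσf, ← e])
      · intro e; exact h1 (congrArg f e).symm
    have e2 : (swap (σ q') w * (swap (σ p) p * σ)) q' = w := by
      have e : swap (σ p) p (σ q') = σ q' := swap_apply_of_ne_of_ne (fun e => hqp (by rw [σ.injective e]))
        (fun e => h1 (by rw [← swap_apply_left (f q') (f w), ← hσf, e]))
      rw [Perm.mul_apply, Perm.mul_apply, e, swap_apply_left]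
    exact e2 ▸ hfix _ hm p hp e1 q' hq'

include hf in
theorem exists_threeCycle [DecidableEq ι] (ha : 2 ≤ a) (h : 3 ≤ a ∨ 5 ≤ Fintype.card ι) {G : Subgroup (Perm Ω)}
    (hG : fibreGroup f ⊓ alternatingGroup Ω < G) (hGA : G ≤ alternatingGroup Ω) (hb : 1 ≤ Fintype.card ι) :
    ∃ g ∈ G, g.IsThreeCycle := by
  classical
  haveI : Nonempty ι := Fintype.card_pos_iff.mp (by omega)
  by_cases h3 : 3 ≤ a
  · obtain ⟨i⟩ := (inferInstance : Nonempty ι)
    obtain ⟨u, hu, v, hv, w, hw, huv, huw, hvw⟩ := Finset.two_lt_card.mp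
      (show 2 < (Finset.univ.filter fun z => f z = i).card by
        rw [← Fintype.card_subtype, ← Nat.card_eq_fintype_card, hf]; omega)
    simp only [Finset.mem_filter, Finset.mem_univ, true_and] at hu hv hw
    have hc := Perm.isThreeCycle_swap_mul_swap_same huv huw hvw
    exact ⟨_, hG.le ⟨mul_mem (swap_mem_fibre (hu.trans hv.symm)) (swap_mem_fibre (hu.trans hw.symm)),
      hc.mem_alternatingGroup⟩, hc⟩
  have ha2 : a = 2 := by omega
  have hb5 : 5 ≤ Fintype.card ι := h.resolve_left h3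
  have hz : ∀ x, ∃ y, y ≠ x ∧ f y = f x ∧ ∀ u, f u = f x → u = x ∨ u = y := fun x => by
    obtain ⟨y, z, hyz, he⟩ := Finset.card_eq_two.mp (show (Finset.univ.filter fun z => f z = f x).card = 2 by
      rw [← Fintype.card_subtype, ← Nat.card_eq_fintype_card, hf, ha2])
    have hm : ∀ u, f u = f x ↔ u = y ∨ u = z := fun u => by
      have := Finset.ext_iff.mp he u
      simpa using this
    rcases (hm x).mp rfl with hx | hx
    · exact ⟨z, by rw [hx]; exact hyz.symm, (hm z).mpr (Or.inr rfl), fun u hu => by rw [hx]; exact (hm u).mp hu⟩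
    · exact ⟨y, by rw [hx]; exact hyz, (hm y).mpr (Or.inl rfl), fun u hu => by rw [hx]; exact ((hm u).mp hu).symm⟩
  choose z hz1 hz2 hz3 using hz
  have hzz : ∀ x, z (z x) = x := fun x => ((hz3 x (z (z x)) ((hz2 _).trans (hz2 x))).resolve_right (hz1 _))
  have hfz : ∀ x y, f x = f y ↔ x = y ∨ x = z y := fun x y =>
    ⟨hz3 y x, fun h => by rcases h with rfl | rfl; · rfl
                          · exact hz2 y⟩
  have hzinj : ∀ x y, z x = z y → x = y := fun x y e => by rw [← hzz x, e, hzz]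
  have hcardΩ : Fintype.card Ω = 2 * Fintype.card ι := by
    rw [← Fintype.card_congr (Equiv.sigmaFiberEquiv f), Fintype.card_sigma,
      Finset.sum_congr rfl (fun i _ => (Nat.card_eq_fintype_card (α := {x : Ω // f x = i})).symm.trans ((hf i).trans ha2)),
      Finset.sum_const, Finset.card_univ, smul_eq_mul, mul_comm]
  obtain ⟨g, hg, hg''⟩ := SetLike.exists_of_lt hG
  have hg' : g ∉ fibreGroup f := fun h => hg'' ⟨h, hGA hg⟩
  obtain ⟨x, hx⟩ : ∃ x, g (z x) ≠ z (g x) := by
    by_contra hc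
    simp only [not_exists, not_not] at hc
    refine hg' fun u v => ?_
    rw [hfz, hfz, g.injective.eq_iff, ← hc v, g.injective.eq_iff]
  set P := z (g x) with hP
  have havoid : ∀ l : List Ω, l.length ≤ 8 → ∃ y, y ∉ l := fun l hl => by
    by_contra hc
    simp only [not_exists, not_not] at hc
    have := (Finset.card_le_card (fun y _ => List.mem_toFinset.mpr (hc y) : (Finset.univ : Finset Ω) ⊆ l.toFinset)).trans
      l.toFinset_card_le
    rw [Finset.card_univ] at this
    omega
  obtain ⟨y, hy⟩ := havoid [x, z x, g.symm P, z (g.symm P)] (by simp)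
  simp only [List.mem_cons, List.not_mem_nil, or_false, not_or] at hy
  obtain ⟨y1, y2, y3, y4⟩ := hy
  have hPy : P ≠ g y := fun e => y3 (by rw [e, g.symm_apply_apply])
  have hPy' : P ≠ g (z y) := fun e => y4 (by rw [e, g.symm_apply_apply, hzz])
  obtain ⟨r, hr⟩ := havoid [g x, g (z x), g y, g (z y), P, z (g (z x)), z (g y), z (g (z y))] (by simp)
  simp only [List.mem_cons, List.not_mem_nil, or_false, not_or] at hr
  obtain ⟨r1, r2, r3, r4, r5, r6, r7, r8⟩ := hr
  have hzr : ∀ w, r ≠ z w → z r ≠ w := fun w h e => h (by rw [← e, hzz])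
  have hnd : [g x, g (z x), g y, g (z y), P, r, z r].Nodup := by
    simp only [List.nodup_cons, List.mem_cons, List.not_mem_nil, or_false, not_or, List.nodup_nil, and_true,
      not_false_eq_true]
    refine ⟨⟨?_, ?_, ?_, (hz1 _).symm, (Ne.symm r1), (hzr _ r5).symm⟩, ⟨?_, ?_, hx, (Ne.symm r2), (hzr _ r6).symm⟩,
      ⟨?_, hPy.symm, (Ne.symm r3), (hzr _ r7).symm⟩, ⟨hPy'.symm, (Ne.symm r4), (hzr _ r8).symm⟩,
      ⟨(Ne.symm r5), ?_⟩, (hz1 r).symm⟩
    · exact fun e => hz1 x (g.injective e).symm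
    · exact fun e => y1 (g.injective e).symm
    · exact fun e => y2 (by rw [g.injective e, hzz])
    · exact fun e => y2 (g.injective e).symm
    · exact fun e => y1 (hzinj _ _ (g.injective e)).symm
    · exact fun e => hz1 y (g.injective e).symm
    · exact fun e => r1 (hzinj _ _ e).symm
  obtain ⟨hpow, hcyc⟩ := threeCycle_of_doubles hnd
  have hD : ∀ u v, f u ≠ f v → swap u (z u) * swap v (z v) ∈ G := fun u v _ =>
    hG.le ⟨mul_mem (swap_mem_fibre (hz2 u).symm) (swap_mem_fibre (hz2 v).symm), by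
      show swap u (z u) * swap v (z v) ∈ alternatingGroup Ω
      rw [Perm.mem_alternatingGroup, map_mul, Perm.sign_swap (hz1 u).symm, Perm.sign_swap (hz1 v).symm]
      rfl⟩
  refine ⟨_, hpow ▸ pow_mem (mul_mem ?_ ?_) 4, hcyc⟩
  · rw [Equiv.swap_apply_apply g x (z x), Equiv.swap_apply_apply g y (z y),
      show g * swap x (z x) * g⁻¹ * (g * swap y (z y) * g⁻¹) = g * (swap x (z x) * swap y (z y)) * g⁻¹ by group]
    refine mul_mem (mul_mem hg (hD x y fun e => ?_)) (inv_mem hg)
    rcases (hfz x y).mp e with rfl | rfl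
    · exact y1 rfl
    · exact y2 (hzz y).symm
  · refine hD (g x) r fun e => ?_
    rcases (hfz r (g x)).mp e.symm with h | h
    · exact r1 h
    · exact r5 h

include hf in
theorem even_card [DecidableEq ι] (ha : 2 ≤ a) (hb : 1 ≤ Fintype.card ι) :
    a.factorial ^ Fintype.card ι * (Fintype.card ι).factorial ∣
      2 * Nat.card ↥(fibreGroup f ⊓ alternatingGroup Ω) := by
  classical
  let φ : fibreGroup f →* Perm ι :=
    MonoidHom.mk' (fun g => Equiv.ofBijective
      (fun i => f ((g : Perm Ω) (haveI : Nonempty ι := ⟨i⟩; (exists_fibre_point a f hf ha i).choose)))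
      (Finite.injective_iff_bijective.mp fun i j e => by
        haveI : Nonempty ι := ⟨i⟩
        have h := (g.2 _ _).mpr e
        rwa [(exists_fibre_point a f hf ha i).choose_spec, (exists_fibre_point a f hf ha j).choose_spec] at h))
      fun g g' => Equiv.ext fun i => by
        haveI : Nonempty ι := ⟨i⟩
        show f ((g : Perm Ω) ((g' : Perm Ω) _)) = f ((g : Perm Ω) _)
        refine (g.2 _ _).mp ?_
        rw [(exists_fibre_point a f hf ha _).choose_spec]
        rfl
  have hφ : ∀ (g : fibreGroup f) x, φ g (f x) = f ((g : Perm Ω) x) := fun g x => by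
    haveI : Nonempty ι := ⟨f x⟩
    exact (g.2 _ x).mp (exists_fibre_point a f hf ha (f x)).choose_spec
  have hsurj : Function.Surjective φ := fun π => by
    obtain ⟨g, hg, hgf⟩ := fibre_lift a f hf π
    refine ⟨⟨g, hg⟩, Equiv.ext fun i => ?_⟩
    haveI : Nonempty ι := ⟨i⟩
    obtain ⟨x, rfl⟩ := exists_fibre_point a f hf ha i
    rw [hφ, hgf]
  have hker : Nat.card φ.ker = a.factorial ^ Fintype.card ι := by
    have e : φ.ker ≃ {g : Perm Ω // f ∘ g = f} :=
      { toFun := fun g => ⟨g.1.1, funext fun x => by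
          show f ((g.1 : Perm Ω) x) = f x
          rw [← hφ, MonoidHom.mem_ker.mp g.2]; rfl⟩
        invFun := fun g => ⟨⟨g.1, fun u v => by
          rw [show f (g.1 u) = f u from congrFun g.2 u, show f (g.1 v) = f v from congrFun g.2 v]⟩,
          MonoidHom.mem_ker.mpr (Equiv.ext fun i => by
            haveI : Nonempty ι := ⟨i⟩
            obtain ⟨x, rfl⟩ := exists_fibre_point a f hf ha i
            rw [hφ]; exact congrFun g.2 x)⟩
        left_inv := fun g => rfl
        right_inv := fun g => rfl }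
    rw [Nat.card_congr e, Nat.card_eq_fintype_card, DomMulAct.stabilizer_card f]
    rw [Finset.prod_congr rfl (fun i _ => by rw [← Nat.card_eq_fintype_card, hf]), Finset.prod_const, Finset.card_univ]
  have hW : Nat.card (fibreGroup f) = a.factorial ^ Fintype.card ι * (Fintype.card ι).factorial := by
    rw [← φ.ker.card_mul_index, Subgroup.index_ker, hker, MonoidHom.range_eq_top.mpr hsurj, Subgroup.card_top,
      Nat.card_perm, Nat.card_eq_fintype_card]
  rw [← hW]
  set s : fibreGroup f →* ℤˣ := Perm.sign.comp (fibreGroup f).subtype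
  have e : Nat.card s.ker = Nat.card ↥(fibreGroup f ⊓ alternatingGroup Ω) := Nat.card_congr
    { toFun := fun g => ⟨g.1.1, g.1.2, g.2⟩
      invFun := fun g => ⟨⟨g.1, g.2.1⟩, g.2.2⟩
      left_inv := fun g => rfl
      right_inv := fun g => rfl }
  rw [← s.ker.card_mul_index, e, mul_comm 2]
  refine Nat.mul_dvd_mul_left _ ?_
  rw [Subgroup.index_ker]
  have h := Subgroup.card_subgroup_dvd_card s.range
  rwa [show Nat.card ℤˣ = 2 by simp] at h

include hf in
theorem isCoatom_even [DecidableEq ι] (ha : 2 ≤ a) (hb : 2 ≤ Fintype.card ι) (h8 : Fintype.card Ω ≠ 8) :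
    IsCoatom ((fibreGroup f ⊓ alternatingGroup Ω).subgroupOf (alternatingGroup Ω)) := by
  classical
  haveI : Nonempty ι := Fintype.card_pos_iff.mp (by omega)
  have hn : Fintype.card Ω = a * Fintype.card ι := by
    rw [← Fintype.card_congr (Equiv.sigmaFiberEquiv f), Fintype.card_sigma,
      Finset.sum_congr rfl (fun i _ => (Nat.card_eq_fintype_card (α := {x : Ω // f x = i})).symm.trans (hf i)),
      Finset.sum_const, Finset.card_univ, smul_eq_mul, mul_comm]
  have h4 : 4 ≤ Fintype.card Ω := hn ▸ Nat.mul_le_mul ha hb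
  have hproper : ¬ alternatingGroup Ω ≤ fibreGroup f := fun hle => by
    obtain ⟨i, j, hij⟩ := Fintype.one_lt_card_iff.mp (show 1 < Fintype.card ι by omega)
    obtain ⟨u, hu⟩ := exists_fibre_point a f hf ha i
    obtain ⟨w, hw⟩ := exists_fibre_point a f hf ha j
    haveI : Nontrivial {z : Ω // f z = i} := Finite.one_lt_card_iff_nontrivial.mp (by rw [hf]; omega)
    obtain ⟨⟨v, hv⟩, hvu⟩ := exists_ne (⟨u, hu⟩ : {z : Ω // f z = i})
    have hvu' : v ≠ u := fun e => hvu (Subtype.ext e)
    haveI : Nontrivial {z : Ω // f z = j} := Finite.one_lt_card_iff_nontrivial.mp (by rw [hf]; omega)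
    obtain ⟨⟨w', hw'⟩, hww⟩ := exists_ne (⟨w, hw⟩ : {z : Ω // f z = j})
    have hww' : w' ≠ w := fun e => hww (Subtype.ext e)
    have n1 : u ≠ w := fun e => hij (by rw [← hu, e, hw])
    have n2 : u ≠ w' := fun e => hij (by rw [← hu, e, hw'])
    have n3 : v ≠ w := fun e => hij (by rw [← hv, e, hw])
    have hc := Perm.isThreeCycle_swap_mul_swap_same n1 n2 hww'.symm
    have h := (hle hc.mem_alternatingGroup u v).mp (hu.trans hv.symm)
    have n4 : v ≠ w' := fun e => hij (by rw [← hv, e, hw'])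
    rw [Perm.mul_apply, Perm.mul_apply, swap_apply_left, swap_apply_of_ne_of_ne hvu' n4, swap_apply_of_ne_of_ne n2.symm hww',
      swap_apply_of_ne_of_ne hvu' n3, hw', hv] at h
    exact hij h.symm
  refine ⟨fun e => hproper fun x hx => ?_, fun G' hG' => ?_⟩
  · have : (⟨x, hx⟩ : alternatingGroup Ω) ∈ (fibreGroup f ⊓ alternatingGroup Ω).subgroupOf (alternatingGroup Ω) :=
      e ▸ Subgroup.mem_top _
    exact (Subgroup.mem_inf.mp (Subgroup.mem_subgroupOf.mp this)).1
  set G := G'.map (alternatingGroup Ω).subtype with hGdef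
  have hGA : G ≤ alternatingGroup Ω := Subgroup.map_subtype_le _
  have hG : fibreGroup f ⊓ alternatingGroup Ω < G := by
    have h := Subgroup.map_subtype_lt_map_subtype.mpr hG'
    rwa [Subgroup.map_subgroupOf_eq_of_le inf_le_right] at h
  suffices hAG : alternatingGroup Ω ≤ G by
    refine eq_top_iff.mpr fun x _ => ?_
    obtain ⟨y, hy, e⟩ := hAG x.2
    exact (Subtype.ext e : y = x) ▸ hy
  by_cases hbig : 3 ≤ a ∨ 5 ≤ Fintype.card ι
  · obtain ⟨g, hg, hcyc⟩ := exists_threeCycle a f hf ha hbig hG hGA (by omega)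
    exact Perm.alternatingGroup_le_of_isPreprimitive_of_isThreeCycle_mem
      (even_primitive a f hf ha hb (by omega) hG hGA) hcyc hg
  rw [not_or, not_le, not_le] at hbig
  have ha2 : a = 2 := by omega
  subst ha2
  -- the two small cases, by counting
  have hd := even_card 2 f hf le_rfl (by omega)
  have hAcard : 2 * Nat.card (alternatingGroup Ω) = (Fintype.card Ω).factorial := by
    haveI : Nontrivial Ω := Fintype.one_lt_card_iff_nontrivial.mp (by omega)
    rw [two_mul_nat_card_alternatingGroup, Nat.card_perm, Nat.card_eq_fintype_card]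
  have hlt : Nat.card ↥(fibreGroup f ⊓ alternatingGroup Ω) < Nat.card G :=
    lt_of_le_of_ne (Subgroup.card_le_of_le hG.le) fun e => hG.ne (Subgroup.eq_of_le_of_card_ge hG.le e.ge)
  have hd1 := Subgroup.card_dvd_of_le hG.le
  have hd2 := Subgroup.card_dvd_of_le hGA
  have hb23 : Fintype.card ι = 2 ∨ Fintype.card ι = 3 := by omega
  rw [hn] at hAcard
  have hpos : 0 < Nat.card G := Nat.card_pos
  generalize hH : Nat.card ↥(fibreGroup f ⊓ alternatingGroup Ω) = nH at hd hd1 hlt
  generalize hA : Nat.card (alternatingGroup Ω) = nA at hAcard hd2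
  rcases hb23 with hb' | hb' <;> rw [hb'] at hd hn hAcard <;> simp only [Nat.factorial] at hd hAcard <;>
    norm_num at hd hAcard hn
  · -- degree four
    have hA12 : nA = 12 := by omega
    obtain ⟨k, hk⟩ : 4 ∣ nH := by omega
    obtain ⟨c, hc⟩ := hd1
    rw [hA12] at hd2
    have hle := Nat.le_of_dvd (by norm_num) hd2
    refine (Subgroup.eq_of_le_of_card_ge hGA ?_).ge
    rw [hA, hA12]
    have hc2 : 2 ≤ c := by
      by_contra h
      interval_cases c <;> omega
    have hnH : 4 ≤ nH := by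
      have : 0 < nH := hH ▸ Nat.card_pos
      omega
    have h8G : 4 * 2 ≤ Nat.card G := by rw [hc]; exact Nat.mul_le_mul hnH hc2
    obtain ⟨e, he⟩ := hd2
    by_contra hlt12
    have he1 : e = 1 := by
      have : e ≠ 0 := fun h => by rw [h, mul_zero] at he; omega
      have : e < 2 := by
        by_contra h
        have : Nat.card G * 2 ≤ Nat.card G * e := Nat.mul_le_mul_left _ (not_lt.mp h)
        omega
      omega
    rw [he1, mul_one] at he
    omega
  · -- degree six: no proper subgroup of index less than six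
    have hA360 : nA = 360 := by omega
    obtain ⟨k, hk⟩ : 24 ∣ nH := by omega
    obtain ⟨c, hc⟩ := hd1
    have hk1 : 1 ≤ k := by
      rcases Nat.eq_zero_or_pos k with h | h
      · exfalso; subst h; rw [mul_zero] at hk; exact absurd (hH.trans hk) Nat.card_pos.ne'
      · exact h
    have hidx : (G.subgroupOf (alternatingGroup Ω)).index ≤ 5 := by
      have h := (G.subgroupOf (alternatingGroup Ω)).card_mul_index
      rw [Nat.card_congr (Subgroup.subgroupOfEquivOfLe hGA).toEquiv, hA, hA360] at h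
      rw [hA360] at hd2
      have hle := Nat.le_of_dvd (by norm_num) hd2
      have h72 : 72 ≤ Nat.card G := by
        by_contra hlt'
        have h24 : Nat.card G = 48 := by
          have : 24 ∣ Nat.card G := ⟨k * c, by rw [hc, hk, mul_assoc]⟩
          omega
        rw [h24] at hd2
        norm_num at hd2
      by_contra h6
      have : 72 * 6 ≤ Nat.card G * (G.subgroupOf (alternatingGroup Ω)).index := Nat.mul_le_mul h72 (by omega)
      omega
    haveI := alternatingGroup.isSimpleGroup (α := Ω) (by rw [Nat.card_eq_fintype_card]; omega)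
    by_contra hne
    set K := G.subgroupOf (alternatingGroup Ω) with hK
    have hcore : K.normalCore = ⊥ := by
      refine (K.normalCore_normal.eq_bot_or_eq_top).resolve_right fun e => hne ?_
      intro x hx
      exact K.normalCore_le (show (⟨x, hx⟩ : alternatingGroup Ω) ∈ K.normalCore from e ▸ Subgroup.mem_top _)
    have hinj : Function.Injective (MulAction.toPermHom (alternatingGroup Ω) (alternatingGroup Ω ⧸ K)) := by
      rw [← MonoidHom.ker_eq_bot_iff, ← Subgroup.normalCore_eq_ker, hcore]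
    have h := Nat.card_le_card_of_injective _ hinj
    rw [Nat.card_perm, hA, hA360, ← Subgroup.index] at h
    have := Nat.factorial_le hidx
    simp only [Nat.factorial] at this
    omega

end CfsgLib.MaxSub
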