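/-
Dimensions of invariant subspaces.
-/
import Mathlib

set_option autoImplicit false
set_option linter.unusedSectionVars false

namespace CfsgLib.MaxSub

open Module Submodule

variable {F V : Type*} [Field F] [AddCommGroup V] [Module F V] [FiniteDimensional F V] (f : V →ₗ[F] V)

theorem map_inf_invariant {A B : Submodule F V} (hA : A.map f ≤ A) (hB : B.map f ≤ B) : (A ⊓ B).map f ≤ A ⊓ B :=
  (Submodule.map_inf_le f).trans (inf_le_inf hA hB)

theorem map_sup_invariant {A B : Submodule F V} (hA : A.map f ≤ A) (hB : B.map f ≤ B) : (A ⊔ B).map f ≤ A ⊔ B :=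
  (Submodule.map_sup A B f).le.trans (sup_le_sup hA hB)

theorem sup_invariant {ι : Type*} (s : Finset ι) {U : ι → Submodule F V} (hU : ∀ j, (U j).map f ≤ U j) :
    (s.sup U).map f ≤ s.sup U := by
  classical
  induction s using Finset.induction_on with
  | empty => simp
  | insert j t hj ih => rw [Finset.sup_insert]; exact map_sup_invariant f (hU j) ih

variable {s a : ℕ} (U : Fin s → Submodule F V) (E : Submodule F V)
  (hUdim : ∀ j, Module.finrank F ↥(U j) = a)
  (hd : ∀ (t : Finset (Fin s)) (j : Fin s), j ∉ t → Disjoint (U j) (E ⊔ t.sup U))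

include hUdim hd

theorem finrank_flag (E' : Submodule F V) (hE' : E' ≤ E) (t : Finset (Fin s)) :
    Module.finrank F ↥(E' ⊔ t.sup U) = Module.finrank F E' + t.card * a := by
  classical
  induction t using Finset.induction_on with
  | empty => rw [Finset.sup_empty, sup_bot_eq, Finset.card_empty, zero_mul, add_zero]
  | insert j t hj ih =>
    rw [Finset.sup_insert, sup_left_comm, Finset.card_insert_of_notMem hj]
    have h := Submodule.finrank_sup_add_finrank_inf_eq (U j) (E' ⊔ t.sup U)
    rw [((hd t j hj).mono_right (sup_le_sup_right hE' _)).eq_bot, finrank_bot, add_zero, hUdim, ih] at h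
    rw [h]; ring

theorem inf_finrank (hE : E.map f ≤ E) (hUinv : ∀ j, (U j).map f ≤ U j)
    (hUirr : ∀ j, ∀ W : Submodule F V, W ≤ U j → W.map f ≤ W → W = ⊥ ∨ W = U j)
    {W : Submodule F V} (hW : W.map f ≤ W) (t : Finset (Fin s)) :
    ∃ k, Module.finrank F ↥(W ⊓ (E ⊔ t.sup U)) = Module.finrank F ↥(W ⊓ E) + k * a := by
  classical
  induction t using Finset.induction_on with
  | empty => exact ⟨0, by rw [Finset.sup_empty, sup_bot_eq, zero_mul, add_zero]⟩
  | insert j t hj ih =>
    obtain ⟨k, hk⟩ := ih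
    rw [Finset.sup_insert, sup_left_comm]
    set P := E ⊔ t.sup U with hP
    set X := W ⊓ (U j ⊔ P)
    have hPinv : P.map f ≤ P := map_sup_invariant f hE (sup_invariant f t hUinv)
    have hXinv : X.map f ≤ X := map_inf_invariant f hW (map_sup_invariant f (hUinv j) hPinv)
    have hXP : X ⊓ P = W ⊓ P := by
      refine le_antisymm (le_inf (inf_le_left.trans inf_le_left) inf_le_right) ?_
      exact le_inf (le_inf inf_le_left (inf_le_right.trans le_sup_right)) inf_le_right
    have h := Submodule.finrank_sup_add_finrank_inf_eq X P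
    rw [hXP, hk] at h
    have hmod : X ⊔ P = (X ⊔ P) ⊓ U j ⊔ P := by
      rw [inf_sup_assoc_of_le (U j) le_sup_right]
      exact (inf_eq_left.mpr (sup_le inf_le_right le_sup_right)).symm
    rcases hUirr j ((X ⊔ P) ⊓ U j) inf_le_right (map_inf_invariant f (map_sup_invariant f hXinv hPinv) (hUinv j)) with e | e
    · rw [e, bot_sup_eq] at hmod
      rw [hmod] at h
      exact ⟨k, by omega⟩
    · rw [e] at hmod
      have h' := Submodule.finrank_sup_add_finrank_inf_eq (U j) P
      rw [(hd t j hj).eq_bot, finrank_bot, add_zero, hUdim] at h'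
      rw [hmod, h'] at h
      exact ⟨k + 1, by rw [add_mul, one_mul]; omega⟩

theorem exists_invariant_iff (ha : 1 ≤ a) (hfix : ∀ v ∈ E, f v = v) (hUinv : ∀ j, (U j).map f ≤ U j)
    (hUirr : ∀ j, ∀ W : Submodule F V, W ≤ U j → W.map f ≤ W → W = ⊥ ∨ W = U j)
    (htop : E ⊔ Finset.univ.sup U = ⊤) {m : ℕ} (hmV : m < Module.finrank F V) :
    (∃ W : Submodule F V, Module.finrank F ↥W = m ∧ W.map f ≤ W) ↔
      (m ≤ Module.finrank F E ∨ (a ≤ m ∧ m % a ≤ Module.finrank F E)) := by
  classical
  have hE : E.map f ≤ E := by rintro _ ⟨v, hv, rfl⟩; rw [hfix v hv]; exact hv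
  constructor
  · rintro ⟨W, rfl, hW⟩
    obtain ⟨k, hk⟩ := inf_finrank f U E hUdim hd hE hUinv hUirr hW Finset.univ
    rw [htop, inf_top_eq] at hk
    have hle := Submodule.finrank_mono (inf_le_right : W ⊓ E ≤ E)
    rcases Nat.eq_zero_or_pos k with h0 | h0
    · subst h0; left; omega
    · refine Or.inr ⟨?_, ?_⟩
      · rw [hk]; exact le_add_left (Nat.le_mul_of_pos_left a h0)
      · rw [hk, Nat.add_mul_mod_self_right]; exact (Nat.mod_le _ _).trans hle
  · intro h
    have hk : ∃ k, k ≤ s ∧ k * a ≤ m ∧ m - k * a ≤ Module.finrank F E := by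
      rcases h with h | ⟨h1, h2⟩
      · exact ⟨0, Nat.zero_le _, by simp, by simpa using h⟩
      · have hV := finrank_flag U E hUdim hd E le_rfl Finset.univ
        rw [htop, finrank_top, Finset.card_univ, Fintype.card_fin] at hV
        by_cases hs : m / a ≤ s
        · exact ⟨m / a, hs, Nat.div_mul_le_self m a, by rw [← Nat.mod_eq_sub_div_mul]; exact h2⟩
        · have : s * a ≤ m := (Nat.mul_le_mul_right a (not_le.mp hs).le).trans (Nat.div_mul_le_self m a)
          exact ⟨s, le_rfl, this, by omega⟩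
    obtain ⟨k, hks, hkm, hkE⟩ := hk
    obtain ⟨E', hE', hdim⟩ : ∃ E' : Submodule F V, E' ≤ E ∧ Module.finrank F E' = m - k * a := by
      let b := Module.finBasis F E
      refine ⟨Submodule.span F (Set.range fun i : Fin (m - k * a) => (b (Fin.castLE hkE i) : V)), ?_, ?_⟩
      · rw [Submodule.span_le]; rintro _ ⟨i, rfl⟩; exact (b _).2
      · rw [finrank_span_eq_card, Fintype.card_fin]
        exact (b.linearIndependent.map' E.subtype (Submodule.ker_subtype E)).comp _ (Fin.castLE_injective hkE)
    obtain ⟨t, -, ht⟩ := Finset.exists_subset_card_eq (s := (Finset.univ : Finset (Fin s))) (n := k)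
      (by rw [Finset.card_univ, Fintype.card_fin]; exact hks)
    refine ⟨E' ⊔ t.sup U, ?_, map_sup_invariant f ?_ (sup_invariant f t hUinv)⟩
    · rw [finrank_flag U E hUdim hd E' hE', hdim, ht]; omega
    · rintro _ ⟨v, hv, rfl⟩; rw [hfix v (hE' hv)]; exact hv

end CfsgLib.MaxSub
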