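/-
Linear maps squaring to a scalar permute the summands of some equidimensional decomposition.
-/
import Mathlib

set_option autoImplicit false
set_option linter.unusedSectionVars false

namespace CfsgLib.MaxSub

/-- The number of members of `k` pairs and `l` singles that are sent to the block `β`. -/
def blockCount (P : ℕ → Bool → ℕ) (S : ℕ → ℕ) (k l β : ℕ) : ℕ :=
  (∑ i ∈ Finset.range k, ((if P i true = β then 1 else 0) + (if P i false = β then 1 else 0))) +
    ∑ w ∈ Finset.range l, (if S w = β then 1 else 0)

/-- An involution with `k` two-cycles and `l` fixed points respects a partition into `t` blocks of size `a`. -/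
theorem blocks_exist (a : ℕ) (ha : 1 ≤ a) (t : ℕ) : ∀ k l : ℕ, 2 * k + l = a * t →
    ∃ (P : ℕ → Bool → ℕ) (S : ℕ → ℕ) (σ : ℕ → ℕ),
      (∀ i < k, ∀ b, P i b < t ∧ σ (P i b) = P i (!b)) ∧ (∀ w < l, S w < t ∧ σ (S w) = S w) ∧
      (∀ β < t, σ β < t ∧ σ (σ β) = β ∧ blockCount P S k l β = a) := by
  induction t using Nat.strong_induction_on with
  | _ t IH =>
    intro k l hkl
    rcases Nat.eq_zero_or_pos t with rfl | htp
    · refine ⟨fun _ _ => 0, fun _ => 0, id, ?_, ?_, fun β hβ => absurd hβ (Nat.not_lt_zero β)⟩
      · intro i hi; omega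
      · intro w hw; omega
    by_cases hswap : a ≤ k ∧ 2 ≤ t
    · obtain ⟨s, rfl⟩ : ∃ s, t = s + 2 := ⟨t - 2, by omega⟩
      obtain ⟨k', rfl⟩ : ∃ k', k = k' + a := ⟨k - a, by omega⟩
      obtain ⟨P, S, σ, hP, hS, hC⟩ := IH s (by omega) k' l (by have := Nat.mul_add a s 2; omega)
      refine ⟨fun i b => if i < k' then P i b else (if b then s + 1 else s), S,
        fun β => if β < s then σ β else if β = s then s + 1 else s, ?_, ?_, ?_⟩
      · intro i hi b
        by_cases hik : i < k'
        · obtain ⟨h1, h2⟩ := hP i hik b
          simp only [if_pos hik, if_pos h1]; omega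
        · simp only [if_neg hik]
          cases b <;> simp
      · intro w hw
        obtain ⟨h1, h2⟩ := hS w hw
        simp only [if_pos h1]; omega
      · intro β hβ
        refine ⟨?_, ?_, ?_⟩
        · dsimp only
          split_ifs with h1 h2
          · have := (hC β h1).1; omega
          · omega
          · omega
        · by_cases h1 : β < s
          · simp [h1, (hC β h1).1, (hC β h1).2.1]
          · rcases (show β = s ∨ β = s + 1 by omega) with rfl | rfl <;> simp
        · unfold blockCount
          rw [Finset.sum_range_add]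
          by_cases h1 : β < s
          · have h := (hC β h1).2.2
            unfold blockCount at h
            rw [Finset.sum_congr rfl (g := fun i => ((if P i true = β then 1 else 0) + (if P i false = β then 1 else 0)))
              (fun i hi => by simp [Finset.mem_range.mp hi]), Finset.sum_eq_zero (s := Finset.range a)
              (fun i _ => by simp [show s + 1 ≠ β by omega, show s ≠ β by omega]), add_zero]
            exact h
          · rw [Finset.sum_eq_zero (s := Finset.range k') (fun i hi => by
                have hi := Finset.mem_range.mp hi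
                have := (hP i hi true).1; have := (hP i hi false).1
                simp [hi, show P i true ≠ β by omega, show P i false ≠ β by omega]),
              Finset.sum_eq_zero (s := Finset.range l) (fun w hw => by
                have := (hS w (Finset.mem_range.mp hw)).1
                simp [show S w ≠ β by omega]), zero_add, add_zero]
            rcases (show β = s ∨ β = s + 1 by omega) with rfl | rfl <;> simp
    · obtain ⟨s, rfl⟩ : ∃ s, t = s + 1 := ⟨t - 1, by omega⟩
      rw [Nat.mul_succ] at hkl
      obtain ⟨r, k', l', rfl, rfl, hr⟩ : ∃ r k' l', k = k' + r ∧ l = l' + (a - 2 * r) ∧ 2 * r ≤ a := by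
        by_cases hk : 2 * k ≤ a
        · exact ⟨k, 0, l - (a - 2 * k), by omega, by omega, hk⟩
        · refine ⟨a / 2, k - a / 2, l - (a - 2 * (a / 2)), by omega, ?_, by omega⟩
          by_cases hl : 1 ≤ l
          · omega
          · rcases Nat.even_or_odd a with ⟨c, hc⟩ | ⟨c, hc⟩
            · omega
            · exfalso
              rcases Nat.eq_zero_or_pos s with rfl | hs
              · omega
              · have h2 : a ≤ a * s := Nat.le_mul_of_pos_right a hs
                omega
      obtain ⟨P, S, σ, hP, hS, hC⟩ := IH s (by omega) k' l' (by omega)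
      refine ⟨fun i b => if i < k' then P i b else s, fun w => if w < l' then S w else s,
        fun β => if β < s then σ β else β, ?_, ?_, ?_⟩
      · intro i hi b
        by_cases hik : i < k'
        · obtain ⟨h1, h2⟩ := hP i hik b
          simp only [if_pos hik, if_pos h1]; omega
        · simp [hik]
      · intro w hw
        by_cases hwl : w < l'
        · obtain ⟨h1, h2⟩ := hS w hwl
          simp only [if_pos hwl, if_pos h1]; omega
        · simp [hwl]
      · intro β hβ
        refine ⟨?_, ?_, ?_⟩
        · dsimp only
          split_ifs with h1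
          · have := (hC β h1).1; omega
          · omega
        · by_cases h1 : β < s
          · simp [h1, (hC β h1).1, (hC β h1).2.1]
          · simp [h1]
        · unfold blockCount
          rw [Finset.sum_range_add, Finset.sum_range_add]
          by_cases h1 : β < s
          · have h := (hC β h1).2.2
            unfold blockCount at h
            rw [Finset.sum_eq_zero (s := Finset.range r) (fun i _ => by simp [show s ≠ β by omega]),
              Finset.sum_eq_zero (s := Finset.range (a - 2 * r)) (fun i _ => by simp [show s ≠ β by omega]), add_zero, add_zero]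
            refine Eq.trans ?_ h
            congr 1 <;> exact Finset.sum_congr rfl fun i hi => by simp [Finset.mem_range.mp hi]
          · obtain rfl : β = s := by omega
            rw [Finset.sum_eq_zero (s := Finset.range k') (fun i hi => by
                have hi := Finset.mem_range.mp hi
                have := (hP i hi true).1; have := (hP i hi false).1
                simp [hi, show P i true ≠ β by omega, show P i false ≠ β by omega]),
              Finset.sum_eq_zero (s := Finset.range l') (fun w hw => by
                have hw := Finset.mem_range.mp hw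
                have := (hS w hw).1
                simp [hw, show S w ≠ β by omega])]
            simp
            omega

variable {F V : Type*} [Field F] [AddCommGroup V] [Module F V] [FiniteDimensional F V]

/-- A basis made of pairs interchanged up to a scalar and of eigenvectors. -/
def HasPairBasis (f : V →ₗ[F] V) (z : F) : Prop :=
  ∃ (k l : ℕ) (u : Fin k → V) (w : Fin l → V), 2 * k + l = Module.finrank F V ∧
    (∀ i, f (f (u i)) = z • u i) ∧ (∀ i, f (w i) ∈ Submodule.span F {w i}) ∧
    ⊤ ≤ Submodule.span F (Set.range u ∪ Set.range (fun i => f (u i)) ∪ Set.range w)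

theorem hasPairBasis_of_nonsquare (f : V →ₗ[F] V) (z : F) (hz : ∀ c : F, c * c ≠ z) (hf : ∀ v, f (f v) = z • v) :
    HasPairBasis f z := by
  let Q : Submodule F V → Prop := fun S => ∃ (k : ℕ) (u : Fin k → V),
    2 * k = Module.finrank F S ∧ S = Submodule.span F (Set.range u ∪ Set.range (fun i => f (u i)))
  have key : ∀ m : ℕ, ∀ S : Submodule F V, Q S → Module.finrank F V - Module.finrank F S ≤ m → Q ⊤ := by
    intro m
    induction m with
    | zero =>
      intro S hS hm
      have h : S = ⊤ := Submodule.eq_top_of_finrank_eq (by have := Submodule.finrank_le S; omega)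
      exact h ▸ hS
    | succ m ih =>
      intro S hS hm
      by_cases htop : S = ⊤
      · exact htop ▸ hS
      obtain ⟨v, -, hv⟩ := SetLike.exists_of_lt (lt_top_iff_ne_top.mpr htop)
      obtain ⟨k, u, hk, hspan⟩ := hS
      have hfS : ∀ y ∈ S, f y ∈ S := by
        have h : S ≤ S.comap f := by
          conv_lhs => rw [hspan]
          rw [Submodule.span_le]
          rintro _ (⟨i, rfl⟩ | ⟨i, rfl⟩)
          · exact hspan.ge (Submodule.subset_span (Or.inr ⟨i, rfl⟩))
          · show f (f (u i)) ∈ S
            rw [hf]
            exact S.smul_mem _ (hspan.ge (Submodule.subset_span (Or.inl ⟨i, rfl⟩)))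
        exact fun y hy => h hy
      have hind : ∀ α β : F, α • v + β • f v ∈ S → α = 0 ∧ β = 0 := by
        intro α β h
        have h2 : (α * α - β * β * z) • v ∈ S := by
          have e : (α * α - β * β * z) • v = α • (α • v + β • f v) - β • f (α • v + β • f v) := by
            rw [map_add, map_smul, map_smul, hf]
            module
          rw [e]
          exact S.sub_mem (S.smul_mem _ h) (S.smul_mem _ (hfS _ h))
        by_cases hne : α * α - β * β * z = 0
        · have hb : β = 0 := by
            by_contra hb
            exact hz (α / β) (by field_simp; linear_combination hne)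
          subst hb
          simp at hne
          exact ⟨hne, rfl⟩
        · exact absurd (by simpa [smul_smul, inv_mul_cancel₀ hne] using S.smul_mem (α * α - β * β * z)⁻¹ h2) hv
      have hli : LinearIndependent F ![v, f v] := LinearIndependent.pair_iff.mpr fun α β h =>
        hind α β (h ▸ S.zero_mem)
      have hdim : Module.finrank F (Submodule.span F (Set.range ![v, f v])) = 2 := by
        rw [finrank_span_eq_card hli, Fintype.card_fin]
      have hinf : S ⊓ Submodule.span F (Set.range ![v, f v]) = ⊥ := by
        rw [eq_bot_iff]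
        rintro y ⟨hy1, hy2⟩
        rw [Matrix.range_cons, Matrix.range_cons, Matrix.range_empty, Set.union_empty, Set.singleton_union] at hy2
        obtain ⟨α, β, rfl⟩ := Submodule.mem_span_pair.mp hy2
        obtain ⟨rfl, rfl⟩ := hind α β hy1
        simp
      have hsum := Submodule.finrank_sup_add_finrank_inf_eq S (Submodule.span F (Set.range ![v, f v]))
      rw [hinf, finrank_bot, hdim, add_zero] at hsum
      refine ih (S ⊔ Submodule.span F (Set.range ![v, f v])) ⟨k + 1, Fin.cons v u, by omega, ?_⟩ (by omega)
      rw [hspan, ← Submodule.span_union, Matrix.range_cons, Matrix.range_cons, Matrix.range_empty, Set.union_empty,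
        Fin.range_cons, show (fun i => f ((Fin.cons v u : Fin (k + 1) → V) i)) = Fin.cons (f v) (fun i => f (u i)) by
          funext i; refine Fin.cases ?_ (fun j => ?_) i <;> simp, Fin.range_cons]
      congr 1
      ext y
      simp only [Set.mem_union, Set.mem_insert_iff, Set.mem_singleton_iff]
      tauto
  obtain ⟨k, u, hk, hspan⟩ := key _ ⊥ ⟨0, ![], by simp, by simp⟩ le_rfl
  refine ⟨k, 0, u, ![], by rw [finrank_top] at hk; omega, fun i => hf _, fun i => i.elim0, ?_⟩
  rw [Matrix.range_empty, Set.union_empty]
  exact hspan.le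

theorem hasPairBasis_char_two [CharP F 2] (f : V →ₗ[F] V) (c : F) (hf : ∀ v, f (f v) = (c * c) • v) :
    HasPairBasis f (c * c) := by
  set N : V →ₗ[F] V := f - c • LinearMap.id with hN
  have hNv : ∀ v, N v = f v - c • v := fun v => rfl
  have hRK : LinearMap.range N ≤ LinearMap.ker N := by
    rintro _ ⟨v, rfl⟩
    rw [LinearMap.mem_ker, hNv, hNv, map_sub, map_smul, hf]
    have h2 : (2 : F) = 0 := CharTwo.two_eq_zero
    calc (c * c) • v - c • f v - c • (f v - c • v) = ((2 : F) * (c * c)) • v - ((2 : F) * c) • f v := by module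
      _ = 0 := by simp [h2]
  obtain ⟨C, hC⟩ := Submodule.exists_isCompl (LinearMap.ker N)
  obtain ⟨W₀, hW₀⟩ := Submodule.exists_isCompl (LinearMap.range N)
  set W := W₀ ⊓ LinearMap.ker N with hW
  have hsup : LinearMap.range N ⊔ W = LinearMap.ker N := by
    rw [hW, ← sup_inf_assoc_of_le W₀ hRK, hW₀.sup_eq_top, top_inf_eq]
  have hdimC : Module.finrank F (LinearMap.ker N) + Module.finrank F C = Module.finrank F V :=
    Submodule.finrank_add_eq_of_isCompl hC
  have hdimR := LinearMap.finrank_range_add_finrank_ker N
  have hdimW := Submodule.finrank_sup_add_finrank_inf_eq (LinearMap.range N) W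
  rw [hsup, disjoint_iff.mp (hW₀.disjoint.mono_right inf_le_left), finrank_bot, add_zero] at hdimW
  let bC := Module.finBasis F C
  let bW := Module.finBasis F W
  refine ⟨_, _, fun i => (bC i : V), fun i => (bW i : V), by omega, fun i => hf _, fun i => ?_, ?_⟩
  · have h : N (bW i : V) = 0 := LinearMap.mem_ker.mp (bW i).2.2
    rw [hNv, sub_eq_zero] at h
    rw [h]
    exact Submodule.smul_mem _ _ (Submodule.mem_span_singleton_self _)
  · set T := Submodule.span F (Set.range (fun i => (bC i : V)) ∪ Set.range (fun i => f (bC i : V)) ∪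
      Set.range (fun i => (bW i : V)))
    have hCT : C ≤ T := by
      intro y hy
      have h : (⟨y, hy⟩ : C) ∈ Submodule.span F (Set.range bC) := bC.span_eq ▸ Submodule.mem_top
      have h' := Submodule.mem_map_of_mem (f := C.subtype) h
      rw [Submodule.map_span, ← Set.range_comp] at h'
      exact Submodule.span_mono (Set.subset_union_left.trans Set.subset_union_left) h'
    have hWT : W ≤ T := by
      intro y hy
      have h : (⟨y, hy⟩ : W) ∈ Submodule.span F (Set.range bW) := bW.span_eq ▸ Submodule.mem_top
      have h' := Submodule.mem_map_of_mem (f := W.subtype) h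
      rw [Submodule.map_span, ← Set.range_comp] at h'
      exact Submodule.span_mono Set.subset_union_right h'
    have hfC : C ≤ T.comap f := by
      intro y hy
      have h : (⟨y, hy⟩ : C) ∈ Submodule.span F (Set.range bC) := bC.span_eq ▸ Submodule.mem_top
      have h' := Submodule.mem_map_of_mem (f := f.comp C.subtype) h
      rw [Submodule.map_span, ← Set.range_comp] at h'
      exact Submodule.span_mono (Set.subset_union_right.trans Set.subset_union_left) h'
    have hR : LinearMap.range N ≤ T := by
      rintro _ ⟨v, rfl⟩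
      obtain ⟨y, hy, y', hy', rfl⟩ := Submodule.mem_sup.mp (hC.sup_eq_top.ge (Submodule.mem_top (x := v)))
      rw [map_add, LinearMap.mem_ker.mp hy, zero_add, hNv]
      exact T.sub_mem (hfC hy') (T.smul_mem _ (hCT hy'))
    rw [← hC.sup_eq_top, ← hsup]
    exact sup_le (sup_le hR hWT) hCT

theorem hasPairBasis_semisimple (f : V →ₗ[F] V) (c : F) (h2 : (2 : F) * c ≠ 0) (hf : ∀ v, f (f v) = (c * c) • v) :
    HasPairBasis f (c * c) := by
  set A := LinearMap.ker (f - c • LinearMap.id)
  set B := LinearMap.ker (f + c • LinearMap.id)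
  have hA : ∀ v, v ∈ A ↔ f v = c • v := fun v => by
    simp [A, sub_eq_zero]
  have hB : ∀ v, v ∈ B ↔ f v = -(c • v) := fun v => by
    simp [B, add_eq_zero_iff_eq_neg]
  have hinf : A ⊓ B = ⊥ := by
    rw [eq_bot_iff]
    rintro v ⟨hv1, hv2⟩
    rw [SetLike.mem_coe, hA] at hv1
    rw [SetLike.mem_coe, hB, hv1, eq_neg_iff_add_eq_zero, ← add_smul, ← two_mul] at hv2
    exact (smul_eq_zero.mp hv2).resolve_left h2
  have hsup : A ⊔ B = ⊤ := by
    rw [eq_top_iff]
    intro v _
    refine Submodule.mem_sup.mpr ⟨((2 : F) * c)⁻¹ • (c • v + f v), ?_, ((2 : F) * c)⁻¹ • (c • v - f v), ?_, ?_⟩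
    · rw [hA, map_smul, map_add, map_smul, hf]; module
    · rw [hB, map_smul, map_sub, map_smul, hf]; module
    · rw [← smul_add, show c • v + f v + (c • v - f v) = ((2 : F) * c) • v by module, smul_smul, inv_mul_cancel₀ h2, one_smul]
  have hdim := Submodule.finrank_sup_add_finrank_inf_eq A B
  rw [hsup, hinf, finrank_bot, finrank_top, add_zero] at hdim
  let bA := Module.finBasis F A
  let bB := Module.finBasis F B
  refine ⟨0, Module.finrank F A + Module.finrank F B, ![], Fin.append (fun i => (bA i : V)) (fun i => (bB i : V)),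
    by omega, fun i => i.elim0, fun i => ?_, ?_⟩
  · refine Fin.addCases (fun j => ?_) (fun j => ?_) i
    · rw [Fin.append_left, (hA _).mp (bA j).2]
      exact Submodule.smul_mem _ _ (Submodule.mem_span_singleton_self _)
    · rw [Fin.append_right, (hB _).mp (bB j).2]
      exact Submodule.neg_mem _ (Submodule.smul_mem _ _ (Submodule.mem_span_singleton_self _))
  · rw [← hsup, sup_le_iff]
    constructor
    · intro y hy
      have h : (⟨y, hy⟩ : A) ∈ Submodule.span F (Set.range bA) := bA.span_eq ▸ Submodule.mem_top
      have h' := Submodule.mem_map_of_mem (f := A.subtype) h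
      rw [Submodule.map_span, ← Set.range_comp] at h'
      refine Submodule.span_mono ?_ h'
      rintro _ ⟨j, rfl⟩
      exact Or.inr ⟨Fin.castAdd _ j, Fin.append_left _ _ _⟩
    · intro y hy
      have h : (⟨y, hy⟩ : B) ∈ Submodule.span F (Set.range bB) := bB.span_eq ▸ Submodule.mem_top
      have h' := Submodule.mem_map_of_mem (f := B.subtype) h
      rw [Submodule.map_span, ← Set.range_comp] at h'
      refine Submodule.span_mono ?_ h'
      rintro _ ⟨j, rfl⟩
      exact Or.inr ⟨Fin.natAdd _ j, Fin.append_right _ _ _⟩

theorem blocks_of_pairBasis (f : V →ₗ[F] V) (hinj : Function.Injective f) (z : F) (hb : HasPairBasis f z)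
    (a t : ℕ) (ha : 1 ≤ a) (hat : Module.finrank F V = a * t) :
    ∃ D : Fin t → Submodule F V, (∀ j, Module.finrank F (D j) = a) ∧ iSupIndep D ∧ iSup D = ⊤ ∧
      ∃ σ : Equiv.Perm (Fin t), ∀ j, (D j).map f = D (σ j) := by
  obtain ⟨k, l, u, w, hkl, hu, hw, hspan⟩ := hb
  obtain ⟨P, S, σ, hP, hS, hC⟩ := blocks_exist a ha t k l (hkl.trans hat)
  let vec : (Fin k × Bool) ⊕ Fin l → V := Sum.elim (fun p => if p.2 then f (u p.1) else u p.1) w
  let blk : (Fin k × Bool) ⊕ Fin l → Fin t :=
    Sum.elim (fun p => ⟨P p.1.1 p.2, (hP p.1.1 p.1.2 p.2).1⟩) (fun i => ⟨S i.1, (hS i.1 i.2).1⟩)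
  have htop : ⊤ ≤ Submodule.span F (Set.range vec) := hspan.trans (Submodule.span_mono (by
    rintro _ ((⟨i, rfl⟩ | ⟨i, rfl⟩) | ⟨i, rfl⟩)
    · exact ⟨Sum.inl (i, false), rfl⟩
    · exact ⟨Sum.inl (i, true), rfl⟩
    · exact ⟨Sum.inr i, rfl⟩))
  have hli : LinearIndependent F vec := linearIndependent_of_top_le_span_of_card_eq_finrank htop (by
    simp only [Fintype.card_sum, Fintype.card_prod, Fintype.card_fin, Fintype.card_bool]; omega)
  let D : Fin t → Submodule F V := fun j => Submodule.span F (vec '' {i | blk i = j})
  have hfin : ∀ j, Module.finrank F (D j) = a := by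
    intro j
    have h := finrank_span_eq_card (hli.comp (Subtype.val : {i // blk i = j} → _) Subtype.val_injective)
    rw [Set.range_comp, Subtype.range_coe_subtype] at h
    refine h.trans ?_
    rw [Fintype.card_subtype, Finset.card_filter, Fintype.sum_sum_type, Fintype.sum_prod_type]
    refine Eq.trans ?_ (hC j.1 j.2).2.2
    unfold blockCount
    simp only [blk, Sum.elim_inl, Sum.elim_inr, Fin.ext_iff, Fintype.sum_bool]
    rw [Fin.sum_univ_eq_sum_range (fun i => (if P i true = j.1 then 1 else 0) + (if P i false = j.1 then 1 else 0)),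
      Fin.sum_univ_eq_sum_range (fun i => if S i = j.1 then 1 else 0)]
  have hσ : Function.Involutive (fun j : Fin t => (⟨σ j.1, (hC j.1 j.2).1⟩ : Fin t)) :=
    fun j => Fin.ext (hC j.1 j.2).2.1
  refine ⟨D, hfin, ?_, ?_, Function.Involutive.toPerm _ hσ, fun j => ?_⟩
  · intro j
    rw [show (⨆ (i : Fin t) (_ : i ≠ j), D i) = Submodule.span F (vec '' ⋃ (i : Fin t) (_ : i ≠ j), {x | blk x = i}) by
      simp only [D, Set.image_iUnion, Submodule.span_iUnion]]
    refine hli.disjoint_span_image (Set.disjoint_left.mpr fun x hx hx' => ?_)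
    simp only [Set.mem_iUnion, Set.mem_setOf_eq] at hx hx'
    obtain ⟨i, hi, hxi⟩ := hx'
    exact hi (hxi ▸ hx)
  · rw [eq_top_iff]
    refine htop.trans (Submodule.span_le.mpr ?_)
    rintro _ ⟨x, rfl⟩
    exact le_iSup D (blk x) (Submodule.subset_span ⟨x, rfl, rfl⟩)
  · refine Submodule.eq_of_le_of_finrank_eq ?_
      (((Submodule.equivMapOfInjective f hinj (D j)).finrank_eq).symm.trans ((hfin j).trans (hfin _).symm))
    rw [Submodule.map_span_le]
    rintro _ ⟨x, hx, rfl⟩
    have hx : blk x = j := hx
    subst hx
    rcases x with ⟨i, b⟩ | i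
    · have hblk : blk (Sum.inl (i, !b)) = Function.Involutive.toPerm _ hσ (blk (Sum.inl (i, b))) := Fin.ext (hP i.1 i.2 b).2.symm
      cases b
      · exact Submodule.subset_span ⟨Sum.inl (i, true), hblk, rfl⟩
      · show f (f (u i)) ∈ _
        rw [hu]
        exact Submodule.smul_mem _ _ (Submodule.subset_span ⟨Sum.inl (i, false), hblk, rfl⟩)
    · refine (Submodule.span_le.mpr ?_) (hw i)
      rintro _ rfl
      exact Submodule.subset_span ⟨Sum.inr i, Fin.ext (hS i.1 i.2).2.symm, rfl⟩

theorem blocks_of_sq_scalar [Finite F] (f : V →ₗ[F] V) (z : F) (hz : z ≠ 0) (hf : ∀ v, f (f v) = z • v)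
    (a t : ℕ) (ha : 1 ≤ a) (hat : Module.finrank F V = a * t) :
    ∃ D : Fin t → Submodule F V, (∀ j, Module.finrank F (D j) = a) ∧ iSupIndep D ∧ iSup D = ⊤ ∧
      ∃ σ : Equiv.Perm (Fin t), ∀ j, (D j).map f = D (σ j) := by
  have hinj : Function.Injective f := fun v v' h => by
    have h' := congrArg f h
    rw [hf, hf] at h'
    exact smul_right_injective V hz h'
  refine blocks_of_pairBasis f hinj z ?_ a t ha hat
  by_cases hsq : ∃ c : F, c * c = z
  · obtain ⟨c, rfl⟩ := hsq
    by_cases h2 : (2 : F) = 0
    · haveI : CharP F 2 := CharTwo.of_one_ne_zero_of_two_eq_zero one_ne_zero h2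
      exact hasPairBasis_char_two f c hf
    · exact hasPairBasis_semisimple f c (mul_ne_zero h2 fun h => hz (by simp [h])) hf
  · exact hasPairBasis_of_nonsquare f z (fun c hc => hsq ⟨c, hc⟩) hf

end CfsgLib.MaxSub
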