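/-
Elements of odd prime order fixing no pair of complementary Lagrangian subspaces.
-/
import Mathlib
import Cfsg.Agent.Lib.MaxSub.LagPairCount

set_option autoImplicit false
set_option linter.unusedSectionVars false
set_option linter.style.haveILetI false

namespace CfsgLib.MaxSub

open Module CfsgLib.IsotropicCount
open scoped Matrix

variable {F : Type*} [Field F] [Fintype F] {d : ℕ}

local notation "q" => Fintype.card F

theorem exists_plus_factor {r : ℕ} (hr : r.Prime) (hrq : ¬ r ∣ q) (hdiv : r ∣ Nat.card (LagPairT F d)) :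
    ∃ j, 1 ≤ j ∧ j ≤ d ∧ r ∣ q ^ j + 1 := by
  have hq1 : 1 < q := Fintype.one_lt_card
  have hglc : glc q d = q ^ (∑ i : Fin d, (i : ℕ)) * ∏ i ∈ Finset.range d, (q ^ (i + 1) - 1) := by
    unfold glc
    rw [← Finset.prod_range_reflect (fun i => q ^ (i + 1) - 1) d,
      ← Fin.prod_univ_eq_prod_range (fun j => q ^ (d - 1 - j + 1) - 1) d, ← Finset.prod_pow_eq_pow_sum,
      ← Finset.prod_mul_distrib]
    refine Finset.prod_congr rfl fun i _ => ?_
    rw [Nat.mul_sub, mul_one, ← pow_add, show (i : ℕ) + (d - 1 - i + 1) = d by omega]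
  have hsp : Nat.card (Matrix.symplecticGroup (Fin d) F) =
      (q ^ (d ^ 2) * ∏ i ∈ Finset.range d, (q ^ (i + 1) + 1)) * ∏ i ∈ Finset.range d, (q ^ (i + 1) - 1) := by
    rw [Cfsg.Agent.S0245.result rfl, mul_assoc, ← Finset.prod_mul_distrib]
    congr 1
    refine Finset.prod_congr rfl fun i _ => ?_
    have h := Nat.sq_sub_sq (q ^ (i + 1)) 1
    rw [one_pow, ← pow_mul, Nat.mul_comm (i + 1) 2] at h
    exact h
  have h := card_lagPairs (F := F) (d := d)
  rw [hglc, hsp, ← mul_assoc] at h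
  have h' := Nat.eq_of_mul_eq_mul_right
    (Finset.prod_pos fun i _ => Nat.sub_pos_of_lt (Nat.one_lt_pow (Nat.succ_ne_zero i) hq1)) h
  have hd : r ∣ q ^ (d ^ 2) * ∏ i ∈ Finset.range d, (q ^ (i + 1) + 1) := h' ▸ dvd_mul_of_dvd_left hdiv _
  rcases (Nat.Prime.dvd_mul hr).mp hd with h1 | h1
  · exact absurd (hr.dvd_of_dvd_pow h1) hrq
  · obtain ⟨i, hi, hi'⟩ := (hr.prime.dvd_finsetProd_iff _).mp h1
    exact ⟨i + 1, by omega, Finset.mem_range.mp hi, hi'⟩

theorem exists_primitive_even {r : ℕ} [Fact r.Prime] (hr2 : r ≠ 2) {j : ℕ} (hj : 1 ≤ j) (hd : r ∣ q ^ j + 1)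
    (hrq : ¬ r ∣ q) :
    ∃ k, 1 ≤ k ∧ k ≤ j ∧ r ∣ q ^ (2 * k) - 1 ∧ ∀ l, 1 ≤ l → l ≤ k → ¬ r ∣ q ^ l - 1 := by
  have hone : ∀ l, r ∣ q ^ l - 1 ↔ (q : ZMod r) ^ l = 1 := fun l => by
    rw [← ZMod.natCast_eq_zero_iff, Nat.cast_sub (Nat.one_le_pow _ _ Fintype.card_pos), sub_eq_zero,
      Nat.cast_pow, Nat.cast_one]
  have hneg : (q : ZMod r) ^ j = -1 := by
    have h := (ZMod.natCast_eq_zero_iff _ _).mpr hd
    push_cast at h
    exact eq_neg_of_add_eq_zero_left h
  haveI : Fact (2 < r) := ⟨lt_of_le_of_ne (Fact.out : r.Prime).two_le (Ne.symm hr2)⟩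
  have hne : (q : ZMod r) ^ j ≠ 1 := by rw [hneg]; exact ZMod.neg_one_ne_one
  have hdvd : orderOf (q : ZMod r) ∣ j * 2 :=
    orderOf_dvd_of_pow_eq_one (by rw [pow_mul, hneg]; ring)
  rcases Nat.even_or_odd (orderOf (q : ZMod r)) with ⟨k, hk⟩ | hodd
  · have hpos : 0 < orderOf (q : ZMod r) := Nat.pos_of_dvd_of_pos hdvd (by omega)
    have hle := Nat.le_of_dvd (by omega) hdvd
    refine ⟨k, by omega, by omega, ?_, fun l hl hlk h => ?_⟩
    · rw [hone, show 2 * k = orderOf (q : ZMod r) by omega]; exact pow_orderOf_eq_one _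
    · have := Nat.le_of_dvd (by omega) (orderOf_dvd_of_pow_eq_one ((hone l).mp h))
      omega
  · exact absurd (orderOf_dvd_iff_pow_eq_one.mp
      (Nat.Coprime.dvd_of_dvd_mul_right (Nat.coprime_two_right.mpr hodd) hdvd)) hne

theorem exists_small_element {r : ℕ} [Fact r.Prime] {k : ℕ} (hk : 1 ≤ k) (hkd : k ≤ d)
    (hd : r ∣ q ^ (2 * k) - 1) :
    ∃ x : Matrix.symplecticGroup (Fin d) F, orderOf x = r ∧
      ∃ (A : Matrix (Fin d ⊕ Fin d) (Fin k ⊕ Fin k) F) (B : Matrix (Fin k ⊕ Fin k) (Fin d ⊕ Fin d) F),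
        x.1 - 1 = A * B := by
  classical
  obtain ⟨l, rfl⟩ : ∃ l, d = k + l := ⟨d - k, by omega⟩
  have hcard : r ∣ Nat.card (Matrix.symplecticGroup (Fin k) F) := by
    rw [Cfsg.Agent.S0245.result rfl]
    refine dvd_mul_of_dvd_right (hd.trans ?_) _
    have h := Finset.dvd_prod_of_mem (fun i => q ^ (2 * (i + 1)) - 1) (Finset.mem_range.mpr (show k - 1 < k by omega))
    rwa [show k - 1 + 1 = k by omega] at h
  obtain ⟨y, hy⟩ := exists_prime_orderOf_dvd_card' r hcard
  let e : (Fin (k + l) ⊕ Fin (k + l)) ≃ (Fin k ⊕ Fin k) ⊕ (Fin l ⊕ Fin l) :=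
    (Equiv.sumCongr finSumFinEquiv.symm finSumFinEquiv.symm).trans (Equiv.sumSumSumComm _ _ _ _)
  have hJ : Matrix.J (Fin (k + l)) F =
      (Matrix.fromBlocks (Matrix.J (Fin k) F) 0 0 (Matrix.J (Fin l) F)).submatrix e e := by
    ext i j
    rcases i with i | i <;> rcases j with j | j <;> refine Fin.addCases (fun a => ?_) (fun a => ?_) i <;>
      refine Fin.addCases (fun b => ?_) (fun b => ?_) j <;>
      simp [e, Matrix.J, Matrix.one_apply, Fin.ext_iff, Equiv.sumSumSumComm] <;> omega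
  let Φ : Matrix.symplecticGroup (Fin k) F → Matrix.symplecticGroup (Fin (k + l)) F := fun g =>
    ⟨(Matrix.fromBlocks g.1 0 0 1).submatrix e e, SymplecticGroup.mem_iff.mpr (by
      rw [hJ, Matrix.transpose_submatrix, Matrix.submatrix_mul_equiv, Matrix.submatrix_mul_equiv,
        Matrix.fromBlocks_transpose, Matrix.fromBlocks_multiply, Matrix.fromBlocks_multiply]
      simp [SymplecticGroup.mem_iff.mp g.2])⟩
  have hone : Φ 1 = 1 := Subtype.ext (by simp [Φ])
  have hmul : ∀ g h, Φ (g * h) = Φ g * Φ h := fun g h => Subtype.ext (by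
    show _ = (Matrix.fromBlocks g.1 0 0 1).submatrix e e * (Matrix.fromBlocks h.1 0 0 1).submatrix e e
    rw [Matrix.submatrix_mul_equiv, Matrix.fromBlocks_multiply]
    simp [Φ])
  let φ : Matrix.symplecticGroup (Fin k) F →* Matrix.symplecticGroup (Fin (k + l)) F :=
    { toFun := Φ, map_one' := hone, map_mul' := hmul }
  have hinj : Function.Injective φ := fun g h hgh => by
    refine Subtype.ext (Matrix.ext fun i j => ?_)
    have h' := congrFun (congrFun (congrArg Subtype.val hgh) (e.symm (Sum.inl i))) (e.symm (Sum.inl j))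
    simpa [φ, Φ] using h'
  refine ⟨φ y, by rw [orderOf_injective φ hinj]; exact hy,
    (Matrix.fromRows (y.1 - 1) (0 : Matrix (Fin l ⊕ Fin l) (Fin k ⊕ Fin k) F)).submatrix e id,
    (Matrix.fromCols (1 : Matrix (Fin k ⊕ Fin k) (Fin k ⊕ Fin k) F) 0).submatrix id e, ?_⟩
  rw [Matrix.submatrix_mul _ _ e id e Function.bijective_id |>.symm, Matrix.fromRows_mul_fromCols,
    show (φ y).1 = (Matrix.fromBlocks y.1 0 0 1).submatrix e e from rfl,
    show (1 : Matrix (Fin (k + l) ⊕ Fin (k + l)) (Fin (k + l) ⊕ Fin (k + l)) F) =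
      (Matrix.fromBlocks 1 0 0 1).submatrix e e by simp,
    show ∀ M N : Matrix ((Fin k ⊕ Fin k) ⊕ (Fin l ⊕ Fin l)) ((Fin k ⊕ Fin k) ⊕ (Fin l ⊕ Fin l)) F,
      M.submatrix e e - N.submatrix e e = (M - N).submatrix e e from fun _ _ => rfl]
  congr 1
  ext (a | a) (b | b) <;> simp [Matrix.one_apply]

theorem trivial_on_small {V : Type*} [AddCommGroup V] [Module F V] [FiniteDimensional F V] {r : ℕ}
    [Fact r.Prime] {k : ℕ} (hrq : ¬ r ∣ q) (hk : ∀ l, 1 ≤ l → l ≤ k → ¬ r ∣ q ^ l - 1) (f : V →ₗ[F] V)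
    (hf : f ^ r = 1) (U : Submodule F V) (hU : U.map f ≤ U) (hdim : finrank F (U.map (f - 1)) ≤ k) :
    ∀ u ∈ U, f u = u := by
  classical
  set P := U.map (f - 1) with hP
  have hPf : ∀ v ∈ P, f v ∈ P := by
    rintro _ ⟨u, hu, rfl⟩
    exact ⟨f u, hU ⟨u, hu, rfl⟩, by simp [Module.End.one_apply]⟩
  let g : Module.End F P := f.restrict hPf
  have hg : g ^ r = 1 := by
    have hr : ∀ n : ℕ, ∀ v : P, ((g ^ n) v : V) = (f ^ n) v := by
      intro n
      induction n with
      | zero => simp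
      | succ n ih => intro v; rw [pow_succ', pow_succ', Module.End.mul_apply, Module.End.mul_apply, ← ih]; rfl
    exact LinearMap.ext fun v => Subtype.ext (by rw [hr, hf]; rfl)
  have hg1 : g = 1 := by
    let b := Module.finBasis F P
    let M := LinearMap.toMatrixAlgEquiv b g
    have hM : M ^ r = 1 := by rw [← map_pow, hg, map_one]
    let u : Matrix.GeneralLinearGroup (Fin (finrank F P)) F :=
      Units.ofPowEqOne M r hM (Fact.out : r.Prime).ne_zero
    have hu : u ^ r = 1 := Units.ext (by simpa [u] using hM)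
    have hcop : ¬ r ∣ Nat.card (Matrix.GeneralLinearGroup (Fin (finrank F P)) F) := by
      rw [Matrix.card_GL_field, (Fact.out : r.Prime).prime.dvd_finsetProd_iff]
      rintro ⟨i, -, hi⟩
      have hpw : q ^ finrank F P = q ^ (i : ℕ) * q ^ (finrank F P - i) := by rw [← pow_add]; congr 1; omega
      rw [hpw, ← Nat.mul_sub_one] at hi
      rcases (Nat.Prime.dvd_mul Fact.out).mp hi with h | h
      · exact hrq ((Fact.out : r.Prime).dvd_of_dvd_pow h)
      · exact hk _ (by omega) (by omega) h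
    have hord : orderOf u = 1 := by
      rcases (Nat.dvd_prime Fact.out).mp (orderOf_dvd_of_pow_eq_one hu) with h | h
      · exact h
      · exact absurd (h ▸ orderOf_dvd_natCard u) hcop
    have h1 : M = 1 := by simpa [u] using congrArg Units.val (orderOf_eq_one_iff.mp hord)
    exact (LinearMap.toMatrixAlgEquiv b).injective (h1.trans (map_one _).symm)
  intro u hu
  have hr0 : (r : F) ≠ 0 := fun h => by
    obtain ⟨n, hp, hn⟩ := FiniteField.card F (ringChar F)
    have hd : ringChar F ∣ r := ringChar.dvd h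
    rcases (Nat.dvd_prime Fact.out).mp hd with h1 | h1
    · exact hp.one_lt.ne' h1
    · exact hrq (by rw [hn, h1]; exact dvd_pow_self _ n.2.ne')
  have h2 : f (f u - u) = f u - u := by
    have hmem : f u - u ∈ P := ⟨u, hu, by simp [Module.End.one_apply]⟩
    exact congrArg Subtype.val (LinearMap.congr_fun hg1 ⟨_, hmem⟩)
  have hn : ∀ n : ℕ, (f ^ n) u = u + (n : F) • (f u - u) := by
    intro n
    induction n with
    | zero => simp
    | succ n ih =>
      rw [pow_succ', Module.End.mul_apply, ih, map_add, map_smul, h2, Nat.cast_succ, add_smul, one_smul]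
      abel
  have h := hn r
  rw [hf, Module.End.one_apply, left_eq_add, smul_eq_zero] at h
  exact sub_eq_zero.mp (h.resolve_left hr0)

theorem no_fixed_pair {r : ℕ} [Fact r.Prime] (hr2 : r ≠ 2) (hd : 1 ≤ d) {k : ℕ} (hrq : ¬ r ∣ q)
    (hk : ∀ l, 1 ≤ l → l ≤ k → ¬ r ∣ q ^ l - 1) (x : Matrix.symplecticGroup (Fin d) F) (hx : orderOf x = r)
    (A : Matrix (Fin d ⊕ Fin d) (Fin k ⊕ Fin k) F) (B : Matrix (Fin k ⊕ Fin k) (Fin d ⊕ Fin d) F)
    (hAB : x.1 - 1 = A * B) (U W : Submodule F (Fin d ⊕ Fin d → F)) (hUW : IsCompl U W)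
    (hUi : ∀ u ∈ U, ∀ v ∈ U, Cfsg.sympForm d F u v = 0) (hWi : ∀ u ∈ W, ∀ v ∈ W, Cfsg.sympForm d F u v = 0)
    (h : (U.map (Matrix.toLin' x.1) = U ∧ W.map (Matrix.toLin' x.1) = W) ∨
      (U.map (Matrix.toLin' x.1) = W ∧ W.map (Matrix.toLin' x.1) = U)) : False := by
  classical
  set f : Module.End F (Fin d ⊕ Fin d → F) := Matrix.toLin' x.1 with hfdef
  have hfr : f ^ r = 1 := by
    rw [hfdef, ← Matrix.toLin'_pow, ← SubmonoidClass.coe_pow, ← hx, pow_orderOf_eq_one]
    exact Matrix.toLin'_one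
  have hdims : finrank F U = d ∧ finrank F W = d := lagPair_dim ⟨(U, W), hUW, hUi, hWi⟩
  rcases h with ⟨hU, hW⟩ | ⟨hU, hW⟩
  swap
  · have key : ∀ n : ℕ, U.map (f ^ (2 * n)) = U := by
      intro n
      induction n with
      | zero => simp [Module.End.one_eq_id]
      | succ n ih =>
        rw [show 2 * (n + 1) = 1 + (1 + 2 * n) by ring, pow_add, pow_add, pow_one, Module.End.mul_eq_comp,
          Module.End.mul_eq_comp, Submodule.map_comp, Submodule.map_comp, ih, hU, hW]
    obtain ⟨n, hn⟩ := (Fact.out : r.Prime).odd_of_ne_two hr2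
    have h1 : U.map (f ^ r) = W := by
      rw [hn, pow_succ', Module.End.mul_eq_comp, Submodule.map_comp, key, hU]
    rw [hfr, Module.End.one_eq_id, Submodule.map_id] at h1
    subst h1
    have h2 := hUW.disjoint
    rw [disjoint_self] at h2
    have := hdims.1
    rw [h2, finrank_bot] at this
    omega
  have hrank : finrank F (LinearMap.range (f - 1)) ≤ k + k := by
    rw [hfdef, show (1 : Module.End F (Fin d ⊕ Fin d → F)) = Matrix.toLin' 1 from Matrix.toLin'_one.symm, ← map_sub, hAB,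
      Matrix.toLin'_mul]
    refine (Submodule.finrank_mono (LinearMap.range_comp_le_range _ _)).trans
      ((LinearMap.finrank_range_le _).trans (le_of_eq ?_))
    simp
  have hmap : ∀ P : Submodule F (Fin d ⊕ Fin d → F), P.map f = P → P.map (f - 1) ≤ P := by
    rintro P hP _ ⟨v, hv, rfl⟩
    exact P.sub_mem (hP.le ⟨v, hv, rfl⟩) hv
  have hinf : U.map (f - 1) ⊓ W.map (f - 1) = ⊥ :=
    eq_bot_iff.mpr ((inf_le_inf (hmap U hU) (hmap W hW)).trans hUW.disjoint.le_bot)
  have hsum := Submodule.finrank_sup_add_finrank_inf_eq (U.map (f - 1)) (W.map (f - 1))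
  have hsup : finrank F ↥(U.map (f - 1) ⊔ W.map (f - 1)) ≤ k + k :=
    (Submodule.finrank_mono (sup_le LinearMap.map_le_range LinearMap.map_le_range)).trans hrank
  rw [hinf, finrank_bot, add_zero] at hsum
  have other : ∀ P Q : Submodule F (Fin d ⊕ Fin d → F), IsCompl P Q →
      (∀ u ∈ Q, ∀ v ∈ Q, Cfsg.sympForm d F u v = 0) → Q.map f = Q → (∀ u ∈ P, f u = u) → f = 1 := by
    intro P Q hPQ hQ hQf hP
    refine LinearMap.ext fun v => ?_
    obtain ⟨p, hp, w, hw, rfl⟩ := Submodule.mem_sup.mp (hPQ.sup_eq_top.ge (Submodule.mem_top (x := v)))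
    have hw' : f w = w := by
      refine sub_eq_zero.mp (sympB_nondeg.2 _ fun z => ?_)
      obtain ⟨z1, hz1, z2, hz2, rfl⟩ := Submodule.mem_sup.mp (hPQ.sup_eq_top.ge (Submodule.mem_top (x := z)))
      have e1 : sympB d F z1 (f w) = sympB d F z1 w := by
        conv_lhs => rw [← hP z1 hz1]
        rw [sympB_apply, sympB_apply]
        exact symp_preserves x z1 w
      have hfw : f w ∈ Q := hQf.le ⟨w, hw, rfl⟩
      rw [map_add, LinearMap.add_apply, map_sub (sympB d F z1), map_sub (sympB d F z2), e1, sub_self, zero_add,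
        sympB_apply, sympB_apply, hQ z2 hz2 _ hfw, hQ z2 hz2 _ hw, sub_self]
    rw [map_add, hP p hp, hw']
    rfl
  have hf1 : f = 1 := by
    by_cases hle : finrank F (U.map (f - 1)) ≤ k
    · exact other U W hUW hWi hW (trivial_on_small hrq hk f hfr U hU.le hle)
    · exact other W U hUW.symm hUi hU (trivial_on_small hrq hk f hfr W hW.le (by omega))
  have h1 : x = 1 := Subtype.ext (Matrix.toLin'.injective (hf1.trans Matrix.toLin'_one.symm))
  rw [h1, orderOf_one] at hx
  exact (Fact.out : r.Prime).one_lt.ne hx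

end CfsgLib.MaxSub
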