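/-
Isometries squaring to ±1 stabilise a pair of complementary Lagrangian subspaces.
-/
import Mathlib

set_option autoImplicit false
set_option linter.unusedSectionVars false

namespace CfsgLib.MaxSub

variable {F V : Type*} [Field F] [AddCommGroup V] [Module F V] [FiniteDimensional F V]

/-- A pair of complementary totally isotropic subspaces of `Y` fixed or swapped by `x`. -/
def HasLagPair (B : LinearMap.BilinForm F V) (x : V →ₗ[F] V) (sw : Prop) (Y : Submodule F V) : Prop :=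
  ∃ U W : Submodule F V, U ⊔ W = Y ∧ U ⊓ W = ⊥ ∧ (∀ u ∈ U, ∀ v ∈ U, B u v = 0) ∧ (∀ u ∈ W, ∀ v ∈ W, B u v = 0) ∧
    ((sw → U.map x ≤ W ∧ W.map x ≤ U) ∧ (¬ sw → U.map x ≤ U ∧ W.map x ≤ W))

theorem exists_stable_pair (B : LinearMap.BilinForm F V) (hB : ∀ v, B v v = 0) (x : V →ₗ[F] V)
    (hx : ∀ u v, B (x u) (x v) = B u v) (h2 : (2 : F) ≠ 0) (s : F) (hs : s = 1 ∨ s = -1)
    (hxs : ∀ v, x (x v) = s • v) (Y : Submodule F V) (hY : ∀ y ∈ Y, x y ∈ Y)
    (hnd : ∀ y ∈ Y, y ≠ 0 → ∃ w ∈ Y, B y w ≠ 0) (hne : Y ≠ ⊥) :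
    ∃ a b : V, a ∈ Y ∧ b ∈ Y ∧ B a b ≠ 0 ∧
      ((s = -1 → x a = b ∧ x b = -a) ∧ (¬ s = -1 → x a ∈ Submodule.span F {a} ∧ x b ∈ Submodule.span F {b})) := by
  have hskew : ∀ u v, B u v = -B v u := fun u v => by
    have h := hB (u + v)
    simp only [map_add, LinearMap.add_apply, hB, zero_add, add_zero] at h
    linear_combination h
  obtain ⟨y, hy, hy0⟩ := Submodule.exists_mem_ne_zero_of_ne_bot hne
  rcases hs with rfl | rfl
  · have hne1 : (1 : F) ≠ -1 := fun h => h2 (by linear_combination h)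
    simp only [one_smul] at hxs
    obtain ⟨a, ε, ha, ha0, hε, hxa⟩ : ∃ (a : V) (ε : F), a ∈ Y ∧ a ≠ 0 ∧ ε * ε = 1 ∧ x a = ε • a := by
      by_cases h : y + x y = 0
      · refine ⟨y, -1, hy, hy0, by ring, ?_⟩
        rw [neg_smul, one_smul]
        exact (neg_eq_of_add_eq_zero_right h).symm
      · exact ⟨y + x y, 1, Y.add_mem hy (hY _ hy), h, one_mul _, by rw [map_add, hxs, one_smul, add_comm]⟩
    obtain ⟨w, hw, haw⟩ := hnd a ha ha0
    refine ⟨a, w + ε • x w, ha, Y.add_mem hw (Y.smul_mem _ (hY _ hw)), ?_, fun h => absurd h hne1, fun _ => ⟨?_, ?_⟩⟩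
    · have h : B a (x w) = ε * B a w := by
        rw [← hx a (x w), hxs, hxa, map_smul, LinearMap.smul_apply, smul_eq_mul]
      rw [map_add, map_smul, smul_eq_mul, h, ← mul_assoc, hε, one_mul, ← two_mul]
      exact mul_ne_zero h2 haw
    · exact hxa ▸ Submodule.smul_mem _ _ (Submodule.mem_span_singleton_self a)
    · refine Submodule.mem_span_singleton.mpr ⟨ε, ?_⟩
      rw [map_add, map_smul, hxs, smul_add, smul_smul, hε, one_smul, add_comm]
  · simp only [neg_smul, one_smul] at hxs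
    obtain ⟨a, ha, haa⟩ : ∃ a ∈ Y, B a (x a) ≠ 0 := by
      by_contra hcon
      simp only [not_exists, not_and, not_not] at hcon
      obtain ⟨w, hw, hyw⟩ := hnd y hy hy0
      have hsym : B (x w) (x y) = B y w * -1 := by rw [hx, hskew]; ring
      have h := hcon _ (Y.add_mem hy (hY _ hw))
      rw [map_add x, hxs] at h
      simp only [map_add, map_neg, LinearMap.add_apply, hcon y hy, hsym] at h
      have h4 : B (x w) w = 0 := by rw [hskew, hcon w hw, neg_zero]
      rw [h4] at h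
      exact hyw ((mul_eq_zero.mp (show (2 : F) * B y w = 0 by linear_combination -h)).resolve_left h2)
    exact ⟨a, x a, ha, hY _ ha, haa, fun _ => ⟨rfl, hxs a⟩, fun h => absurd rfl h⟩

theorem hasLagPair_aux (B : LinearMap.BilinForm F V) (hB : ∀ v, B v v = 0) (x : V →ₗ[F] V)
    (hx : ∀ u v, B (x u) (x v) = B u v) (h2 : (2 : F) ≠ 0) (s : F) (hs : s = 1 ∨ s = -1)
    (hxs : ∀ v, x (x v) = s • v) : ∀ (n : ℕ) (Y : Submodule F V), Module.finrank F Y ≤ n → (∀ y ∈ Y, x y ∈ Y) →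
    (∀ y ∈ Y, y ≠ 0 → ∃ w ∈ Y, B y w ≠ 0) → HasLagPair B x (s = -1) Y := by
  intro n
  induction n with
  | zero =>
    intro Y hY _ _
    have hbot : Y = ⊥ := Submodule.finrank_eq_zero.mp (by omega)
    exact ⟨⊥, ⊥, by simp [hbot], by simp, by simp, by simp, fun _ => by simp, fun _ => by simp⟩
  | succ n ih =>
    intro Y hdim hY hnd
    by_cases hne : Y = ⊥
    · exact ⟨⊥, ⊥, by simp [hne], by simp, by simp, by simp, fun _ => by simp, fun _ => by simp⟩
    obtain ⟨a, b, ha, hb, hab, hsw, hfix⟩ := exists_stable_pair B hB x hx h2 s hs hxs Y hY hnd hne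
    have hskew : ∀ u v, B u v = -B v u := fun u v => by
      have h := hB (u + v)
      simp only [map_add, LinearMap.add_apply, hB, zero_add, add_zero] at h
      linear_combination h
    set Y' : Submodule F V := Y ⊓ LinearMap.ker (B a) ⊓ LinearMap.ker (B b) with hY'
    have mem : ∀ v, v ∈ Y' ↔ v ∈ Y ∧ B a v = 0 ∧ B b v = 0 := fun v => by
      simp [hY', and_assoc]
    have hsplit : ∀ v ∈ Y, ∃ α β : F, v - α • a - β • b ∈ Y' := fun v hv => by
      refine ⟨-(B b v) / B a b, B a v / B a b, (mem _).mpr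
        ⟨Y.sub_mem (Y.sub_mem hv (Y.smul_mem _ ha)) (Y.smul_mem _ hb), ?_, ?_⟩⟩
      · simp only [map_sub, map_smul, hB, smul_eq_mul]; field_simp; ring
      · simp only [map_sub, map_smul, hB, hskew b a, smul_eq_mul]; field_simp; ring
    have hxinv : ∀ v, B a (x v) = 0 ∧ B b (x v) = 0 ↔ B a v = 0 ∧ B b v = 0 := by
      intro v
      have e : ∀ c u, B (x c) (x u) = B c u := hx
      by_cases hsm : s = -1
      · obtain ⟨h1, h2'⟩ := hsw hsm
        have e1 : B b (x v) = B a v := by rw [← h1, e]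
        have e2 : B a (x v) = -B b v := by
          rw [← e b v, h2', map_neg, LinearMap.neg_apply, neg_neg]
        rw [e1, e2, neg_eq_zero, and_comm]
      · obtain ⟨h1, h2'⟩ := hfix hsm
        obtain ⟨α, hα⟩ := Submodule.mem_span_singleton.mp h1
        obtain ⟨β, hβ⟩ := Submodule.mem_span_singleton.mp h2'
        have e1 : α * B a (x v) = B a v := by rw [← e a v, ← hα, map_smul, LinearMap.smul_apply, smul_eq_mul]
        have e2 : β * B b (x v) = B b v := by rw [← e b v, ← hβ, map_smul, LinearMap.smul_apply, smul_eq_mul]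
        have h0 := e a b
        rw [← hα, ← hβ, map_smul, map_smul, LinearMap.smul_apply, smul_eq_mul, smul_eq_mul] at h0
        have hα0 : α ≠ 0 := fun h => hab (by rw [← h0, h]; ring)
        have hβ0 : β ≠ 0 := fun h => hab (by rw [← h0, h]; ring)
        rw [← e1, ← e2]
        simp [hα0, hβ0]
    have hY'x : ∀ v ∈ Y', x v ∈ Y' := fun v hv => by
      obtain ⟨h1, h2', h3⟩ := (mem v).mp hv
      exact (mem _).mpr ⟨hY v h1, (hxinv v).mpr ⟨h2', h3⟩⟩
    have hY'nd : ∀ y ∈ Y', y ≠ 0 → ∃ w ∈ Y', B y w ≠ 0 := fun y hy hy0 => by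
      obtain ⟨h1, h2', h3⟩ := (mem y).mp hy
      obtain ⟨w, hw, hyw⟩ := hnd y h1 hy0
      obtain ⟨α, β, hw'⟩ := hsplit w hw
      exact ⟨_, hw', by simpa [map_sub, map_smul, hskew y a, hskew y b, h2', h3] using hyw⟩
    have hlt : Y' < Y := lt_of_le_of_ne (fun v hv => ((mem v).mp hv).1) fun h =>
      hab (by simpa using ((mem b).mp (h ▸ hb)).2.1)
    obtain ⟨U, W, hUW, hinf, hU, hW, hsw', hfix'⟩ :=
      ih Y' (by have := Submodule.finrank_lt_finrank_of_lt hlt; omega) hY'x hY'nd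
    have hUle : U ≤ Y' := hUW ▸ le_sup_left
    have hWle : W ≤ Y' := hUW ▸ le_sup_right
    have iso : ∀ (P : Submodule F V) (c : V), P ≤ Y' → (∀ u ∈ P, ∀ v ∈ P, B u v = 0) →
        (∀ v ∈ Y', B c v = 0) → ∀ u ∈ P ⊔ Submodule.span F {c}, ∀ v ∈ P ⊔ Submodule.span F {c}, B u v = 0 := by
      intro P c hP hPi hc u₀ hu₀ v₀ hv₀
      obtain ⟨u, hu, u', hu', rfl⟩ := Submodule.mem_sup.mp hu₀
      obtain ⟨v, hv, v', hv', rfl⟩ := Submodule.mem_sup.mp hv₀
      obtain ⟨α, rfl⟩ := Submodule.mem_span_singleton.mp hu'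
      obtain ⟨β, rfl⟩ := Submodule.mem_span_singleton.mp hv'
      simp [hPi u hu v hv, hc v (hP hv), hskew u c, hc u (hP hu), hB]
    have hca : ∀ v ∈ Y', B a v = 0 := fun v hv => ((mem v).mp hv).2.1
    have hcb : ∀ v ∈ Y', B b v = 0 := fun v hv => ((mem v).mp hv).2.2
    refine ⟨U ⊔ Submodule.span F {a}, W ⊔ Submodule.span F {b}, ?_, ?_, iso U a hUle hU hca, iso W b hWle hW hcb, ?_, ?_⟩
    · refine le_antisymm ?_ fun v hv => ?_
      · simp only [sup_le_iff, Submodule.span_singleton_le_iff_mem]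
        exact ⟨⟨hUle.trans hlt.le, ha⟩, hWle.trans hlt.le, hb⟩
      · obtain ⟨α, β, hv'⟩ := hsplit v hv
        obtain ⟨u, hu, w, hw, huw⟩ := Submodule.mem_sup.mp (hUW.ge hv')
        refine Submodule.mem_sup.mpr ⟨u + α • a, Submodule.add_mem_sup hu (Submodule.smul_mem _ _ (Submodule.mem_span_singleton_self a)),
          w + β • b, Submodule.add_mem_sup hw (Submodule.smul_mem _ _ (Submodule.mem_span_singleton_self b)), ?_⟩
        rw [show u + α • a + (w + β • b) = (u + w) + α • a + β • b by abel, huw]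
        abel
    · rw [eq_bot_iff]
      rintro v ⟨hv1, hv2⟩
      obtain ⟨u, hu, u', hu', rfl⟩ := Submodule.mem_sup.mp hv1
      obtain ⟨w, hw, w', hw', hw''⟩ := Submodule.mem_sup.mp hv2
      obtain ⟨α, rfl⟩ := Submodule.mem_span_singleton.mp hu'
      obtain ⟨β, rfl⟩ := Submodule.mem_span_singleton.mp hw'
      have h1 := congrArg (B a) hw''
      have h2' := congrArg (B b) hw''
      simp only [map_add, map_smul, hB, hca u (hUle hu), hca w (hWle hw), hcb u (hUle hu), hcb w (hWle hw),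
        hskew b a, smul_eq_mul, mul_zero, add_zero, zero_add] at h1 h2'
      have hβ : β = 0 := (mul_eq_zero.mp h1).resolve_right hab
      have hα : α = 0 := (mul_eq_zero.mp h2'.symm).resolve_right (neg_ne_zero.mpr hab)
      subst hα hβ
      simp only [zero_smul, add_zero] at hw'' ⊢
      subst hw''
      exact (Submodule.mem_bot F).mpr ((Submodule.mem_bot F).mp (hinf.le ⟨hu, hw⟩))
    · intro hsm
      obtain ⟨h1, h2'⟩ := hsw hsm
      obtain ⟨h3, h4⟩ := hsw' hsm
      constructor <;> rw [Submodule.map_sup] <;> refine sup_le_sup (by assumption) ?_ <;>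
        rw [Submodule.map_span, Set.image_singleton, Submodule.span_singleton_le_iff_mem]
      · rw [h1]; exact Submodule.mem_span_singleton_self _
      · rw [h2']; exact Submodule.neg_mem _ (Submodule.mem_span_singleton_self _)
    · intro hsm
      obtain ⟨h1, h2'⟩ := hfix hsm
      obtain ⟨h3, h4⟩ := hfix' hsm
      constructor <;> rw [Submodule.map_sup] <;> refine sup_le_sup (by assumption) ?_ <;>
        rw [Submodule.map_span, Set.image_singleton, Submodule.span_singleton_le_iff_mem] <;> assumption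

theorem exists_lag_pair (B : LinearMap.BilinForm F V) (hB : ∀ v, B v v = 0) (hnd : ∀ y, y ≠ 0 → ∃ w, B y w ≠ 0)
    (x : V →ₗ[F] V) (hx : ∀ u v, B (x u) (x v) = B u v) (h2 : (2 : F) ≠ 0) (hV : ∃ v : V, v ≠ 0) (z : F)
    (hxz : ∀ v, x (x v) = z • v) :
    ∃ U W : Submodule F V, IsCompl U W ∧ (∀ u ∈ U, ∀ v ∈ U, B u v = 0) ∧ (∀ u ∈ W, ∀ v ∈ W, B u v = 0) ∧
      ((U.map x = U ∧ W.map x = W) ∨ (U.map x = W ∧ W.map x = U)) := by
  obtain ⟨v, hv⟩ := hV
  obtain ⟨w, hw⟩ := hnd v hv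
  have hz : z * z = 1 := by
    have h := hx (x v) (x w)
    rw [hx v w, hxz, hxz, map_smul, map_smul, LinearMap.smul_apply, smul_eq_mul, smul_eq_mul] at h
    exact mul_right_cancel₀ hw (by linear_combination h)
  obtain ⟨U, W, hUW, hinf, hU, hW, hsw, hfix⟩ := hasLagPair_aux B hB x hx h2 z (mul_self_eq_one_iff.mp hz) hxz _ ⊤ le_rfl
    (fun _ _ => Submodule.mem_top) (fun y _ hy => (hnd y hy).imp fun w hw => ⟨Submodule.mem_top, hw⟩)
  refine ⟨U, W, ⟨disjoint_iff.mpr hinf, codisjoint_iff.mpr hUW⟩, hU, hW, ?_⟩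
  have back : ∀ P Q : Submodule F V, Q.map x ≤ P → Q ≤ P.map x := fun P Q h q hq => by
    refine ⟨z • x q, P.smul_mem _ (h ⟨q, hq, rfl⟩), ?_⟩
    rw [map_smul, hxz, smul_smul, hz, one_smul]
  by_cases hsm : z = -1
  · obtain ⟨h1, h2'⟩ := hsw hsm
    exact Or.inr ⟨le_antisymm h1 (back U W h2'), le_antisymm h2' (back W U h1)⟩
  · obtain ⟨h1, h2'⟩ := hfix hsm
    exact Or.inl ⟨le_antisymm h1 (back U U h1), le_antisymm h2' (back W W h2')⟩

end CfsgLib.MaxSub
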