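/-
Lattice complements of subgroups, and setwise stabilisers of a half of a finite set.
-/
import Mathlib

set_option autoImplicit false
set_option linter.unusedSectionVars false
set_option linter.style.haveILetI false

namespace CfsgLib.MaxSub

open MulAction
open scoped Pointwise

variable {G : Type*} [Group G] [Finite G]

theorem exists_compl {T X M : Subgroup G} (hTX : T ≤ X)
    (hint : ∀ Y : Subgroup G, T ≤ Y → Y ≤ X → ∃ C : Subgroup G, T ≤ C ∧ C ≤ X ∧ Y ⊔ C = X ∧ Y ⊓ C = T)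
    (huniq : ∀ M' : Subgroup G, IsCoatom M' → X ≤ M' → M' = M)
    {H : Subgroup G} (hH : ¬ H ≤ M) (hHT : H ⊓ T = ⊥) : ∃ C : Subgroup G, H ⊔ C = ⊤ ∧ H ⊓ C = ⊥ := by
  obtain ⟨C, hTC, hCX, hYC, hYC'⟩ := hint ((H ⊓ X) ⊔ T) le_sup_right (sup_le inf_le_right hTX)
  refine ⟨C, ?_, ?_⟩
  · by_contra hne
    obtain ⟨M', hM', hle⟩ := (eq_top_or_exists_le_coatom (H ⊔ C)).resolve_left hne
    have hX : X ≤ M' := by
      rw [← hYC]
      exact sup_le (sup_le (inf_le_left.trans (le_sup_left.trans hle)) (hTC.trans (le_sup_right.trans hle)))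
        (le_sup_right.trans hle)
    exact hH (huniq M' hM' hX ▸ le_sup_left.trans hle)
  · refine eq_bot_iff.mpr (le_trans ?_ hHT.le)
    refine le_inf inf_le_left ((le_inf ?_ inf_le_right).trans hYC'.le)
    exact (le_inf inf_le_left (inf_le_right.trans hCX)).trans le_sup_left

omit [Finite G] in
theorem interval_bot {X : Subgroup G} (hK : ComplementedLattice (Subgroup X)) (Y : Subgroup G) (hY : Y ≤ X) :
    ∃ C : Subgroup G, ⊥ ≤ C ∧ C ≤ X ∧ Y ⊔ C = X ∧ Y ⊓ C = ⊥ := by
  obtain ⟨C, hC⟩ := exists_isCompl (Y.subgroupOf X)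
  refine ⟨C.map X.subtype, bot_le, Subgroup.map_subtype_le C, ?_, ?_⟩
  · have := congrArg (Subgroup.map X.subtype) hC.sup_eq_top
    rwa [Subgroup.map_sup, Subgroup.map_subgroupOf_eq_of_le hY, ← MonoidHom.range_eq_map, Subgroup.range_subtype] at this
  · have := congrArg (Subgroup.map X.subtype) hC.inf_eq_bot
    rwa [Subgroup.map_inf _ _ _ X.subtype_injective, Subgroup.map_subgroupOf_eq_of_le hY, Subgroup.map_bot] at this

/-- Complements transported by conjugation. -/
theorem compl_of_conj {H : Subgroup G} (b : G) {C : Subgroup G}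
    (h1 : H.map (MulAut.conj b).toMonoidHom ⊔ C = ⊤) (h2 : H.map (MulAut.conj b).toMonoidHom ⊓ C = ⊥) :
    ∃ C' : Subgroup G, H ⊔ C' = ⊤ ∧ H ⊓ C' = ⊥ := by
  set e := MulAut.conj b
  have hH : (H.map e.toMonoidHom).map e.symm.toMonoidHom = H := by
    rw [Subgroup.map_map]
    convert Subgroup.map_id H
    ext x; simp
  refine ⟨C.map e.symm.toMonoidHom, ?_, ?_⟩
  · have := congrArg (Subgroup.map e.symm.toMonoidHom) h1
    rwa [Subgroup.map_sup, hH, Subgroup.map_top_of_surjective _ e.symm.surjective] at this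
  · have := congrArg (Subgroup.map e.symm.toMonoidHom) h2
    rwa [Subgroup.map_inf _ _ _ e.symm.injective, hH, Subgroup.map_bot] at this

theorem exists_compl_of_not_le_core {X M : Subgroup G} (hK : ComplementedLattice (Subgroup X))
    (huniq : ∀ M' : Subgroup G, IsCoatom M' → X ≤ M' → M' = M) {H : Subgroup G} (hH : ¬ H ≤ M.normalCore) :
    ∃ C : Subgroup G, H ⊔ C = ⊤ ∧ H ⊓ C = ⊥ := by
  obtain ⟨h, hh, hn⟩ := SetLike.not_le_iff_exists.mp hH
  obtain ⟨b, hb⟩ : ∃ b : G, b * h * b⁻¹ ∉ M := by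
    by_contra hc
    simp only [not_exists, not_not] at hc
    exact hn hc
  obtain ⟨C, h1, h2⟩ := exists_compl (T := ⊥) bot_le (fun Y _ hY => interval_bot hK Y hY) huniq
    (H := H.map (MulAut.conj b).toMonoidHom) (fun hle => hb (hle ⟨h, hh, rfl⟩)) (inf_bot_eq _)
  exact compl_of_conj b h1 h2

theorem complementedLattice_quot_core {X M : Subgroup G} (hK : ComplementedLattice (Subgroup X))
    (huniq : ∀ M' : Subgroup G, IsCoatom M' → X ≤ M' → M' = M) :
    ComplementedLattice (Subgroup (G ⧸ M.normalCore)) := by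
  refine ⟨fun Hb => ?_⟩
  set π := QuotientGroup.mk' M.normalCore
  have hsurj : Function.Surjective π := QuotientGroup.mk'_surjective _
  by_cases hle : Hb.comap π ≤ M.normalCore
  · have : Hb = ⊥ := by
      rw [← Subgroup.map_comap_eq_self_of_surjective hsurj Hb, Subgroup.map_eq_bot_iff, QuotientGroup.ker_mk']
      exact hle
    exact ⟨⊤, this ▸ isCompl_bot_top⟩
  obtain ⟨C, h1, h2⟩ := exists_compl_of_not_le_core hK huniq hle
  refine ⟨C.map π, IsCompl.of_eq ?_ ?_⟩
  · refine (Subgroup.eq_bot_iff_forall _).mpr fun x hx => ?_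
    obtain ⟨hx1, c, hc, rfl⟩ := Subgroup.mem_inf.mp hx
    have : c ∈ Hb.comap π ⊓ C := Subgroup.mem_inf.mpr ⟨hx1, hc⟩
    rw [h2, Subgroup.mem_bot] at this
    rw [this, map_one]
  · have := congrArg (Subgroup.map π) h1
    rwa [Subgroup.map_sup, Subgroup.map_comap_eq_self_of_surjective hsurj, Subgroup.map_top_of_surjective _ hsurj] at this

omit [Finite G] in
theorem interval_quot {X N : Subgroup G} (hNX : N ≤ X) [(N.subgroupOf X).Normal]
    (hK : ComplementedLattice (Subgroup (X ⧸ N.subgroupOf X))) (Y : Subgroup G) (hNY : N ≤ Y) (hY : Y ≤ X) :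
    ∃ C : Subgroup G, N ≤ C ∧ C ≤ X ∧ Y ⊔ C = X ∧ Y ⊓ C = N := by
  set π := QuotientGroup.mk' (N.subgroupOf X)
  have hsurj : Function.Surjective π := QuotientGroup.mk'_surjective _
  obtain ⟨Cb, hC⟩ := exists_isCompl ((Y.subgroupOf X).map π)
  have hker : N.subgroupOf X ≤ Cb.comap π := fun x hx => by
    rw [Subgroup.mem_comap, show π x = 1 from (QuotientGroup.eq_one_iff x).mpr hx]
    exact Cb.one_mem
  refine ⟨(Cb.comap π).map X.subtype, ?_, Subgroup.map_subtype_le _, ?_, ?_⟩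
  · exact (Subgroup.map_subgroupOf_eq_of_le hNX).symm.trans_le (Subgroup.map_mono hker)
  · have htop : Y.subgroupOf X ⊔ Cb.comap π = ⊤ := by
      rw [← Subgroup.comap_map_eq_self (f := π) (H := Y.subgroupOf X ⊔ Cb.comap π)
        (by rw [QuotientGroup.ker_mk']; exact hker.trans le_sup_right), Subgroup.map_sup,
        Subgroup.map_comap_eq_self_of_surjective hsurj, hC.sup_eq_top, Subgroup.comap_top]
    have := congrArg (Subgroup.map X.subtype) htop
    rwa [Subgroup.map_sup, Subgroup.map_subgroupOf_eq_of_le hY, ← MonoidHom.range_eq_map, Subgroup.range_subtype] at this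
  · refine le_antisymm ?_ (le_inf hNY ?_)
    · intro y hy
      obtain ⟨hyY, z, hz, rfl⟩ := Subgroup.mem_inf.mp hy
      have : π z ∈ (Y.subgroupOf X).map π ⊓ Cb := Subgroup.mem_inf.mpr ⟨⟨z, hyY, rfl⟩, hz⟩
      rw [hC.inf_eq_bot, Subgroup.mem_bot] at this
      exact (QuotientGroup.eq_one_iff z).mp this
    · exact (Subgroup.map_subgroupOf_eq_of_le hNX).symm.trans_le (Subgroup.map_mono hker)

theorem complementedLattice_simple [IsSimpleGroup G] {X M N : Subgroup G}
    (huniq : ∀ M' : Subgroup G, IsCoatom M' → X ≤ M' → M' = M)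
    (hNX : N ≤ X) (hN : (Nat.card N).Prime) (hcen : ∀ n ∈ N, ∀ m ∈ M, m * n = n * m)
    [(N.subgroupOf X).Normal] (hK : ComplementedLattice (Subgroup (X ⧸ N.subgroupOf X))) :
    ComplementedLattice (Subgroup G) := by
  refine ⟨fun H => ?_⟩
  by_cases hb : H = ⊥
  · exact ⟨⊤, hb ▸ isCompl_bot_top⟩
  by_cases ht : H = ⊤
  · exact ⟨⊥, ht ▸ isCompl_top_bot⟩
  obtain ⟨g, hg1, hg2⟩ : ∃ g : G, ¬ H.map (MulAut.conj g).toMonoidHom ≤ M ∧ ¬ N ≤ H.map (MulAut.conj g).toMonoidHom := by
    by_contra hc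
    simp only [not_exists, not_and, not_not] at hc
    have hnorm : Subgroup.normalClosure (N : Set G) ≤ Subgroup.normalizer (H : Set G) := by
      rw [Subgroup.normalClosure, Subgroup.closure_le]
      intro x hx
      obtain ⟨n, hn, hnx⟩ := Group.mem_conjugatesOfSet_iff.mp hx
      obtain ⟨g, rfl⟩ := isConj_iff.mp hnx
      by_cases hle : H.map (MulAut.conj g⁻¹).toMonoidHom ≤ M
      · refine SetLike.mem_coe.mpr (Subgroup.mem_normalizer_iff.mpr fun h => ?_)
        have hcomm : ∀ h ∈ H, g * n * g⁻¹ * h = h * (g * n * g⁻¹) := fun h hh => by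
          have hm : g⁻¹ * h * g ∈ M := hle ⟨h, hh, by simp⟩
          calc g * n * g⁻¹ * h = g * (n * (g⁻¹ * h * g)) * g⁻¹ := by group
            _ = g * ((g⁻¹ * h * g) * n) * g⁻¹ := by rw [hcen n hn _ hm]
            _ = h * (g * n * g⁻¹) := by group
        constructor <;> intro hh
        · rw [hcomm h hh, mul_inv_cancel_right]; exact hh
        · have h' := hcomm _ hh
          have : h = g * n * g⁻¹ * h * (g * n * g⁻¹)⁻¹ := by
            calc h = (g * n * g⁻¹)⁻¹ * (g * n * g⁻¹ * h * (g * n * g⁻¹)⁻¹ * (g * n * g⁻¹)) := by group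
              _ = (g * n * g⁻¹)⁻¹ * (g * n * g⁻¹ * (g * n * g⁻¹ * h * (g * n * g⁻¹)⁻¹)) := by rw [h']
              _ = _ := by group
          rwa [this]
      · obtain ⟨h, hh, he⟩ := hc g⁻¹ hle hn
        refine Subgroup.le_normalizer (?_ : g * n * g⁻¹ ∈ H)
        rw [← he]
        simpa [mul_assoc] using hh
    have htop : Subgroup.normalClosure (N : Set G) = ⊤ := by
      refine (Subgroup.normalClosure_normal.eq_bot_or_eq_top).resolve_left fun e => ?_
      have hN1 : N = ⊥ := le_bot_iff.mp (e ▸ Subgroup.subset_normalClosure)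
      rw [hN1, Subgroup.card_bot] at hN
      exact Nat.not_prime_one hN
    have hn : H.Normal := Subgroup.normalizer_eq_top_iff.mp (top_le_iff.mp (htop ▸ hnorm))
    exact (hn.eq_bot_or_eq_top).elim hb ht
  have hinf : H.map (MulAut.conj g).toMonoidHom ⊓ N = ⊥ := by
    rcases hN.eq_one_or_self_of_dvd _ (Subgroup.card_dvd_of_le (inf_le_right : H.map (MulAut.conj g).toMonoidHom ⊓ N ≤ N)) with e | e
    · exact Subgroup.card_eq_one.mp e
    · exact absurd (Subgroup.eq_of_le_of_card_ge inf_le_right e.ge ▸ inf_le_left) hg2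
  obtain ⟨C, h1, h2⟩ := exists_compl hNX (fun Y h h' => interval_quot hNX hK Y h h') huniq hg1 hinf
  obtain ⟨C', h1', h2'⟩ := compl_of_conj g h1 h2
  exact ⟨C', IsCompl.of_eq h2' h1'⟩

/-- A half of a finite set: its stabiliser is not maximal. -/
theorem not_isCoatom_half {Ω : Type*} [Finite Ω] (hΩ : 2 < Nat.card Ω) (O : Set Ω)
    (hO : Nat.card O = Nat.card ↥Oᶜ) : ¬ IsCoatom (stabilizer (Equiv.Perm Ω) O) := by
  classical
  intro hco
  let K : Subgroup (Equiv.Perm Ω) :=
    { carrier := {σ | σ • O = O ∨ σ • O = Oᶜ}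
      one_mem' := Or.inl (one_smul _ _)
      mul_mem' := by
        intro s t hs ht
        have hc : ∀ σ : Equiv.Perm Ω, σ • Oᶜ = (σ • O)ᶜ := fun σ => Set.smul_set_compl
        show (s * t) • O = O ∨ (s * t) • O = Oᶜ
        rw [mul_smul]
        rcases ht with h | h <;> rw [h]
        · exact hs
        · rw [hc]
          rcases hs with h' | h' <;> rw [h']
          · exact Or.inr rfl
          · exact Or.inl (compl_compl O)
      inv_mem' := by
        intro s hs
        show s⁻¹ • O = O ∨ s⁻¹ • O = Oᶜ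
        rcases hs with h | h
        · exact Or.inl (inv_smul_eq_iff.mpr h.symm)
        · refine Or.inr (inv_smul_eq_iff.mpr ?_)
          rw [Set.smul_set_compl, h, compl_compl] }
  obtain ⟨e⟩ : Nonempty (O ≃ ↥Oᶜ) := ⟨(Finite.card_eq.mp hO).some⟩
  have hsum : Nat.card O + Nat.card ↥Oᶜ = Nat.card Ω := by
    rw [← Nat.card_sum]
    exact Nat.card_congr (Equiv.Set.sumCompl O)
  have h2 : 2 ≤ Nat.card O := by omega
  haveI := Finite.one_lt_card_iff_nontrivial.mp (show 1 < Nat.card O by omega)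
  obtain ⟨⟨x, hx⟩, ⟨y, hy⟩, hxy⟩ := exists_pair_ne O
  have hxy' : x ≠ y := fun h => hxy (Subtype.ext h)
  let σ : Equiv.Perm Ω :=
    ((Equiv.Set.sumCompl O).symm.trans ((Equiv.sumCongr e e.symm).trans (Equiv.sumComm _ _))).trans (Equiv.Set.sumCompl O)
  have hσ1 : ∀ z ∈ O, σ z ∈ Oᶜ := fun z hz => by
    simp only [σ, Equiv.trans_apply, Equiv.Set.sumCompl_symm_apply_of_mem hz, Equiv.sumCongr_apply, Sum.map_inl,
      Equiv.sumComm_apply, Sum.swap_inl, Equiv.Set.sumCompl_apply_inr]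
    exact (e ⟨z, hz⟩).2
  have hσO : σ • O = Oᶜ := by
    refine Set.eq_of_subset_of_ncard_le ?_ ?_ (Set.toFinite _)
    · rintro _ ⟨z, hz, rfl⟩
      exact hσ1 z hz
    · rw [Set.ncard_smul_set, ← Nat.card_coe_set_eq, ← Nat.card_coe_set_eq, hO]
  have hlt : stabilizer (Equiv.Perm Ω) O < K := by
    refine lt_of_le_of_ne (fun s hs => Or.inl hs) fun h => ?_
    have hσ : σ ∈ stabilizer (Equiv.Perm Ω) O := h ▸ (Or.inr hσO : σ ∈ K)
    have : x ∈ σ • O := (mem_stabilizer_iff.mp hσ).symm ▸ hx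
    rw [hσO] at this
    exact this hx
  have hK := hco.2 K hlt
  have hz : σ x ∈ Oᶜ := hσ1 x hx
  have hsw : Equiv.swap x (σ x) ∈ K := hK ▸ Subgroup.mem_top _
  have hmem : σ x ∈ Equiv.swap x (σ x) • O := ⟨x, hx, by simp⟩
  have hy' : y ∈ Equiv.swap x (σ x) • O :=
    ⟨y, hy, Equiv.swap_apply_of_ne_of_ne hxy'.symm (fun h => hz (Eq.subst (motive := fun t => t ∈ O) h hy))⟩
  rcases hsw with h | h
  · exact hz (h ▸ hmem)
  · exact (h ▸ hy' : y ∈ Oᶜ) hy

end CfsgLib.MaxSub
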