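/-
Stabilisers of tensor decompositions `Sp₂(2) ⊗ Sp_m(2)` normalise an element of order three
of `Sp₂(2)` and are not maximal in `Ω`.
-/
import Cfsg.Agent.Lib.MaxSub.NotMaximalOrthTensor

set_option autoImplicit false
set_option maxHeartbeats 400000

namespace CfsgLib.MaxSub.OrthTensorTwo

open QuadraticMap Module CfsgLib.WittExtension CfsgLib.Eichler Cfsg.Geo Matrix
open CfsgLib.OmegaSimple (eich_mem)
open CfsgLib.MaxSub.Orth
open scoped Kronecker

/-- The elements conjugating `T` to itself or to its inverse. -/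
def signNormalizer {G : Type*} [Group G] (T : G) : Subgroup G where
  carrier := {g | g * T * g⁻¹ = T ∨ g * T * g⁻¹ = T⁻¹}
  one_mem' := Or.inl (by simp)
  mul_mem' {a b} ha hb := by
    have h : a * b * T * (a * b)⁻¹ = a * (b * T * b⁻¹) * a⁻¹ := by group
    simp only [Set.mem_setOf_eq] at ha hb ⊢
    rcases hb with hb | hb <;> rw [hb] at h
    · rw [h]; exact ha
    · rw [show a * T⁻¹ * a⁻¹ = (a * T * a⁻¹)⁻¹ by group] at h
      rcases ha with ha | ha <;> rw [ha] at h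
      · exact Or.inr h
      · exact Or.inl (by rw [h, inv_inv])
  inv_mem' {a} ha := by
    simp only [Set.mem_setOf_eq, inv_inv] at ha ⊢
    rcases ha with ha | ha
    · left
      conv_lhs => rw [← ha]
      group
    · right
      calc a⁻¹ * T * a = a⁻¹ * (a * T * a⁻¹)⁻¹ * a := by rw [ha, inv_inv]
        _ = T⁻¹ := by group

variable {F : Type*} [Field F] [Fintype F]

theorem eq_zero_or_one (hq : Fintype.card F = 2) (a : F) : a = 0 ∨ a = 1 := by
  classical
  by_contra h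
  push Not at h
  have h1 := Finset.card_le_univ ({0, 1, a} : Finset F)
  rw [Finset.card_insert_of_notMem (by simp [h.1.symm]),
    Finset.card_pair h.2.symm, hq] at h1
  omega

variable {ι : Type} [Fintype ι] [DecidableEq ι] {n₂ : ℕ}

/-- A pure tensor in the space. -/
def ptens (e : ι ≃ Fin 2 × Fin n₂) (P : GL ι F) :
    (Fin 2 → F) →ₗ[F] (Fin n₂ → F) →ₗ[F] (ι → F) :=
  LinearMap.mk₂ F (fun x y => (P : Matrix ι ι F) *ᵥ ((fun p => x p.1 * y p.2) ∘ e))
    (fun x x' y => by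
      rw [← Matrix.mulVec_add]; congr 1; funext i; simp [add_mul])
    (fun c x y => by
      rw [← Matrix.mulVec_smul]; congr 1; funext i; simp [mul_assoc])
    (fun x y y' => by
      rw [← Matrix.mulVec_add]; congr 1; funext i; simp [mul_add])
    (fun c x y => by
      rw [← Matrix.mulVec_smul]; congr 1; funext i; simp [mul_left_comm])

omit [Fintype F] in
theorem frU_ptens (e : ι ≃ Fin 2 × Fin n₂) (P : GL ι F) {X : GL (Fin 2 × Fin n₂) F}
    {A : Matrix (Fin 2) (Fin 2) F} {B : Matrix (Fin n₂) (Fin n₂) F}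
    (hX : (X : Matrix (Fin 2 × Fin n₂) (Fin 2 × Fin n₂) F) = A ⊗ₖ B)
    (u : Fin 2 → F) (v : Fin n₂ → F) :
    ((Aschbacher.frU e P X : GL ι F) : Matrix ι ι F) *ᵥ ptens e P u v =
      ptens e P (A *ᵥ u) (B *ᵥ v) := by
  show _ *ᵥ ((P : Matrix ι ι F) *ᵥ ((fun p => u p.1 * v p.2) ∘ e)) = _
  rw [Aschbacher.frU_val, Aschbacher.frAlg_mulVec, hX]
  refine congrArg (fun z : Fin 2 × Fin n₂ → F => (P : Matrix ι ι F) *ᵥ (z ∘ e)) ?_
  funext p
  simp only [Matrix.mulVec, dotProduct, Matrix.kroneckerMap_apply, Fintype.sum_prod_type,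
    Finset.sum_mul, Finset.mul_sum]
  conv_rhs => rw [Finset.sum_comm]
  refine Finset.sum_congr rfl fun i _ => Finset.sum_congr rfl fun j _ => ?_
  ring

omit [Fintype F] in
theorem ext_ptens (e : ι ≃ Fin 2 × Fin n₂) (P : GL ι F) {g h : GL ι F}
    (hgh : ∀ u v, (g : Matrix ι ι F) *ᵥ ptens e P u v = (h : Matrix ι ι F) *ᵥ ptens e P u v) :
    g = h := by
  have h1 : (g : Matrix ι ι F) * (P : Matrix ι ι F) = (h : Matrix ι ι F) * (P : Matrix ι ι F) := by
    refine Matrix.ext_of_mulVec_single fun j => ?_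
    have h2 : Pi.single j (1 : F) =
        (fun p : Fin 2 × Fin n₂ => (Pi.single (e j).1 1 : Fin 2 → F) p.1 *
          (Pi.single (e j).2 1 : Fin n₂ → F) p.2) ∘ e := by
      funext i
      simp only [Function.comp_apply, Pi.single_apply]
      by_cases hij : i = j
      · subst hij; simp
      · rw [if_neg hij]
        by_cases ha : (e i).1 = (e j).1
        · by_cases hb : (e i).2 = (e j).2
          · exact absurd (e.injective (Prod.ext ha hb)) hij
          · simp [hb]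
        · simp [ha]
    rw [← Matrix.mulVec_mulVec, ← Matrix.mulVec_mulVec, h2]
    exact hgh _ _
  exact mul_right_cancel (Units.ext h1 : g * P = h * P)

/-- The element of order three. -/
def rot (F : Type*) [Field F] : Matrix (Fin 2) (Fin 2) F := !![0, 1; 1, 1]

theorem rot_mulVec (hq : Fintype.card F = 2) (a : Fin 2 → F) :
    rot F *ᵥ a = ![a 1, a 0 + a 1] := by
  funext i
  fin_cases i <;> simp [rot, Matrix.mulVec, dotProduct, Fin.sum_univ_two]

theorem conj_rot (hq : Fintype.card F = 2) (a : GL (Fin 2) F) :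
    (a : Matrix (Fin 2) (Fin 2) F) * rot F = rot F * (a : Matrix (Fin 2) (Fin 2) F) ∨
      (a : Matrix (Fin 2) (Fin 2) F) * rot F =
        rot F * rot F * (a : Matrix (Fin 2) (Fin 2) F) := by
  have htwo : (2 : F) = 0 := by
    rcases eq_zero_or_one hq 2 with h | h
    · exact h
    · exact absurd (show (1 : F) = 0 by linear_combination h) one_ne_zero
  obtain ⟨N, hN⟩ : ∃ N, N = (a : Matrix (Fin 2) (Fin 2) F) * rot F *
      ((a⁻¹ : GL (Fin 2) F) : Matrix (Fin 2) (Fin 2) F) := ⟨_, rfl⟩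
  have hNa : (a : Matrix (Fin 2) (Fin 2) F) * rot F = N * (a : Matrix (Fin 2) (Fin 2) F) := by
    rw [hN, Matrix.mul_assoc, ← Units.val_mul, inv_mul_cancel, Units.val_one, Matrix.mul_one]
  have htr : N.trace = 1 := by
    rw [hN, Matrix.trace_mul_comm, ← Matrix.mul_assoc, ← Units.val_mul, inv_mul_cancel,
      Units.val_one, Matrix.one_mul]
    simp [rot, Matrix.trace_fin_two]
  have hdet : N.det = -1 := by
    rw [hN, Matrix.det_mul, Matrix.det_mul, mul_comm (a : Matrix (Fin 2) (Fin 2) F).det,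
      mul_assoc, ← Matrix.det_mul, ← Units.val_mul, mul_inv_cancel, Units.val_one, Matrix.det_one,
      mul_one]
    simp [rot, Matrix.det_fin_two]
  rw [Matrix.trace_fin_two] at htr
  rw [Matrix.det_fin_two] at hdet
  rw [hNa]
  rcases eq_zero_or_one hq (N 0 0) with h00 | h00
  · have h11 : N 1 1 = 1 := by linear_combination htr - h00
    have hbc : N 0 1 * N 1 0 = 1 := by
      linear_combination -hdet + N 1 1 * h00
    have h01 : N 0 1 = 1 := (eq_zero_or_one hq _).resolve_left fun h => by simp [h] at hbc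
    have h10 : N 1 0 = 1 := (eq_zero_or_one hq _).resolve_left fun h => by simp [h] at hbc
    left
    congr 1
    ext i j
    fin_cases i <;> fin_cases j <;> simp [rot, h00, h01, h10, h11]
  · have h11 : N 1 1 = 0 := by linear_combination htr - h00
    have hbc : N 0 1 * N 1 0 = 1 := by
      linear_combination -hdet + N 0 0 * h11
    have h01 : N 0 1 = 1 := (eq_zero_or_one hq _).resolve_left fun h => by simp [h] at hbc
    have h10 : N 1 0 = 1 := (eq_zero_or_one hq _).resolve_left fun h => by simp [h] at hbc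
    right
    congr 1
    ext i j
    fin_cases i <;> fin_cases j <;>
      simp [rot, Matrix.mul_apply, Fin.sum_univ_two, h00, h01, h10, h11]
    linear_combination -htwo

/-- Stabilisers of `Sp₂(2) ⊗ Sp_m(2)` are not maximal in `Ω`. -/
theorem tensor_two_not_maximal {Q : (ι → F) → F} (hQ : IsNondegenerateQuadraticForm Q)
    (hn : 5 ≤ Fintype.card ι) (hq : Fintype.card F = 2) (h2d : 3 ≤ n₂)
    (e : ι ≃ Fin 2 × Fin n₂) (P : GL ι F) (f₁ : (Fin 2 → F) → (Fin 2 → F) → F)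
    (f₂ : (Fin n₂ → F) → (Fin n₂ → F) → F) (hf₁ : IsSymplecticForm f₁) (hf₂ : IsSymplecticForm f₂)
    (hT : IsTensorFormStructure id (QuadraticMap.polar Q) f₁ f₂ e P)
    (hpure : ∀ (x₁ : Fin 2 → F) (x₂ : Fin n₂ → F),
      Q (Matrix.mulVec (P : Matrix ι ι F)
        ((fun a : Fin 2 × Fin n₂ => x₁ a.1 * x₂ a.2) ∘ e)) = 0) :
    ∃ K : Subgroup (GL ι F), tensorProductSubgroup 2 n₂ e P ⊓ omegaGL Q < K ∧ K < omegaGL Q := by
  classical
  obtain ⟨R, rfl, hR⟩ := Orth.exists_form hQ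
  obtain ⟨c, hc, hT⟩ := hT
  have hV : 5 ≤ finrank F (ι → F) := by rw [Module.finrank_fintype_fun_eq_card]; omega
  have htwo : (2 : F) = 0 := by
    rcases eq_zero_or_one hq 2 with h | h
    · exact h
    · exact absurd (show (1 : F) = 0 by linear_combination h) one_ne_zero
  set ψ := ptens e P with hψ
  have hc1 : c = 1 := (eq_zero_or_one hq c).resolve_left hc
  have hB : ∀ x x' y y', polar R (ψ x y) (ψ x' y') = f₁ x x' * f₂ y y' := fun x x' y y' => by
    rw [← formOfGram_pure hf₁.bilinear hf₂.bilinear, ← one_mul (formOfGram _ _ _ _), ← hc1]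
    exact hT _ _
  have hQp : ∀ u y, R (ψ u y) = 0 := fun u y => hpure u y
  -- the first form
  have hg₁ : f₁ (Pi.single 0 1) (Pi.single 1 1) = 1 := by
    refine (eq_zero_or_one hq _).resolve_left fun h => ?_
    obtain ⟨-, z, hz⟩ := hf₁.nondegenerate (Pi.single 0 1) (by simp [Pi.single_eq_zero_iff])
    refine hz ?_
    rw [bilin_expand hf₁.bilinear]
    simp [Fin.sum_univ_two, gramMatrix, hf₁.alternating, h]
  have hf : ∀ a b, f₁ a b = a 0 * b 1 + a 1 * b 0 := fun a b => by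
    rw [bilin_expand hf₁.bilinear]
    simp only [Fin.sum_univ_two, gramMatrix, Matrix.of_apply, hf₁.alternating, hg₁,
      hf₁.skew (Pi.single 1 1) (Pi.single 0 1)]
    linear_combination -(a 1 * b 0) * htwo
  have hnd₂ : ∀ y, y ≠ 0 → ∃ z, f₂ y z = 1 := fun y hy => by
    obtain ⟨-, z, hz⟩ := hf₂.nondegenerate y hy
    exact ⟨z, (eq_zero_or_one hq _).resolve_left hz⟩
  -- two orthogonal independent vectors in the second factor
  obtain ⟨y₁, hy₁⟩ : ∃ y : Fin n₂ → F, y ≠ 0 :=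
    ⟨Pi.single ⟨0, by omega⟩ 1, by simp [Pi.single_eq_zero_iff]⟩
  let φ : (Fin n₂ → F) →ₗ[F] F :=
    { toFun := f₂ y₁
      map_add' := hf₂.bilinear.add_right y₁
      map_smul' := fun a z => by rw [hf₂.bilinear.smul_right]; rfl }
  obtain ⟨y₂, hy₂, hy₂s⟩ : ∃ y, f₂ y₁ y = 0 ∧ y ∉ Submodule.span F {y₁} := by
    by_contra h
    push Not at h
    have h1 := Submodule.finrank_mono (show LinearMap.ker φ ≤ Submodule.span F {y₁} from
      fun z hz => h z hz)
    have h2 := φ.finrank_range_add_finrank_ker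
    have h3 : finrank F (LinearMap.range φ) ≤ 1 := (Submodule.finrank_le _).trans (by simp)
    rw [finrank_span_singleton hy₁] at h1
    rw [Module.finrank_fin_fun] at h2
    omega
  have hy₂0 : y₂ ≠ 0 := fun h => hy₂s (h ▸ Submodule.zero_mem _)
  have hy₂₁ : f₂ y₂ y₁ = 0 := by rw [hf₂.skew, hy₂, neg_zero]
  obtain ⟨y₀, hy₀₁, hy₀₂⟩ : ∃ y, f₂ y₁ y = 1 ∧ f₂ y₂ y = 0 := by
    obtain ⟨s, hs⟩ := hnd₂ y₁ hy₁
    rcases eq_zero_or_one hq (f₂ y₂ s) with h | h
    · exact ⟨s, hs, h⟩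
    obtain ⟨t, ht⟩ := hnd₂ (y₁ + y₂) fun h0 => hy₂s (by
      rw [eq_neg_of_add_eq_zero_right h0]
      exact Submodule.neg_mem _ (Submodule.mem_span_singleton_self _))
    rw [hf₂.bilinear.add_left] at ht
    rcases eq_zero_or_one hq (f₂ y₁ t) with h' | h'
    · refine ⟨s + t, ?_, ?_⟩
      · rw [hf₂.bilinear.add_right, hs, h', add_zero]
      · rw [hf₂.bilinear.add_right, h]
        linear_combination ht - h' + htwo - (1 : F) * (0 : F)
    · exact ⟨t, h', by linear_combination ht - h'⟩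
  have hinj : ∀ {u : Fin 2 → F} {y : Fin n₂ → F}, u ≠ 0 → y ≠ 0 → ψ u y ≠ 0 := by
    intro u y hu hy h
    obtain ⟨-, u', hu'⟩ := hf₁.nondegenerate u hu
    obtain ⟨y', hy'⟩ := hnd₂ y hy
    refine hu' ?_
    have := hB u u' y y'
    rw [h, QuadraticMap.polar_zero_left, hy', mul_one] at this
    exact this.symm
  -- the element of order three
  have hrot : (rot F).det ≠ 0 := by simp [rot, Matrix.det_fin_two]
  set r : GL (Fin 2) F := Matrix.GeneralLinearGroup.mkOfDetNeZero (rot F) hrot with hr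
  have hr' : (r : Matrix (Fin 2) (Fin 2) F) = rot F := rfl
  obtain ⟨X₀, hX₀⟩ : ∃ X : GL (Fin 2 × Fin n₂) F,
      (X : Matrix (Fin 2 × Fin n₂) (Fin 2 × Fin n₂) F) =
        rot F ⊗ₖ (1 : Matrix (Fin n₂) (Fin n₂) F) := by
    refine ⟨⟨rot F ⊗ₖ 1, ((r⁻¹ : GL (Fin 2) F) : Matrix (Fin 2) (Fin 2) F) ⊗ₖ 1, ?_, ?_⟩, rfl⟩ <;>
      rw [← Matrix.mul_kronecker_mul, ← hr', ← Units.val_mul] <;> simp
  set T : GL ι F := Aschbacher.frU e P X₀ with hTd
  have hTp : ∀ u y, (T : Matrix ι ι F) *ᵥ ψ u y = ψ (rot F *ᵥ u) y := fun u y => by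
    rw [hTd, hψ, frU_ptens e P hX₀, Matrix.one_mulVec]
  have h11 : (1 : F) + 1 = 0 := by linear_combination htwo
  have hrot3 : ∀ a : Fin 2 → F, rot F *ᵥ (rot F *ᵥ (rot F *ᵥ a)) = a := fun a => by
    funext i
    fin_cases i <;> rcases eq_zero_or_one hq (a 0) with h | h <;>
      rcases eq_zero_or_one hq (a 1) with h' | h' <;>
      simp [rot_mulVec hq, h, h', h11]
  have hT3 : T * T = T⁻¹ := eq_inv_of_mul_eq_one_left (ext_ptens e P fun u y => by
    rw [Units.val_mul, Units.val_mul, ← Matrix.mulVec_mulVec, ← Matrix.mulVec_mulVec, ← hψ, hTp,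
      hTp, hTp, hrot3, Units.val_one, Matrix.one_mulVec])
  set e₀ : Fin 2 → F := Pi.single 0 1 with he₀
  have he₀0 : e₀ ≠ 0 := by simp [he₀, Pi.single_eq_zero_iff]
  -- Siegel transformations
  have hE : ∀ u, u ≠ 0 → ∀ u', ∃ g ∈ Subgroup.closure (Sieg R), ∀ a y,
      g.1 (ψ a y) = ψ a y + (ψ ((f₁ u a * f₂ y₁ y) • u') y₂ +
        ψ ((f₁ u' a * f₂ y₂ y) • u) y₁) := by
    intro u hu u'
    have hew : polar R (ψ u y₁) (ψ u' y₂) = 0 := by rw [hB, hy₂, mul_zero]
    obtain ⟨g, hg⟩ := exists_eich R (hQp u y₁) hew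
    refine ⟨g, eich_mem R hR hV (hinj hu hy₁) (hQp _ _) hew hg, fun a y => ?_⟩
    rw [hg, hQp, zero_mul, sub_zero, hB, hB, map_smul, map_smul, LinearMap.smul_apply,
      LinearMap.smul_apply]
    congr 2
    rw [show -(f₁ u' a * f₂ y₂ y) = f₁ u' a * f₂ y₂ y by
      linear_combination -(f₁ u' a * f₂ y₂ y) * htwo]
  refine exists_between hR hn ((signNormalizer T).comap (toMat R)) ?_ ?_ ?_
  · intro g _ hg
    rw [Cfsg.Geo.tensorProductSubgroup, Aschbacher.map_glReindex_conj] at hg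
    obtain ⟨X, ⟨a, b, hX⟩, hXe⟩ := hg
    show toMat R g * T * (toMat R g)⁻¹ = T ∨ toMat R g * T * (toMat R g)⁻¹ = T⁻¹
    rw [← hXe, ← hT3]
    rcases conj_rot hq a with h | h
    · left
      rw [mul_inv_eq_iff_eq_mul]
      refine ext_ptens e P fun u y => ?_
      rw [Units.val_mul, Units.val_mul, ← Matrix.mulVec_mulVec, ← Matrix.mulVec_mulVec, ← hψ, hTp]
      show ((Aschbacher.frU e P X : GL ι F) : Matrix ι ι F) *ᵥ _ =
        _ *ᵥ (((Aschbacher.frU e P X : GL ι F) : Matrix ι ι F) *ᵥ _)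
      rw [hψ, frU_ptens e P hX, frU_ptens e P hX, ← hψ, hTp, Matrix.mulVec_mulVec, h,
        ← Matrix.mulVec_mulVec]
    · right
      rw [mul_inv_eq_iff_eq_mul]
      refine ext_ptens e P fun u y => ?_
      rw [Units.val_mul, Units.val_mul, Units.val_mul, ← Matrix.mulVec_mulVec,
        ← Matrix.mulVec_mulVec, ← Matrix.mulVec_mulVec, ← hψ, hTp]
      show ((Aschbacher.frU e P X : GL ι F) : Matrix ι ι F) *ᵥ _ =
        _ *ᵥ (_ *ᵥ (((Aschbacher.frU e P X : GL ι F) : Matrix ι ι F) *ᵥ _))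
      rw [hψ, frU_ptens e P hX, frU_ptens e P hX, ← hψ, hTp, hTp, Matrix.mulVec_mulVec, h,
        ← Matrix.mulVec_mulVec, ← Matrix.mulVec_mulVec]
  · -- the witness
    set u₁ : Fin 2 → F := rot F *ᵥ e₀
    set u₂ : Fin 2 → F := rot F *ᵥ u₁
    have hu₁ : u₁ ≠ 0 := fun h => he₀0 (by
      rw [← hrot3 e₀, show rot F *ᵥ e₀ = 0 from h]; simp)
    have hu₂ : u₂ ≠ 0 := fun h => hu₁ (by
      rw [← hrot3 u₁, show rot F *ᵥ u₁ = 0 from h]; simp)
    obtain ⟨g₀, hg₀m, hg₀⟩ := hE e₀ he₀0 u₁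
    obtain ⟨g₁, hg₁m, hg₁'⟩ := hE u₁ hu₁ u₂
    obtain ⟨g₂, hg₂m, hg₂⟩ := hE u₂ hu₂ (rot F *ᵥ u₂)
    have he₀' : e₀ = ![1, 0] := by funext i; fin_cases i <;> simp [he₀]
    have hu₁' : u₁ = ![0, 1] := by simp [u₁, he₀', rot_mulVec hq]
    have hu₂' : u₂ = ![1, 1] := by simp [u₂, hu₁', rot_mulVec hq]
    have hu₃' : rot F *ᵥ u₂ = ![1, 0] := by simp [hu₂', rot_mulVec hq, h11]
    have hsum : ∀ a, f₁ e₀ a • u₁ + f₁ u₁ a • u₂ + f₁ u₂ a • (rot F *ᵥ u₂) = rot F *ᵥ a ∧
        f₁ u₁ a • e₀ + f₁ u₂ a • u₁ + f₁ (rot F *ᵥ u₂) a • u₂ = rot F *ᵥ (rot F *ᵥ a) := by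
      intro a
      rw [hu₃', hu₂', hu₁', he₀']
      constructor <;> funext i <;> fin_cases i <;>
        rcases eq_zero_or_one hq (a 0) with h | h <;>
        rcases eq_zero_or_one hq (a 1) with h' | h' <;>
        simp [rot_mulVec hq, hf, h, h', h11]
    have hg : ∀ a y, (g₀ * g₁ * g₂).1 (ψ a y) = ψ a y +
        (ψ (f₂ y₁ y • (rot F *ᵥ a)) y₂ + ψ (f₂ y₂ y • (rot F *ᵥ (rot F *ᵥ a))) y₁) := by
      intro a y
      show g₀.1 (g₁.1 (g₂.1 _)) = _
      simp only [hg₂, hg₁', hg₀, map_add, hy₂, hy₂₁, hf₂.alternating, mul_zero, zero_smul,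
        map_zero, LinearMap.zero_apply, add_zero]
      rw [← (hsum a).2, ← (hsum a).1]
      simp only [smul_add, smul_smul, map_add, map_smul, LinearMap.add_apply,
        LinearMap.smul_apply]
      simp only [mul_comm (f₂ _ y)]
      abel
    refine ⟨g₀ * g₁ * g₂, mul_mem (mul_mem hg₀m hg₁m) hg₂m, ?_, ?_⟩
    · show toMat R _ * T * (toMat R _)⁻¹ = T ∨ _
      left
      rw [mul_inv_eq_iff_eq_mul]
      refine ext_ptens e P fun u y => ?_
      rw [Units.val_mul, Units.val_mul, ← Matrix.mulVec_mulVec, ← Matrix.mulVec_mulVec, ← hψ, hTp,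
        toMat_mulVec, toMat_mulVec, hg, hg]
      simp only [Matrix.mulVec_add, hTp, Matrix.mulVec_smul]
    · intro hgT
      rw [Cfsg.Geo.tensorProductSubgroup, Aschbacher.map_glReindex_conj] at hgT
      obtain ⟨X, ⟨a, b, hX⟩, hXe⟩ := hgT
      obtain ⟨α, β, hαβ⟩ : ∃ α β, (g₀ * g₁ * g₂).1 (ψ e₀ y₀) = ψ α β := by
        refine ⟨(a : Matrix (Fin 2) (Fin 2) F) *ᵥ e₀, (b : Matrix (Fin n₂) (Fin n₂) F) *ᵥ y₀, ?_⟩
        rw [← toMat_mulVec, ← hXe]
        exact frU_ptens e P hX _ _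
      rw [hg, hy₀₁, hy₀₂, zero_smul, one_smul, map_zero, LinearMap.zero_apply, add_zero] at hαβ
      have key : ∀ k z, f₁ e₀ k * f₂ y₀ z + f₁ (rot F *ᵥ e₀) k * f₂ y₂ z =
          f₁ α k * f₂ β z := fun k z => by
        rw [← hB, ← hB, ← hB, ← polar_add_left, hαβ]
      have h1 := key (Pi.single 1 1) y₁
      have hβ : ∀ z, f₁ α e₀ * f₂ β z = f₂ y₂ z := fun z => by
        rw [← key]
        simp [hf, he₀, rot_mulVec hq]
      obtain ⟨z, hz⟩ := hnd₂ y₂ hy₂0
      have h2 := hβ z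
      have h3 := hβ y₁
      rw [hy₂₁] at h3
      rw [hz] at h2
      rw [hy₂₁, mul_zero, add_zero, hf₂.skew y₀ y₁, hy₀₁, hg₁] at h1
      rcases mul_eq_zero.1 h3 with h | h
      · rw [h, zero_mul] at h2
        exact zero_ne_one h2
      · rw [h, mul_zero] at h1
        exact one_ne_zero (show (1 : F) = 0 by linear_combination h1 + htwo)
  · -- a Siegel transformation outside
    obtain ⟨g, hgm, hg⟩ := hE e₀ he₀0 e₀
    refine ⟨g, hgm, ?_⟩
    have hfix : ∀ a, g.1 (ψ a y₁) = ψ a y₁ := fun a => by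
      rw [hg, hf₂.alternating, hy₂₁]
      simp
    have hz : rot F *ᵥ e₀ ≠ rot F *ᵥ (rot F *ᵥ e₀) := fun h => by
      have := congrFun h 0
      simp [rot_mulVec hq, he₀] at this
    rintro (h | h)
    · rw [mul_inv_eq_iff_eq_mul] at h
      have h1 := congrArg (fun x : GL ι F => (x : Matrix ι ι F) *ᵥ ψ e₀ y₀) h
      simp only [Units.val_mul, ← Matrix.mulVec_mulVec, hTp, toMat_mulVec, hg, hy₀₁, hy₀₂,
        hf₁.alternating, mul_zero, zero_mul, zero_smul, map_zero, LinearMap.zero_apply,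
        add_zero, mul_one] at h1
      rw [add_eq_left, show f₁ e₀ (rot F *ᵥ e₀) = 1 by simp [hf, rot_mulVec hq, he₀],
        one_smul] at h1
      exact hinj he₀0 hy₂0 h1
    · rw [mul_inv_eq_iff_eq_mul, ← hT3] at h
      have h1 := congrArg (fun x : GL ι F => (x : Matrix ι ι F) *ᵥ ψ e₀ y₁) h
      simp only [Units.val_mul, ← Matrix.mulVec_mulVec, toMat_mulVec, hfix, hTp] at h1
      rw [← sub_eq_zero, ← LinearMap.sub_apply, ← map_sub] at h1
      exact hinj (sub_ne_zero.2 hz) hy₁ h1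

end CfsgLib.MaxSub.OrthTensorTwo
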