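/-
Imprimitive and tensor product stabilisers which are not maximal over very small fields.
-/
import Cfsg.Agent.Lib.MaxSub.SubspaceMaximalUnitary
import Cfsg.Agent.Lib.Aschbacher.SmallFieldsGeneral
import Cfsg.Agent.Lib.Aschbacher.SympSmall
import Cfsg.Agent.Lib.Aschbacher.UnitarySmall
import Cfsg.Agent.Lib.Aschbacher.UnitaryProperGeneral

set_option autoImplicit false
set_option maxHeartbeats 400000

namespace CfsgLib.MaxSub

open Matrix Module Cfsg Cfsg.Geo CfsgLib.Aschbacher

open scoped Kronecker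

variable {F : Type*} [Field F] {ι : Type} [Fintype ι] [DecidableEq ι]

local notation "Mi" => Matrix ι ι F

/-- A transvection-like map with centre outside the blocks permutes no decomposition. -/
theorem not_mem_decomp {t k : ℕ} {D : Fin t → Submodule F (ι → F)} (hD : IsMDecomposition k D)
    (hk : 2 ≤ k) {g : GL ι F} {φ : (ι → F) →ₗ[F] F} {v : ι → F}
    (hg : ∀ x, (g : Mi) *ᵥ x = x + φ x • v) (hv : ∀ i, v ∉ D i) {i : Fin t} {w : ι → F}
    (hw : w ∈ D i) (hφ : φ w ≠ 0) : g ∉ decompositionStabilizer D := by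
  rintro ⟨σ, hσ⟩
  obtain ⟨x, hx, hx0, hxφ⟩ : ∃ x ∈ D i, x ≠ 0 ∧ φ x = 0 := by
    let L : D i →ₗ[F] F := φ.comp (D i).subtype
    have hne : LinearMap.ker L ≠ ⊥ := by
      intro h
      have h1 := L.finrank_range_add_finrank_ker
      have h2 := Submodule.finrank_le (LinearMap.range L)
      rw [h, finrank_bot, hD.finrank_eq] at h1
      rw [finrank_self] at h2
      omega
    obtain ⟨x, hx, hx0⟩ := Submodule.exists_mem_ne_zero_of_ne_bot hne
    exact ⟨x, x.2, by simpa using hx0, hx⟩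
  have hfix : x ∈ D (σ i) := by
    rw [← hσ i]
    exact ⟨x, hx, by rw [Matrix.toLin'_apply, hg, hxφ, zero_smul, add_zero]⟩
  have hi : σ i = i := by
    by_contra h
    exact hx0 (Submodule.disjoint_def.1 (hD.indep.pairwiseDisjoint h) x hfix hx)
  have h : (g : Mi) *ᵥ w ∈ D i := by
    have h' := hσ i
    rw [hi] at h'
    exact h'.le ⟨w, hw, Matrix.toLin'_apply _ _⟩
  rw [hg] at h
  have h2 : φ w • v ∈ D i := by simpa using (D i).sub_mem h hw
  exact hv i (((D i).smul_mem_iff hφ).1 h2)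

/-- A non-zero functional is non-zero on some block. -/
theorem exists_block_ne {t k : ℕ} {D : Fin t → Submodule F (ι → F)} (hD : IsMDecomposition k D)
    {φ : (ι → F) →ₗ[F] F} (hφ : φ ≠ 0) : ∃ i, ∃ w ∈ D i, φ w ≠ 0 := by
  by_contra hc
  push Not at hc
  refine hφ (LinearMap.ker_eq_top.1 (eq_top_iff.2 ?_))
  rw [← hD.iSup_eq_top]
  exact iSup_le fun i x hx => hc i x hx

/-- A transvection is no tensor product. -/
theorem not_mem_tensor {a b : ℕ} (ha : 2 ≤ a) (hb : 2 ≤ b) {e : ι ≃ Fin a × Fin b} {P : GL ι F}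
    {T : GL ι F} {φ : (ι → F) →ₗ[F] F} {u : ι → F} (hu0 : u ≠ 0) (hu : φ u = 0) (hφ : φ ≠ 0)
    (hT : ∀ v, (T : Mi) *ᵥ v = v + φ v • u) : T ∉ tensorProductSubgroup a b e P := by
  intro h
  rw [Cfsg.Geo.tensorProductSubgroup, map_glReindex_conj] at h
  obtain ⟨X, ⟨A, B, hX⟩, rfl⟩ := h
  let L : (Fin a × Fin b → F) →ₗ[F] (ι → F) :=
    (Matrix.mulVecLin (P : Mi)).comp (LinearMap.funLeft F F e)
  have hL : ∀ z, L z = (P : Mi) *ᵥ (z ∘ e) := fun z => rfl
  have hLinj : Function.Injective L := fun z z' hz =>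
    e.surjective.injective_comp_right (mulVec_injective P hz)
  set α : Fin a × Fin b → F := (((P⁻¹ : GL ι F) : Mi) *ᵥ u) ∘ e.symm with hα
  have hPα : L α = u := by
    rw [hL, hα, Function.comp_assoc, e.symm_comp_self, Function.comp_id, mulVec_inv_cancel]
  have hLX : ∀ z, L ((X : Matrix (Fin a × Fin b) (Fin a × Fin b) F) *ᵥ z) =
      L (z + φ (L z) • α) := fun z => by
    have h1 := hT (L z)
    change ((frU e P X : GL ι F) : Mi) *ᵥ _ = _ at h1
    rw [frU_val, hL, frAlg_mulVec, ← hL, ← hL] at h1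
    rw [map_add, map_smul, hPα, ← h1]
  refine kron_ne_transvection ha hb (A := A) (B := B) (α := α)
    (β := fun y => φ (L (Pi.single y 1))) (fun x y => ?_) ?_ ?_ ?_
  · have h1 := congrFun (hLinj (hLX (Pi.single y 1))) x
    rw [Matrix.mulVec_single_one, Matrix.col_apply, Pi.add_apply, Pi.smul_apply, smul_eq_mul,
      Pi.single_apply, hX, Matrix.kroneckerMap_apply] at h1
    rw [h1, mul_comm (α x)]
  · intro h0
    exact hu0 (by rw [← hPα, h0, map_zero])
  · intro h0
    refine hφ (LinearMap.ext fun v => ?_)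
    obtain ⟨z, rfl⟩ : ∃ z, L z = v := ⟨(((P⁻¹ : GL ι F) : Mi) *ᵥ v) ∘ e.symm, by
      rw [hL, Function.comp_assoc, e.symm_comp_self, Function.comp_id, mulVec_inv_cancel]⟩
    have : φ.comp L = 0 := by
      refine (Pi.basisFun F (Fin a × Fin b)).ext fun y => ?_
      simpa using congrFun h0 y
    exact LinearMap.congr_fun this z
  · show ∑ y, φ (L (Pi.single y 1)) * α y = 0
    have h1 : φ (L (∑ y, α y • (Pi.single y 1 : Fin a × Fin b → F))) = 0 := by
      rw [← pi_eq_sum_univ' α, hPα, hu]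
    simpa [map_sum, map_smul, mul_comm] using h1

section symplectic

variable {m : ℕ}

local notation "V" => (Fin m ⊕ Fin m → F)

theorem sympDual_ne {v : V} (hv : v ≠ 0) : sympDual v ≠ 0 := fun h => by
  obtain ⟨⟨x, hx⟩, -⟩ := (isRefl_sympForm (F := F) m).nondeg v hv
  exact hx (LinearMap.congr_fun h x)

theorem sympDual_self (v : V) : sympDual v v = 0 := sympForm_alt m v

theorem sT_apply (v x : V) :
    (sT v 1 : Matrix (Fin m ⊕ Fin m) (Fin m ⊕ Fin m) F) *ᵥ x = x + sympDual v x • v := by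
  rw [sT_mulVec, one_mul]; rfl

/-- Planes over two elements. -/
theorem sp_planes_not_maximal [Fintype F] (hm : 3 ≤ m) (hq : Fintype.card F = 2) {t : ℕ}
    {D : Fin t → Submodule F V} (hD : IsNondegenerateMDecomposition (Cfsg.sympForm m F) 2 D) :
    ∃ K : Subgroup (GL (Fin m ⊕ Fin m) F),
      decompositionStabilizer D ⊓ Cfsg.spGL m F < K ∧ K < Cfsg.spGL m F := by
  have hf := isRefl_sympForm (F := F) m
  obtain ⟨Q, hQ, hpol, hle⟩ := planes_quad hq hf (sympForm_alt m) hD
    (H := decompositionStabilizer D ⊓ Cfsg.spGL m F) (fixesForm_spGL inf_le_right) inf_le_left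
  have h2 : (2 : F) = 0 := two_eq_zero_iff.2 (by rw [hq]; decide)
  have h01 : ∀ x : F, x ≠ 0 → x = 1 := fun x hx => eq_one_of_card_two hq hx
  refine ⟨quadSimilarityGroup Q ⊓ Cfsg.spGL m F, lt_of_le_of_ne (le_inf hle inf_le_right) ?_,
    lt_of_le_of_ne inf_le_right fun e => ?_⟩
  swap
  · exact spGL_not_le_quadSimilarityGroup (by omega) hQ.1 hpol (e ▸ inf_le_left)
  intro heq
  have hadd : ∀ x y, Q (x + y) = Q x + Q y + Cfsg.sympForm m F x y := fun x y => by
    rw [← hpol]; simp only [QuadraticMap.polar]; ring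
  have hval : ∀ x, Q x = 0 ∨ Q x = 1 := fun x => (em (Q x = 0)).imp id (h01 _)
  have hsum : 2 * t = 2 * m := by
    have := mDecomposition_mul_eq hD.decomp
    rw [Fintype.card_sum, Fintype.card_fin] at this
    omega
  let i₀ : Fin t := ⟨0, by omega⟩
  let i₁ : Fin t := ⟨1, by omega⟩
  let i₂ : Fin t := ⟨2, by omega⟩
  have hone : ∀ i, ∃ a ∈ D i, Q a = 1 := by
    intro i
    by_contra hc
    push Not at hc
    have h0 : ∀ a ∈ D i, Q a = 0 := fun a ha => (hval a).resolve_right (hc a ha)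
    obtain ⟨a, ha, ha0⟩ := Submodule.exists_mem_ne_zero_of_ne_bot (p := D i) (fun h => by
      have := hD.decomp.finrank_eq i
      rw [h, finrank_bot] at this
      omega)
    obtain ⟨-, b, hb, hab⟩ := hD.nondegenerate i a ha ha0
    have := hadd a b
    rw [h0 a ha, h0 b hb, h0 _ ((D i).add_mem ha hb), zero_add, zero_add] at this
    exact hab this.symm
  obtain ⟨a, ha, hQa⟩ := hone i₀
  obtain ⟨b, hb, hQb⟩ := hone i₁
  obtain ⟨c, hc, hQc⟩ := hone i₂
  have hab : Cfsg.sympForm m F a b = 0 := hD.orthogonal i₀ i₁ (by simp [i₀, i₁, Fin.ext_iff]) a ha b hb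
  have hac : Cfsg.sympForm m F a c = 0 := hD.orthogonal i₀ i₂ (by simp [i₀, i₂, Fin.ext_iff]) a ha c hc
  have hbc : Cfsg.sympForm m F b c = 0 := hD.orthogonal i₁ i₂ (by simp [i₁, i₂, Fin.ext_iff]) b hb c hc
  have hQv : Q (a + b + c) = 1 := by
    rw [hadd, hadd, hf.sesq.add_left, hab, hac, hbc, hQa, hQb, hQc]
    linear_combination h2
  have ha0 : a ≠ 0 := by
    rintro rfl
    have := hadd 0 0
    rw [add_zero, hQa, hf.sesq.zero_left, add_zero] at this
    exact one_ne_zero (add_eq_left.1 this.symm : (1 : F) = 0)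
  have hb0 : b ≠ 0 := by
    rintro rfl
    have := hadd 0 0
    rw [add_zero, hQb, hf.sesq.zero_left, add_zero] at this
    exact one_ne_zero (add_eq_left.1 this.symm : (1 : F) = 0)
  have hvD : ∀ k, a + b + c ∉ D k := by
    intro k hk
    by_cases hk0 : k = i₀
    · subst hk0
      obtain ⟨⟨x, hx, hxb⟩, -⟩ := hD.nondegenerate i₁ b hb hb0
      have h := hD.orthogonal i₁ i₀ (by simp [i₀, i₁, Fin.ext_iff]) x hx _ hk
      rw [hf.sesq.add_right, hf.sesq.add_right, hD.orthogonal i₁ i₀ (by simp [i₀, i₁, Fin.ext_iff]) x hx a ha,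
        hD.orthogonal i₁ i₂ (by simp [i₁, i₂, Fin.ext_iff]) x hx c hc, zero_add, add_zero] at h
      exact hxb h
    · obtain ⟨⟨x, hx, hxa⟩, -⟩ := hD.nondegenerate i₀ a ha ha0
      have h := hD.orthogonal i₀ k (Ne.symm hk0) x hx _ hk
      rw [hf.sesq.add_right, hf.sesq.add_right, hD.orthogonal i₀ i₁ (by simp [i₀, i₁, Fin.ext_iff]) x hx b hb,
        hD.orthogonal i₀ i₂ (by simp [i₀, i₂, Fin.ext_iff]) x hx c hc, add_zero, add_zero] at h
      exact hxa h
  set v := a + b + c with hv
  have hT : sT v 1 ∈ quadSimilarityGroup Q := by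
    refine ⟨1, fun x => ?_⟩
    obtain ⟨hsm, -, -⟩ := hQ
    rw [sT_mulVec, one_mul, Units.val_one, one_mul, hadd, hsm, hQv, hf.bilinear.smul_right]
    linear_combination (Cfsg.sympForm m F x v * Cfsg.sympForm m F x v) * h2
  have hv0 : v ≠ 0 := fun e => hvD i₀ (e ▸ (D i₀).zero_mem)
  obtain ⟨i, w, hw, hwv⟩ := exists_block_ne hD.decomp (sympDual_ne hv0)
  refine not_mem_decomp hD.decomp le_rfl (sT_apply v) hvD hw hwv ?_
  have : sT v 1 ∈ quadSimilarityGroup Q ⊓ Cfsg.spGL m F := ⟨hT, sT_mem v 1⟩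
  rw [← heq] at this
  exact this.1

/-- A three-dimensional orthogonal tensor factor over three elements. -/
theorem sp_tensor_not_maximal [Fintype F] (hm : 3 ≤ m) (hq : Fintype.card F = 3) {n₁ : ℕ}
    (e : (Fin m ⊕ Fin m) ≃ Fin n₁ × Fin 3) (P : GL (Fin m ⊕ Fin m) F)
    {f₁ : (Fin n₁ → F) → (Fin n₁ → F) → F} {f₂ : (Fin 3 → F) → (Fin 3 → F) → F}
    (hf₁ : IsSymplecticForm f₁) (hf₂ : IsSymmetricForm f₂)
    (hT : IsTensorFormStructure id (Cfsg.sympForm m F) f₁ f₂ e P) :
    ∃ K : Subgroup (GL (Fin m ⊕ Fin m) F),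
      tensorProductSubgroup n₁ 3 e P ⊓ Cfsg.spGL m F < K ∧ K < Cfsg.spGL m F := by
  have hn : 2 * m = n₁ * 3 := by
    have := Fintype.card_congr e
    rw [Fintype.card_sum, Fintype.card_prod, Fintype.card_fin, Fintype.card_fin, Fintype.card_fin] at this
    omega
  obtain ⟨D, hD, hle⟩ := tensor_three_frame hq (isRefl_sympForm m) (by omega) hf₁ hf₂ hT
    (H := tensorProductSubgroup n₁ 3 e P ⊓ Cfsg.spGL m F) (fixesForm_spGL inf_le_right) inf_le_left
  refine ⟨decompositionStabilizer D ⊓ Cfsg.spGL m F, lt_of_le_of_ne (le_inf hle inf_le_right) ?_,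
    lt_of_le_of_ne inf_le_right fun e' => ?_⟩
  swap
  · exact spGL_not_le_decompositionStabilizer (by omega) hD.decomp (e' ▸ inf_le_left)
  intro heq
  obtain ⟨v, hv, hv0⟩ := Submodule.exists_mem_ne_zero_of_ne_bot (p := D 0) (fun h => by
    have := hD.decomp.finrank_eq 0
    rw [h, finrank_bot] at this
    omega)
  have hmem : sT v 1 ∈ decompositionStabilizer D := by
    refine ⟨1, fun i => ?_⟩
    have hmaps : ∀ x ∈ D i, (sT v 1 : Matrix (Fin m ⊕ Fin m) (Fin m ⊕ Fin m) F) *ᵥ x ∈ D i := by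
      intro x hx
      rw [sT_mulVec]
      by_cases hi : i = 0
      · subst hi; exact (D 0).add_mem hx ((D 0).smul_mem _ hv)
      · rw [hD.orthogonal i 0 hi x hx v hv, mul_zero, zero_smul, add_zero]; exact hx
    rw [Equiv.Perm.one_apply]
    refine Submodule.eq_of_le_of_finrank_eq ?_ ?_
    · rintro _ ⟨x, hx, rfl⟩; rw [Matrix.toLin'_apply]; exact hmaps x hx
    · exact ((Submodule.equivMapOfInjective _ (fun x y h => mulVec_injective (sT v 1)
        (by simpa using h)) (D i)).finrank_eq).symm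
  have : sT v 1 ∈ decompositionStabilizer D ⊓ Cfsg.spGL m F := ⟨hmem, sT_mem v 1⟩
  rw [← heq] at this
  exact not_mem_tensor (by omega) (by omega) hv0 (sympDual_self v) (sympDual_ne hv0) (sT_apply v) this.1

end symplectic

section unitary

variable [Fintype F] {n : ℕ}

local notation "h" => Cfsg.hermForm n F 2
local notation "Mn" => Matrix (Fin n) (Fin n) F
local notation "G" => Cfsg.GU n F 2 ⊓ specialLinear (Fin n) F

theorem norm_eq_one_of_card_four (hF : Fintype.card F = 2 ^ 2) (w : Fin n → F)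
    (hw : h w w ≠ 0) : h w w = 1 := by
  have h1 := UnitaryTransvection.h_swap hF w w
  rw [UnitaryTransvection.frob_apply] at h1
  exact mul_left_cancel₀ hw (by rw [mul_one, ← sq]; exact h1)

/-- A unitary transvection over four elements. -/
theorem exists_T (hF : Fintype.card F = 2 ^ 2) {v : Fin n → F} (hv : h v v = 0) :
    ∃ T : GL (Fin n) F, T ∈ G ∧ ∀ x, (T : Mn) *ᵥ x = x + h x v • v := by
  have h2 : (2 : F) = 0 := two_eq_zero_iff.2 (by rw [hF]; decide)
  have hgood : UnitaryTransvection.Good hF v 1 := by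
    rw [UnitaryTransvection.Good, hv, mul_zero, add_zero, map_one]; linear_combination h2
  refine ⟨sg (Cfsg.unitaryTransvection n 2 v 1)
    (by rw [UnitaryTransvection.det_tmat, hv, mul_zero, add_zero]),
    sg_mem (UnitaryTransvection.tmat_isometry hF hgood) _, fun x => ?_⟩
  show Cfsg.unitaryTransvection n 2 v 1 *ᵥ x = _
  rw [UnitaryTransvection.tmat_mulVec, one_mul]

/-- The functional `x ↦ h x v`. -/
def hermDual (v : Fin n → F) : (Fin n → F) →ₗ[F] F where
  toFun x := h x v
  map_add' x y := UnitaryTransvection.h_add_left x y v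
  map_smul' c x := UnitaryTransvection.h_smul_left c x v

theorem hermDual_ne (hF : Fintype.card F = 2 ^ 2) {v : Fin n → F} (hv : v ≠ 0) :
    hermDual v ≠ 0 := fun e => hv (UnitaryTransvection.h_nondeg hF fun y => by
  have : h y v = 0 := LinearMap.congr_fun e y
  rw [← UnitaryTransvection.h_swap hF y v, this, map_zero])

/-- Planes over four elements. -/
theorem su_planes_not_maximal (hF : Fintype.card F = 4) (hn : 5 ≤ n) {t : ℕ}
    {D : Fin t → Submodule F (Fin n → F)} (hD : IsNondegenerateMDecomposition h 2 D) :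
    ∃ K : Subgroup (GL (Fin n) F), decompositionStabilizer D ⊓ G < K ∧ K < G := by
  have hF' : Fintype.card F = 2 ^ 2 := hF
  obtain ⟨σ, hσ, hf⟩ := exists_unitary_hermForm (n := n) hF'
  have hr := isRefl_of_unitary hf
  have htn : t * 2 = n := by
    have := mDecomposition_mul_eq hD.decomp
    rwa [Fintype.card_fin] at this
  obtain ⟨D', hD', href, hle⟩ := planes_frame_refined hF' hσ hf hD
    (H := decompositionStabilizer D ⊓ G) (fixesForm_GU (inf_le_right.trans inf_le_left)) inf_le_left htn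
  refine ⟨decompositionStabilizer D' ⊓ G, lt_of_le_of_ne (le_inf hle inf_le_right) ?_,
    lt_of_le_of_ne inf_le_right fun e => ?_⟩
  swap
  · exact not_SU_le_decompositionStabilizer hF' (by omega) (Or.inl (by omega)) hD'.decomp
      (show G ≤ _ from e.ge.trans inf_le_left)
  intro heq
  choose blk hblk using href
  obtain ⟨x, y, hxy⟩ : ∃ x y, blk x ≠ blk y := by
    by_contra hc
    push Not at hc
    have x₀ : Fin n := ⟨0, by omega⟩
    have hall : (⊤ : Submodule F (Fin n → F)) ≤ D (blk x₀) := by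
      rw [← hD'.decomp.iSup_eq_top]
      exact iSup_le fun x => (hblk x).trans (le_of_eq (by rw [hc x x₀]))
    have := Submodule.finrank_mono hall
    rw [finrank_top, Module.finrank_fin_fun, hD.decomp.finrank_eq] at this
    omega
  have hrep : ∀ x, ∃ w ∈ D' x, w ≠ 0 ∧ h w w = 1 ∧ D' x = Submodule.span F {w} := by
    intro x
    obtain ⟨w, hw, hw0⟩ := Submodule.exists_mem_ne_zero_of_ne_bot (p := D' x) (fun hb0 => by
      have := hD'.decomp.finrank_eq x
      rw [hb0, finrank_bot] at this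
      omega)
    have hspan : D' x = Submodule.span F {w} := (Submodule.eq_of_le_of_finrank_eq
      ((Submodule.span_singleton_le_iff_mem _ _).2 hw)
      (by rw [finrank_span_singleton hw0, hD'.decomp.finrank_eq])).symm
    refine ⟨w, hw, hw0, norm_eq_one_of_card_four hF' w fun h0 => ?_, hspan⟩
    obtain ⟨-, z, hz, hwz⟩ := hD'.nondegenerate x w hw hw0
    rw [hspan] at hz
    obtain ⟨c, rfl⟩ := Submodule.mem_span_singleton.1 hz
    rw [hr.sesq.smul_right, h0, mul_zero] at hwz
    exact hwz rfl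
  choose w hwD hw0 hw1 hwspan using hrep
  have hne : x ≠ y := fun e => hxy (by rw [e])
  have hxy0 : h (w x) (w y) = 0 := hD'.orthogonal x y hne _ (hwD x) _ (hwD y)
  set v := w x + w y with hv
  have h2 : (2 : F) = 0 := two_eq_zero_iff.2 (by rw [hF]; decide)
  have hvv : h v v = 0 := by
    rw [hv, hr.sesq.add_left, hr.sesq.add_right, hr.sesq.add_right, hw1, hw1, hxy0, hr.zero_iff.1 hxy0]
    linear_combination h2
  have hvD : ∀ k, v ∉ D k := by
    intro k hk
    by_cases hk0 : k = blk x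
    · subst hk0
      have := hD.orthogonal (blk y) (blk x) (Ne.symm hxy) (w y) (hblk y (hwD y)) v hk
      rw [hv, hr.sesq.add_right, hw1, hr.zero_iff.1 hxy0, zero_add] at this
      exact one_ne_zero this
    · have := hD.orthogonal (blk x) k (Ne.symm hk0) (w x) (hblk x (hwD x)) v hk
      rw [hv, hr.sesq.add_right, hw1, hxy0, add_zero] at this
      exact one_ne_zero this
  have hv0 : v ≠ 0 := fun e => hvD (blk x) (e ▸ (D _).zero_mem)
  obtain ⟨T, hTG, hT⟩ := exists_T hF' hvv
  have hTD' : T ∈ decompositionStabilizer D' := by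
    refine ⟨Equiv.swap x y, fun i => ?_⟩
    have hTw : (T : Mn) *ᵥ w i = w (Equiv.swap x y i) := by
      rw [hT, hv, hr.sesq.add_right]
      by_cases hix : i = x
      · subst hix
        rw [Equiv.swap_apply_left, hw1, hxy0, add_zero, one_smul,
          show w i + (w i + w y) = (2 : F) • w i + w y by rw [two_smul]; abel, h2, zero_smul, zero_add]
      by_cases hiy : i = y
      · subst hiy
        rw [Equiv.swap_apply_right, hw1, hr.zero_iff.1 hxy0, zero_add, one_smul,
          show w i + (w x + w i) = (2 : F) • w i + w x by rw [two_smul]; abel, h2, zero_smul, zero_add]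
      · rw [Equiv.swap_apply_of_ne_of_ne hix hiy, hD'.orthogonal i x hix _ (hwD i) _ (hwD x),
          hD'.orthogonal i y hiy _ (hwD i) _ (hwD y), zero_add, zero_smul, add_zero]
    rw [hwspan i, hwspan (Equiv.swap x y i), Submodule.map_span, Set.image_singleton,
      Matrix.toLin'_apply, hTw]
  obtain ⟨i, u, hu, huv⟩ := exists_block_ne hD.decomp (hermDual_ne hF' hv0)
  refine not_mem_decomp hD.decomp le_rfl (φ := hermDual v) hT hvD hu huv ?_
  have : T ∈ decompositionStabilizer D' ⊓ G := ⟨hTD', hTG⟩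
  rw [← heq] at this
  exact this.1

/-- A two-dimensional tensor factor over four elements. -/
theorem su_tensor_not_maximal (hF : Fintype.card F = 4) (hn : 5 ≤ n) {n₂ : ℕ}
    (e : Fin n ≃ Fin 2 × Fin n₂) (P : GL (Fin n) F)
    {f₁ : (Fin 2 → F) → (Fin 2 → F) → F} {f₂ : (Fin n₂ → F) → (Fin n₂ → F) → F}
    (hf₁ : IsUnitaryFormPow 2 f₁) (hf₂ : IsUnitaryFormPow 2 f₂)
    (hT : IsTensorFormStructure (fun x : F => x ^ 2) h f₁ f₂ e P) :
    ∃ K : Subgroup (GL (Fin n) F), tensorProductSubgroup 2 n₂ e P ⊓ G < K ∧ K < G := by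
  have hF' : Fintype.card F = 2 ^ 2 := hF
  obtain ⟨σ, hσ, hf⟩ := exists_unitary_hermForm (n := n) hF'
  have hr := isRefl_of_unitary hf
  have hn2 : 2 * n₂ = n := by
    have := Fintype.card_congr e
    rw [Fintype.card_prod, Fintype.card_fin, Fintype.card_fin, Fintype.card_fin] at this
    omega
  obtain ⟨D, hD, hle⟩ := tensor_two_split hF' hσ hf (by omega) hf₁ hf₂ hT
    (H := tensorProductSubgroup 2 n₂ e P ⊓ G) (fixesForm_GU (inf_le_right.trans inf_le_left)) inf_le_left
  refine ⟨decompositionStabilizer D ⊓ G, lt_of_le_of_ne (le_inf hle inf_le_right) ?_,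
    lt_of_le_of_ne inf_le_right fun e' => ?_⟩
  swap
  · exact not_SU_le_decomposition hF' (by omega) (by omega) hD.decomp (show G ≤ _ from e'.ge.trans inf_le_left)
  intro heq
  have hperp : perp hr.sesq (perp hr.sesq (D 0)) = D 0 := by
    refine (Submodule.eq_of_le_of_finrank_eq (hr.le_perp_perp _) ?_).symm
    have h1 := hr.finrank_perp (D 0)
    have h2 := hr.finrank_perp (perp hr.sesq (D 0))
    omega
  have hPn := hr.nondegenerateOn_perp (hD.nondegenerate 0)
  have hdim : finrank F (perp hr.sesq (perp hr.sesq (D 0))) = n₂ := by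
    rw [hperp]; exact hD.decomp.finrank_eq 0
  obtain ⟨p, hp, hpp⟩ := exists_aniso (hF := hF') hr hPn (X := perp hr.sesq (perp hr.sesq (D 0)))
    le_rfl (by omega)
  obtain ⟨p', hp', hp'p⟩ := exists_aniso (hF := hF') hr hPn
    (X := perp hr.sesq (perp hr.sesq (D 0)) ⊓ perp hr.sesq (Submodule.span F {p})) inf_le_left (by
      have := finrank_inf_perp_span hr (perp hr.sesq (perp hr.sesq (D 0))) p
      omega)
  have h21 : h p' p = 0 := hp'.2 p (Submodule.mem_span_singleton_self p)
  have h2 : (2 : F) = 0 := two_eq_zero_iff.2 (by rw [hF]; decide)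
  set v := p + p' with hv
  have hvv : h v v = 0 := by
    rw [hv, hr.sesq.add_left, hr.sesq.add_right, hr.sesq.add_right, norm_eq_one_of_card_four hF' p hpp,
      norm_eq_one_of_card_four hF' p' hp'p, h21, hr.zero_iff.1 h21]
    linear_combination h2
  have hv0 : v ≠ 0 := fun e' => hpp (by
    have h3 := congrArg (fun z => h z p) e'
    simpa [hv, hr.sesq.add_left, h21, hr.sesq.zero_left] using h3)
  have hvD : v ∈ D 0 := by
    rw [← hperp]; exact (perp hr.sesq (perp hr.sesq (D 0))).add_mem hp hp'.1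
  obtain ⟨T, hTG, hTx⟩ := exists_T hF' hvv
  have hTD : T ∈ decompositionStabilizer D := by
    refine ⟨1, fun i => ?_⟩
    rw [Equiv.Perm.one_apply]
    refine Submodule.eq_of_le_of_finrank_eq ?_ ?_
    · rintro _ ⟨x, hx, rfl⟩
      rw [Matrix.toLin'_apply, hTx]
      by_cases hi : i = 0
      · subst hi; exact (D 0).add_mem hx ((D 0).smul_mem _ hvD)
      · rw [hD.orthogonal i 0 hi x hx v hvD, zero_smul, add_zero]; exact hx
    · exact ((Submodule.equivMapOfInjective _ (fun x y hinj => mulVec_injective T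
        (by simpa using hinj)) (D i)).finrank_eq).symm
  have : T ∈ decompositionStabilizer D ⊓ G := ⟨hTD, hTG⟩
  rw [← heq] at this
  exact not_mem_tensor le_rfl (by omega) hv0 (φ := hermDual v) hvv (hermDual_ne hF' hv0) hTx this.1

end unitary

end CfsgLib.MaxSub
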