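/-
Imprimitive and tensor product stabilisers in `SL_n` over very small fields.
-/
import Cfsg.Agent.Lib.MaxSub.NotMaximalSmall

set_option autoImplicit false
set_option maxHeartbeats 400000

namespace CfsgLib.MaxSub

open Matrix Module Cfsg Cfsg.Geo CfsgLib.Aschbacher

open scoped Kronecker

variable {F : Type*} [Field F] [Fintype F] {n : ℕ}

local notation "Mn" => Matrix (Fin n) (Fin n) F

/-- The frame stabiliser misses the elements with a column of two non-zero entries. -/
theorem not_monomial {D : Fin n → Submodule F (Fin n → F)} {B g : GL (Fin n) F}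
    (hB : ∀ g ∈ decompositionStabilizer D, ∃ (σ : Equiv.Perm (Fin n)) (a : Fin n → F),
      (∀ i, a i ≠ 0) ∧ ∀ (v : Fin n → F) (i : Fin n),
        (((B⁻¹ * g * B : GL (Fin n) F) : Mn) *ᵥ v) (σ i) = a i * v i)
    {j k l : Fin n} (hkl : k ≠ l) (hk : (g : Mn) k j ≠ 0) (hl : (g : Mn) l j ≠ 0) :
    B * g * B⁻¹ ∉ decompositionStabilizer D := by
  intro hmem
  obtain ⟨σ, a, -, h⟩ := hB _ hmem
  have hcol : ∀ i, i ≠ σ j → (g : Mn) i j = 0 := by
    intro i hi
    have := h (Pi.single j 1) (σ.symm i)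
    rw [show B⁻¹ * (B * g * B⁻¹) * B = g by group, Equiv.apply_symm_apply, Matrix.mulVec_single_one,
      Matrix.col_apply, Pi.single_eq_of_ne (fun e => hi (by rw [← e, Equiv.apply_symm_apply])),
      mul_zero] at this
    exact this
  by_cases hks : k = σ j
  · exact hl (hcol l fun e => hkl (hks.trans e.symm))
  · exact hk (hcol k hks)

omit [Fintype F] in
theorem conj_mem_SL {B g : GL (Fin n) F} (hg : (g : Mn).det = 1) :
    B * g * B⁻¹ ∈ specialLinear (Fin n) F :=
  conj_mem_specialLinear (MonoidHom.mem_ker.2 (Units.ext hg))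

/-- An element of determinant one. -/
noncomputable def dgl (M : Mn) (hd : M.det = 1) : GL (Fin n) F :=
  Matrix.GeneralLinearGroup.mkOfDetNeZero M (hd.trans_ne one_ne_zero)

/-- A sum of unit vectors. -/
def ones (s : Finset (Fin n)) : Fin n → F := fun i => if i ∈ s then 1 else 0

omit [Fintype F] in
theorem ones_dot (s : Finset (Fin n)) (x : Fin n → F) : ones s ⬝ᵥ x = ∑ i ∈ s, x i := by
  simp [ones, dotProduct, Finset.sum_ite_mem]

/-- Monomial groups over at most four elements. -/
theorem sl_frame_not_maximal (hn : 8 ≤ n) (hsmall : Fintype.card F ≤ 4)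
    {D : Fin n → Submodule F (Fin n → F)} (hD : IsMDecomposition 1 D) :
    ∃ K : Subgroup (GL (Fin n) F),
      decompositionStabilizer D ⊓ specialLinear (Fin n) F < K ∧ K < specialLinear (Fin n) F := by
  obtain ⟨B, hB⟩ := frame_monomial hD
  have : NeZero n := ⟨by omega⟩
  let i : Fin 8 → Fin n := fun k => ⟨k.1, by omega⟩
  have hi : ∀ a b : Fin 8, a ≠ b → i a ≠ i b := fun a b hab he => hab (Fin.ext (by simpa [i, Fin.ext_iff] using he))
  have hinj : Function.Injective i := fun a b he => by_contra fun hab => hi a b hab he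
  have hdot : ∀ S T : Finset (Fin 8),
      ones (F := F) (S.image i) ⬝ᵥ ones (T.image i) = ((S ∩ T).card : F) := fun S T => by
    rw [ones_dot, Finset.sum_image fun a _ b _ h => hinj h]
    simp [ones, hinj.eq_iff, Finset.sum_ite_mem]
  have hones : ∀ (S : Finset (Fin 8)) (a : Fin 8),
      ones (F := F) (S.image i) (i a) = if a ∈ S then 1 else 0 := fun S a => by
    simp [ones, hinj.eq_iff]
  have finish : ∀ (K : Subgroup (GL (Fin n) F)) (g : GL (Fin n) F) (j k l : Fin n),
      decompositionStabilizer D ⊓ specialLinear (Fin n) F ≤ K →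
      ¬ specialLinear (Fin n) F ≤ K → (g : Mn).det = 1 → B * g * B⁻¹ ∈ K → k ≠ l →
      (g : Mn) k j ≠ 0 → (g : Mn) l j ≠ 0 →
      ∃ K : Subgroup (GL (Fin n) F),
        decompositionStabilizer D ⊓ specialLinear (Fin n) F < K ∧ K < specialLinear (Fin n) F := by
    intro K g j k l hle hne hd hg hkl h1 h2
    refine ⟨K ⊓ specialLinear (Fin n) F, lt_of_le_of_ne (le_inf hle inf_le_right) fun e => ?_,
      lt_of_le_of_ne inf_le_right fun e => hne (e.ge.trans inf_le_left)⟩
    have : B * g * B⁻¹ ∈ K ⊓ specialLinear (Fin n) F := ⟨hg, conj_mem_SL hd⟩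
    rw [← e] at this
    exact not_monomial hB hkl h1 h2 this.1
  have hBg : ∀ (g : GL (Fin n) F) (z : Fin n → F),
      ((B⁻¹ : GL (Fin n) F) : Mn) *ᵥ (((B * g * B⁻¹ : GL (Fin n) F) : Mn) *ᵥ z) =
        (g : Mn) *ᵥ (((B⁻¹ : GL (Fin n) F) : Mn) *ᵥ z) := fun g z => by
    simp only [mul_mulVec, inv_mulVec_cancel]
  rcases card_two_or_three_or_four (show Fintype.card F < 5 by omega) with hq | hq | hq
  · -- a vector fixed by all monomial matrices
    have h2 : (2 : F) = 0 := two_eq_zero_iff.2 (by rw [hq]; decide)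
    let u : Fin n → F := fun _ => 1
    set w := (B : Mn) *ᵥ u with hw
    have hw0 : w ≠ 0 := fun h =>
      one_ne_zero (congrFun (mulVec_injective B (h.trans (Matrix.mulVec_zero _).symm)) 0)
    have hfix : ∀ x ∈ decompositionStabilizer D, (x : Mn) *ᵥ w = w := by
      intro x hx
      obtain ⟨π, a, ha, h⟩ := hB x hx
      have e : ((B⁻¹ * x * B : GL (Fin n) F) : Mn) *ᵥ u = u := by
        funext k
        obtain ⟨k, rfl⟩ := π.surjective k
        rw [h, eq_one_of_card_two hq (ha k), one_mul]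
      rw [mul_mulVec, mul_mulVec] at e
      have h' := congrArg (fun z => (B : Mn) *ᵥ z) e
      simp only [mulVec_inv_cancel] at h'
      exact h'
    set φ : Fin n → F := ones {i 0, i 1} with hφ
    set v : Fin n → F := Pi.single (i 2) 1 with hv
    have hd : (1 + vecMulVec v φ : Mn).det = 1 := by
      rw [vecMulVec_eq (ι := Unit), det_one_add_replicateCol_mul_replicateRow, hφ, hv, ones_dot]
      rw [Finset.sum_pair (hi 0 1 (by decide)), Pi.single_eq_of_ne (hi 0 2 (by decide)),
        Pi.single_eq_of_ne (hi 1 2 (by decide))]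
      simp
    have hwne : Submodule.span F {w} ≠ ⊤ := fun h => by
      have h' := congrArg (fun V : Submodule F (Fin n → F) => finrank F V) h
      simp only [finrank_span_singleton hw0, finrank_top, Module.finrank_fin_fun] at h'
      omega
    have hgu : (1 + vecMulVec v φ : Mn) *ᵥ u = u := by
      rw [add_mulVec, one_mulVec, vecMulVec_mulVec, op_smul_eq_smul, hφ, ones_dot,
        Finset.sum_pair (hi 0 1 (by decide))]
      rw [show (u (i 0) + u (i 1)) = (0 : F) by show (1 : F) + 1 = 0; linear_combination h2,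
        zero_smul, add_zero]
    refine finish (subspaceStabilizer (Submodule.span F {w})) (dgl _ hd) (i 0) (i 0) (i 2)
      (fun x hx => mem_stab_of_maps fun y hy => ?_)
      (not_le_subspaceStabilizer (fun h => hw0 (Submodule.span_singleton_eq_bot.1 h)) hwne) hd
      (mem_stab_of_maps fun y hy => ?_) (hi 0 2 (by decide)) ?_ ?_
    · obtain ⟨c, rfl⟩ := Submodule.mem_span_singleton.1 hy
      rw [Matrix.mulVec_smul, hfix x hx.1]
      exact Submodule.smul_mem _ _ (Submodule.mem_span_singleton_self w)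
    · obtain ⟨c, rfl⟩ := Submodule.mem_span_singleton.1 hy
      have e : ((B * dgl _ hd * B⁻¹ : GL (Fin n) F) : Mn) *ᵥ w = w := by
        rw [mul_mulVec, mul_mulVec, hw, inv_mulVec_cancel]
        exact congrArg (fun z => (B : Mn) *ᵥ z) hgu
      rw [Matrix.mulVec_smul, e]
      exact Submodule.smul_mem _ _ (Submodule.mem_span_singleton_self w)
    · show (1 + vecMulVec v φ : Mn) (i 0) (i 0) ≠ 0
      simp [hv, hi 0 2 (by decide), Matrix.vecMulVec_apply]
    · show (1 + vecMulVec v φ : Mn) (i 2) (i 0) ≠ 0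
      simp [hv, hφ, ones, (hi 2 0 (by decide)), Matrix.vecMulVec_apply]
  · -- the sum of squares
    have hnorm : ∀ a : F, a ≠ 0 → a * (RingEquiv.refl F) a = 1 := fun a ha => by
      have h := FiniteField.pow_card_sub_one_eq_one a ha
      rw [hq] at h
      simpa [sq] using h
    have : Fact (Nat.Prime 3) := ⟨Nat.prime_three⟩
    have : CharP F 3 := charP_of_card_eq_prime_pow (f := 1) (by rw [hq]; norm_num)
    have h3 : (3 : F) = 0 := by exact_mod_cast CharP.cast_eq_zero F 3
    have h2' : (2 : F) ≠ 0 := fun h => one_ne_zero (by linear_combination h3 - h : (1 : F) = 0)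
    set v : Fin n → F := ones (({0, 1, 2, 3} : Finset (Fin 8)).image i) with hv
    set w : Fin n → F := ones (({4, 5, 6, 7} : Finset (Fin 8)).image i) with hw
    have hvw : v ⬝ᵥ w = 0 := by
      rw [hv, hw, hdot, show (({0, 1, 2, 3} : Finset (Fin 8)) ∩ {4, 5, 6, 7}).card = 0 by decide]
      simp
    have hvv : v ⬝ᵥ v = 1 := by
      rw [hv, hdot, show (({0, 1, 2, 3} : Finset (Fin 8)) ∩ {0, 1, 2, 3}).card = 4 by decide]
      push_cast
      linear_combination h3
    have hww : w ⬝ᵥ w = 1 := by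
      rw [hw, hdot, show (({4, 5, 6, 7} : Finset (Fin 8)) ∩ {4, 5, 6, 7}).card = 4 by decide]
      push_cast
      linear_combination h3
    have hd : ((1 + vecMulVec v v) * (1 + vecMulVec w w) : Mn).det = 1 := by
      rw [Matrix.det_mul, vecMulVec_eq (ι := Unit), det_one_add_replicateCol_mul_replicateRow,
        vecMulVec_eq (ι := Unit), det_one_add_replicateCol_mul_replicateRow, hvv, hww]
      linear_combination h3
    have hgy : ∀ y, ((1 + vecMulVec v v) * (1 + vecMulVec w w) : Mn) *ᵥ y =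
        y + (v ⬝ᵥ y) • v + (w ⬝ᵥ y) • w := by
      intro y
      rw [← mulVec_mulVec]
      simp only [add_mulVec, one_mulVec, vecMulVec_mulVec, op_smul_eq_smul, dotProduct_add,
        dotProduct_smul, hvw, mulVec_add, mulVec_smul]
      module
    let f := diagForm (RingEquiv.refl F) B
    let Q : (Fin n → F) → F := fun z => f z z
    have hsym : ∀ a b, f a b = f b a := fun a b =>
      Finset.sum_congr rfl fun k _ => mul_comm _ _
    have hiso : ∀ z, Q (((B * dgl _ hd * B⁻¹ : GL (Fin n) F) : Mn) *ᵥ z) = Q z := by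
      intro z
      show ∑ k, _ * _ = ∑ k, _ * _
      simp only [RingEquiv.refl_apply, hBg]
      set y := ((B⁻¹ : GL (Fin n) F) : Mn) *ᵥ z
      have e : ((dgl _ hd : GL (Fin n) F) : Mn) *ᵥ y = y + (v ⬝ᵥ y) • v + (w ⬝ᵥ y) • w := hgy y
      rw [e]
      show (y + (v ⬝ᵥ y) • v + (w ⬝ᵥ y) • w) ⬝ᵥ (y + (v ⬝ᵥ y) • v + (w ⬝ᵥ y) • w) = y ⬝ᵥ y
      simp only [dotProduct_add, add_dotProduct, dotProduct_smul, smul_dotProduct, smul_eq_mul, hvv,
        hww, hvw, dotProduct_comm w v, dotProduct_comm y v, dotProduct_comm y w]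
      linear_combination ((v ⬝ᵥ y) ^ 2 + (w ⬝ᵥ y) ^ 2) * h3
    have hQ : IsNondegenerateQuadraticForm Q := by
      have hpolar : ∀ a b, QuadraticMap.polar Q a b = 2 * f a b := fun a b => by
        simp only [Q, f, QuadraticMap.polar, diagForm, RingEquiv.refl_apply, Matrix.mulVec_add,
          Pi.add_apply, Finset.mul_sum, ← Finset.sum_sub_distrib]
        exact Finset.sum_congr rfl fun k _ => by ring
      refine ⟨?_, ?_, fun z hz => ?_⟩
      · intro c z
        simp only [Q, f, diagForm, RingEquiv.refl_apply, Matrix.mulVec_smul, Pi.smul_apply,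
          smul_eq_mul, Finset.mul_sum]
        exact Finset.sum_congr rfl fun k _ => by ring
      · constructor
        all_goals intros
        all_goals simp only [hpolar, f, diagForm, RingEquiv.refl_apply, Matrix.mulVec_add,
          Matrix.mulVec_smul, Pi.add_apply, Pi.smul_apply, smul_eq_mul, Finset.mul_sum,
          ← Finset.sum_add_distrib]
        all_goals exact Finset.sum_congr rfl fun k _ => by ring
      · obtain ⟨⟨x, hx⟩, y, hy⟩ := diagForm_nondegenerate (RingEquiv.refl F) B z hz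
        exact ⟨⟨x, by rw [hpolar]; exact mul_ne_zero h2' hx⟩,
          ⟨y, by rw [hpolar]; exact mul_ne_zero h2' hy⟩⟩
    refine finish (quadSimilarityGroup Q) (dgl _ hd) (i 0) (i 1) (i 2)
      (fun x hx => ?_) (not_le_quadSimilarityGroup hQ (by simp; omega)) hd
      ⟨1, fun z => by rw [Units.val_one, one_mul]; exact hiso z⟩ (hi 1 2 (by decide)) ?_ ?_
    · obtain ⟨π, a, ha, h⟩ := hB x hx.1
      exact ⟨1, fun z => by rw [Units.val_one, one_mul]; exact diagForm_monomial _ hnorm B x π a ha h z z⟩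
    all_goals
      show ((1 + vecMulVec v v) * (1 + vecMulVec w w) : Mn) _ _ ≠ 0
      have h1 := congrFun (hgy (Pi.single (i 0) 1))
      simp only [mulVec_single_one, col_apply] at h1
      rw [h1]
      have hv' : ∀ a : Fin 8, v (i a) = if a.1 < 4 then 1 else 0 := fun a => by
        rw [hv, hones]; exact if_congr (by fin_cases a <;> decide) rfl rfl
      have hw' : ∀ a : Fin 8, w (i a) = if a.1 < 4 then 0 else 1 := fun a => by
        rw [hw, hones]; fin_cases a <;> simp
      simp [hv', hw', hinj.eq_iff]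
  · -- a unitary form
    have h2 : (2 : F) = 0 := two_eq_zero_iff.2 (by rw [hq]; decide)
    obtain ⟨σ, hσ, hf0⟩ := exists_unitary_hermForm (n := n) (F := F) (q := 2) hq
    have hnorm : ∀ a : F, a ≠ 0 → a * σ a = 1 := fun a ha => by
      have h := FiniteField.pow_card_sub_one_eq_one a ha
      rw [hq] at h
      rw [hσ, ← pow_succ']
      exact h
    have hf := diagForm_unitary σ hf0.ne_refl hf0.involutive B
    set v : Fin n → F := ones (({0, 1, 2, 3} : Finset (Fin 8)).image i) with hv
    have hσv : σ ∘ v = v := funext fun k => by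
      simp only [hv, ones, Function.comp_apply]; split_ifs <;> simp
    have hvv : v ⬝ᵥ v = 0 := by
      rw [hv, hdot, show (({0, 1, 2, 3} : Finset (Fin 8)) ∩ {0, 1, 2, 3}).card = 4 by decide]
      push_cast
      linear_combination 2 * h2
    have hd : (1 + vecMulVec v v : Mn).det = 1 := by
      rw [vecMulVec_eq (ι := Unit), det_one_add_replicateCol_mul_replicateRow, hvv, add_zero]
    have hgy : ∀ y, (1 + vecMulVec v v : Mn) *ᵥ y = y + (v ⬝ᵥ y) • v := fun y => by
      rw [add_mulVec, one_mulVec, vecMulVec_mulVec, op_smul_eq_smul]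
    have hiso : ∀ a b, diagForm σ B (((B * dgl _ hd * B⁻¹ : GL (Fin n) F) : Mn) *ᵥ a)
        (((B * dgl _ hd * B⁻¹ : GL (Fin n) F) : Mn) *ᵥ b) = diagForm σ B a b := by
      intro a b
      simp only [diagForm, hBg]
      set x := ((B⁻¹ : GL (Fin n) F) : Mn) *ᵥ a
      set y := ((B⁻¹ : GL (Fin n) F) : Mn) *ᵥ b
      have hx : ((dgl _ hd : GL (Fin n) F) : Mn) *ᵥ x = x + (v ⬝ᵥ x) • v := hgy x
      have hy : ((dgl _ hd : GL (Fin n) F) : Mn) *ᵥ y = y + (v ⬝ᵥ y) • v := hgy y
      have hσy : σ ∘ (y + (v ⬝ᵥ y) • v) = (σ ∘ y) + (v ⬝ᵥ (σ ∘ y)) • v := by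
        funext k
        have hsum : σ (v ⬝ᵥ y) = v ⬝ᵥ (σ ∘ y) := by
          conv_rhs => rw [← hσv]
          simp [dotProduct, map_sum, map_mul]
        simp only [Function.comp_apply, Pi.add_apply, Pi.smul_apply, smul_eq_mul, map_add, map_mul,
          hsum, show σ (v k) = v k from congrFun hσv k]
      rw [hx, hy]
      show (x + (v ⬝ᵥ x) • v) ⬝ᵥ (σ ∘ (y + (v ⬝ᵥ y) • v)) = x ⬝ᵥ (σ ∘ y)
      rw [hσy]
      simp only [dotProduct_add, add_dotProduct, dotProduct_smul, smul_dotProduct, smul_eq_mul, hvv,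
        dotProduct_comm x v]
      linear_combination (v ⬝ᵥ x) * (v ⬝ᵥ (σ ∘ y)) * h2
    refine finish (similarityGroup (diagForm σ B)) (dgl _ hd) (i 0) (i 1) (i 2) (fun x hx => ?_)
      (not_le_similarityGroup (isSesq_of_unitary hf) hf.nondegenerate (by simp; omega)) hd
      ⟨1, fun a b => by rw [Units.val_one, one_mul]; exact hiso a b⟩ (hi 1 2 (by decide)) ?_ ?_
    · obtain ⟨π, a, ha, h⟩ := hB x hx.1
      exact ⟨1, fun a' b' => by rw [Units.val_one, one_mul]; exact diagForm_monomial σ hnorm B x π a ha h a' b'⟩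
    all_goals
      show (1 + vecMulVec v v : Mn) _ _ ≠ 0
      have hv' : ∀ a : Fin 8, v (i a) = if a.1 < 4 then 1 else 0 := fun a => by
        rw [hv, hones]; exact if_congr (by fin_cases a <;> decide) rfl rfl
      simp [hv', hinj.eq_iff, Matrix.vecMulVec_apply]

/-- Planes over two elements. -/
theorem sl_planes_not_maximal (hn : 5 ≤ n) (hq : Fintype.card F = 2) {t : ℕ}
    {D : Fin t → Submodule F (Fin n → F)} (hD : IsMDecomposition 2 D) :
    ∃ K : Subgroup (GL (Fin n) F),
      decompositionStabilizer D ⊓ specialLinear (Fin n) F < K ∧ K < specialLinear (Fin n) F := by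
  obtain ⟨f, hf, hle⟩ := planes_small_field (Or.inl hq) inf_le_right
    (H := decompositionStabilizer D ⊓ specialLinear (Fin n) F) hD inf_le_left
  have hs := isSesq_of_bilinear hf.bilinear
  refine ⟨similarityGroup f ⊓ specialLinear (Fin n) F, lt_of_le_of_ne (le_inf hle inf_le_right) ?_,
    lt_of_le_of_ne inf_le_right fun e => ?_⟩
  swap
  · exact not_le_similarityGroup hs hf.nondegenerate (by simp; omega) (e.ge.trans inf_le_left)
  intro heq
  have hne : ∀ i, ∃ a ∈ D i, a ≠ 0 := fun i =>
    Submodule.exists_mem_ne_zero_of_ne_bot (fun h => by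
      have := hD.finrank_eq i
      rw [h, finrank_bot] at this
      omega)
  let i₀ : Fin t := ⟨0, by have := hD.two_le; omega⟩
  let i₁ : Fin t := ⟨1, by have := hD.two_le; omega⟩
  have h01 : i₀ ≠ i₁ := by simp [i₀, i₁, Fin.ext_iff]
  obtain ⟨a, ha, ha0⟩ := hne i₀
  obtain ⟨b, hb, hb0⟩ := hne i₁
  have hvD : ∀ k, a + b ∉ D k := by
    intro k hk
    by_cases hk0 : k = i₀
    · subst hk0
      exact hb0 (Submodule.disjoint_def.1 (hD.indep.pairwiseDisjoint h01) b
        (by simpa using (D i₀).sub_mem hk ha) hb)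
    · refine ha0 (Submodule.disjoint_def.1 (hD.indep i₀) a ha ?_)
      have h1 : b ∈ ⨆ j, ⨆ (_ : j ≠ i₀), D j := le_iSup₂ (f := fun j _ => D j) i₁ h01.symm hb
      have h2 : a + b ∈ ⨆ j, ⨆ (_ : j ≠ i₀), D j := le_iSup₂ (f := fun j _ => D j) k hk0 hk
      simpa using Submodule.sub_mem _ h2 h1
  set v := a + b with hv
  let φ : (Fin n → F) →ₗ[F] F :=
    { toFun := fun x => f x v
      map_add' := fun x y => hs.add_left x y v
      map_smul' := fun c x => hs.smul_left c x v }
  have hv0 : v ≠ 0 := fun e => hvD i₀ (e ▸ (D i₀).zero_mem)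
  have hφ : φ ≠ 0 := fun e => by
    obtain ⟨⟨x, hx⟩, -⟩ := hf.nondegenerate v hv0
    exact hx (LinearMap.congr_fun e x)
  set ψ := (dotProductEquiv F (Fin n)).symm φ with hψ
  have hψx : ∀ x, ψ ⬝ᵥ x = f x v := fun x =>
    LinearMap.congr_fun ((dotProductEquiv F (Fin n)).apply_symm_apply φ) x
  have hd : (1 + vecMulVec v ψ : Mn).det = 1 := by
    rw [vecMulVec_eq (ι := Unit), det_one_add_replicateCol_mul_replicateRow, hψx, hf.alternating,
      add_zero]
  set g := dgl _ hd
  have hgx : ∀ x, (g : Mn) *ᵥ x = x + φ x • v := fun x => by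
    show (1 + vecMulVec v ψ) *ᵥ x = _
    rw [add_mulVec, one_mulVec, vecMulVec_mulVec, op_smul_eq_smul, hψx]
    rfl
  have hswap : ∀ x, f v x = -f x v := fun x => by
    have := hf.alternating (x + v)
    rw [hs.add_left x v (x + v), hs.add_right x x v, hs.add_right v x v, hf.alternating, hf.alternating] at this
    linear_combination this
  have hgf : g ∈ similarityGroup f := ⟨1, fun x y => by
    rw [Units.val_one, one_mul, hgx, hgx, hs.add_left, hs.add_right, hs.add_right, hs.smul_left,
      hs.smul_left, hf.bilinear.smul_right, hf.bilinear.smul_right, hf.alternating, hswap]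
    show f x y + f y v * f x v + (f x v * -f y v + f x v * (f y v * 0)) = f x y
    ring⟩
  obtain ⟨i, w, hw, hwv⟩ := exists_block_ne hD hφ
  refine not_mem_decomp hD le_rfl hgx hvD hw hwv ?_
  have : g ∈ similarityGroup f ⊓ specialLinear (Fin n) F := ⟨hgf, Units.ext hd⟩
  rw [← heq] at this
  exact this.1

/-- A two-dimensional tensor factor over two elements. -/
theorem sl_tensor_not_maximal (hn : 5 ≤ n) (hq : Fintype.card F = 2) {n₂ : ℕ}
    (e : Fin n ≃ Fin 2 × Fin n₂) (P : GL (Fin n) F) :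
    ∃ K : Subgroup (GL (Fin n) F),
      tensorProductSubgroup 2 n₂ e P ⊓ specialLinear (Fin n) F < K ∧ K < specialLinear (Fin n) F := by
  have hn2 : n = 2 * n₂ := by
    have := Fintype.card_congr e
    rwa [Fintype.card_prod, Fintype.card_fin, Fintype.card_fin, Fintype.card_fin] at this
  have : NeZero n₂ := ⟨by omega⟩
  obtain ⟨K, hK, hle, hcomm⟩ := tensor_two_small_field_span hq e P
  refine ⟨subalgebraNormalizer K ⊓ specialLinear (Fin n) F,
    lt_of_le_of_ne (le_inf (inf_le_left.trans hle) inf_le_right) ?_,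
    lt_of_le_of_ne inf_le_right fun e' => ?_⟩
  swap
  · exact not_le_subalgebraNormalizer hK (by norm_num) (by simp; omega) (e'.ge.trans inf_le_left)
  intro heq
  have h2 : (2 : F) = 0 := two_eq_zero_iff.2 (by rw [hq]; decide)
  have : Fact (Nat.Prime 2) := ⟨Nat.prime_two⟩
  set w : Matrix (Fin 2) (Fin 2) F := !![0, 1; 1, 1] with hw
  set w' : Matrix (Fin 2) (Fin 2) F := !![1, 1; 1, 0] with hw'
  have hww : w * w' = 1 := by
    ext a b
    fin_cases a <;> fin_cases b <;> simp [hw, hw', Matrix.mul_apply, Fin.sum_univ_two]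
    linear_combination h2
  let k0 : Fin n₂ := ⟨0, by omega⟩
  let k1 : Fin n₂ := ⟨1, by omega⟩
  set E : Matrix (Fin n₂) (Fin n₂) F := Matrix.single k0 k0 1 with hE
  have hEE : E * E = E := by simp [hE]
  set X := w ⊗ₖ E + (1 : Matrix (Fin 2) (Fin 2) F) ⊗ₖ (1 - E) with hX
  set Y := w' ⊗ₖ E + (1 : Matrix (Fin 2) (Fin 2) F) ⊗ₖ (1 - E) with hY
  have hXY : X * Y = 1 := by
    rw [hX, hY]
    simp only [add_mul, mul_add, ← Matrix.mul_kronecker_mul, hww, one_mul, mul_one, sub_mul, mul_sub,
      hEE, sub_self, sub_zero, Matrix.kronecker_zero, zero_add, add_zero, ← Matrix.kronecker_add,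
      add_sub_cancel, Matrix.one_kronecker_one]
  let g' : GL (Fin 2 × Fin n₂) F := ⟨X, Y, hXY, mul_eq_one_comm.1 hXY⟩
  set g := frU e P g' with hg
  have hgdet : (g : Mn).det = 1 := eq_one_of_card_two hq g.det_ne_zero
  have hgK : g ∈ subalgebraNormalizer K := hcomm g (by
    rw [hg, frU_val]
    refine Commute.map ?_ (frAlg e P)
    show X * _ = _ * X
    rw [hX]
    simp only [add_mul, mul_add, ← Matrix.mul_kronecker_mul, one_mul, mul_one]
    done)
  have : g ∈ subalgebraNormalizer K ⊓ specialLinear (Fin n) F := ⟨hgK, Units.ext hgdet⟩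
  rw [← heq] at this
  have h := this.1
  rw [tensorProductSubgroup, map_glReindex_conj] at h
  obtain ⟨Z, ⟨A, B, hZ⟩, hZg⟩ := h
  obtain rfl : Z = g' := (frU e P).injective hZg
  have hent : ∀ a b c d, (A : Matrix (Fin 2) (Fin 2) F) a c * (B : Matrix (Fin n₂) (Fin n₂) F) b d =
      X (a, b) (c, d) := fun a b c d => by
    rw [show X = ((⟨X, Y, hXY, mul_eq_one_comm.1 hXY⟩ : GL (Fin 2 × Fin n₂) F) : Matrix _ _ F) from rfl,
      hZ]
    rfl
  have hk : k0 ≠ k1 := by simp [k0, k1, Fin.ext_iff]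
  have e1 := hent 0 k0 1 k0
  have e2 := hent 0 k1 1 k1
  have e3 := hent 0 k1 0 k1
  simp [hX, hw, hE, hk, hk.symm, Matrix.single_apply] at e1 e2 e3
  rcases e2 with h0 | h0
  · rw [h0, zero_mul] at e1; exact zero_ne_one e1
  · rw [h0, mul_zero] at e3; exact zero_ne_one e3

end CfsgLib.MaxSub
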