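/-
A maximal subgroup of a point stabiliser of odd degree, when the action contains the alternating
group, is maximal in every maximal subgroup above it.
-/
import Mathlib

set_option autoImplicit false

namespace CfsgLib.MaxSub.OddDegree

open Equiv
open scoped Pointwise

variable {G Ω : Type*} [Group G] [MulAction G Ω]

/-- The image of `G` contains the alternating group, by a three-cycle. -/
theorem exists_three [Fintype Ω] [DecidableEq Ω]
    (hA : alternatingGroup Ω ≤ (MulAction.toPermHom G Ω).range) {x y z : Ω} (hxy : x ≠ y)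
    (hxz : x ≠ z) (hyz : y ≠ z) :
    ∃ g : G, g • x = y ∧ g • y = z ∧ g • z = x ∧
      ∀ w, w ≠ x → w ≠ y → w ≠ z → g • w = w := by
  have h3 := (Perm.isThreeCycle_swap_mul_swap_same hxy hxz hyz).mem_alternatingGroup
  obtain ⟨g, hg⟩ := hA (inv_mem h3)
  have hv : ∀ w, g • w = (swap x y * swap x z)⁻¹ w := fun w => by
    rw [← hg]; rfl
  refine ⟨g, ?_, ?_, ?_, fun w hx hy hz => ?_⟩
  · rw [hv, mul_inv_rev, Perm.mul_apply, swap_inv, swap_inv, swap_apply_left,
      swap_apply_of_ne_of_ne hxy.symm hyz]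
  · rw [hv, mul_inv_rev, Perm.mul_apply, swap_inv, swap_inv, swap_apply_right, swap_apply_left]
  · rw [hv, mul_inv_rev, Perm.mul_apply, swap_inv, swap_inv,
      swap_apply_of_ne_of_ne hxz.symm hyz.symm, swap_apply_right]
  · rw [hv, mul_inv_rev, Perm.mul_apply, swap_inv, swap_inv, swap_apply_of_ne_of_ne hx hy,
      swap_apply_of_ne_of_ne hx hz]

/-- Two disjoint transpositions. -/
theorem exists_pairs [Fintype Ω] [DecidableEq Ω]
    (hA : alternatingGroup Ω ≤ (MulAction.toPermHom G Ω).range) {x y u v : Ω} (hxy : x ≠ y)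
    (huv : u ≠ v) (hxu : x ≠ u) (hxv : x ≠ v) (hyu : y ≠ u) (hyv : y ≠ v) :
    ∃ g : G, g • x = y ∧ g • y = x ∧ ∀ w, w ≠ x → w ≠ y → w ≠ u → w ≠ v → g • w = w := by
  have h : swap u v * swap x y ∈ alternatingGroup Ω := by
    rw [Perm.mem_alternatingGroup, map_mul, Perm.sign_swap huv, Perm.sign_swap hxy]
    norm_num
  obtain ⟨g, hg⟩ := hA h
  have hv : ∀ w, g • w = (swap u v * swap x y) w := fun w => by
    rw [← hg]; rfl
  refine ⟨g, ?_, ?_, fun w hx hy hu hv' => ?_⟩
  · rw [hv, Perm.mul_apply, swap_apply_left, swap_apply_of_ne_of_ne hyu hyv]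
  · rw [hv, Perm.mul_apply, swap_apply_right, swap_apply_of_ne_of_ne hxu hxv]
  · rw [hv, Perm.mul_apply, swap_apply_of_ne_of_ne hx hy, swap_apply_of_ne_of_ne hu hv']

/-- The main statement, for a transitive action and `M` the stabiliser of `a`. -/
theorem second_maximal [Fintype Ω] [DecidableEq Ω] [MulAction.IsPretransitive G Ω]
    (hodd : Odd (Fintype.card Ω))
    (hA : alternatingGroup Ω ≤ (MulAction.toPermHom G Ω).range) (a : Ω)
    (hM : IsCoatom (MulAction.stabilizer G a)) (H : Subgroup G)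
    (hHM : H ≤ MulAction.stabilizer G a) (hmax : IsCoatom (H.subgroupOf (MulAction.stabilizer G a)))
    (K : Subgroup G) (hK : IsCoatom K) (hHK : H ≤ K) : IsCoatom (H.subgroupOf K) := by
  classical
  set M := MulAction.stabilizer G a with hMdef
  by_cases hKM : K = M
  · rw [hKM]; exact hmax
  -- between `H` and `M`
  have hbetween : ∀ X : Subgroup G, H ≤ X → X ≤ M → X = H ∨ X = M := by
    intro X h1 h2
    rcases eq_or_lt_of_le (show H.subgroupOf M ≤ X.subgroupOf M from fun x hx => h1 hx) with e | e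
    · exact Or.inl (le_antisymm (fun x hx => by
        have : (⟨x, h2 hx⟩ : M) ∈ X.subgroupOf M := hx
        rw [← e] at this
        exact this) h1)
    · refine Or.inr (le_antisymm h2 fun x hx => ?_)
      have := hmax.2 _ e
      exact (this ▸ Subgroup.mem_top (⟨x, hx⟩ : M) : (⟨x, hx⟩ : M) ∈ X.subgroupOf M)
  have hnle : ¬ M ≤ K := fun h => hKM (hM.2 K |> fun f => by
    rcases eq_or_lt_of_le h with e | e
    · exact e.symm
    · exact absurd (f e) hK.1)
  have hKMH : K ⊓ M = H := by
    rcases hbetween (K ⊓ M) (le_inf hHK hHM) inf_le_right with e | e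
    · exact e
    · exact absurd (e ▸ inf_le_left) hnle
  refine ⟨fun e => ?_, fun X hX => ?_⟩
  · have hKH : K ≤ M := fun x hx =>
      hHM (show (⟨x, hx⟩ : K) ∈ H.subgroupOf K from e ▸ Subgroup.mem_top _)
    rcases eq_or_lt_of_le hKH with h | h
    · exact hKM h
    · exact hM.1 (hK.2 _ h)
  obtain ⟨L, hLdef⟩ : ∃ L, L = X.map K.subtype := ⟨_, rfl⟩
  have hLK : L ≤ K := hLdef ▸ Subgroup.map_subtype_le X
  have hHL : H ≤ L := fun x hx => hLdef ▸ ⟨⟨x, hHK hx⟩, hX.le hx, rfl⟩
  suffices hKL : K ≤ L from eq_top_iff.2 fun x _ => by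
    obtain ⟨y, hy, hyx⟩ := (hLdef ▸ hKL x.2 : (x : G) ∈ X.map K.subtype)
    rwa [← Subtype.ext hyx]
  obtain ⟨l₀, hl₀, hl₀M⟩ : ∃ l ∈ L, l ∉ M := by
    by_contra hc
    push Not at hc
    refine hX.not_ge fun x hx => ?_
    have hxL : (x : G) ∈ L := hLdef ▸ ⟨x, hx, rfl⟩
    show (x : G) ∈ H
    rw [← hKMH]
    exact ⟨x.2, hc _ hxL⟩
  obtain ⟨O, hO⟩ : ∃ O : Set Ω, O = {x | ∃ k ∈ K, k • a = x} := ⟨_, rfl⟩
  obtain ⟨B, hB⟩ : ∃ B : Set Ω, B = {x | ∃ l ∈ L, l • a = x} := ⟨_, rfl⟩
  have haO : a ∈ O := hO ▸ ⟨1, one_mem _, one_smul _ _⟩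
  have haB : a ∈ B := hB ▸ ⟨1, one_mem _, one_smul _ _⟩
  have hBO : B ⊆ O := fun x hx => by
    rw [hB] at hx; obtain ⟨l, hl, e⟩ := hx; exact hO ▸ ⟨l, hLK hl, e⟩
  -- it is enough that `L` has the same orbit as `K`
  suffices hOB : ∀ x ∈ O, x ∈ B by
    intro k hk
    obtain ⟨l, hl, e⟩ : ∃ l ∈ L, l • a = k • a := by
      have := hOB (k • a) (hO ▸ ⟨k, hk, rfl⟩)
      rwa [hB] at this
    have h1 : l⁻¹ * k ∈ K ⊓ M := Subgroup.mem_inf.2 ⟨mul_mem (inv_mem (hLK hl)) hk, by
      rw [hMdef]
      show (l⁻¹ * k) • a = a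
      rw [mul_smul, ← e, inv_smul_smul]⟩
    rw [hKMH] at h1
    simpa using mul_mem hl (hHL h1)
  have hb : l₀ • a ∈ B ∧ l₀ • a ≠ a := ⟨hB ▸ ⟨l₀, hl₀, rfl⟩, fun h => hl₀M h⟩
  obtain ⟨b, hbB, hba⟩ : ∃ b ∈ B, b ≠ a := ⟨_, hb⟩
  by_cases htr : ∀ x, x ∈ O
  · -- transitive: a block system would be fixed by too large a subgroup
    by_contra hc
    push Not at hc
    obtain ⟨c, -, hcB⟩ := hc
    have hblock : ∀ k ∈ K, ∀ x ∈ B, k • x ∈ B → ∀ y ∈ B, k • y ∈ B := by
      intro k hk x hx hkx y hy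
      rw [hB] at hx hkx hy ⊢
      obtain ⟨l, hl, rfl⟩ := hx
      obtain ⟨l', hl', e⟩ := hkx
      obtain ⟨m, hm, rfl⟩ := hy
      have h1 : l'⁻¹ * k * l ∈ K ⊓ M :=
        Subgroup.mem_inf.2 ⟨mul_mem (mul_mem (inv_mem (hLK hl')) hk) (hLK hl), by
          rw [hMdef]
          show (l'⁻¹ * k * l) • a = a
          rw [mul_smul, mul_smul, ← e, inv_smul_smul]⟩
      rw [hKMH] at h1
      refine ⟨k * m, ?_, mul_smul _ _ _⟩
      have := mul_mem (mul_mem (mul_mem hl' (hHL h1)) (inv_mem hl)) hm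
      simpa [mul_assoc] using this
    obtain ⟨X', hX'⟩ : ∃ X', X' = M ⊓ MulAction.stabilizer G B := ⟨_, rfl⟩
    have hHX' : H ≤ X' := fun h hh => by
      refine hX' ▸ Subgroup.mem_inf.2 ⟨hHM hh, ?_⟩
      rw [MulAction.mem_stabilizer_set]
      intro x
      rw [hB]
      constructor
      · rintro ⟨l, hl, e⟩
        exact ⟨h⁻¹ * l, mul_mem (inv_mem (hHL hh)) hl, by rw [mul_smul, e, inv_smul_smul]⟩
      · rintro ⟨l, hl, rfl⟩
        exact ⟨h * l, mul_mem (hHL hh) hl, mul_smul _ _ _⟩
    have hX'H : X' = H := by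
      rcases hbetween X' hHX' (hX' ▸ inf_le_left) with e | e
      · exact e
      exfalso
      -- an element fixing `a` moves `b` outside
      have hca : c ≠ a := fun h => hcB (h ▸ haB)
      have hbc : b ≠ c := fun h => hcB (h ▸ hbB)
      obtain ⟨d, hd⟩ : ∃ d, d ∉ ({a, b, c} : Finset Ω) := by
        by_contra hd
        push Not at hd
        have h1 : Fintype.card Ω ≤ ({a, b, c} : Finset Ω).card :=
          Finset.card_le_card fun x _ => hd x
        have h2 : ({a, b, c} : Finset Ω).card = 3 := by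
          rw [Finset.card_insert_of_notMem (by simp [hba.symm, hca.symm]),
            Finset.card_insert_of_notMem (by simp [hbc]), Finset.card_singleton]
        -- `K` has the block `B` of size at least two, and a second one
        obtain ⟨k, hk, hkc⟩ : ∃ k ∈ K, k • a = c := by have := htr c; rwa [hO] at this
        have hkb : k • b ∉ B := fun h => hcB (hkc ▸ hblock k hk b hbB h a haB)
        have h3 := hd (k • b)
        simp only [Finset.mem_insert, Finset.mem_singleton] at h3
        rcases h3 with h3 | h3 | h3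
        · exact hkb (by rw [h3]; exact haB)
        · exact hkb (by rw [h3]; exact hbB)
        · exact hba (MulAction.injective k (h3.trans hkc.symm))
      simp only [Finset.mem_insert, Finset.mem_singleton, not_or] at hd
      obtain ⟨g, hg1, -, -, hg3⟩ := exists_three hA hbc (Ne.symm hd.2.1) (Ne.symm hd.2.2)
      have hgM : g ∈ M := hg3 a hba.symm hca.symm (Ne.symm hd.1)
      rw [← e, hX'] at hgM
      have := (MulAction.mem_stabilizer_set.1 hgM.2 b).2 hbB
      exact hcB (hg1 ▸ this)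
    obtain ⟨k, hk, hkc⟩ : ∃ k ∈ K, k • a = c := by have := htr c; rwa [hO] at this
    -- a point outside the two blocks
    obtain ⟨z, hzB, hzk⟩ : ∃ z, z ∉ B ∧ k⁻¹ • z ∉ B := by
      by_contra hz
      push Not at hz
      have hdis : Disjoint B.toFinset (B.toFinset.image (k • ·)) := by
        rw [Finset.disjoint_left]
        intro x hx hx'
        rw [Finset.mem_image] at hx'
        obtain ⟨w, hw, rfl⟩ := hx'
        rw [Set.mem_toFinset] at hx hw
        exact hcB (hkc ▸ hblock k hk w hw hx a haB)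
      have hun : B.toFinset ∪ B.toFinset.image (k • ·) = Finset.univ := by
        refine Finset.eq_univ_iff_forall.2 fun x => ?_
        by_cases hxB : x ∈ B
        · exact Finset.mem_union_left _ (Set.mem_toFinset.2 hxB)
        · exact Finset.mem_union_right _ (Finset.mem_image.2
            ⟨_, Set.mem_toFinset.2 (hz x hxB), smul_inv_smul _ _⟩)
      have := congrArg Finset.card hun
      rw [Finset.card_union_of_disjoint hdis,
        Finset.card_image_of_injective _ (MulAction.injective k), Finset.card_univ] at this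
      exact Nat.not_odd_iff_even.2 ⟨_, this.symm⟩ hodd
    have hxy : k • a ≠ k • b := fun h => hba (MulAction.injective k h).symm
    have hkbB : k • b ∉ B := fun h => hcB (hkc ▸ hblock k hk b hbB h a haB)
    have hxz : k • a ≠ z := fun h => hzk (by rw [← h, inv_smul_smul]; exact haB)
    have hyz : k • b ≠ z := fun h => hzk (by rw [← h, inv_smul_smul]; exact hbB)
    obtain ⟨g, hg1, hg2, -, hg3⟩ := exists_three hA hxy hxz hyz
    have hfix : ∀ x ∈ B, g • x = x := fun x hx => hg3 x
      (fun h => hcB (hkc ▸ h ▸ hx)) (fun h => hkbB (h ▸ hx)) (fun h => hzB (h ▸ hx))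
    have hgH : g ∈ H := by
      rw [← hX'H, hX']
      refine Subgroup.mem_inf.2 ⟨hfix a haB, ?_⟩
      rw [MulAction.mem_stabilizer_set]
      intro x
      exact ⟨fun h => (MulAction.injective g (hfix _ h)) ▸ h, fun h => (hfix x h).symm ▸ h⟩
    have hkgk : k⁻¹ * g * k ∈ K := mul_mem (mul_mem (inv_mem hk) (hHK hgH)) hk
    have h1 : (k⁻¹ * g * k) • a = b := by rw [mul_smul, mul_smul, hg1, inv_smul_smul]
    have h2 : (k⁻¹ * g * k) • b = k⁻¹ • z := by rw [mul_smul, mul_smul, hg2]
    exact hzk (h2 ▸ hblock _ hkgk a haB (h1 ▸ hbB) b hbB)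
  · -- intransitive: `K` is the stabiliser of its orbit
    push Not at htr
    obtain ⟨z, hz⟩ := htr
    have hKO : K = MulAction.stabilizer G O := by
      have hle : K ≤ MulAction.stabilizer G O := fun k hk => by
        rw [MulAction.mem_stabilizer_set]
        intro x
        rw [hO]
        constructor
        · rintro ⟨k', hk', e⟩
          exact ⟨k⁻¹ * k', mul_mem (inv_mem hk) hk', by rw [mul_smul, e, inv_smul_smul]⟩
        · rintro ⟨k', hk', rfl⟩
          exact ⟨k * k', mul_mem hk hk', mul_smul _ _ _⟩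
      rcases eq_or_lt_of_le hle with e | e
      · exact e
      exfalso
      obtain ⟨g, hg⟩ := MulAction.exists_smul_eq G a z
      have : g ∈ MulAction.stabilizer G O := hK.2 _ e ▸ Subgroup.mem_top _
      exact hz (hg ▸ (MulAction.mem_stabilizer_set.1 this a).2 haO)
    intro x hx
    by_cases hxa : x = a
    · exact hxa ▸ haB
    by_cases hxb : x = b
    · exact hxb ▸ hbB
    -- an element of `H` mapping `b` to `x`
    obtain ⟨g, hgb, hga, hgO⟩ : ∃ g : G, g • b = x ∧ g • a = a ∧ ∀ w, g • w ∈ O ↔ w ∈ O := by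
      have hzb : z ≠ b := fun h => hz (h ▸ hBO hbB)
      have hzx : z ≠ x := fun h => hz (h ▸ hx)
      have hza : z ≠ a := fun h => hz (h ▸ haO)
      have key : ∀ g : G, (∀ w ∈ O, g • w ∈ O) → ∀ w, g • w ∈ O ↔ w ∈ O := by
        intro g hg w
        refine ⟨fun h => ?_, hg w⟩
        obtain ⟨w', hw', e⟩ := Finset.surj_on_of_inj_on_of_card_le (s := O.toFinset) (t := O.toFinset)
          (fun u _ => g • u) (fun u hu => Set.mem_toFinset.2 (hg u (Set.mem_toFinset.1 hu)))
          (fun u v _ _ h => MulAction.injective g h) le_rfl (g • w) (Set.mem_toFinset.2 h)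
        exact (MulAction.injective g e) ▸ Set.mem_toFinset.1 hw'
      by_cases h2 : ∃ d, d ∉ ({a, b, x, z} : Finset Ω)
      · obtain ⟨d, hd⟩ := h2
        simp only [Finset.mem_insert, Finset.mem_singleton, not_or] at hd
        by_cases hdO : d ∈ O
        · obtain ⟨g, h1, h2, h2', h3⟩ :=
            exists_three hA (Ne.symm hxb) (Ne.symm hd.2.1) (Ne.symm hd.2.2.1)
          refine ⟨g, h1, h3 a hba.symm (Ne.symm hxa) (Ne.symm hd.1), key g fun w hw => ?_⟩
          by_cases e1 : w = b
          · rw [e1, h1]; exact hx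
          by_cases e2 : w = x
          · rw [e2, h2]; exact hdO
          by_cases e3 : w = d
          · rw [e3, h2']; exact hBO hbB
          rw [h3 w e1 e2 e3]; exact hw
        · obtain ⟨g, h1, h1', h3⟩ := exists_pairs hA (Ne.symm hxb) (Ne.symm hd.2.2.2)
            hzb.symm (Ne.symm hd.2.1) hzx.symm (Ne.symm hd.2.2.1)
          refine ⟨g, h1, h3 a hba.symm (Ne.symm hxa) hza.symm (Ne.symm hd.1), key g fun w hw => ?_⟩
          by_cases e1 : w = b
          · rw [e1, h1]; exact hx
          by_cases e2 : w = x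
          · rw [e2, h1']; exact hBO hbB
          rw [h3 w e1 e2 (fun h => hz (h ▸ hw)) (fun h => hdO (h ▸ hw))]; exact hw
      · exfalso
        push Not at h2
        have h4 : Fintype.card Ω ≤ ({a, b, x, z} : Finset Ω).card :=
          Finset.card_le_card fun w _ => by
            exact h2 w
        have h5 : ({a, b, x, z} : Finset Ω).card = 4 := by
          rw [Finset.card_insert_of_notMem (by simp [hba.symm, Ne.symm hxa, hza.symm]),
            Finset.card_insert_of_notMem (by simp [Ne.symm hxb, hzb.symm]),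
            Finset.card_insert_of_notMem (by simp [hzx.symm]), Finset.card_singleton]
        have h6 : 4 ≤ Fintype.card Ω := h5 ▸ Finset.card_le_univ _
        have : Fintype.card Ω = 4 := by omega
        exact Nat.not_odd_iff_even.2 ⟨2, by omega⟩ hodd
    have hgH : g ∈ H := by
      rw [← hKMH]
      refine Subgroup.mem_inf.2 ⟨?_, hga⟩
      rw [hKO, MulAction.mem_stabilizer_set]
      exact hgO
    rw [hB] at hbB ⊢
    obtain ⟨l, hl, rfl⟩ := hbB
    exact ⟨g * l, mul_mem (hHL hgH) hl, by rw [mul_smul, hgb]⟩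

end CfsgLib.MaxSub.OddDegree
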