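/-
Singular vectors with prescribed values, for any index type.
-/
import Cfsg.Agent.Lib.MaxSub.OrthVectors

set_option autoImplicit false
set_option maxHeartbeats 600000

namespace CfsgLib.MaxSub.OrthVectors

open Module
open QuadraticMap (polar polarBilin)

variable {F : Type*} [Field F] [Finite F] {ι : Type} [Fintype ι] {R : QuadraticForm F (ι → F)}

/-- The values of the polar form can be taken by a singular vector outside the span. -/
theorem exists_sing_of' (hR : (polarBilin R).Nondegenerate) (hn : 13 ≤ Fintype.card ι) {k : ℕ}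
    (hk : k ≤ 5) (v : Fin k → ι → F) (v₀ : ι → F) :
    ∃ z, R z = 0 ∧ (∀ i, polar R z (v i) = polar R v₀ (v i)) ∧
      z ∉ Submodule.span F (Set.range v) := by
  let L : (Fin (Fintype.card ι) → F) ≃ₗ[F] (ι → F) := LinearEquiv.funCongrLeft F F (Fintype.equivFin ι)
  let R' : QuadraticForm F (Fin (Fintype.card ι) → F) := R.comp (L : _ →ₗ[F] (ι → F))
  have hpol : ∀ x y, polar R' x y = polar R (L x) (L y) := fun x y => by
    show R (L (x + y)) - R (L x) - R (L y) = _
    rw [map_add]
    rfl
  have hR' : (polarBilin R').Nondegenerate := by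
    refine ⟨fun x hx => L.map_eq_zero_iff.1 (hR.1 _ fun y => ?_),
      fun x hx => L.map_eq_zero_iff.1 (hR.2 _ fun y => ?_)⟩
    · have h := hx (L.symm y)
      rw [QuadraticMap.polarBilin_apply_apply] at h ⊢
      rwa [hpol, L.apply_symm_apply] at h
    · have h := hx (L.symm y)
      rw [QuadraticMap.polarBilin_apply_apply] at h ⊢
      rwa [hpol, L.apply_symm_apply] at h
  obtain ⟨z, h1, h2, h3⟩ := exists_sing_of hR' hn hk (fun i => L.symm (v i)) (L.symm v₀)
  refine ⟨L z, h1, fun i => ?_, fun h => h3 ?_⟩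
  · have := h2 i
    rwa [hpol, hpol, L.apply_symm_apply, L.apply_symm_apply] at this
  · have := Submodule.mem_map_of_mem (f := L.symm.toLinearMap) h
    rw [Submodule.map_span, ← Set.range_comp] at this
    simpa [Function.comp_def] using this

/-- A singular vector with prescribed values on independent vectors. -/
theorem exists_sing' (hR : (polarBilin R).Nondegenerate) (hn : 13 ≤ Fintype.card ι) {k : ℕ}
    (hk : k ≤ 5) {v : Fin k → ι → F} (hv : LinearIndependent F v) (c : Fin k → F) :
    ∃ z, R z = 0 ∧ (∀ i, polar R z (v i) = c i) ∧ z ∉ Submodule.span F (Set.range v) := by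
  obtain ⟨b, hb⟩ : ∃ b : Module.Dual F (ι → F), ∀ i, b (v i) = c i := by
    obtain ⟨b, hb⟩ := LinearMap.exists_extend (Finsupp.linearCombination F c ∘ₗ hv.repr)
    refine ⟨b, fun i => ?_⟩
    have := LinearMap.congr_fun hb ⟨v i, Submodule.subset_span ⟨i, rfl⟩⟩
    simpa [hv.repr_eq_single i] using this
  obtain ⟨v₀, hv₀⟩ : ∃ v₀, ∀ x, polar R v₀ x = b x := by
    refine ⟨(LinearMap.BilinForm.toDual (polarBilin R) hR).symm b, fun x => ?_⟩
    exact LinearMap.BilinForm.apply_toDual_symm_apply (hB := hR) b x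
  obtain ⟨z, h1, h2, h3⟩ := exists_sing_of' hR hn hk v v₀
  exact ⟨z, h1, fun i => by rw [h2, hv₀, hb], h3⟩

end CfsgLib.MaxSub.OrthVectors
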