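/-
The stabiliser of a pair of complementary Lagrangians is maximal in `Sp_2m`, odd characteristic.
-/
import Cfsg.Agent.Lib.MaxSub.SubspaceMaximal

set_option autoImplicit false
set_option maxHeartbeats 600000

namespace CfsgLib.MaxSub.PairSp

open Matrix Module Cfsg Cfsg.Geo
open CfsgLib.Aschbacher (isRefl_sympForm sT sT_mem sT_mulVec sympForm_alt IsRefl)

variable {F : Type*} [Field F] {m : ℕ}

local notation "V" => (Fin m ⊕ Fin m → F)
local notation "M2m" => Matrix (Fin m ⊕ Fin m) (Fin m ⊕ Fin m) F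
local notation "B" => Cfsg.sympForm m F

theorem B_add_left (x y v : V) : B (x + y) v = B x v + B y v :=
  (isRefl_sympForm m).sesq.add_left x y v
theorem B_add_right (v x y : V) : B v (x + y) = B v x + B v y :=
  (isRefl_sympForm m).sesq.add_right v x y
theorem B_smul_left (c : F) (x v : V) : B (c • x) v = c * B x v :=
  (isRefl_sympForm m).sesq.smul_left c x v
theorem B_smul_right (c : F) (v x : V) : B v (c • x) = c * B v x :=
  (isRefl_sympForm m).sesq.smul_right c v x
theorem B_self (v : V) : B v v = 0 := sympForm_alt m v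
theorem B_swap (u v : V) : B v u = -B u v := by
  have := B_self (u + v)
  rw [B_add_left, B_add_right, B_add_right, B_self, B_self] at this
  linear_combination this

/-- The short root element `y ↦ y + B(y,u) v + B(y,v) u`. -/
def S (u v : V) : GL (Fin m ⊕ Fin m) F := sT (u + v) 1 * sT u (-1) * sT v (-1)

theorem S_mem (u v : V) : S u v ∈ Cfsg.spGL m F :=
  mul_mem (mul_mem (sT_mem _ _) (sT_mem _ _)) (sT_mem _ _)

theorem S_act {u v : V} (h : B u v = 0) (y : V) :
    (S u v : M2m) *ᵥ y = y + B y u • v + B y v • u := by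
  have h' : B v u = 0 := by rw [B_swap, h, neg_zero]
  simp only [S, Units.val_mul, ← Matrix.mulVec_mulVec, sT_mulVec, B_add_left, B_add_right, B_smul_left,
    B_self, h, h']
  module

theorem gl_ext {g h : GL (Fin m ⊕ Fin m) F} (e : ∀ y : V, (g : M2m) *ᵥ y = (h : M2m) *ᵥ y) : g = h :=
  Units.ext (Matrix.ext_of_mulVec_single fun _ => e _)

theorem S_symm {u v : V} (h : B u v = 0) : S u v = S v u := gl_ext fun y => by
  rw [S_act h, S_act (by rw [B_swap, h, neg_zero])]; abel

theorem S_mul {u a b : V} (ha : B u a = 0) (hb : B u b = 0) :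
    S u a * S u b = S u (a + b) * sT u (B b a) := gl_ext fun y => by
  simp only [Units.val_mul, ← Matrix.mulVec_mulVec, S_act ha, S_act hb,
    S_act (show B u (a + b) = 0 by rw [B_add_right, ha, hb, add_zero]), sT_mulVec, B_add_left,
    B_add_right, B_smul_left, B_self, ha, hb, show B b u = 0 by rw [B_swap, hb, neg_zero]]
  module

theorem S_mul' {u a b : V} (ha : B u a = 0) (hb : B u b = 0) (h : B a b = 0) :
    S u (a + b) = S u a * S u b := by
  have e : sT u (0 : F) = 1 := gl_ext fun y => by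
    rw [sT_mulVec, zero_mul, zero_smul, add_zero, Units.val_one, Matrix.one_mulVec]
  rw [S_mul ha hb, B_swap, h, neg_zero, e, mul_one]

theorem sT_mul (u : V) (c d : F) : sT u c * sT u d = sT u (c + d) := gl_ext fun y => by
  simp only [Units.val_mul, ← Matrix.mulVec_mulVec, sT_mulVec, B_add_left, B_smul_left, B_self]
  module

theorem sT_one (u : V) : sT u (0 : F) = 1 := gl_ext fun y => by
  rw [sT_mulVec, zero_mul, zero_smul, add_zero, Units.val_one, Matrix.one_mulVec]

theorem S_self (u : V) (c : F) : S u (c • u) = sT u (2 * c) := gl_ext fun y => by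
  rw [S_act (by rw [B_smul_right, B_self, mul_zero]), sT_mulVec, B_smul_right]
  module

theorem conj_S {g : GL (Fin m ⊕ Fin m) F} (hg : g ∈ Cfsg.spGL m F) (u v : V) :
    g * S u v * g⁻¹ = S ((g : M2m) *ᵥ u) ((g : M2m) *ᵥ v) := by
  simp only [S, ← Matrix.mulVec_add, ← conj_sT hg]
  group

theorem B_map {g : GL (Fin m ⊕ Fin m) F} (hg : g ∈ Cfsg.spGL m F) (u v : V) :
    B ((g : M2m) *ᵥ u) ((g : M2m) *ᵥ v) = B u v := hg u v

theorem dot_eq_B (v x : V) : (Matrix.J (Fin m) F *ᵥ v) ⬝ᵥ x = B x v := dotProduct_comm _ _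

/-- The setting: two complementary Lagrangians. -/
structure Pair (D E : Submodule F (Fin m ⊕ Fin m → F)) : Prop where
  finD : finrank F D = m
  finE : finrank F E = m
  compl : IsCompl D E
  tsD : ∀ x ∈ D, ∀ y ∈ D, Cfsg.sympForm m F x y = 0
  tsE : ∀ x ∈ E, ∀ y ∈ E, Cfsg.sympForm m F x y = 0

variable {D E : Submodule F (Fin m ⊕ Fin m → F)}

theorem Pair.symm (P : Pair D E) : Pair E D := ⟨P.finE, P.finD, P.compl.symm, P.tsE, P.tsD⟩

theorem Pair.split (P : Pair D E) (x : V) : ∃ a ∈ D, ∃ b ∈ E, a + b = x :=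
  Submodule.mem_sup.1 (P.compl.sup_eq_top ▸ Submodule.mem_top : x ∈ D ⊔ E)

/-- A vector of `E` with prescribed products against one vector outside a subspace of `D`. -/
theorem Pair.exists_in (P : Pair D E) {U : Submodule F V} (hU : U ≤ D) {x : V} (hx : x ∈ D)
    (hxU : x ∉ U) : ∃ b ∈ E, B x b = 1 ∧ ∀ y ∈ U, B y b = 0 := by
  by_contra hc
  push Not at hc
  obtain ⟨L, hLx, hL⟩ := Submodule.exists_dual_map_eq_bot_of_notMem hxU inferInstance
  obtain ⟨w, hw⟩ : ∃ w, ∀ y, B y w = L y := by
    let β : V →ₗ[F] Module.Dual F V :=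
      { toFun := fun w => { toFun := fun y => B y w
                            map_add' := fun a b => B_add_left a b w
                            map_smul' := fun c a => B_smul_left c a w }
        map_add' := fun a b => LinearMap.ext fun y => B_add_right y a b
        map_smul' := fun c a => LinearMap.ext fun y => B_smul_right c y a }
    have hinj : Function.Injective β := (injective_iff_map_eq_zero β).2 fun w hw => by
      by_contra h0
      obtain ⟨⟨z, hz⟩, -⟩ := (isRefl_sympForm (F := F) m).nondeg w h0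
      exact hz (LinearMap.congr_fun hw z)
    obtain ⟨w, hw⟩ := (LinearMap.injective_iff_surjective_of_finrank_eq_finrank
      (Subspace.dual_finrank_eq).symm).1 hinj L
    exact ⟨w, fun y => LinearMap.congr_fun hw y⟩
  obtain ⟨a, ha, b, hb, hab⟩ := P.split ((L x)⁻¹ • w)
  have hval : ∀ y ∈ D, B y b = (L x)⁻¹ * L y := fun y hy => by
    have := hw y
    rw [← this, ← B_smul_right, ← hab, B_add_right, P.tsD y hy a ha, zero_add]
  obtain ⟨y, hy, hy0⟩ := hc b hb (by rw [hval x hx, inv_mul_cancel₀ hLx])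
  refine hy0 ?_
  rw [hval y (hU hy)]
  have : L y ∈ U.map L := Submodule.mem_map_of_mem hy
  rw [hL, Submodule.mem_bot] at this
  rw [this, mul_zero]

/-- A vector of `D` perpendicular to a vector and outside a small subspace. -/
theorem Pair.exists_perp (P : Pair D E) {U : Submodule F V} (z z' : V)
    (hU : finrank F U + 3 ≤ m) : ∃ a ∈ D, B a z = 0 ∧ B a z' = 0 ∧ a ∉ U := by
  by_contra hc
  push Not at hc
  let φ : D →ₗ[F] F × F :=
    { toFun := fun a => (B (a : V) z, B (a : V) z')
      map_add' := fun a b => Prod.ext (B_add_left _ _ _) (B_add_left _ _ _)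
      map_smul' := fun c a => Prod.ext (B_smul_left _ _ _) (B_smul_left _ _ _) }
  have hle : (LinearMap.ker φ).map D.subtype ≤ U := by
    rintro _ ⟨a, ha, rfl⟩
    have := LinearMap.mem_ker.1 ha
    exact hc a a.2 (congrArg Prod.fst this) (congrArg Prod.snd this)
  have h1 := Submodule.finrank_mono hle
  rw [Submodule.finrank_map_subtype_eq] at h1
  have h2 := LinearMap.finrank_range_add_finrank_ker φ
  have h3 := Submodule.finrank_le (LinearMap.range φ)
  rw [Module.finrank_prod, Module.finrank_self] at h3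
  rw [P.finD] at h2
  omega

variable {K : Subgroup (GL (Fin m ⊕ Fin m) F)}

/-- Root elements between the two Lagrangians stabilise both. -/
theorem S_maps (P : Pair D E) {a b : V} (ha : a ∈ D) (hb : b ∈ E) (hab : B a b = 0) :
    (∀ x ∈ D, (S a b : M2m) *ᵥ x ∈ D) ∧ ∀ x ∈ E, (S a b : M2m) *ᵥ x ∈ E := by
  constructor <;> intro x hx <;> rw [S_act hab]
  · rw [P.tsD x hx a ha, zero_smul, add_zero]; exact D.add_mem hx (D.smul_mem _ ha)
  · rw [P.tsE x hx b hb, zero_smul, add_zero]; exact E.add_mem hx (E.smul_mem _ hb)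

/-- The hypothesis that the Levi root elements are in `K`. -/
def Levi (D E : Submodule F V) (K : Subgroup (GL (Fin m ⊕ Fin m) F)) : Prop :=
  ∀ a ∈ D, ∀ b ∈ E, B a b = 0 → S a b ∈ K

theorem Levi.symm (h : Levi D E K) : Levi E D K := fun a ha b hb hab => by
  rw [S_symm hab]; exact h b hb a ha (by rw [B_swap, hab, neg_zero])

/-- A root element inside `D` gives all transvections with centre in `D`. -/
theorem spread (P : Pair D E) (hm : 3 ≤ m) (h2 : (2 : F) ≠ 0) (hKG : K ≤ Cfsg.spGL m F)
    (hL : Levi D E K) {p r : V} (hp : p ∈ D) (hr : r ∈ D) (hp0 : p ≠ 0) (hr0 : r ≠ 0)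
    (hS : S p r ∈ K) : ∀ e ∈ D, Centre K e := by
  have step : ∀ p a : V, p ∈ D → a ∈ D → a ∉ Submodule.span F {p} → p ≠ 0 →
      ∀ c0 : F, c0 ≠ 0 → sT p c0 ∈ K → Centre K a := by
    intro p a hp ha hap hp0 c0 hc0 hT
    have hpa : p ∉ Submodule.span F {a} := fun h => by
      obtain ⟨s, hs⟩ := Submodule.mem_span_singleton.1 h
      exact hap (Submodule.mem_span_singleton.2 ⟨s⁻¹, by
        rw [← hs, smul_smul, inv_mul_cancel₀ (fun h0 : s = 0 => hp0 (by rw [← hs, h0, zero_smul])),
          one_smul]⟩)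
    obtain ⟨b, hb, hpb, hab⟩ := P.exists_in
      ((Submodule.span_singleton_le_iff_mem _ _).2 ha) hp hpa
    have hab' := hab a (Submodule.mem_span_singleton_self a)
    have key : ∀ α : F, sT (p + α • a) c0 ∈ K := fun α => by
      have hk := hL (α • a) (D.smul_mem _ ha) b hb (by rw [B_smul_left, hab', mul_zero])
      have := mul_mem (mul_mem hk hT) (inv_mem hk)
      rwa [conj_sT (hKG hk), S_act (by rw [B_smul_left, hab', mul_zero]), B_smul_right,
        P.tsD p hp a ha, mul_zero, zero_smul, add_zero, hpb, one_smul] at this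
    have hα : ∀ α : F, sT a (2 * (c0 * α ^ 2)) ∈ K := fun α => by
      have e : sT (p + α • a) c0 * (sT p c0)⁻¹ * (sT (p + (-α) • a) c0 * (sT p c0)⁻¹) =
          sT a (2 * (c0 * α ^ 2)) := by
        have hi : (sT p c0)⁻¹ = sT p (-c0) :=
          inv_eq_of_mul_eq_one_right (by rw [sT_mul, add_neg_cancel, sT_one])
        rw [hi]
        refine gl_ext fun y => ?_
        simp only [Units.val_mul, ← Matrix.mulVec_mulVec, sT_mulVec, B_add_left, B_add_right,
          B_smul_left, B_smul_right, B_self, P.tsD p hp a ha, P.tsD a ha p hp]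
        module
      rw [← e]
      exact mul_mem (mul_mem (key α) (inv_mem hT)) (mul_mem (key (-α)) (inv_mem hT))
    intro c
    set x := c / (2 * c0) with hx
    have e : sT a c = sT a (2 * (c0 * ((x + 1) / 2) ^ 2)) * (sT a (2 * (c0 * ((x - 1) / 2) ^ 2)))⁻¹ := by
      rw [eq_mul_inv_iff_mul_eq, sT_mul]
      congr 1
      rw [hx]; field_simp; ring
    rw [e]
    exact mul_mem (hα _) (inv_mem (hα _))
  obtain ⟨q, hq, hq0, c0, hc0, hT⟩ : ∃ q ∈ D, q ≠ 0 ∧ ∃ c0 : F, c0 ≠ 0 ∧ sT q c0 ∈ K := by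
    by_cases hpr : p ∈ Submodule.span F {r}
    · obtain ⟨c, rfl⟩ := Submodule.mem_span_singleton.1 hpr
      refine ⟨r, hr, hr0, 2 * c, mul_ne_zero h2 (fun h => hp0 (by rw [h, zero_smul])), ?_⟩
      rw [← S_self, S_symm (by rw [B_smul_right, B_self, mul_zero])]
      exact hS
    · obtain ⟨b, hb, hpb, hrb⟩ := P.exists_in
        ((Submodule.span_singleton_le_iff_mem _ _).2 hr) hp hpr
      have hrb' := hrb r (Submodule.mem_span_singleton_self r)
      refine ⟨r, hr, hr0, 2, h2, ?_⟩
      have hk := hL r hr b hb hrb'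
      have h1 := mul_mem (mul_mem hk hS) (inv_mem hk)
      rw [conj_S (hKG hk), S_act hrb', S_act hrb', P.tsD p hp r hr, hpb, B_self, hrb', zero_smul,
        zero_smul, add_zero, add_zero, one_smul] at h1
      have e : sT r (2 : F) = S (p + r) r * (S p r)⁻¹ := by
        rw [S_symm (P.tsD (p + r) (D.add_mem hp hr) r hr), S_symm (P.tsD p hp r hr),
          add_comm p r, S_mul' (B_self r) (P.tsD r hr p hp) (P.tsD r hr p hp), mul_inv_cancel_right,
          show S r r = S r ((1 : F) • r) by rw [one_smul], S_self, mul_one]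
      rw [add_zero] at h1
      rw [e]
      exact mul_mem h1 (inv_mem hS)
  obtain ⟨a, ha, haq⟩ : ∃ a ∈ D, a ∉ Submodule.span F {q} := by
    by_contra hc
    push Not at hc
    have h1 := Submodule.finrank_mono (show D ≤ Submodule.span F {q} from hc)
    rw [P.finD, finrank_span_singleton hq0] at h1
    omega
  have hCa := step q a hq ha haq hq0 c0 hc0 hT
  intro e he
  by_cases he0 : e = 0
  · intro c
    rw [he0, show sT (0 : V) c = 1 from gl_ext fun y => by
      rw [sT_mulVec, smul_zero, add_zero, Units.val_one, Matrix.one_mulVec]]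
    exact one_mem K
  by_cases heq : e ∈ Submodule.span F {q}
  · refine step a e ha he (fun h => ?_) (fun h => haq (h ▸ zero_mem _)) 1 one_ne_zero (hCa 1)
    obtain ⟨s, rfl⟩ := Submodule.mem_span_singleton.1 h
    exact haq (((Submodule.span F {q}).smul_mem_iff (fun h0 : s = 0 => he0 (by rw [h0, zero_smul]))).1
      heq)
  · exact step q e hq he heq hq0 c0 hc0 hT

/-- A root element on a line meeting `D` gives one inside `D`. -/
theorem of_line (P : Pair D E) (hm : 3 ≤ m) (hKG : K ≤ Cfsg.spGL m F) (hL : Levi D E K) {u v : V}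
    (hu : u ∈ D) (hu0 : u ≠ 0) (hv : v ∉ E) (huv : B u v = 0) (hS : S u v ∈ K) :
    ∃ p ∈ D, ∃ r ∈ D, p ≠ 0 ∧ r ≠ 0 ∧ S p r ∈ K := by
  obtain ⟨v0, hv0, v1, hv1, rfl⟩ := P.split v
  have hv00 : v0 ≠ 0 := fun h => hv (by rw [h, zero_add]; exact hv1)
  have huv1 : B u v1 = 0 := by rwa [B_add_right, P.tsD u hu v0 hv0, zero_add] at huv
  have hun : B u (-v1) = 0 := by
    rw [← neg_one_smul F v1, B_smul_right, huv1, mul_zero]
  have hz := mul_mem hS (hL u hu (-v1) (E.neg_mem hv1) hun)
  rw [S_mul huv hun, add_neg_cancel_right] at hz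
  by_cases hd : v0 ∈ Submodule.span F {u}
  · obtain ⟨a, rfl⟩ := Submodule.mem_span_singleton.1 hd
    refine ⟨u, hu, a • u, D.smul_mem _ hu, hu0, hv00, ?_⟩
    have e : B (-v1) (a • u + v1) = 0 := by
      rw [← neg_one_smul F v1, B_smul_left, B_add_right, B_smul_right, B_swap u v1, huv1, B_self]
      ring
    rwa [e, sT_one, mul_one] at hz
  · obtain ⟨b, hb, hvb, hub⟩ := P.exists_in ((Submodule.span_singleton_le_iff_mem _ _).2 hu) hv0 hd
    have hub' := hub u (Submodule.mem_span_singleton_self u)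
    obtain ⟨a, ha, hab, -, ha0⟩ := P.exists_perp (U := (⊥ : Submodule F V)) b 0
      (by rw [finrank_bot]; omega)
    rw [Submodule.mem_bot] at ha0
    refine ⟨u, hu, a, ha, hu0, ha0, ?_⟩
    have hk := hL a ha b hb hab
    set c := B (-v1) (v0 + v1)
    have h1 := mul_mem (mul_mem hk hz) (inv_mem hk)
    rw [show S a b * (S u v0 * sT u c) * (S a b)⁻¹ =
      (S a b * S u v0 * (S a b)⁻¹) * (S a b * sT u c * (S a b)⁻¹) by group, conj_S (hKG hk),
      conj_sT (hKG hk), S_act hab, S_act hab, P.tsD u hu a ha, P.tsD v0 hv0 a ha, hub', hvb,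
      zero_smul] at h1
    simp only [one_smul, zero_smul, add_zero] at h1
    rw [add_comm v0 a, S_mul' (P.tsD u hu a ha) (P.tsD u hu v0 hv0) (P.tsD a ha v0 hv0), mul_assoc] at h1
    have := mul_mem h1 (inv_mem hz)
    rwa [mul_inv_cancel_right] at this

/-- A root element on a line missing both subspaces gives one inside one of them. -/
theorem of_outer (P : Pair D E) (hm : 3 ≤ m) (h2 : (2 : F) ≠ 0) (hKG : K ≤ Cfsg.spGL m F)
    (hL : Levi D E K) {u v : V} (huD : u ∉ E) (hvE : v ∉ D) (hvD : v ∉ E)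
    (hind : LinearIndependent F ![u, v]) (huv : B u v = 0) (hS : S u v ∈ K) :
    (∃ p ∈ D, ∃ r ∈ D, p ≠ 0 ∧ r ≠ 0 ∧ S p r ∈ K) ∨
      ∃ p ∈ E, ∃ r ∈ E, p ≠ 0 ∧ r ≠ 0 ∧ S p r ∈ K := by
  obtain ⟨u0, hu0, u1, hu1, rfl⟩ := P.split u
  obtain ⟨v0, hv0, v1, hv1, rfl⟩ := P.split v
  have key : ∀ {D' E' : Submodule F V}, Pair D' E' → Levi D' E' K →
      ∀ {u0 u1 v0 v1 : V}, u0 ∈ D' → u1 ∈ E' → v0 ∈ D' → v1 ∈ E' →
      v0 + v1 ∉ E' → B (u0 + u1) (v0 + v1) = 0 → S (u0 + u1) (v0 + v1) ∈ K →
      u0 ∉ Submodule.span F {v0} → ∃ p ∈ D', ∃ r ∈ D', p ≠ 0 ∧ r ≠ 0 ∧ S p r ∈ K := by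
    intro D' E' P' hL' u0 u1 v0 v1 hu0 hu1 hv0 hv1 hv huv hS hn
    obtain ⟨a, ha, hau, hav, ha0⟩ := P'.exists_perp (U := (⊥ : Submodule F V)) u1 v1
      (by rw [finrank_bot]; omega)
    rw [Submodule.mem_bot] at ha0
    have e1 : B (u0 + u1) a = 0 := by
      rw [B_add_left, P'.tsD u0 hu0 a ha, B_swap a u1, hau, neg_zero, add_zero]
    have e2 : B (v0 + v1) a = 0 := by
      rw [B_add_left, P'.tsD v0 hv0 a ha, B_swap a v1, hav, neg_zero, add_zero]
    have hU : Submodule.span F ({v0, a} : Set V) ≤ D' :=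
      Submodule.span_le.2 (Set.insert_subset_iff.2 ⟨hv0, Set.singleton_subset_iff.2 ha⟩)
    by_cases hu0U : u0 ∈ Submodule.span F ({v0, a} : Set V)
    · -- the perpendicular vector lies in the plane of the two projections
      obtain ⟨σ, τ, hst⟩ := Submodule.mem_span_pair.1 hu0U
      have hτ : τ ≠ 0 := fun h => hn (Submodule.mem_span_singleton.2 ⟨σ, by
        rw [← hst, h, zero_smul, add_zero]⟩)
      have hv0a : v0 ∉ Submodule.span F ({a} : Set V) := fun h => by
        obtain ⟨c, hc⟩ := Submodule.mem_span_singleton.1 h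
        have hc0 : c ≠ 0 := fun h0 => hv (by rw [← hc, h0, zero_smul, zero_add]; exact hv1)
        exact hn (Submodule.mem_span_singleton.2 ⟨σ + τ * c⁻¹, by
          rw [← hst, ← hc, add_smul, mul_smul, inv_smul_smul₀ hc0]⟩)
      obtain ⟨b, hb, hvb, hUb⟩ := P'.exists_in ((Submodule.span_singleton_le_iff_mem _ _).2 ha)
        hv0 hv0a
      have hab : B a b = 0 := hUb a (Submodule.mem_span_singleton_self a)
      have hk := hL' a ha b hb hab
      have e3 : B (u0 + u1) b = σ := by
        rw [B_add_left, P'.tsE u1 hu1 b hb, add_zero, ← hst, B_add_left, B_smul_left, B_smul_left,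
          hvb, hab]
        ring
      have e4 : B (v0 + v1) b = 1 := by rw [B_add_left, hvb, P'.tsE v1 hv1 b hb, add_zero]
      have h1 := mul_mem (mul_mem hk hS) (inv_mem hk)
      rw [conj_S (hKG hk), S_act hab, S_act hab, e1, e2, e3, e4] at h1
      simp only [one_smul, zero_smul, add_zero] at h1
      have e1' : B a (u0 + u1) = 0 := by rw [B_swap, e1, neg_zero]
      have e2' : B a (v0 + v1) = 0 := by rw [B_swap, e2, neg_zero]
      have hvu : B (v0 + v1) (u0 + u1) = 0 := by rw [B_swap, huv, neg_zero]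
      have ew : B a ((u0 + u1) + σ • (v0 + v1) + σ • a) = 0 := by
        rw [B_add_right a _ (σ • a), B_add_right a (u0 + u1), B_smul_right, B_smul_right, e1', e2',
          B_self]
        ring
      have eS : S (u0 + u1 + σ • a) (v0 + v1 + a) =
          S (u0 + u1) (v0 + v1) * S a ((u0 + u1) + σ • (v0 + v1) + σ • a) := by
        have huw : B (u0 + u1 + σ • a) (v0 + v1 + a) = 0 := by
          rw [B_add_left (u0 + u1), B_add_right _ (v0 + v1), B_add_right _ (v0 + v1), B_smul_left,
            B_smul_left, huv, e1, e2', B_self]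
          ring
        refine gl_ext fun y => ?_
        rw [Units.val_mul, ← Matrix.mulVec_mulVec, S_act huv, S_act huw, S_act ew]
        generalize u0 + u1 = x at e1 e1' huv hvu
        generalize v0 + v1 = z at e2 e2' huv hvu
        simp only [B_add_left, B_add_right, B_smul_left, B_smul_right, B_self, huv, hvu, e1, e2,
          e1', e2']
        module
      rw [eS] at h1
      have h3 := (K.mul_mem_cancel_left hS).1 h1
      refine of_line P' (by omega) hKG hL' ha ha0 (fun hw => ?_) ew h3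
      have hD : (u0 + σ • v0 + σ • a) ∈ D' :=
        D'.add_mem (D'.add_mem hu0 (D'.smul_mem _ hv0)) (D'.smul_mem _ ha)
      have hE : (u0 + σ • v0 + σ • a) ∈ E' := by
        have := E'.sub_mem hw (E'.add_mem hu1 (E'.smul_mem σ hv1))
        convert this using 1
        module
      have h0 := Submodule.disjoint_def.1 P'.compl.disjoint _ hD hE
      have h0' : (2 * σ) • v0 + (τ + σ) • a = 0 := by rw [← h0, ← hst]; module
      have hσ : σ = 0 := by
        by_contra h
        refine hv0a (Submodule.mem_span_singleton.2 ⟨-((2 * σ)⁻¹ * (τ + σ)), ?_⟩)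
        rw [neg_smul, mul_smul, eq_neg_of_add_eq_zero_right h0', smul_neg,
          inv_smul_smul₀ (mul_ne_zero h2 h), neg_neg]
      rw [hσ, mul_zero, zero_smul, zero_add, add_zero, smul_eq_zero] at h0'
      exact h0'.elim hτ ha0
    obtain ⟨b, hb, hub, hUb⟩ := P'.exists_in hU hu0 hu0U
    have hvb : B v0 b = 0 := hUb v0 (Submodule.subset_span (by simp))
    have hab : B a b = 0 := hUb a (Submodule.subset_span (by simp))
    have hk := hL' a ha b hb hab
    have e3 : B (u0 + u1) b = 1 := by rw [B_add_left, hub, P'.tsE u1 hu1 b hb, add_zero]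
    have e4 : B (v0 + v1) b = 0 := by rw [B_add_left, hvb, P'.tsE v1 hv1 b hb, add_zero]
    have h1 := mul_mem (mul_mem hk hS) (inv_mem hk)
    have huv' : B (v0 + v1) (u0 + u1) = 0 := by rw [B_swap, huv, neg_zero]
    rw [conj_S (hKG hk), S_act hab, S_act hab, e1, e2, e3, e4] at h1
    simp only [one_smul, zero_smul, add_zero] at h1
    rw [S_symm (show B (u0 + u1 + a) (v0 + v1) = 0 by
        rw [B_add_left, huv, B_swap (v0 + v1) a, e2, neg_zero, add_zero]),
      S_mul' huv' e2 e1, S_symm huv'] at h1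
    have h3 := mul_mem (inv_mem hS) h1
    rw [inv_mul_cancel_left, S_symm e2] at h3
    exact of_line P' (by omega) hKG hL' ha ha0 hv (by rw [B_swap, e2, neg_zero]) h3
  by_cases hA : u0 ∈ Submodule.span F {v0}
  · by_cases hA' : u1 ∈ Submodule.span F {v1}
    · left
      obtain ⟨c, rfl⟩ := Submodule.mem_span_singleton.1 hA
      obtain ⟨d, rfl⟩ := Submodule.mem_span_singleton.1 hA'
      have hc : c ≠ 0 := fun h => huD (by rw [h, zero_smul, zero_add]; exact hu1)
      have hcd : c ≠ d := fun h => by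
        have := (LinearIndependent.pair_iff.1 hind 1 (-c) (by rw [h]; module)).1
        exact one_ne_zero this
      have h01 : B v0 v1 = 0 := by
        have e : B (c • v0 + d • v1) (v0 + v1) = (c - d) * B v0 v1 := by
          rw [B_add_left, B_smul_left, B_smul_left, B_add_right, B_add_right, B_self, B_self,
            B_swap v0 v1]
          ring
        rw [e] at huv
        exact (mul_eq_zero.1 huv).resolve_left (sub_ne_zero.2 hcd)
      have hv00 : v0 ≠ 0 := fun h => hvD (by rw [h, zero_add]; exact hv1)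
      obtain ⟨b, hb, hvb, -⟩ := P.exists_in (U := (⊥ : Submodule F V)) bot_le hv0
        (by rwa [Submodule.mem_bot])
      obtain ⟨a, ha, hav, hab, ha0⟩ := P.exists_perp (U := (⊥ : Submodule F V)) v1 b
        (by rw [finrank_bot]; omega)
      rw [Submodule.mem_bot] at ha0
      have hk := hL a ha b hb hab
      have e0 : B a v0 = 0 := P.tsD a ha v0 hv0
      have e0' : B v0 a = 0 := P.tsD v0 hv0 a ha
      have e1' : B v1 a = 0 := by rw [B_swap, hav, neg_zero]
      have h10 : B v1 v0 = 0 := by rw [B_swap, h01, neg_zero]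
      have e2 : B v1 b = 0 := P.tsE v1 hv1 b hb
      have h1 := mul_mem (mul_mem hk hS) (inv_mem hk)
      rw [conj_S (hKG hk), S_act hab, S_act hab] at h1
      simp only [B_add_left, B_smul_left, e0', e1', hvb, e2, mul_zero, mul_one, add_zero, zero_smul,
        one_smul] at h1
      have ew : B a ((c + d) • v1) = 0 := by rw [B_smul_right, hav, mul_zero]
      have eq1 : S (c • v0 + d • v1 + c • a) (v0 + v1 + a) =
          S a ((2 * c) • v0 + c • a) * S a ((c + d) • v1) * S (c • v0 + d • v1) (v0 + v1) := by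
        refine gl_ext fun y => ?_
        rw [Units.val_mul, Units.val_mul, ← Matrix.mulVec_mulVec, ← Matrix.mulVec_mulVec,
          S_act huv, S_act ew, S_act (show B a ((2 * c) • v0 + c • a) = 0 by
            rw [B_add_right, B_smul_right, B_smul_right, e0, B_self]; ring),
          S_act (show B (c • v0 + d • v1 + c • a) (v0 + v1 + a) = 0 by
            simp only [B_add_left, B_add_right, B_smul_left, B_self, h01, h10, e0, e0', e1', hav]
            ring)]
        simp only [B_add_left, B_add_right, B_smul_left, B_smul_right, B_self, h01, h10, e0, e0', e1',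
          hav]
        module
      rw [eq1] at h1
      refine ⟨a, ha, (2 * c) • v0 + c • a, D.add_mem (D.smul_mem _ hv0) (D.smul_mem _ ha), ha0,
        fun h => ?_, ?_⟩
      · have := congrArg (fun y => B y b) h
        simp only [B_add_left, B_smul_left, hvb, hab, mul_zero, add_zero, mul_one] at this
        refine mul_ne_zero h2 hc (this.trans ?_)
        rw [← zero_smul F b, B_smul_left, zero_mul]
      · exact (K.mul_mem_cancel_right (hL a ha _ (E.smul_mem _ hv1) ew)).1
          ((K.mul_mem_cancel_right hS).1 h1)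
    · right
      refine key P.symm hL.symm hu1 hu0 hv1 hv0 (fun h => hvE ?_) ?_ ?_ hA'
      · rwa [add_comm] at h
      · rwa [add_comm u1, add_comm v1]
      · rwa [add_comm u1, add_comm v1]
  · exact Or.inl (key P hL hu0 hu1 hv0 hv1 hvD huv hS hA)

/-- A symplectic element interchanging the two Lagrangians. -/
theorem exists_swap (P : Pair D E) : ∃ j ∈ Cfsg.spGL m F,
    (∀ x ∈ D, (j : M2m) *ᵥ x ∈ E) ∧ ∀ x ∈ E, (j : M2m) *ᵥ x ∈ D := by
  let e := Module.finBasisOfFinrankEq F D P.finD
  let φ : E →ₗ[F] (Fin m → F) :=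
    { toFun := fun f i => B (e i : V) (f : V)
      map_add' := fun a b => funext fun i => B_add_right _ _ _
      map_smul' := fun c a => funext fun i => B_smul_right _ _ _ }
  have hφi : Function.Injective φ := (injective_iff_map_eq_zero φ).2 fun f hf => by
    by_contra h0
    obtain ⟨⟨z, hz⟩, -⟩ := (isRefl_sympForm (F := F) m).nondeg (f : V) (fun h => h0 (Subtype.ext h))
    refine hz ?_
    obtain ⟨a, ha, b, hb, rfl⟩ := P.split z
    rw [B_add_left, P.tsE b hb f f.2, add_zero]
    have : a = ∑ i, (e.repr ⟨a, ha⟩ i) • (e i : V) := by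
      have := congrArg (fun z : D => (z : V)) (e.sum_repr ⟨a, ha⟩)
      simp only [AddSubmonoidClass.coe_finsetSum, Submodule.coe_smul] at this
      exact this.symm
    rw [this]
    let L : V →+ F := AddMonoidHom.mk' (fun y => B y f) (fun a b => B_add_left a b f)
    show L _ = 0
    rw [map_sum]
    refine Finset.sum_eq_zero fun i _ => ?_
    show B _ _ = 0
    rw [B_smul_left, show B (e i : V) (f : V) = 0 from congrFun hf i, mul_zero]
  have hfin : finrank F E = finrank F (Fin m → F) := by rw [P.finE, Module.finrank_fin_fun]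
  let σ : D ≃ₗ[F] E := e.equivFun.trans
    (LinearMap.linearEquivOfInjective φ hφi hfin).symm
  have hσ : ∀ x y : D, B (x : V) (σ y : V) = ∑ i, e.equivFun x i * e.equivFun y i := fun x y => by
    have hy : ∀ i, B (e i : V) (σ y : V) = e.equivFun y i := fun i => congrFun
      ((LinearMap.linearEquivOfInjective φ hφi hfin).apply_symm_apply (e.equivFun y)) i
    have hx : (x : V) = ∑ i, e.equivFun x i • (e i : V) := by
      have := congrArg (fun z : D => (z : V)) (e.sum_equivFun x)
      simp only [AddSubmonoidClass.coe_finsetSum, Submodule.coe_smul] at this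
      exact this.symm
    let L : V →+ F := AddMonoidHom.mk' (fun z => B z (σ y : V)) (fun a b => B_add_left a b _)
    show L x = _
    rw [hx, map_sum]
    exact Finset.sum_congr rfl fun i _ => by
      show B _ _ = _
      rw [B_smul_left, hy]
  have hsymm : ∀ x y : D, B (x : V) (σ y : V) = B (y : V) (σ x : V) := fun x y => by
    rw [hσ, hσ]; exact Finset.sum_congr rfl fun i _ => mul_comm _ _
  let pe := Submodule.prodEquivOfIsCompl D E P.compl
  let T : V ≃ₗ[F] V := pe.symm.trans (((LinearEquiv.prodComm F D E).trans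
    ((σ.symm.trans (LinearEquiv.neg F)).prodCongr σ)).trans pe)
  have hT : ∀ (a : D) (b : E), T ((a : V) + b) = -((σ.symm b : D) : V) + (σ a : V) := fun a b => by
    have : pe.symm ((a : V) + b) = (a, b) := by
      rw [LinearEquiv.symm_apply_eq]; rfl
    show pe (((LinearEquiv.prodComm F D E).trans _) (pe.symm _)) = _
    rw [this]
    rfl
  let j : GL (Fin m ⊕ Fin m) F := ⟨LinearMap.toMatrix' T.toLinearMap, LinearMap.toMatrix' T.symm.toLinearMap,
    by rw [← LinearMap.toMatrix'_comp, LinearEquiv.comp_symm, LinearMap.toMatrix'_id],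
    by rw [← LinearMap.toMatrix'_comp, LinearEquiv.symm_comp, LinearMap.toMatrix'_id]⟩
  have hj : ∀ x, (j : M2m) *ᵥ x = T x := fun x => LinearMap.toMatrix'_mulVec _ x
  have hjB : ∀ u v, B ((j : M2m) *ᵥ u) ((j : M2m) *ᵥ v) = B u v := fun u v => by
    obtain ⟨a, ha, b, hb, rfl⟩ := P.split u
    obtain ⟨a', ha', b', hb', rfl⟩ := P.split v
    rw [hj, hj, hT ⟨a, ha⟩ ⟨b, hb⟩, hT ⟨a', ha'⟩ ⟨b', hb'⟩]
    set x := σ.symm ⟨b, hb⟩ with hx
    set x' := σ.symm ⟨b', hb'⟩ with hx'
    have ex : (σ x : V) = b := by rw [hx, LinearEquiv.apply_symm_apply]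
    have ex' : (σ x' : V) = b' := by rw [hx', LinearEquiv.apply_symm_apply]
    rw [← neg_one_smul F (x : V), ← neg_one_smul F (x' : V)]
    simp only [B_add_left, B_add_right, B_smul_left, B_smul_right,
      P.tsD _ x.2 _ x'.2, P.tsE _ (σ ⟨a, ha⟩).2 _ (σ ⟨a', ha'⟩).2, P.tsD a ha a' ha',
      P.tsE b hb b' hb']
    rw [B_swap (x' : V) (σ ⟨a, ha⟩ : V), hsymm x ⟨a', ha'⟩, hsymm x' ⟨a, ha⟩, B_swap a' b, ex, ex']
    ring
  refine ⟨j, hjB, fun x hx => ?_, fun x hx => ?_⟩
  · have := hT ⟨x, hx⟩ 0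
    simp only [map_zero, ZeroMemClass.coe_zero, add_zero, neg_zero, zero_add] at this
    rw [hj, this]
    exact (σ _).2
  · have := hT 0 ⟨x, hx⟩
    simp only [map_zero, ZeroMemClass.coe_zero, add_zero, zero_add] at this
    rw [hj, this]
    exact D.neg_mem (σ.symm _).2

/-- The stabiliser of a pair of complementary Lagrangians is maximal in `Sp_2m`. -/
theorem pair_maximal (hm : 3 ≤ m) (h2 : (2 : F) ≠ 0) (D : Fin 2 → Submodule F V)
    (hD : IsMDecomposition m D) (hts : ∀ i, IsTotallySingularFor B (D i)) :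
    IsMaximalIn (Cfsg.spGL m F) (decompositionStabilizer D ⊓ Cfsg.spGL m F) := by
  refine ⟨lt_of_le_of_ne inf_le_right fun e =>
    CfsgLib.Aschbacher.spGL_not_le_decompositionStabilizer (by omega) hD (e ▸ inf_le_left),
    fun K hK hKG => ?_⟩
  by_cases hle : K ≤ decompositionStabilizer D
  · exact Or.inl (le_antisymm (le_inf hle hKG) hK)
  obtain ⟨g, hg, hgD⟩ := Set.not_subset.1 hle
  refine Or.inr (le_antisymm hKG (spGL_le_of_centre ?_))
  have hdim : finrank F V = m + m := by
    rw [Module.finrank_fintype_fun_eq_card, Fintype.card_sum, Fintype.card_fin]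
  have hc : IsCompl (D 0) (D 1) := by
    have h1 : Disjoint (D 0) (D 1) := hD.indep.pairwiseDisjoint (by decide)
    refine ⟨h1, codisjoint_iff.2 ?_⟩
    refine Submodule.eq_top_of_finrank_eq ?_
    have h2 := Submodule.finrank_sup_add_finrank_inf_eq (D 0) (D 1)
    rw [h1.eq_bot, finrank_bot, hD.finrank_eq 0, hD.finrank_eq 1] at h2
    rw [hdim]; omega
  have P : Pair (D 0) (D 1) := ⟨hD.finrank_eq 0, hD.finrank_eq 1, hc, hts 0, hts 1⟩
  have hstab : ∀ k : GL (Fin m ⊕ Fin m) F, ∀ σ : Equiv.Perm (Fin 2),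
      (∀ i, ∀ x ∈ D i, (k : M2m) *ᵥ x ∈ D (σ i)) → k ∈ decompositionStabilizer D := fun k σ h => by
    refine ⟨σ, fun i => Submodule.eq_of_le_of_finrank_eq ?_ ?_⟩
    · rintro _ ⟨x, hx, rfl⟩
      rw [Matrix.toLin'_apply]
      exact h i x hx
    · rw [hD.finrank_eq, ← LinearEquiv.finrank_eq (Submodule.equivMapOfInjective _
        (show Function.Injective (Matrix.toLin' (k : M2m)) from
          Matrix.mulVec_injective_iff_isUnit.2 k.isUnit) (D i)), hD.finrank_eq]
  have hL : Levi (D 0) (D 1) K := fun a ha b hb hab => hK ⟨hstab _ 1 fun i x hx => by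
    fin_cases i
    · exact (S_maps P ha hb hab).1 x hx
    · exact (S_maps P ha hb hab).2 x hx, S_mem a b⟩
  obtain ⟨j, hj, hj0, hj1⟩ := exists_swap P
  have hjK : j ∈ K := hK ⟨hstab j (Equiv.swap 0 1) fun i x hx => by
    fin_cases i
    · exact hj0 x hx
    · exact hj1 x hx, hj⟩
  let L : V →ₗ[F] V := Matrix.mulVecLin (g : M2m)
  have hinj : Function.Injective L := Matrix.mulVec_injective_iff_isUnit.2 g.isUnit
  -- a root element inside one of the two
  obtain ⟨u, hu, v, hv, huv, hu0, hv0, hout⟩ : ∃ u, u ∈ D 0 ∧ ∃ v, v ∈ D 1 ∧ B u v = 0 ∧ u ≠ 0 ∧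
      v ≠ 0 ∧ ((L u ∉ D 0 ∧ L u ∉ D 1) ∨ (L v ∉ D 0 ∧ L v ∉ D 1)) := by
    by_contra hc'
    push Not at hc'
    have h0 : (D 0).map L ≤ D 0 ∨ (D 0).map L ≤ D 1 := le_or_le <| by
      rintro _ ⟨u, hu, rfl⟩
      by_cases hu0 : u = 0
      · left; rw [hu0, map_zero]; exact zero_mem _
      obtain ⟨v, hv, hvu, -, hv0⟩ := P.symm.exists_perp (U := (⊥ : Submodule F V)) u 0
        (by rw [finrank_bot]; omega)
      rw [Submodule.mem_bot] at hv0
      have := (hc' u hu v hv (by rw [B_swap, hvu, neg_zero]) hu0 hv0).1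
      tauto
    have h1 : (D 1).map L ≤ D 0 ∨ (D 1).map L ≤ D 1 := le_or_le <| by
      rintro _ ⟨v, hv, rfl⟩
      by_cases hv0 : v = 0
      · left; rw [hv0, map_zero]; exact zero_mem _
      obtain ⟨u, hu, huv, -, hu0⟩ := P.exists_perp (U := (⊥ : Submodule F V)) v 0
        (by rw [finrank_bot]; omega)
      rw [Submodule.mem_bot] at hu0
      have := (hc' u hu v hv huv hu0 hv0).2
      tauto
    have hne : ∀ i, ¬ ((D 0).map L ≤ D i ∧ (D 1).map L ≤ D i) := fun i h => by
      have h3 : (⊤ : Submodule F V).map L ≤ D i := by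
        rw [← hc.sup_eq_top, Submodule.map_sup]; exact sup_le h.1 h.2
      have := Submodule.finrank_mono h3
      rw [← LinearEquiv.finrank_eq (Submodule.equivMapOfInjective L hinj ⊤), finrank_top,
        hdim, hD.finrank_eq] at this
      omega
    rcases h0 with a | a <;> rcases h1 with b | b
    · exact hne 0 ⟨a, b⟩
    · exact hgD (hstab g 1 fun i x hx => by
        fin_cases i <;> [exact a (Submodule.mem_map_of_mem hx); exact b (Submodule.mem_map_of_mem hx)])
    · exact hgD (hstab g (Equiv.swap 0 1) fun i x hx => by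
        fin_cases i <;> [exact a (Submodule.mem_map_of_mem hx); exact b (Submodule.mem_map_of_mem hx)])
    · exact hne 1 ⟨a, b⟩
  have hS : S (L u) (L v) ∈ K := by
    have := mul_mem (mul_mem hg (hL u hu v hv huv)) (inv_mem hg)
    rwa [conj_S (hKG hg)] at this
  have hB : B (L u) (L v) = 0 := by
    show B ((g : M2m) *ᵥ u) ((g : M2m) *ᵥ v) = 0
    rw [B_map (hKG hg), huv]
  have hind : LinearIndependent F ![L u, L v] := LinearIndependent.pair_iff.2 fun s t h => by
    rw [← map_smul, ← map_smul, ← map_add] at h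
    have h' : s • u + t • v = 0 := hinj (by rw [h, map_zero])
    have hs : s • u = 0 := Submodule.disjoint_def.1 hc.disjoint _ ((D 0).smul_mem s hu) (by
      rw [eq_neg_of_add_eq_zero_left h']; exact (D 1).neg_mem ((D 1).smul_mem t hv))
    rw [hs, zero_add] at h'
    exact ⟨(smul_eq_zero.1 hs).resolve_right hu0, (smul_eq_zero.1 h').resolve_right hv0⟩
  have main : ∀ x y : V, x ∉ D 0 → x ∉ D 1 → y ≠ 0 → LinearIndependent F ![x, y] → B x y = 0 →
      S x y ∈ K → (∃ p ∈ D 0, ∃ r ∈ D 0, p ≠ 0 ∧ r ≠ 0 ∧ S p r ∈ K) ∨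
      ∃ p ∈ D 1, ∃ r ∈ D 1, p ≠ 0 ∧ r ≠ 0 ∧ S p r ∈ K := by
    intro x y hx0 hx1 hy hind hB hS
    have hB' : B y x = 0 := by rw [B_swap, hB, neg_zero]
    by_cases h0 : y ∈ D 0
    · exact Or.inl (of_line P (by omega) hKG hL h0 hy hx1 hB' (by rwa [S_symm hB']))
    by_cases h1 : y ∈ D 1
    · exact Or.inr (of_line P.symm (by omega) hKG hL.symm h1 hy hx0 hB' (by rwa [S_symm hB']))
    exact of_outer P (by omega) h2 hKG hL hx1 h0 h1 hind hB hS
  have hne : ∀ x, x ≠ 0 → L x ≠ 0 := fun x hx h => hx (hinj (by rw [h, map_zero]))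
  have hor : (∀ e ∈ D 0, Centre K e) ∨ ∀ e ∈ D 1, Centre K e := by
    have h3 : (∃ p ∈ D 0, ∃ r ∈ D 0, p ≠ 0 ∧ r ≠ 0 ∧ S p r ∈ K) ∨
        ∃ p ∈ D 1, ∃ r ∈ D 1, p ≠ 0 ∧ r ≠ 0 ∧ S p r ∈ K := by
      rcases hout with ⟨a, b⟩ | ⟨a, b⟩
      · exact main _ _ a b (hne v hv0) hind hB hS
      · exact main _ _ a b (hne u hu0) (LinearIndependent.pair_symm_iff.1 hind)
          (by rw [B_swap, hB, neg_zero]) (by rwa [← S_symm hB])
    rcases h3 with ⟨p, hp, r, hr, hp0, hr0, h⟩ | ⟨p, hp, r, hr, hp0, hr0, h⟩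
    · exact Or.inl (spread P (by omega) h2 hKG hL hp hr hp0 hr0 h)
    · exact Or.inr (spread P.symm (by omega) h2 hKG hL.symm hp hr hp0 hr0 h)
  have hjinv : ∀ {A A' : Submodule F V}, finrank F A = finrank F A' →
      (∀ x ∈ A, (j : M2m) *ᵥ x ∈ A') → ∀ y ∈ A', ∃ x ∈ A, (j : M2m) *ᵥ x = y := by
    intro A A' hr h y hy
    have : A.map (Matrix.mulVecLin (j : M2m)) = A' := Submodule.eq_of_le_of_finrank_eq
      (Submodule.map_le_iff_le_comap.2 h) (by
        rw [← hr]
        exact (LinearEquiv.finrank_eq (Submodule.equivMapOfInjective _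
          (Matrix.mulVec_injective_iff_isUnit.2 j.isUnit) A)).symm)
    exact Submodule.mem_map.1 (this.ge hy)
  have hfin : finrank F (D 0) = finrank F (D 1) := by rw [hD.finrank_eq, hD.finrank_eq]
  obtain ⟨hC0, hC1⟩ : (∀ e ∈ D 0, Centre K e) ∧ ∀ e ∈ D 1, Centre K e := by
    rcases hor with h | h
    · refine ⟨h, fun y hy => ?_⟩
      obtain ⟨x, hx, rfl⟩ := hjinv hfin hj0 y hy
      exact (h x hx).conj hjK hj
    · refine ⟨fun y hy => ?_, h⟩
      obtain ⟨x, hx, rfl⟩ := hjinv hfin.symm hj1 y hy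
      exact (h x hx).conj hjK hj
  intro z
  obtain ⟨a, ha, b, hb, rfl⟩ := P.split z
  by_cases hb0 : b = 0
  · rw [hb0, add_zero]; exact hC0 a ha
  by_cases hab : B b a = 0
  · obtain ⟨a', ha', hb1, -⟩ := P.symm.exists_in (U := (⊥ : Submodule F V)) bot_le hb
      (by rwa [Submodule.mem_bot])
    have h1 : Centre K (b + a') := by
      have := (hC1 b hb).move (hC0 a' ha') (B b a')⁻¹
      rwa [hb1, inv_one, one_mul, one_smul] at this
    have e : B (b + a') (a - a') = -1 := by
      rw [B_add_left, P.tsD a' ha' _ ((D 0).sub_mem ha ha'), sub_eq_add_neg, B_add_right,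
        ← neg_one_smul F a', B_smul_right, hab, hb1]
      ring
    have := h1.move (hC0 _ ((D 0).sub_mem ha ha')) (-1)
    rw [e] at this
    convert this using 1
    module
  · have := (hC1 b hb).move (hC0 a ha) (B b a)⁻¹
    rwa [inv_mul_cancel₀ hab, one_smul, add_comm] at this

end CfsgLib.MaxSub.PairSp
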