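/-
Isometries of an alternating form squaring to a scalar permute the parts of some orthogonal decomposition.
-/
import Mathlib
import Cfsg.Agent.Lib.MaxSub.InvolutionBlocks

set_option autoImplicit false
set_option linter.unusedSectionVars false

namespace CfsgLib.MaxSub

variable {F V : Type*} [Field F] [AddCommGroup V] [Module F V] [FiniteDimensional F V]

/-- Two subspaces are orthogonal. -/
def Perp2 (B : LinearMap.BilinForm F V) (P Q : Submodule F V) : Prop :=
  ∀ u ∈ P, ∀ v ∈ Q, B u v = 0 ∧ B v u = 0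

/-- An orthogonal decomposition of `Y` into planes permuted by `x`. -/
def HasPlanes (B : LinearMap.BilinForm F V) (x : V →ₗ[F] V) (Y : Submodule F V) : Prop :=
  ∃ (k l : ℕ) (G : ℕ → Bool → Submodule F V) (H : ℕ → Submodule F V),
    2 * (2 * k + l) = Module.finrank F Y ∧
    (∀ i < k, ∀ b, G i b ≤ Y ∧ Module.finrank F (G i b) ≤ 2 ∧ (G i b).map x ≤ G i (!b)) ∧
    (∀ w < l, H w ≤ Y ∧ Module.finrank F (H w) ≤ 2 ∧ (H w).map x ≤ H w) ∧
    (∀ i < k, ∀ i' < k, ∀ b b', (i ≠ i' ∨ b ≠ b') → Perp2 B (G i b) (G i' b')) ∧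
    (∀ i < k, ∀ w < l, ∀ b, Perp2 B (G i b) (H w)) ∧
    (∀ w < l, ∀ w' < l, w ≠ w' → Perp2 B (H w) (H w')) ∧
    Y ≤ (⨆ (i : Fin k) (b : Bool), G i b) ⊔ ⨆ w : Fin l, H w

theorem Perp2.mono {B : LinearMap.BilinForm F V} {P P' Q Q' : Submodule F V} (h : Perp2 B P Q) (hP : P' ≤ P)
    (hQ : Q' ≤ Q) : Perp2 B P' Q' := fun u hu v hv => h u (hP hu) v (hQ hv)

theorem Perp2.symm {B : LinearMap.BilinForm F V} {P Q : Submodule F V} (h : Perp2 B P Q) : Perp2 B Q P :=
  fun u hu v hv => ((h v hv u hu).symm)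

theorem finrank_span_pair_le (v w : V) : Module.finrank F (Submodule.span F ({v, w} : Set V)) ≤ 2 := by
  rw [Submodule.span_insert]
  refine (Submodule.finrank_add_le_finrank_add_finrank _ _).trans ?_
  have h1 : ∀ u : V, Module.finrank F (Submodule.span F ({u} : Set V)) ≤ 1 := fun u => by
    rcases eq_or_ne u 0 with rfl | hu
    · rw [Submodule.span_zero_singleton, finrank_bot]; exact Nat.zero_le _
    · exact (finrank_span_singleton hu).le
  have := h1 v; have := h1 w; omega

theorem perp2_span {B : LinearMap.BilinForm F V} (hskew : ∀ u v, B u v = -B v u) {s t : Set V}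
    (h : ∀ u ∈ s, ∀ v ∈ t, B u v = 0) : Perp2 B (Submodule.span F s) (Submodule.span F t) := by
  have key : ∀ u ∈ Submodule.span F s, ∀ v ∈ Submodule.span F t, B u v = 0 := by
    intro u hu v hv
    induction hu, hv using Submodule.span_induction₂ with
    | mem_mem x y hx hy => exact h x hx y hy
    | zero_left y hy => simp
    | zero_right x hx => simp
    | add_left x y z hx hy hz h1 h2 => simp [h1, h2]
    | add_right x y z hx hy hz h1 h2 => simp [h1, h2]
    | smul_left r x y hx hy h => simp [h]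
    | smul_right r x y hx hy h => simp [h]
  exact fun u hu v hv => ⟨key u hu v hv, by rw [hskew, key u hu v hv, neg_zero]⟩

/-- A non-degenerate invariant piece. -/
structure Piece (B : LinearMap.BilinForm F V) (x : V →ₗ[F] V) (Y : Submodule F V) (v w : V) : Prop where
  mem_v : v ∈ Y
  mem_w : w ∈ Y
  form : B v w = 1

theorem split_plane {B : LinearMap.BilinForm F V} (hB : ∀ v, B v v = 0) (hskew : ∀ u v, B u v = -B v u)
    {Y : Submodule F V} (hnd : ∀ y ∈ Y, y ≠ 0 → ∃ z ∈ Y, B y z ≠ 0) {v w : V} (hv : v ∈ Y) (hw : w ∈ Y)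
    (hvw : B v w = 1) :
    let Y' := Y ⊓ LinearMap.ker (B v) ⊓ LinearMap.ker (B w)
    Y ≤ Submodule.span F ({v, w} : Set V) ⊔ Y' ∧ Perp2 B (Submodule.span F ({v, w} : Set V)) Y' ∧
      (∀ y ∈ Y', y ≠ 0 → ∃ z ∈ Y', B y z ≠ 0) ∧ Module.finrank F Y' + 2 = Module.finrank F Y := by
  intro Y'
  have mem : ∀ u, u ∈ Y' ↔ u ∈ Y ∧ B v u = 0 ∧ B w u = 0 := fun u => by simp [Y', and_assoc]
  have hwv : B w v = -1 := by rw [hskew, hvw]
  have hdec : ∀ u ∈ Y, u - (-(B w u)) • v - (B v u) • w ∈ Y' := fun u hu =>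
    (mem _).mpr ⟨Y.sub_mem (Y.sub_mem hu (Y.smul_mem _ hv)) (Y.smul_mem _ hw), by simp [hB, hvw], by simp [hB, hwv]⟩
  have hperp : Perp2 B (Submodule.span F ({v, w} : Set V)) Y' := by
    have h := perp2_span (B := B) hskew (s := ({v, w} : Set V)) (t := (Y' : Set V)) (by
      rintro u (rfl | rfl) y hy
      · exact ((mem y).mp hy).2.1
      · exact ((mem y).mp hy).2.2)
    rwa [Submodule.span_eq] at h
  have hle : Y ≤ Submodule.span F ({v, w} : Set V) ⊔ Y' := fun u hu => Submodule.mem_sup.mpr
    ⟨(-(B w u)) • v + (B v u) • w, Submodule.add_mem _ (Submodule.smul_mem _ _ (Submodule.subset_span (Or.inl rfl)))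
      (Submodule.smul_mem _ _ (Submodule.subset_span (Or.inr rfl))), _, hdec u hu, by abel⟩
  refine ⟨hle, hperp, fun y hy hy0 => ?_, ?_⟩
  · obtain ⟨hy1, hy2, hy3⟩ := (mem y).mp hy
    obtain ⟨z, hz, hyz⟩ := hnd y hy1 hy0
    exact ⟨_, hdec z hz, by simpa [hskew y v, hskew y w, hy2, hy3] using hyz⟩
  · have hsp : Submodule.span F ({v, w} : Set V) ≤ Y := Submodule.span_le.mpr (by rintro u (rfl | rfl) <;> assumption)
    have heq : Submodule.span F ({v, w} : Set V) ⊔ Y' = Y := le_antisymm (sup_le hsp fun u hu => ((mem u).mp hu).1) hle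
    have hinf : Submodule.span F ({v, w} : Set V) ⊓ Y' = ⊥ := by
      rw [eq_bot_iff]
      rintro u ⟨hu, hu'⟩
      obtain ⟨α, β, rfl⟩ := Submodule.mem_span_pair.mp hu
      obtain ⟨-, h1, h2⟩ := (mem _).mp hu'
      simp [hB, hvw, hwv] at h1 h2
      simp [h1, h2]
    have h2 : Module.finrank F (Submodule.span F ({v, w} : Set V)) = 2 := by
      have hli : LinearIndependent F ![v, w] := LinearIndependent.pair_iff.mpr fun α β h => by
        have h1 := congrArg (B v) h
        have h2 := congrArg (B w) h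
        simp [hB, hvw, hwv] at h1 h2
        exact ⟨h2, h1⟩
      rw [← show Set.range ![v, w] = ({v, w} : Set V) by simp [Matrix.range_cons, Set.pair_comm],
        finrank_span_eq_card hli, Fintype.card_fin]
    have h := Submodule.finrank_sup_add_finrank_inf_eq (Submodule.span F ({v, w} : Set V)) Y'
    rw [heq, hinf, finrank_bot, h2] at h
    omega

theorem hasPlanes_aux (B : LinearMap.BilinForm F V) (hB : ∀ v, B v v = 0) (x : V →ₗ[F] V)
    (hx : ∀ u v, B (x u) (x v) = B u v) (z : F) (hxz : ∀ v, x (x v) = z • v) :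
    ∀ (n : ℕ) (Y : Submodule F V), Module.finrank F Y ≤ n → (∀ y ∈ Y, x y ∈ Y) →
      (∀ y ∈ Y, y ≠ 0 → ∃ w ∈ Y, B y w ≠ 0) → HasPlanes B x Y := by
  have hskew : ∀ u v, B u v = -B v u := fun u v => by
    have h := hB (u + v)
    simp only [map_add, LinearMap.add_apply, hB, zero_add, add_zero] at h
    linear_combination h
  intro n
  induction n with
  | zero =>
    intro Y hY _ _
    refine ⟨0, 0, fun _ _ => ⊥, fun _ => ⊥, by omega, fun i hi => absurd hi (Nat.not_lt_zero i),
      fun i hi => absurd hi (Nat.not_lt_zero i), fun i hi => absurd hi (Nat.not_lt_zero i),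
      fun i hi => absurd hi (Nat.not_lt_zero i), fun i hi => absurd hi (Nat.not_lt_zero i), ?_⟩
    rw [Submodule.finrank_eq_zero.mp (Nat.le_zero.mp hY)]
    exact bot_le
  | succ n ih =>
    intro Y hdim hY hnd
    by_cases hne : Y = ⊥
    · exact ih Y (by rw [hne, finrank_bot]; omega) hY hnd
    obtain ⟨y, hy, hy0⟩ := Submodule.exists_mem_ne_zero_of_ne_bot hne
    obtain ⟨y', hy', hyy'⟩ := hnd y hy hy0
    -- the subspace orthogonal to an invariant set of vectors is invariant
    have hinv : ∀ v w, x v ∈ Submodule.span F ({v, w} : Set V) → x w ∈ Submodule.span F ({v, w} : Set V) → B v w = 1 →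
        ∀ u ∈ Y ⊓ LinearMap.ker (B v) ⊓ LinearMap.ker (B w),
          x u ∈ Y ⊓ LinearMap.ker (B v) ⊓ LinearMap.ker (B w) := by
      intro v w hxv hxw hvw u hu
      simp only [Submodule.mem_inf, LinearMap.mem_ker] at hu ⊢
      obtain ⟨a, b, hab⟩ := Submodule.mem_span_pair.mp hxv
      obtain ⟨c, e, hce⟩ := Submodule.mem_span_pair.mp hxw
      have h1 : a * B v (x u) + b * B w (x u) = 0 := by
        have := hx v u
        rw [← hab, map_add, map_smul, map_smul] at this
        simpa [hu.1.2] using this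
      have h2 : c * B v (x u) + e * B w (x u) = 0 := by
        have := hx w u
        rw [← hce, map_add, map_smul, map_smul] at this
        simpa [hu.2] using this
      have hdet : a * e - b * c = 1 := by
        have := hx v w
        rw [← hab, ← hce, hvw] at this
        simp [hB, hvw, hskew w v] at this
        linear_combination this
      refine ⟨⟨hY u hu.1.1, ?_⟩, ?_⟩
      · linear_combination e * h1 - b * h2 - B v (x u) * hdet
      · linear_combination a * h2 - c * h1 - B w (x u) * hdet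
    have addPlane : ∀ v w, v ∈ Y → w ∈ Y → B v w = 1 → x v ∈ Submodule.span F ({v, w} : Set V) →
        x w ∈ Submodule.span F ({v, w} : Set V) → HasPlanes B x Y := by
      intro v w hv hw hvw hxv hxw
      obtain ⟨hle, hperp, hnd', hfin⟩ := split_plane hB hskew hnd hv hw hvw
      obtain ⟨k, l, G, H, hkl, hG, hH, hGG, hGH, hHH, hcov⟩ :=
        ih _ (by omega) (hinv v w hxv hxw hvw) hnd'
      have hsp : Submodule.span F ({v, w} : Set V) ≤ Y := Submodule.span_le.mpr (by rintro u (rfl | rfl) <;> assumption)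
      refine ⟨k, l + 1, G, fun i => if i < l then H i else Submodule.span F {v, w}, by omega,
        fun i hi b => ⟨(hG i hi b).1.trans (inf_le_left.trans inf_le_left), (hG i hi b).2⟩, ?_, hGG, ?_, ?_, ?_⟩
      · intro i hi
        by_cases h : i < l
        · beta_reduce
          generalize hS' : (if i < l then H i else Submodule.span F {v, w}) = S
          rw [if_pos h] at hS'
          subst hS'
          exact ⟨(hH i h).1.trans (inf_le_left.trans inf_le_left), (hH i h).2⟩
        · beta_reduce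
          generalize hS' : (if i < l then H i else Submodule.span F {v, w}) = S
          rw [if_neg h] at hS'
          subst hS'
          refine ⟨hsp, finrank_span_pair_le v w, ?_⟩
          rw [Submodule.map_span_le]
          rintro u (rfl | rfl) <;> assumption
      · intro i hi j hj b
        by_cases h : j < l
        · simp only [if_pos h]; exact hGH i hi j h b
        · simp only [if_neg h]; exact (hperp.mono le_rfl (hG i hi b).1).symm
      · intro i hi j hj hij
        by_cases h : i < l <;> by_cases h' : j < l <;> simp only [if_pos, if_neg, h, h', not_false_iff]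
        · exact hHH i h j h' hij
        · exact (hperp.mono le_rfl (hH i h).1).symm
        · exact hperp.mono le_rfl (hH j h').1
        · omega
      · refine hle.trans (sup_le (le_sup_of_le_right (le_iSup_of_le (Fin.last l) (by simp))) (hcov.trans ?_))
        refine sup_le_sup le_rfl (iSup_le fun i => le_iSup_of_le i.castSucc (by simp [i.2]))
    by_cases hA : ∃ v ∈ Y, B v (x v) ≠ 0
    · obtain ⟨v, hv, hvv⟩ := hA
      refine addPlane v ((B v (x v))⁻¹ • x v) hv (Y.smul_mem _ (hY v hv)) (by simp [hvv]) ?_ ?_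
      · exact Submodule.mem_span_pair.mpr ⟨0, B v (x v), by simp [smul_smul, hvv]⟩
      · rw [map_smul, hxz, smul_smul]
        exact Submodule.smul_mem _ _ (Submodule.subset_span (Or.inl rfl))
    simp only [not_exists, not_and, not_not] at hA
    by_cases hS : ∀ v ∈ Y, x v ∈ Submodule.span F ({v} : Set V)
    · refine addPlane y ((B y y')⁻¹ • y') hy (Y.smul_mem _ hy') (by simp [hyy']) ?_ ?_
      · exact Submodule.span_mono (by simp) (hS y hy)
      · exact Submodule.span_mono (by simp) (hS _ (Y.smul_mem _ hy'))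
    simp only [not_forall] at hS
    obtain ⟨v, hv, hvx⟩ := hS
    have hv0 : v ≠ 0 := fun h => hvx (by simp [h])
    -- a vector pairing to one with `v` and to zero with `x v`
    obtain ⟨w, hw, hvw, hxvw⟩ : ∃ w ∈ Y, B v w = 1 ∧ B (x v) w = 0 := by
      by_contra hcon
      simp only [not_exists, not_and] at hcon
      obtain ⟨u, hu, hvu⟩ := hnd v hv hv0
      have hc : ∀ z ∈ Y, B v z = 1 → B (x v) z ≠ 0 := hcon
      set u1 := (B v u)⁻¹ • u with hu1
      have hu1Y : u1 ∈ Y := Y.smul_mem _ hu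
      have hvu1 : B v u1 = 1 := by simp [hu1, hvu]
      have h : x v - (B (x v) u1) • v ∈ Y := Y.sub_mem (hY v hv) (Y.smul_mem _ hv)
      by_cases h0 : x v - (B (x v) u1) • v = 0
      · exact hvx (Submodule.mem_span_singleton.mpr ⟨_, (sub_eq_zero.mp h0).symm⟩)
      obtain ⟨z', hz', hzz⟩ := hnd _ h h0
      set c := B (x v) z' - B (x v) u1 * B v z' with hcdef
      have hc0 : c ≠ 0 := by simpa [hcdef] using hzz
      refine hc (u1 - (B (x v) u1 / c) • (z' - (B v z') • u1)) (Y.sub_mem hu1Y (Y.smul_mem _ (Y.sub_mem hz' (Y.smul_mem _ hu1Y))))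
        (by simp [hvu1]) ?_
      simp only [map_sub, map_smul, smul_eq_mul]
      field_simp
      rw [hcdef]; ring
    obtain ⟨hle1, hperp1, hnd1, hfin1⟩ := split_plane hB hskew hnd hv hw hvw
    set Y1 := Y ⊓ LinearMap.ker (B v) ⊓ LinearMap.ker (B w) with hY1
    have mem1 : ∀ u, u ∈ Y1 ↔ u ∈ Y ∧ B v u = 0 ∧ B w u = 0 := fun u => by simp [hY1, and_assoc]
    have hvxw : B v (x w) = 0 := by
      have h := hx v (x w)
      rw [hxz, map_smul, hxvw, smul_zero] at h
      exact h.symm
    have hxv1 : x v ∈ Y1 := (mem1 _).mpr ⟨hY v hv, hA v hv, by rw [hskew, hxvw, neg_zero]⟩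
    have hxw1 : x w ∈ Y1 := (mem1 _).mpr ⟨hY w hw, hvxw, hA w hw⟩
    obtain ⟨hle2, hperp2, hnd2, hfin2⟩ := split_plane hB hskew hnd1 hxv1 hxw1 (by rw [hx, hvw])
    set Y2 := Y1 ⊓ LinearMap.ker (B (x v)) ⊓ LinearMap.ker (B (x w)) with hY2
    have mem2 : ∀ u, u ∈ Y2 ↔ u ∈ Y ∧ B v u = 0 ∧ B w u = 0 ∧ B (x v) u = 0 ∧ B (x w) u = 0 := fun u => by
      simp only [hY2, hY1, Submodule.mem_inf, LinearMap.mem_ker, and_assoc]
    have hz0 : z ≠ 0 := fun h => by
      have h1 := hx (x v) (x w)
      rw [hx v w, hxz v, h, zero_smul, map_zero, LinearMap.zero_apply, hvw] at h1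
      exact zero_ne_one h1
    have hinv2 : ∀ u ∈ Y2, x u ∈ Y2 := by
      intro u hu
      obtain ⟨h1, h2, h3, h4, h5⟩ := (mem2 u).mp hu
      have e : ∀ a, B (x a) u = 0 → B a (x u) = 0 := fun a ha => by
        have h := hx (x a) u
        rw [hxz, map_smul, LinearMap.smul_apply, smul_eq_mul, ha] at h
        exact (mul_eq_zero.mp h).resolve_left hz0
      exact (mem2 _).mpr ⟨hY u h1, e v h4, e w h5, by rw [hx]; exact h2, by rw [hx]; exact h3⟩
    obtain ⟨k, l, G, H, hkl, hG, hH, hGG, hGH, hHH, hcov⟩ := ih Y2 (by omega) hinv2 hnd2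
    let P : Bool → Submodule F V := fun b =>
      if b then Submodule.span F {x v, x w} else Submodule.span F {v, w}
    have hY2Y1 : Y2 ≤ Y1 := inf_le_left.trans inf_le_left
    have hY1Y : Y1 ≤ Y := inf_le_left.trans inf_le_left
    have hP : ∀ b, P b ≤ Y ∧ Module.finrank F (P b) ≤ 2 ∧ (P b).map x ≤ P (!b) ∧ Perp2 B (P b) Y2 := by
      intro b
      cases b
      · refine ⟨Submodule.span_le.mpr (by rintro u (rfl | rfl) <;> assumption), finrank_span_pair_le v w, ?_,
          hperp1.mono le_rfl hY2Y1⟩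
        show (Submodule.span F {v, w}).map x ≤ Submodule.span F {x v, x w}
        rw [Submodule.map_span, Set.image_pair]
      · refine ⟨Submodule.span_le.mpr (by rintro u (rfl | rfl) <;> [exact hY v hv; exact hY w hw]),
          finrank_span_pair_le _ _, ?_, hperp2⟩
        show (Submodule.span F {x v, x w}).map x ≤ Submodule.span F {v, w}
        rw [Submodule.map_span_le]
        rintro u (rfl | rfl) <;> rw [hxz]
        · exact Submodule.smul_mem _ _ (Submodule.subset_span (Or.inl rfl))
        · exact Submodule.smul_mem _ _ (Submodule.subset_span (Or.inr rfl))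
    have hPP : ∀ b b', b ≠ b' → Perp2 B (P b) (P b') := by
      have h : Perp2 B (P false) (P true) :=
        hperp1.mono le_rfl (Submodule.span_le.mpr (by rintro u (rfl | rfl) <;> assumption))
      intro b b' hbb
      cases b <;> cases b' <;> first | exact absurd rfl hbb | exact h | exact h.symm
    refine ⟨k + 1, l, fun i b => if i < k then G i b else P b, H, by omega, ?_,
      fun i hi => ⟨(hH i hi).1.trans (hY2Y1.trans hY1Y), (hH i hi).2⟩, ?_, ?_, hHH, ?_⟩
    · intro i hi b
      by_cases h : i < k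
      · beta_reduce
        generalize hS1 : (if i < k then G i b else P b) = S
        generalize hS2 : (if i < k then G i (!b) else P (!b)) = S'
        rw [if_pos h] at hS1 hS2
        subst hS1 hS2
        exact ⟨(hG i h b).1.trans (hY2Y1.trans hY1Y), (hG i h b).2⟩
      · beta_reduce
        generalize hS1 : (if i < k then G i b else P b) = S
        generalize hS2 : (if i < k then G i (!b) else P (!b)) = S'
        rw [if_neg h] at hS1 hS2
        subst hS1 hS2
        exact ⟨(hP b).1, (hP b).2.1, (hP b).2.2.1⟩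
    · intro i hi i' hi' b b' hne'
      by_cases h : i < k <;> by_cases h' : i' < k <;> simp only [if_pos, if_neg, h, h', not_false_iff]
      · exact hGG i h i' h' b b' hne'
      · exact ((hP b').2.2.2.mono le_rfl (hG i h b).1).symm
      · exact (hP b).2.2.2.mono le_rfl (hG i' h' b').1
      · exact hPP b b' (hne'.resolve_left (by omega))
    · intro i hi j hj b
      by_cases h : i < k
      · simp only [if_pos h]; exact hGH i h j hj b
      · simp only [if_neg h]; exact (hP b).2.2.2.mono le_rfl (hH j hj).1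
    · refine hle1.trans (sup_le (le_sup_of_le_left (le_iSup_of_le (Fin.last k) (le_iSup_of_le false (by simp [P]))))
        (hle2.trans (sup_le (le_sup_of_le_left (le_iSup_of_le (Fin.last k) (le_iSup_of_le true (by simp [P]))))
          (hcov.trans (sup_le_sup (iSup_le fun i => iSup_le fun b =>
            le_iSup_of_le i.castSucc (le_iSup_of_le b (by simp [i.2]))) le_rfl)))))

theorem orth_blocks (B : LinearMap.BilinForm F V) (hB : ∀ v, B v v = 0) (hnd : ∀ y, y ≠ 0 → ∃ w, B y w ≠ 0)
    (x : V →ₗ[F] V) (hinj : Function.Injective x) (hx : ∀ u v, B (x u) (x v) = B u v) (z : F)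
    (hxz : ∀ v, x (x v) = z • v) (a t : ℕ) (ha : 2 ≤ a) (hae : Even a) (hat : Module.finrank F V = a * t) :
    ∃ D : Fin t → Submodule F V, (∀ j, Module.finrank F (D j) = a) ∧ iSupIndep D ∧ iSup D = ⊤ ∧
      (∀ j, ∀ u ∈ D j, u ≠ 0 → ∃ v ∈ D j, B u v ≠ 0) ∧ (∀ j j', j ≠ j' → ∀ u ∈ D j, ∀ v ∈ D j', B u v = 0) ∧
      ∃ σ : Equiv.Perm (Fin t), ∀ j, (D j).map x = D (σ j) := by
  classical
  obtain ⟨k, l, G, H, hkl, hG, hH, hGG, hGH, hHH, hcov⟩ := hasPlanes_aux B hB x hx z hxz _ ⊤ le_rfl
    (fun _ _ => Submodule.mem_top) (fun y _ hy => (hnd y hy).imp fun w hw => ⟨Submodule.mem_top, hw⟩)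
  obtain ⟨h, rfl⟩ := hae
  rw [finrank_top, hat, Nat.add_mul] at hkl
  obtain ⟨P, S, σ, hP, hS, hC⟩ := blocks_exist h (by omega) t k l (by omega)
  let pl : (Fin k × Bool) ⊕ Fin l → Submodule F V := Sum.elim (fun p => G p.1 p.2) (fun w => H w)
  let blk : (Fin k × Bool) ⊕ Fin l → Fin t :=
    Sum.elim (fun p => ⟨P p.1.1 p.2, (hP p.1.1 p.1.2 p.2).1⟩) (fun i => ⟨S i.1, (hS i.1 i.2).1⟩)
  let D : Fin t → Submodule F V := fun j => (Finset.univ.filter fun s => blk s = j).sup pl
  have hpl : ∀ s, pl s ≤ D (blk s) := fun s => Finset.le_sup (f := pl) (by simp)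
  have hperp : ∀ s s', s ≠ s' → Perp2 B (pl s) (pl s') := by
    rintro (⟨i, b⟩ | i) (⟨i', b'⟩ | i') hne
    · refine hGG i i.2 i' i'.2 b b' ?_
      by_contra hc
      simp only [not_or, not_not] at hc
      exact hne (by rw [Fin.ext hc.1, hc.2])
    · exact hGH i i.2 i' i'.2 b
    · exact (hGH i' i'.2 i i.2 b').symm
    · exact hHH i i.2 i' i'.2 fun hc => hne (by rw [Fin.ext hc])
  have horth : ∀ j j', j ≠ j' → ∀ u ∈ D j, ∀ v ∈ D j', B u v = 0 := by
    intro j j' hjj u hu v hv
    have h1 : ∀ s, blk s = j → pl s ≤ LinearMap.ker (B.flip v) := by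
      intro s hs u' hu'
      have h2 : D j' ≤ LinearMap.ker (B u') := Finset.sup_le fun s' hs' v' hv' =>
        (hperp s s' (fun e => hjj (by rw [← hs, e]; exact (Finset.mem_filter.mp hs').2)) u' hu' v' hv').1
      exact h2 hv
    exact (Finset.sup_le fun s hs => h1 s (Finset.mem_filter.mp hs).2 : D j ≤ LinearMap.ker (B.flip v)) hu
  have htop : iSup D = ⊤ := eq_top_iff.mpr (hcov.trans (sup_le
    (iSup_le fun i => iSup_le fun b => (hpl (Sum.inl (i, b))).trans (le_iSup D _))
    (iSup_le fun i => (hpl (Sum.inr i)).trans (le_iSup D _))))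
  have hdec : ∀ j, ∀ u ∈ D j, ∀ v : V, ∃ v' ∈ D j, B u v = B u v' := by
    intro j u hu v
    obtain ⟨f, hf, hsum⟩ := (Submodule.mem_iSup_iff_exists_finsupp D v).mp (htop.ge Submodule.mem_top)
    refine ⟨f j, hf j, ?_⟩
    rw [← hsum, Finsupp.sum, map_sum]
    refine Finset.sum_eq_single j (fun i _ hij => horth j i (Ne.symm hij) u hu _ (hf i)) (fun hj => ?_)
    rw [Finsupp.notMem_support_iff.mp hj, map_zero]
  have hndj : ∀ j, ∀ u ∈ D j, u ≠ 0 → ∃ v ∈ D j, B u v ≠ 0 := fun j u hu hu0 => by
    obtain ⟨v, hv⟩ := hnd u hu0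
    obtain ⟨v', hv', he⟩ := hdec j u hu v
    exact ⟨v', hv', he ▸ hv⟩
  have hind : iSupIndep D := fun j => Submodule.disjoint_def.mpr fun u hu hu' => by
    by_contra hu0
    obtain ⟨v, hv, huv⟩ := hndj j u hu hu0
    exact huv ((iSup₂_le fun i hi u' hu'' => horth i j hi u' hu'' v hv :
      (⨆ (i : Fin t) (_ : i ≠ j), D i) ≤ LinearMap.ker (B.flip v)) hu')
  have hsupfin : ∀ s : Finset ((Fin k × Bool) ⊕ Fin l), Module.finrank F ↥(s.sup pl) ≤ 2 * s.card := by
    intro s
    induction s using Finset.induction with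
    | empty => rw [Finset.sup_empty, finrank_bot]; simp
    | insert i s hi ih2 =>
      rw [Finset.sup_insert, Finset.card_insert_of_notMem hi]
      have h2 := Submodule.finrank_add_le_finrank_add_finrank (pl i) (s.sup pl)
      have : Module.finrank F (pl i) ≤ 2 := by
        rcases i with ⟨i, b⟩ | i
        · exact (hG i i.2 b).2.1
        · exact (hH i i.2).2.1
      omega
  have hle : ∀ j, Module.finrank F (D j) ≤ h + h := fun j => by
    refine (hsupfin _).trans (le_of_eq ?_)
    rw [Finset.card_filter, Fintype.sum_sum_type, Fintype.sum_prod_type, ← two_mul]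
    congr 1
    refine Eq.trans ?_ (hC j.1 j.2).2.2
    unfold blockCount
    simp only [blk, Sum.elim_inl, Sum.elim_inr, Fin.ext_iff, Fintype.sum_bool]
    rw [Fin.sum_univ_eq_sum_range (fun i => (if P i true = j.1 then 1 else 0) + (if P i false = j.1 then 1 else 0)),
      Fin.sum_univ_eq_sum_range (fun i => if S i = j.1 then 1 else 0)]
  have hsubadd : ∀ s : Finset (Fin t), Module.finrank F ↥(s.sup D) ≤ ∑ j ∈ s, Module.finrank F (D j) := by
    intro s
    induction s using Finset.induction with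
    | empty => rw [Finset.sup_empty, finrank_bot]; simp
    | insert i s hi ih2 =>
      rw [Finset.sup_insert, Finset.sum_insert hi]
      have h2 := Submodule.finrank_add_le_finrank_add_finrank (D i) (s.sup D)
      omega
  have hfin : ∀ j, Module.finrank F (D j) = h + h := by
    intro j
    by_contra hne
    have hlt : ∑ i, Module.finrank F (D i) < ∑ _i : Fin t, (h + h) :=
      Finset.sum_lt_sum (fun i _ => hle i) ⟨j, Finset.mem_univ _, lt_of_le_of_ne (hle j) hne⟩
    have hge := hsubadd Finset.univ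
    rw [Finset.sup_univ_eq_iSup, htop, finrank_top, hat] at hge
    rw [Finset.sum_const, Finset.card_univ, Fintype.card_fin, smul_eq_mul, mul_comm] at hlt
    omega
  have hσ : Function.Involutive (fun j : Fin t => (⟨σ j.1, (hC j.1 j.2).1⟩ : Fin t)) :=
    fun j => Fin.ext (hC j.1 j.2).2.1
  refine ⟨D, hfin, hind, htop, hndj, horth, Function.Involutive.toPerm _ hσ, fun j => ?_⟩
  refine Submodule.eq_of_le_of_finrank_eq ?_
    (((Submodule.equivMapOfInjective x hinj (D j)).finrank_eq).symm.trans ((hfin j).trans (hfin _).symm))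
  rw [Submodule.map_le_iff_le_comap]
  refine Finset.sup_le fun s hs => Submodule.map_le_iff_le_comap.mp ?_
  obtain rfl := (Finset.mem_filter.mp hs).2
  rcases s with ⟨i, b⟩ | i
  · refine (hG i i.2 b).2.2.trans ((hpl (Sum.inl (i, !b))).trans (le_of_eq ?_))
    exact congrArg D (Fin.ext (hP i.1 i.2 b).2.symm)
  · refine (hH i i.2).2.2.trans ((hpl (Sum.inr i)).trans (le_of_eq ?_))
    exact congrArg D (Fin.ext (hS i.1 i.2).2.symm)

end CfsgLib.MaxSub
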