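/-
Shared pieces for the lists of maximal geometric subgroups of small special linear groups.
-/
import Cfsg.Agent.Lib.MaxSub.SubspaceMaximal
import Cfsg.Agent.Lib.MaxSub.DecompMaximalSL
import Cfsg.Agent.Lib.MaxSub.ExtLin.Main
import Cfsg.Agent.Lib.MaxSub.TensorLin.Main
import Cfsg.Agent.Lib.MaxSub.SubfieldMaximalSL
import Cfsg.Agent.Lib.MaxSub.FormMaximalSL
import Cfsg.Agent.Lib.MaxSub.FormMaximalSLOrth
import Cfsg.Agent.Lib.MaxSub.FormMaximalSLUnitary
import Cfsg.Agent.Lib.MaxSub.SubspaceMaximalOrthGL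

set_option autoImplicit false

namespace CfsgLib.MaxSub.SLLists

open Cfsg.Geo

variable {F : Type*} [Field F] [Fintype F]

theorem tensor_small {a : ℕ} (h : 3 ≤ Fintype.card F) : a ≠ 2 ∨ ∃ t : F, t ≠ 0 ∧ t ≠ 1 := by
  classical
  refine Or.inr ?_
  by_contra hc
  push Not at hc
  have : Fintype.card F ≤ ({0, 1} : Finset F).card := by
    rw [← Finset.card_univ]
    refine Finset.card_le_card fun x _ => ?_
    by_cases hx : x = 0
    · simp [hx]
    · simp [hc x hx]
  have := this.trans Finset.card_le_two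
  omega

theorem quad_maximal {n : ℕ} (hn : 6 ≤ n) (hodd : Odd (Fintype.card F)) {Q : (Fin n → F) → F}
    (hQ : IsNondegenerateQuadraticForm Q) :
    IsMaximalIn (specialLinear (Fin n) F) (quadSimilarityGroup Q ⊓ specialLinear (Fin n) F) := by
  obtain ⟨R, hR, -⟩ := CfsgLib.MaxSub.Orth.exists_form hQ
  refine CfsgLib.MaxSub.sl_quadratic_maximal hn (fun h => ?_) hQ R hR
  have hd : ringChar F ∣ 2 := ringChar.dvd (by exact_mod_cast h)
  have h2 : ringChar F = 2 :=
    (Nat.prime_two.eq_one_or_self_of_dvd _ hd).resolve_left (CharP.ringChar_ne_one (R := F))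
  exact Nat.not_even_iff_odd.2 hodd (Nat.even_iff.2 (FiniteField.even_card_of_char_two h2))

end CfsgLib.MaxSub.SLLists
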