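/-
Five clauses of the list of geometric maximal subgroups of `SL_11`: subspaces, eleven lines, subfields,
quadratic and unitary forms.
-/
import Cfsg.Agent.Lib.MaxSub.SubspaceMaximal
import Cfsg.Agent.Lib.MaxSub.SubfieldMaximalSL
import Cfsg.Agent.Lib.MaxSub.DecompMaximalSL
import Cfsg.Agent.Lib.MaxSub.FormMaximalSL
import Cfsg.Agent.Lib.MaxSub.SubspaceMaximalOrthGL
import Cfsg.Agent.Lib.FiniteForms.Standard
import Cfsg.Agent.Lib.MaxSub.SLQuadraticAll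
import Cfsg.Agent.Lib.MaxSub.SLUnitaryAll

set_option autoImplicit false
open Cfsg

namespace CfsgLib.MaxSub.SLEleven

variable {F : Type*} [Field F] [Fintype F]

theorem sl_eleven_subspace : ∀ W : Submodule F (Fin 11 → F), W ≠ ⊥ → W ≠ ⊤ →
    Cfsg.Geo.IsMaximalIn (Cfsg.Geo.specialLinear (Fin 11) F)
      (Cfsg.Geo.subspaceStabilizer W ⊓ Cfsg.Geo.specialLinear (Fin 11) F) :=
  fun _ h0 h1 => CfsgLib.MaxSub.sl_subspace_maximal (by norm_num) h0 h1

theorem sl_eleven_lines : 5 ≤ Fintype.card F → ∀ D : Fin 11 → Submodule F (Fin 11 → F),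
    Cfsg.Geo.IsMDecomposition 1 D → Cfsg.Geo.IsMaximalIn (Cfsg.Geo.specialLinear (Fin 11) F)
      (Cfsg.Geo.decompositionStabilizer D ⊓ Cfsg.Geo.specialLinear (Fin 11) F) :=
  fun hq _ hD => CfsgLib.MaxSub.DecompSL.sl_decomposition_maximal (Or.inr (by norm_num)) hD
    (fun h => absurd h.2 (by omega)) (fun h => absurd h.1 (by norm_num))

theorem sl_eleven_subfield : ∀ (F₀ : Subfield F) (r : ℕ) (P : Matrix.GeneralLinearGroup (Fin 11) F),
    r.Prime → Fintype.card F = Nat.card F₀ ^ r → Cfsg.Geo.IsMaximalIn (Cfsg.Geo.specialLinear (Fin 11) F)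
      (Cfsg.Geo.subfieldSubgroup F₀ P ⊓ Cfsg.Geo.specialLinear (Fin 11) F) :=
  fun _ _ P hr hc => CfsgLib.MaxSub.SubfieldSL.sl_subfield_maximal (by norm_num) hr hc P

theorem sl_eleven_quadratic : Odd (Fintype.card F) → ∀ Q : (Fin 11 → F) → F,
    Cfsg.Geo.IsNondegenerateQuadraticForm Q → Cfsg.Geo.IsMaximalIn (Cfsg.Geo.specialLinear (Fin 11) F)
      (Cfsg.Geo.quadSimilarityGroup Q ⊓ Cfsg.Geo.specialLinear (Fin 11) F) := by
  intro hodd Q hQ
  have h2 : (2 : F) ≠ 0 := CfsgLib.FiniteForms.two_ne_zero_of_odd (F := F) rfl hodd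
  obtain ⟨R, hR, -⟩ := CfsgLib.MaxSub.Orth.exists_form hQ
  exact CfsgLib.MaxSub.SLQuadAll.sl_quadratic_maximal_all (by norm_num) h2 hQ R hR

theorem sl_eleven_unitary : ∀ (σ : F ≃+* F) (f : (Fin 11 → F) → (Fin 11 → F) → F),
    Cfsg.Geo.IsUnitaryForm σ f → Cfsg.Geo.IsMaximalIn (Cfsg.Geo.specialLinear (Fin 11) F)
      (Cfsg.Geo.similarityGroup f ⊓ Cfsg.Geo.specialLinear (Fin 11) F) :=
  fun _ _ hf => CfsgLib.MaxSub.SLHermAll.sl_unitary_maximal_all (by norm_num) hf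

end CfsgLib.MaxSub.SLEleven
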