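/-
Similarity groups of quadratic forms are maximal in `SL_n` for every `n ≥ 4`, odd characteristic:
a transvection at one tangent hyperplane, then at all of them, then every transvection.
-/
import Cfsg.Agent.Lib.MaxSub.FormMaximalSLOrth

set_option autoImplicit false
set_option maxHeartbeats 1600000

namespace CfsgLib.MaxSub.SLQuadAll

open Matrix Module Cfsg Cfsg.Geo
open CfsgLib.SLCentre CfsgLib.PSLn
open QuadraticMap (polar polarBilin)

variable {F : Type*} [Field F] [Finite F] {n : ℕ}

local notation "V" => Fin n → F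
local notation "SL" => Matrix.SpecialLinearGroup (Fin n) F
local notation "Mn" => Matrix (Fin n) (Fin n) F

/-- The similarities of a quadratic form are maximal in `SL_n`, `n ≥ 4`, odd characteristic. -/
theorem sl_quadratic_maximal_all (hn : 4 ≤ n) (h2 : (2 : F) ≠ 0) {Q : V → F}
    (hQ : IsNondegenerateQuadraticForm Q) (R : QuadraticForm F (Fin n → F)) (hQR : ⇑R = Q) :
    IsMaximalIn (specialLinear (Fin n) F) (quadSimilarityGroup Q ⊓ specialLinear (Fin n) F) := by
  subst hQR
  have hR : (polarBilin R).Nondegenerate := by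
    refine ⟨fun x h => ?_, fun y h => ?_⟩ <;> by_contra h0
    · obtain ⟨-, z, hz⟩ := hQ.nondegenerate x h0
      exact hz (h z)
    · obtain ⟨⟨z, hz⟩, -⟩ := hQ.nondegenerate y h0
      exact hz (h z)
  have hadd := hQ.polar_bilinear.add_left
  have hsl := hQ.polar_bilinear.smul_left
  refine ⟨lt_of_le_of_ne inf_le_right fun e => sl_not_le_similarity (by omega) hadd hsl
    hQ.nondegenerate fun g hg => ?_, fun K hK hKS => ?_⟩
  · rw [← e] at hg
    obtain ⟨c, hc⟩ := hg.1
    refine ⟨c, fun x y => ?_⟩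
    show polar R _ _ = _
    simp only [polar, ← Matrix.mulVec_add, hc]
    ring
  by_cases hle : K ≤ quadSimilarityGroup ⇑R
  · exact Or.inl (le_antisymm (le_inf hle hKS) hK)
  obtain ⟨g, hg, hgf⟩ := Set.not_subset.1 hle
  refine Or.inr (le_antisymm hKS (specialLinear_le_of_top (eq_top_of_full (by omega) ?_)))
  set K' : Subgroup SL := K.comap Matrix.SpecialLinearGroup.toGL with hK'
  let β : V →ₗ[F] V :=
    { toFun := rowVec (polar R)
      map_add' := fun a b => funext fun i => QuadraticMap.polar_add_right R _ a b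
      map_smul' := fun c a => funext fun i => QuadraticMap.polar_smul_right R c _ a }
  have hβ : ∀ v x : V, β v ⬝ᵥ x = polar R x v := fun v x => rowVec_dot hadd hsl v x
  have hβi : Function.Injective β := by
    refine (injective_iff_map_eq_zero β).2 fun v hv => ?_
    by_contra h0
    obtain ⟨⟨x, hx⟩, -⟩ := hQ.nondegenerate v h0
    exact hx (by rw [← hβ, hv, zero_dotProduct])
  have hβb : Function.Surjective β := LinearMap.surjective_of_injective hβi
  haveI := Fintype.ofFinite F
  let βe : V ≃ₗ[F] V := LinearEquiv.ofBijective β ⟨hβi, hβb⟩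
  have hrow : ∀ φ : V, ∃ a : V, β a = φ := hβb
  -- Eichler transformations
  have hroot : ∀ p q : V, R p = 0 → polar R p q = 0 →
      ∃ E : SL, E ∈ K' ∧ ∀ x, E.1 *ᵥ x =
        x + polar R x q • p - polar R x p • q - (R q * polar R x p) • p := by
    intro p q hp hpq
    have hpp : polar R p p = 0 := by rw [QuadraticMap.polar_self, hp, smul_zero]
    have e1 : β q ⬝ᵥ p = 0 := by rw [hβ]; exact hpq
    have e2 : (-β p) ⬝ᵥ q = 0 := by
      rw [neg_dotProduct, hβ, QuadraticMap.polar_comm, hpq, neg_zero]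
    have e3 : (β q + R q • β p) ⬝ᵥ p = 0 := by
      rw [add_dotProduct, e1, smul_dotProduct, hβ, hpp, smul_zero, add_zero]
    have hact : ∀ x, (tv p (β q + R q • β p) e3 * tv q (-β p) e2).1 *ᵥ x =
        x + polar R x q • p - polar R x p • q - (R q * polar R x p) • p := fun x => by
      rw [Matrix.SpecialLinearGroup.coe_mul, ← Matrix.mulVec_mulVec, tv_mulVec, tv_mulVec]
      simp only [add_dotProduct, smul_dotProduct, dotProduct_add, dotProduct_smul, neg_dotProduct, hβ,
        hpp, QuadraticMap.polar_comm R q p, hpq, QuadraticMap.polar_self, nsmul_eq_mul, smul_eq_mul,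
        Nat.cast_ofNat]
      module
    refine ⟨tv p (β q + R q • β p) e3 * tv q (-β p) e2,
      hK ⟨⟨1, ?_⟩, Units.ext (tv p (β q + R q • β p) e3 * tv q (-β p) e2).2⟩, hact⟩
    intro x
    show R ((tv p (β q + R q • β p) e3 * tv q (-β p) e2).1 *ᵥ x) = ((1 : Fˣ) : F) * R x
    rw [hact, show x + polar R x q • p - polar R x p • q - (R q * polar R x p) • p =
      x + ((polar R x q - R q * polar R x p) • p + (-polar R x p) • q) by module,
      QuadraticMap.map_add (⇑R), QuadraticMap.map_add (⇑R), QuadraticMap.map_smul,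
      QuadraticMap.map_smul, QuadraticMap.polar_add_right, QuadraticMap.polar_smul_right,
      QuadraticMap.polar_smul_right, QuadraticMap.polar_smul_left, QuadraticMap.polar_smul_right,
      hp, hpq, Units.val_one]
    simp only [smul_eq_mul]
    ring
  have hexn : ∀ S : Submodule F V, n < 2 * finrank F S → ∃ a ∈ S, R a ≠ 0 := by
    intro S hS
    by_contra hc
    push Not at hc
    have hle : S ≤ Orth.orth R S := fun x hx y hy => by
      show polar R y x = 0
      rw [polar, hc _ (S.add_mem hy hx), hc y hy, hc x hx]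
      ring
    have h1 := Submodule.finrank_mono hle
    have h2 := Orth.finrank_orth hR S
    rw [Module.finrank_fin_fun] at h2
    omega
  haveI hchar : Fintype F := Fintype.ofFinite F
  have hpolE : ∀ M : SL, (∀ x, R (M.1 *ᵥ x) = R x) → ∀ x y, polar R (M.1 *ᵥ x) (M.1 *ᵥ y) = polar R x y :=
    fun M hM x y => by simp only [polar, ← Matrix.mulVec_add, hM]
  have hiso : ∀ (p q : V) (E : SL), R p = 0 → polar R p q = 0 →
      (∀ x, E.1 *ᵥ x = x + polar R x q • p - polar R x p • q - (R q * polar R x p) • p) →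
      ∀ x, R (E.1 *ᵥ x) = R x := fun p q E hp hpq hEx x => by
    rw [hEx, show x + polar R x q • p - polar R x p • q - (R q * polar R x p) • p =
      x + ((polar R x q - R q * polar R x p) • p + (-polar R x p) • q) by module,
      QuadraticMap.map_add (⇑R), QuadraticMap.map_add (⇑R), QuadraticMap.map_smul,
      QuadraticMap.map_smul, QuadraticMap.polar_add_right, QuadraticMap.polar_smul_right,
      QuadraticMap.polar_smul_right, QuadraticMap.polar_smul_left, QuadraticMap.polar_smul_right,
      hp, hpq]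
    simp only [smul_eq_mul]
    ring
  have hsingular : ∀ S : Submodule F V, (∀ x ∈ S, R x = 0) → ∀ x ∈ S, ∀ y ∈ S, polar R x y = 0 :=
    fun S hS x hx y hy => by
      rw [polar, hS _ (S.add_mem hx hy), hS x hx, hS y hy]; ring
  have hperp : ∀ z : V, R z ≠ 0 → ∀ T : Submodule F V, ¬ perpTo R ![z] ≤ T →
      ∃ x ∈ perpTo R ![z], R x = 0 ∧ x ∉ T := by
    intro z hz T hT
    refine exists_singular_avoiding_rad hR ?_ hT
    have hbot : Submodule.comap (perpTo R ![z]).subtype (Orth.orth R (perpTo R ![z])) = ⊥ := by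
      refine (Submodule.eq_bot_iff _).2 fun x hx => ?_
      have hm := mem_span_of_perpTo hR (u := ![z]) (a := (x : V)) fun y hy => hx y hy
      rw [show Set.range ![z] = {z} by simp, Submodule.mem_span_singleton] at hm
      obtain ⟨k, hk⟩ := hm
      have h3 : polar R (x : V) z = 0 := mem_perpTo.1 x.2 0
      rw [← hk, QuadraticMap.polar_smul_left, QuadraticMap.polar_self, smul_eq_mul, nsmul_eq_mul,
        Nat.cast_ofNat] at h3
      refine Subtype.ext ?_
      rw [← hk, (mul_eq_zero.1 h3).resolve_right (mul_ne_zero h2 hz), zero_smul]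
      rfl
    rw [hbot, finrank_bot]
    have := finrank_perpTo (R := R) ![z]
    omega
  -- commutators of two Eichler transformations, one conjugated
  have hcomm : ∀ g' : SL, g' ∈ K' → ∀ v a u b : V, R v = 0 → R (g'.1 *ᵥ v) = 0 →
      (∀ x, polar R x a = polar R (g'.1 *ᵥ x) (g'.1 *ᵥ v)) →
      polar R u v = 0 → polar R u a = 0 → polar R b v = 0 → polar R b a = 0 →
      HasTv K' v (β (polar R (g'.1 *ᵥ u) (g'.1 *ᵥ b) • v - polar R u b • a)) := by
    intro g' hg' v a u b hv hgv hA huv hua hbv hba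
    rw [hA] at hua hba
    obtain ⟨E, hE, hEx⟩ := hroot v u hv (by rw [QuadraticMap.polar_comm, huv])
    obtain ⟨E', hE', hE'x⟩ := hroot (g'.1 *ᵥ v) (g'.1 *ᵥ b) hgv (by rw [QuadraticMap.polar_comm, hba])
    set M : SL := g'⁻¹ * E' * g' with hMdef
    have hginj' := Matrix.mulVec_injective_iff_isUnit.2
      ((Matrix.isUnit_iff_isUnit_det g'.1).2 (by rw [g'.2]; exact isUnit_one))
    have hMx : ∀ x, M.1 *ᵥ x = x + polar R (g'.1 *ᵥ x) (g'.1 *ᵥ b) • v
        - polar R (g'.1 *ᵥ x) (g'.1 *ᵥ v) • b
        - (R (g'.1 *ᵥ b) * polar R (g'.1 *ᵥ x) (g'.1 *ᵥ v)) • v := fun x => by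
      refine hginj' ?_
      have e : g'.1 *ᵥ (M.1 *ᵥ x) = E'.1 *ᵥ (g'.1 *ᵥ x) := by
        rw [Matrix.mulVec_mulVec, Matrix.mulVec_mulVec, ← Matrix.SpecialLinearGroup.coe_mul,
          ← Matrix.SpecialLinearGroup.coe_mul, hMdef, ← mul_assoc, ← mul_assoc, mul_inv_cancel,
          one_mul]
      simp only [e, hE'x, Matrix.mulVec_sub, Matrix.mulVec_add, Matrix.mulVec_smul]
    have hvv : polar R v v = 0 := by rw [QuadraticMap.polar_self, hv, smul_zero]
    have hgg : polar R (g'.1 *ᵥ v) (g'.1 *ᵥ v) = 0 := by rw [QuadraticMap.polar_self, hgv, smul_zero]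
    have hav : polar R v a = 0 := by rw [hA, hgg]
    have hdot : β (polar R (g'.1 *ᵥ u) (g'.1 *ᵥ b) • v - polar R u b • a) ⬝ᵥ v = 0 := by
      rw [hβ, QuadraticMap.polar_sub_right, QuadraticMap.polar_smul_right,
        QuadraticMap.polar_smul_right, hvv, hav, smul_zero, smul_zero, sub_zero]
    have key : E * M = tv v (β (polar R (g'.1 *ᵥ u) (g'.1 *ᵥ b) • v - polar R u b • a)) hdot * M * E := by
      apply Subtype.ext
      refine Matrix.ext_of_mulVec_single fun i => ?_
      simp only [Matrix.SpecialLinearGroup.coe_mul, ← Matrix.mulVec_mulVec, hEx, hMx, tv_mulVec, hβ]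
      simp only [Matrix.mulVec_sub, Matrix.mulVec_add, Matrix.mulVec_smul, QuadraticMap.polar_add_left,
        QuadraticMap.polar_sub_left, QuadraticMap.polar_smul_left, QuadraticMap.polar_sub_right,
        QuadraticMap.polar_smul_right, hA, hvv, hgg, huv, hua, hbv, hba,
        QuadraticMap.polar_comm R v u, QuadraticMap.polar_comm R v b, QuadraticMap.polar_comm R b u,
        QuadraticMap.polar_comm R (g'.1 *ᵥ v) (g'.1 *ᵥ b),
        QuadraticMap.polar_comm R (g'.1 *ᵥ v) (g'.1 *ᵥ u), smul_eq_mul]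
      module
    refine ⟨hdot, ?_⟩
    rw [show tv v (β (polar R (g'.1 *ᵥ u) (g'.1 *ᵥ b) • v - polar R u b • a)) hdot = E * M * E⁻¹ * M⁻¹ by
      rw [key]; group]
    have hM := mul_mem (mul_mem (inv_mem hg') hE') hg'
    exact mul_mem (mul_mem (mul_mem hE hM) (inv_mem hE)) (inv_mem hM)
  have hA : ∀ (g' : SL) (v : V), ∃ a, ∀ x, polar R x a = polar R (g'.1 *ᵥ x) (g'.1 *ᵥ v) := by
    intro g' v
    obtain ⟨a, ha⟩ := hrow (β (g'.1 *ᵥ v) ᵥ* g'.1)
    exact ⟨a, fun x => by rw [← hβ a x, ha, ← dotProduct_mulVec, hβ]⟩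
  have hA : ∀ (g' : SL) (v : V), ∃ a, ∀ x, polar R x a = polar R (g'.1 *ᵥ x) (g'.1 *ᵥ v) := by
    intro g' v
    obtain ⟨a, ha⟩ := hrow (β (g'.1 *ᵥ v) ᵥ* g'.1)
    exact ⟨a, fun x => by rw [← hβ a x, ha, ← dotProduct_mulVec, hβ]⟩
  -- a transvection with axis off its centre gives one at the tangent hyperplane
  have hproper : ∀ v w : V, R v = 0 → v ≠ 0 → polar R v w = 0 → w ∉ Submodule.span F {v} →
      HasTv K' v (β w) → ∃ v : V, ∃ c : F, v ≠ 0 ∧ R v = 0 ∧ c ≠ 0 ∧ HasTv K' v (c • β v) := by
    intro v w hv hv0 hvw hw hT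
    obtain ⟨u, hu, huw⟩ : ∃ u ∈ perpTo R ![v], polar R u w ≠ 0 := by
      by_contra hc
      push Not at hc
      exact hw (by simpa using mem_span_of_perpTo hR hc)
    have huv : polar R u v = 0 := mem_perpTo.1 hu 0
    obtain ⟨E, hE, hEx⟩ := hroot v u hv (by rw [QuadraticMap.polar_comm, huv])
    have hvv : polar R v v = 0 := by rw [QuadraticMap.polar_self, hv, smul_zero]
    have hEv : E.1 *ᵥ v = v := by
      rw [hEx, QuadraticMap.polar_comm R v u, huv, hvv]
      simp
    have h1 := (hT.conj' hE (c' := v) hEv).sub hT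
    refine ⟨v, -polar R u w, hv0, hv, neg_ne_zero.2 huw, ?_⟩
    convert h1 using 1
    refine dotProduct_eq _ _ fun z => ?_
    rw [sub_dotProduct, smul_dotProduct, ← dotProduct_mulVec, hβ, hβ, hβ, hEx]
    simp only [QuadraticMap.polar_sub_left, QuadraticMap.polar_add_left,
      QuadraticMap.polar_smul_left, hvw, smul_eq_mul]
    ring
  -- a common singular vector with two tangent hyperplanes
  have caseB : ∀ g' : SL, g' ∈ K' → ∀ v : V, v ≠ 0 → R v = 0 → R (g'.1 *ᵥ v) = 0 →
      (∃ y, polar R y v = 0 ∧ polar R (g'.1 *ᵥ y) (g'.1 *ᵥ v) ≠ 0) →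
      ∃ v : V, ∃ c : F, v ≠ 0 ∧ R v = 0 ∧ c ≠ 0 ∧ HasTv K' v (c • β v) := by
    intro g' hg' v hv0 hv hgv ⟨y, hy, hgy⟩
    obtain ⟨a, ha⟩ := hA g' v
    have hvv : polar R v v = 0 := by rw [QuadraticMap.polar_self, hv, smul_zero]
    have hgg : polar R (g'.1 *ᵥ v) (g'.1 *ᵥ v) = 0 := by rw [QuadraticMap.polar_self, hgv, smul_zero]
    have hva : polar R v a = 0 := by rw [ha, hgg]
    have han : a ∉ Submodule.span F {v} := fun hmem => by
      obtain ⟨k, hk⟩ := Submodule.mem_span_singleton.1 hmem
      refine hgy ?_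
      rw [← ha, ← hk, QuadraticMap.polar_smul_right, hy, smul_zero]
    by_cases hex : ∃ u ∈ perpTo R ![v, a], R u ≠ 0
    · obtain ⟨u, hu, hu0⟩ := hex
      have h := hcomm g' hg' v a u u hv hgv ha (mem_perpTo.1 hu 0) (mem_perpTo.1 hu 1)
        (mem_perpTo.1 hu 0) (mem_perpTo.1 hu 1)
      refine hproper v _ hv hv0 (by rw [← hβ]; exact h.dot) (fun hmem => ?_) h
      obtain ⟨k, hk⟩ := Submodule.mem_span_singleton.1 hmem
      have h1 := congrArg (polar R y) hk
      rw [QuadraticMap.polar_sub_right, QuadraticMap.polar_smul_right, QuadraticMap.polar_smul_right,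
        QuadraticMap.polar_smul_right, hy, ha, smul_zero, smul_zero, zero_sub, eq_comm, neg_eq_zero,
        smul_eq_zero, QuadraticMap.polar_self, nsmul_eq_mul, Nat.cast_ofNat] at h1
      exact h1.elim (mul_ne_zero h2 hu0) hgy
    push Not at hex
    -- the perpendicular is a line of the quadric, spanned by `v` and `a`
    have hTI := hsingular _ hex
    have hle : perpTo R ![v, a] ≤ Submodule.span F (Set.range ![v, a]) := fun x hx =>
      mem_span_of_perpTo hR fun z hz => hTI z hz x hx
    have heq : perpTo R ![v, a] = Submodule.span F (Set.range ![v, a]) := by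
      refine Submodule.eq_of_le_of_finrank_le hle ?_
      have h4 : finrank F (Submodule.span F (Set.range ![v, a])) ≤ 2 :=
        (finrank_range_le_card ![v, a]).trans (by simp)
      have := finrank_perpTo (R := R) ![v, a]
      omega
    have hamem : a ∈ perpTo R ![v, a] := heq ▸ Submodule.subset_span ⟨1, rfl⟩
    have hav : polar R a v = 0 := mem_perpTo.1 hamem 0
    have haa : polar R a a = 0 := mem_perpTo.1 hamem 1
    have hRa : R a = 0 := hex a hamem
    by_cases hga : R (g'.1 *ᵥ a) = 0
    swap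
    · have h := hcomm g' hg' v a a a hv hgv ha hav haa hav haa
      refine ⟨v, 2 * R (g'.1 *ᵥ a), hv0, hv, mul_ne_zero h2 hga, ?_⟩
      rwa [haa, zero_smul, sub_zero, QuadraticMap.polar_self, map_smul, nsmul_eq_mul,
        Nat.cast_ofNat] at h
    -- the line lies on both quadrics
    obtain ⟨a', ha'⟩ := hA g' a
    have hgva : polar R (g'.1 *ᵥ v) (g'.1 *ᵥ a) = 0 := by
      rw [QuadraticMap.polar_comm, ← ha, haa]
    have ha'mem : a' ∈ perpTo R ![v, a] := mem_perpTo.2 fun i => by
      fin_cases i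
      · show polar R a' v = 0
        rw [QuadraticMap.polar_comm, ha', hgva]
      · show polar R a' a = 0
        rw [QuadraticMap.polar_comm, ha', QuadraticMap.polar_self, hga, smul_zero]
    rw [heq, show Set.range ![v, a] = ({v, a} : Set V) by simp [Set.pair_comm],
      Submodule.mem_span_pair] at ha'mem
    obtain ⟨p, q, hpq⟩ := ha'mem
    have hginj' := Matrix.mulVec_injective_iff_isUnit.2
      ((Matrix.isUnit_iff_isUnit_det g'.1).2 (by rw [g'.2]; exact isUnit_one))
    obtain ⟨M, hM, hMx⟩ : ∃ M : SL, M ∈ K' ∧ ∀ x, M.1 *ᵥ x =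
        x + polar R x (p • v + q • a) • v - polar R x a • a := by
      obtain ⟨E', hE', hE'x⟩ := hroot (g'.1 *ᵥ v) (g'.1 *ᵥ a) hgv hgva
      refine ⟨g'⁻¹ * E' * g', mul_mem (mul_mem (inv_mem hg') hE') hg', fun x => hginj' ?_⟩
      have e : g'.1 *ᵥ ((g'⁻¹ * E' * g').1 *ᵥ x) = E'.1 *ᵥ (g'.1 *ᵥ x) := by
        rw [Matrix.mulVec_mulVec, Matrix.mulVec_mulVec, ← Matrix.SpecialLinearGroup.coe_mul,
          ← Matrix.SpecialLinearGroup.coe_mul, ← mul_assoc, ← mul_assoc, mul_inv_cancel, one_mul]
      simp only [e, hE'x, hga, zero_mul, zero_smul, sub_zero, Matrix.mulVec_sub, Matrix.mulVec_add,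
        Matrix.mulVec_smul]
      rw [← ha', ← ha, hpq]
    obtain ⟨u, hu, hua⟩ : ∃ u ∈ perpTo R ![v], polar R a u = 1 := by
      obtain ⟨u, hu, hua⟩ : ∃ u ∈ perpTo R ![v], polar R u a ≠ 0 := by
        by_contra hc
        push Not at hc
        exact han (by simpa using mem_span_of_perpTo hR hc)
      exact ⟨(polar R u a)⁻¹ • u, Submodule.smul_mem _ _ hu, by
        rw [QuadraticMap.polar_smul_right, QuadraticMap.polar_comm R a u, smul_eq_mul,
          inv_mul_cancel₀ hua]⟩
    have huv : polar R v u = 0 := by rw [QuadraticMap.polar_comm]; exact mem_perpTo.1 hu 0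
    have hMs : ∀ s : F, ∃ N : SL, N ∈ K' ∧ ∀ x, N.1 *ᵥ x =
        x + polar R x (p • v + q • (a + s • v)) • v - polar R x (a + s • v) • (a + s • v) := by
      intro s
      obtain ⟨E, hE, hEx⟩ := hroot v (s • u) hv (by rw [QuadraticMap.polar_smul_right, huv, smul_zero])
      have hEi := hiso v (s • u) E hv (by rw [QuadraticMap.polar_smul_right, huv, smul_zero]) hEx
      have hEv : E.1 *ᵥ v = v := by
        rw [hEx, QuadraticMap.polar_smul_right, huv, hvv]; simp
      have hEa : E.1 *ᵥ a = a + s • v := by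
        rw [hEx, QuadraticMap.polar_smul_right, hua, hav]; simp
      refine ⟨E * M * E⁻¹, mul_mem (mul_mem hE hM) (inv_mem hE), fun x => ?_⟩
      obtain ⟨x', rfl⟩ : ∃ x', E.1 *ᵥ x' = x := ⟨(E⁻¹).1 *ᵥ x, by
        rw [Matrix.mulVec_mulVec, ← Matrix.SpecialLinearGroup.coe_mul, mul_inv_cancel]
        exact Matrix.one_mulVec x⟩
      rw [Matrix.mulVec_mulVec, ← Matrix.SpecialLinearGroup.coe_mul, inv_mul_cancel_right,
        Matrix.SpecialLinearGroup.coe_mul, ← Matrix.mulVec_mulVec, hMx, ← hEa,
        show p • v + q • (E.1 *ᵥ a) = E.1 *ᵥ (p • v + q • a) by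
          rw [Matrix.mulVec_add, Matrix.mulVec_smul, Matrix.mulVec_smul, hEv],
        hpolE E hEi, hpolE E hEi, Matrix.mulVec_sub, Matrix.mulVec_add, Matrix.mulVec_smul,
        Matrix.mulVec_smul, hEv]
    obtain ⟨N₁, hN₁, hN₁x⟩ := hMs 1
    obtain ⟨N₂, hN₂, hN₂x⟩ := hMs (-1)
    have hd : ((-2 : F) • β v) ⬝ᵥ v = 0 := by rw [smul_dotProduct, hβ, hvv, smul_zero]
    refine ⟨v, -2, hv0, hv, neg_ne_zero.2 h2, hd, ?_⟩
    have key : N₁ * N₂ = tv v ((-2 : F) • β v) hd * (M * M) := by
      apply Subtype.ext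
      refine Matrix.ext_of_mulVec_single fun i => ?_
      simp only [Matrix.SpecialLinearGroup.coe_mul, ← Matrix.mulVec_mulVec, hN₁x, hN₂x, hMx, tv_mulVec,
        smul_dotProduct, hβ, QuadraticMap.polar_add_left, QuadraticMap.polar_sub_left,
        QuadraticMap.polar_smul_left, QuadraticMap.polar_add_right, QuadraticMap.polar_smul_right,
        hvv, hav, haa, hva, smul_eq_mul]
      module
    rw [show tv v ((-2 : F) • β v) hd = N₁ * N₂ * (M * M)⁻¹ by rw [key]; group]
    exact mul_mem (mul_mem hN₁ hN₂) (inv_mem (mul_mem hM hM))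
  -- a form changed by the square of a singular functional
  have rankone : ∀ g' : SL, g' ∈ K' → ∀ (v : V) (lam α : F), v ≠ 0 → R v = 0 → lam ≠ 0 → α ≠ 0 →
      (∀ x, R (g'.1 *ᵥ x) = lam * R x + α * (polar R x v * polar R x v)) →
      ∃ v : V, ∃ c : F, v ≠ 0 ∧ R v = 0 ∧ c ≠ 0 ∧ HasTv K' v (c • β v) := by
    intro g' hg' v lam α hv0 hv hlam hα hid
    have hpol : ∀ x y, polar R (g'.1 *ᵥ x) (g'.1 *ᵥ y) =
        lam * polar R x y + α * (2 * (polar R x v * polar R y v)) := fun x y => by
      have h := QuadraticMap.map_add (⇑R) (g'.1 *ᵥ x) (g'.1 *ᵥ y)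
      rw [← Matrix.mulVec_add, hid, hid, hid, QuadraticMap.map_add (⇑R) x y,
        QuadraticMap.polar_add_left] at h
      linear_combination -h
    have hvv : polar R v v = 0 := by rw [QuadraticMap.polar_self, hv, smul_zero]
    set p := g'.1 *ᵥ v with hpdef
    have hp : R p = 0 := by rw [hpdef, hid, hv, hvv]; ring
    have hpv : p ≠ 0 := fun h => hv0 (by
      apply Matrix.mulVec_injective_iff_isUnit.2
        ((Matrix.isUnit_iff_isUnit_det g'.1).2 (by rw [g'.2]; exact isUnit_one))
      rw [Matrix.mulVec_zero]; exact h)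
    obtain ⟨e, -, he, hep⟩ := exists_singular_avoiding hR (S := (⊤ : Submodule F V))
      (T := LinearMap.ker ((polarBilin R).flip p))
      (by rw [finrank_top, Module.finrank_fin_fun]; omega) (fun h => by
        obtain ⟨⟨z, hz⟩, -⟩ := hQ.nondegenerate p hpv
        exact hz (h Submodule.mem_top))
    change ¬ polar R e p = 0 at hep
    obtain ⟨u, hu, hu0⟩ := hexn (perpTo R ![e]) (by have := finrank_perpTo (R := R) ![e]; omega)
    have hue : polar R u e = 0 := mem_perpTo.1 hu 0
    obtain ⟨E, hE, hEx⟩ := hroot e u he (by rw [QuadraticMap.polar_comm, hue])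
    set m : SL := g'⁻¹ * E * g' with hmdef
    have hm : m ∈ K' := mul_mem (mul_mem (inv_mem hg') hE) hg'
    have hgm : ∀ x, g'.1 *ᵥ (m.1 *ᵥ x) = E.1 *ᵥ (g'.1 *ᵥ x) := fun x => by
      rw [Matrix.mulVec_mulVec, Matrix.mulVec_mulVec, ← Matrix.SpecialLinearGroup.coe_mul,
        ← Matrix.SpecialLinearGroup.coe_mul, hmdef, ← mul_assoc, ← mul_assoc, mul_inv_cancel, one_mul]
    have hRE : ∀ x, R (E.1 *ᵥ x) = R x := fun x => by
      rw [hEx, show x + polar R x u • e - polar R x e • u - (R u * polar R x e) • e =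
        x + ((polar R x u - R u * polar R x e) • e + (-polar R x e) • u) by module,
        QuadraticMap.map_add (⇑R), QuadraticMap.map_add (⇑R), QuadraticMap.map_smul,
        QuadraticMap.map_smul, QuadraticMap.polar_add_right, QuadraticMap.polar_smul_right,
        QuadraticMap.polar_smul_right, QuadraticMap.polar_smul_left, QuadraticMap.polar_smul_right,
        he, QuadraticMap.polar_comm R e u, hue]
      simp only [smul_eq_mul]
      ring
    obtain ⟨w, hw⟩ := hrow (β v ᵥ* m.1)
    have hw' : ∀ x, polar R (m.1 *ᵥ x) v = polar R x w := fun x => by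
      rw [← hβ w x, hw, ← dotProduct_mulVec, hβ]
    have hvw : polar R v w ≠ 0 := fun h0 => by
      have h1 := hpol (m.1 *ᵥ v) v
      rw [hgm, hw', h0, ← hpdef, hEx, hvv] at h1
      simp only [QuadraticMap.polar_sub_left, QuadraticMap.polar_add_left, QuadraticMap.polar_smul_left,
        QuadraticMap.polar_self, hp, smul_zero, QuadraticMap.polar_comm R p e,
        QuadraticMap.polar_comm R u p, smul_eq_mul, mul_zero, add_zero] at h1
      refine mul_ne_zero (mul_ne_zero hu0 hep) hep ?_
      linear_combination -h1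
    obtain ⟨ε, hε, hz⟩ : ∃ ε : F, ε * ε = 1 ∧ R (v - ε • w) ≠ 0 := by
      by_contra hc
      push Not at hc
      have e1 := hc 1 (one_mul 1)
      have e2 := hc (-1) (by ring)
      rw [sub_eq_add_neg, ← neg_smul, QuadraticMap.map_add (⇑R), QuadraticMap.map_smul, hv,
        QuadraticMap.polar_smul_right, smul_eq_mul, smul_eq_mul] at e1 e2
      exact mul_ne_zero h2 hvw (by linear_combination e2 - e1)
    set z := v - ε • w with hzdef
    obtain ⟨x, hxS, hx, hxv⟩ := hperp z hz
      (LinearMap.ker ((polarBilin R).flip v)) (fun h => by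
        have hm := mem_span_of_perpTo hR (u := ![z]) (a := v) fun y hy => h hy
        rw [show Set.range ![z] = {z} by simp, Submodule.mem_span_singleton] at hm
        obtain ⟨k, hk⟩ := hm
        have h3 := congrArg R hk
        rw [QuadraticMap.map_smul, hv, smul_eq_zero, mul_eq_zero, or_self] at h3
        rw [h3.resolve_right hz, zero_smul] at hk
        exact hv0 hk.symm)
    change ¬ polar R x v = 0 at hxv
    have hxz : polar R x v = ε * polar R x w := by
      have := mem_perpTo.1 hxS 0
      simp only [Matrix.cons_val_zero, hzdef, QuadraticMap.polar_sub_right,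
        QuadraticMap.polar_smul_right, smul_eq_mul] at this
      linear_combination this
    have hRm : ∀ x, lam * R (m.1 *ᵥ x) =
        lam * R x + α * (polar R x v * polar R x v - polar R x w * polar R x w) := fun x => by
      have h1 := hid (m.1 *ᵥ x)
      rw [hgm, hRE, hid, hw'] at h1
      linear_combination -h1
    have hmx : R (m.1 *ᵥ x) = 0 := by
      have h1 := hRm x
      rw [hx, hxz] at h1
      refine (mul_eq_zero.1 (?_ : lam * R (m.1 *ᵥ x) = 0)).resolve_left hlam
      linear_combination h1 + α * (polar R x w * polar R x w) * hε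
    obtain ⟨y, hy, hyz⟩ : ∃ y ∈ perpTo R ![x], polar R y z ≠ 0 := by
      by_contra hc
      push Not at hc
      have hm := mem_span_of_perpTo hR hc
      rw [show Set.range ![x] = {x} by simp, Submodule.mem_span_singleton] at hm
      obtain ⟨k, hk⟩ := hm
      exact hz (by rw [← hk, QuadraticMap.map_smul, hx, smul_zero])
    have hyx : polar R y x = 0 := mem_perpTo.1 hy 0
    have hx0 : x ≠ 0 := fun h => hxv (by rw [h, QuadraticMap.polar_zero_left])
    refine caseB m hm x hx0 hx hmx ⟨y, hyx, fun h0 => ?_⟩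
    have h1 : lam * polar R (m.1 *ᵥ y) (m.1 *ᵥ x) =
        lam * polar R y x + α * (2 * (polar R y v * polar R x v - polar R y w * polar R x w)) := by
      have e3 := hRm (y + x)
      rw [Matrix.mulVec_add, QuadraticMap.map_add (⇑R), QuadraticMap.map_add (⇑R) y x,
        QuadraticMap.polar_add_left, QuadraticMap.polar_add_left] at e3
      linear_combination e3 - hRm y - hRm x
    rw [h0, hyx, hxz] at h1
    have hyz' : polar R y z = polar R y v - ε * polar R y w := by
      rw [hzdef, QuadraticMap.polar_sub_right, QuadraticMap.polar_smul_right, smul_eq_mul]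
    refine mul_ne_zero (mul_ne_zero (mul_ne_zero hα h2) hxv) hyz ?_
    rw [hyz', hxz]
    linear_combination -h1 - 2 * α * polar R y w * polar R x w * hε
  obtain ⟨gs, hgs, hgse⟩ := exists_sl_of hKS hg
  -- an element of `K`, no similarity, with a singular vector going to a singular vector
  obtain ⟨k, hk, v₁, hv₁0, hv₁, hkv₁, hkns⟩ : ∃ k : SL, k ∈ K' ∧ ∃ v : V, v ≠ 0 ∧ R v = 0 ∧
      R (k.1 *ᵥ v) = 0 ∧ ¬ ∃ c : F, c ≠ 0 ∧ ∀ x, R (k.1 *ᵥ x) = c * R x := by
    obtain ⟨v, -, hv, hv0⟩ := exists_singular_avoiding hR (S := (⊤ : Submodule F V)) (T := ⊥)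
      (by rw [finrank_top, Module.finrank_fin_fun]; omega) (fun h => by
        have := Submodule.finrank_mono h
        rw [finrank_top, finrank_bot, Module.finrank_fin_fun] at this
        omega)
    rw [Submodule.mem_bot] at hv0
    obtain ⟨w, hw⟩ : ∃ w, gs.1 *ᵥ w = v := ⟨(gs⁻¹).1 *ᵥ v, by
      rw [Matrix.mulVec_mulVec, ← Matrix.SpecialLinearGroup.coe_mul, mul_inv_cancel]
      exact Matrix.one_mulVec v⟩
    by_cases hRw : R w = 0
    · refine ⟨gs, hgs, w, fun h => hv0 (by rw [← hw, h, Matrix.mulVec_zero]), hRw, by rw [hw, hv],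
        fun ⟨c, hc, hcx⟩ => hgf ⟨Units.mk0 c hc, fun x => ?_⟩⟩
      show R ((g : Mn) *ᵥ x) = c * R x
      rw [← hgse, hcx]
    obtain ⟨a, ha⟩ := hA gs w
    obtain ⟨e, heS, he, hea⟩ := hperp w hRw (LinearMap.ker ((polarBilin R).flip a)) (fun h => by
      have haw : a ∈ Submodule.span F (Set.range ![w]) := mem_span_of_perpTo hR fun y hy => h hy
      rw [show Set.range ![w] = {w} by simp, Submodule.mem_span_singleton] at haw
      obtain ⟨c, hc⟩ := haw
      have h1 := ha w
      rw [hw, QuadraticMap.polar_self, hv, smul_zero, ← hc, QuadraticMap.polar_smul_right,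
        QuadraticMap.polar_self, smul_eq_mul, nsmul_eq_mul, Nat.cast_ofNat, mul_eq_zero] at h1
      rw [h1.resolve_right (mul_ne_zero h2 hRw), zero_smul] at hc
      obtain ⟨⟨z, hz⟩, -⟩ := hQ.nondegenerate v hv0
      refine hz ?_
      rw [show z = gs.1 *ᵥ ((gs⁻¹).1 *ᵥ z) by
        rw [Matrix.mulVec_mulVec, ← Matrix.SpecialLinearGroup.coe_mul, mul_inv_cancel]
        exact (Matrix.one_mulVec z).symm, ← hw, ← ha, ← hc, QuadraticMap.polar_zero_right])
    change ¬ polar R e a = 0 at hea
    have hew : polar R e w = 0 := mem_perpTo.1 heS 0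
    obtain ⟨u, hu, hu0⟩ : ∃ u ∈ perpTo R ![e, w], R u ≠ 0 := by
      by_contra hc
      push Not at hc
      have hTI := hsingular _ hc
      have hle : perpTo R ![e, w] ⊔ Submodule.span F {w} ≤ Orth.orth R (perpTo R ![e, w]) := by
        refine sup_le (fun x hx y hy => ?_) ((Submodule.span_singleton_le_iff_mem _ _).2 fun y hy => ?_)
        · exact hTI y hy x hx
        · exact mem_perpTo.1 hy 1
      have hlt : perpTo R ![e, w] < perpTo R ![e, w] ⊔ Submodule.span F {w} :=
        lt_of_le_of_ne le_sup_left fun h => hRw (hc w (h ▸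
          Submodule.mem_sup_right (Submodule.mem_span_singleton_self w)))
      have h1 := Submodule.finrank_mono hle
      have h3 := Submodule.finrank_lt_finrank_of_lt hlt
      have h4 := Orth.finrank_orth hR (perpTo R ![e, w])
      have h5 := finrank_perpTo (R := R) ![e, w]
      rw [Module.finrank_fin_fun] at h4
      omega
    have hue : polar R e u = 0 := by rw [QuadraticMap.polar_comm]; exact mem_perpTo.1 hu 0
    have huw : polar R u w = 0 := mem_perpTo.1 hu 1
    have hee : polar R e e = 0 := by rw [QuadraticMap.polar_self, he, smul_zero]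
    obtain ⟨E, hE, hEx⟩ := hroot e u he hue
    have hEw : E.1 *ᵥ w = w := by
      rw [hEx, QuadraticMap.polar_comm R w u, huw, QuadraticMap.polar_comm R w e, hew]; simp
    refine ⟨gs * E * gs⁻¹, mul_mem (mul_mem hgs hE) (inv_mem hgs), v, hv0, hv, ?_, ?_⟩ <;>
      have hkx : ∀ x, (gs * E * gs⁻¹).1 *ᵥ (gs.1 *ᵥ x) = gs.1 *ᵥ (E.1 *ᵥ x) := fun x => by
        rw [Matrix.mulVec_mulVec, ← Matrix.SpecialLinearGroup.coe_mul, inv_mul_cancel_right,
          Matrix.SpecialLinearGroup.coe_mul, ← Matrix.mulVec_mulVec]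
    · rw [← hw, hkx, hEw, hw, hv]
    · rintro ⟨c, -, hc⟩
      have hp : ∀ x, polar R (E.1 *ᵥ x) a = c * polar R x a := fun x => by
        have h1 := hc (gs.1 *ᵥ x + gs.1 *ᵥ w)
        rw [Matrix.mulVec_add, hkx, hkx, hEw, QuadraticMap.map_add (⇑R),
          QuadraticMap.map_add (⇑R) (gs.1 *ᵥ x), ← hkx x, hc (gs.1 *ᵥ x), hkx x, hw, hv, ← hw,
          ← ha, ← ha] at h1
        linear_combination h1
      have h1 := hp e
      rw [hEx, hue, hee] at h1
      simp only [zero_smul, mul_zero, sub_zero, add_zero] at h1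
      have hc1 : c = 1 := mul_right_cancel₀ hea (by rw [← h1, one_mul])
      have h3 := hp u
      rw [hEx, QuadraticMap.polar_comm R u e, hue, hc1, one_mul] at h3
      simp only [mul_zero, zero_smul, sub_zero, QuadraticMap.polar_add_left,
        QuadraticMap.polar_smul_left, add_eq_left, smul_eq_zero, QuadraticMap.polar_self,
        nsmul_eq_mul, Nat.cast_ofNat] at h3
      exact h3.elim (mul_ne_zero h2 hu0) hea
  -- a transvection at a tangent hyperplane
  obtain ⟨v₀, c₀, hv₀0, hv₀, hc₀, hT₀⟩ : ∃ v : V, ∃ c : F, v ≠ 0 ∧ R v = 0 ∧ c ≠ 0 ∧ HasTv K' v (c • β v) := by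
    by_cases hne : ∃ y, polar R y v₁ = 0 ∧ polar R (k.1 *ᵥ y) (k.1 *ᵥ v₁) ≠ 0
    · exact caseB k hk v₁ hv₁0 hv₁ hkv₁ hne
    push Not at hne
    obtain ⟨v, hv0, hvR, hgvR, hne'⟩ : ∃ v : V, v ≠ 0 ∧ R v = 0 ∧ R (k.1 *ᵥ v) = 0 ∧
        ∀ y, polar R y v = 0 → polar R (k.1 *ᵥ y) (k.1 *ᵥ v) = 0 := ⟨v₁, hv₁0, hv₁, hkv₁, hne⟩
    obtain ⟨s, hs⟩ : ∃ s, polar R s v = 1 := by
      obtain ⟨⟨z, hz⟩, -⟩ := hQ.nondegenerate v hv0
      exact ⟨(polar R z v)⁻¹ • z, by
        rw [QuadraticMap.polar_smul_left, smul_eq_mul, inv_mul_cancel₀ hz]⟩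
    set lam := polar R (k.1 *ᵥ s) (k.1 *ᵥ v) with hlamdef
    have hproj : ∀ x, polar R (x - polar R x v • s) v = 0 := fun x => by
      rw [QuadraticMap.polar_sub_left, QuadraticMap.polar_smul_left, hs, smul_eq_mul, mul_one, sub_self]
    have hlinv : ∀ x, polar R (k.1 *ᵥ x) (k.1 *ᵥ v) = lam * polar R x v := fun x => by
      have h := hne' _ (hproj x)
      rw [Matrix.mulVec_sub, Matrix.mulVec_smul, QuadraticMap.polar_sub_left,
        QuadraticMap.polar_smul_left, sub_eq_zero, smul_eq_mul] at h
      rw [h, mul_comm]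
    have hlv : ∀ x, polar R x (lam • v) = polar R (k.1 *ᵥ x) (k.1 *ᵥ v) := fun x => by
      rw [hlinv, QuadraticMap.polar_smul_right, smul_eq_mul]
    by_cases hab : ∃ a b, polar R a v = 0 ∧ polar R b v = 0 ∧
        polar R (k.1 *ᵥ a) (k.1 *ᵥ b) ≠ lam * polar R a b
    · obtain ⟨a, b, ha, hb, hne''⟩ := hab
      have h := hcomm k hk v (lam • v) a b hvR hgvR hlv ha
        (by rw [QuadraticMap.polar_smul_right, ha, smul_zero]) hb
        (by rw [QuadraticMap.polar_smul_right, hb, smul_zero])
      rw [smul_smul, ← sub_smul, map_smul, mul_comm _ lam] at h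
      exact ⟨v, _, hv0, hvR, sub_ne_zero.2 hne'', h⟩
    push Not at hab
    obtain ⟨as, has⟩ := hA k s
    set μ := R (k.1 *ᵥ s) - lam * R s with hμdef
    set z := as - lam • s - μ • v with hzdef
    have hxz' : ∀ x, polar R x z =
        polar R (k.1 *ᵥ x) (k.1 *ᵥ s) - lam * polar R x s - μ * polar R x v := fun x => by
      rw [hzdef, QuadraticMap.polar_sub_right, QuadraticMap.polar_sub_right,
        QuadraticMap.polar_smul_right, QuadraticMap.polar_smul_right, has, smul_eq_mul, smul_eq_mul]
    have hid : ∀ x, R (k.1 *ᵥ x) = lam * R x + polar R x v * polar R x z := fun x => by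
      have h := hab (x - polar R x v • s) (x - polar R x v • s) (hproj x) (hproj x)
      refine mul_left_cancel₀ h2 ?_
      rw [hxz', hμdef]
      simp only [Matrix.mulVec_sub, Matrix.mulVec_smul, QuadraticMap.polar_sub_left,
        QuadraticMap.polar_sub_right, QuadraticMap.polar_smul_left, QuadraticMap.polar_smul_right,
        smul_eq_mul, QuadraticMap.polar_comm R (k.1 *ᵥ s) (k.1 *ᵥ x),
        QuadraticMap.polar_comm R s x] at h
      simp only [QuadraticMap.polar_self, nsmul_eq_mul, Nat.cast_ofNat] at h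
      linear_combination h
    have hkinj := Matrix.mulVec_injective_iff_isUnit.2
      ((Matrix.isUnit_iff_isUnit_det k.1).2 (by rw [k.2]; exact isUnit_one))
    have hlam : lam ≠ 0 := fun h0 => by
      have hgv0 : k.1 *ᵥ v ≠ 0 := fun h => hv0 (hkinj (by rw [Matrix.mulVec_zero, h]))
      obtain ⟨⟨y, hy⟩, -⟩ := hQ.nondegenerate _ hgv0
      refine hy ?_
      rw [show y = k.1 *ᵥ ((k⁻¹).1 *ᵥ y) by
        rw [Matrix.mulVec_mulVec, ← Matrix.SpecialLinearGroup.coe_mul, mul_inv_cancel]
        exact (Matrix.one_mulVec y).symm, hlinv, h0, zero_mul]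
    have hvv : polar R v v = 0 := by rw [QuadraticMap.polar_self, hvR, smul_zero]
    have hpol : ∀ x y, polar R (k.1 *ᵥ x) (k.1 *ᵥ y) =
        lam * polar R x y + polar R x v * polar R y z + polar R y v * polar R x z := fun x y => by
      have h := QuadraticMap.map_add (⇑R) (k.1 *ᵥ x) (k.1 *ᵥ y)
      rw [← Matrix.mulVec_add, hid, hid, hid, QuadraticMap.map_add (⇑R) x y,
        QuadraticMap.polar_add_left, QuadraticMap.polar_add_left] at h
      linear_combination -h
    by_cases hzv : z ∈ Submodule.span F {v}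
    · obtain ⟨α, hα⟩ := Submodule.mem_span_singleton.1 hzv
      have hid' : ∀ x, R (k.1 *ᵥ x) = lam * R x + α * (polar R x v * polar R x v) := fun x => by
        rw [hid, ← hα, QuadraticMap.polar_smul_right, smul_eq_mul]; ring
      refine rankone k hk v lam α hv0 hvR hlam (fun h0 => hkns ⟨lam, hlam, fun x => ?_⟩) hid'
      rw [hid', h0, zero_mul, add_zero]
    obtain ⟨u, hu, huz⟩ : ∃ u ∈ perpTo R ![v], polar R u z ≠ 0 := by
      by_contra hc
      push Not at hc
      exact hzv (by simpa using mem_span_of_perpTo hR hc)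
    have huv : polar R u v = 0 := mem_perpTo.1 hu 0
    obtain ⟨E, hE, hEx⟩ := hroot v (lam • u) hvR (by
      rw [QuadraticMap.polar_smul_right, QuadraticMap.polar_comm, huv, smul_zero])
    have hkuv : polar R (k.1 *ᵥ v) (k.1 *ᵥ u) = 0 := by
      rw [QuadraticMap.polar_comm, hlinv, huv, mul_zero]
    obtain ⟨E', hE', hE'x⟩ := hroot (k.1 *ᵥ v) (k.1 *ᵥ u) hgvR hkuv
    have hd : (polar R u z • β v) ⬝ᵥ v = 0 := by rw [smul_dotProduct, hβ, hvv, smul_zero]
    refine ⟨v, polar R u z, hv0, hvR, huz, hd, ?_⟩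
    have key : E' * k = k * (tv v (polar R u z • β v) hd * E) := by
      apply Subtype.ext
      refine Matrix.ext_of_mulVec_single fun i => ?_
      simp only [Matrix.SpecialLinearGroup.coe_mul, ← Matrix.mulVec_mulVec, hEx, hE'x, tv_mulVec,
        smul_dotProduct, hβ, hlinv, hpol _ u, hid, huv, hvv, zero_mul, mul_zero, add_zero,
        Matrix.mulVec_sub, Matrix.mulVec_add, Matrix.mulVec_smul, QuadraticMap.map_smul,
        QuadraticMap.polar_sub_left, QuadraticMap.polar_add_left, QuadraticMap.polar_smul_left,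
        QuadraticMap.polar_smul_right, smul_eq_mul]
      module
    rw [show tv v (polar R u z • β v) hd = k⁻¹ * (E' * k) * E⁻¹ by rw [key]; group]
    exact mul_mem (mul_mem (inv_mem hk) (mul_mem hE' hk)) (inv_mem hE)
  -- all of them, at every singular vector
  have hstep : ∀ v : V, R v = 0 → ∀ c : F, c ≠ 0 → HasTv K' v (c • β v) → ∀ e : V, R e = 0 →
      polar R v e ≠ 0 → ∀ d : F, HasTv K' e (d • β e) := by
    intro v hv c hc hT e he hve
    have hsq : ∀ l : F, HasTv K' e ((l * l * c) • β e) := by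
      intro l
      by_cases hl : l = 0
      · rw [hl, zero_mul, zero_mul, zero_smul]; exact HasTv.zero e
      set z := v + (-l) • e with hzdef
      have hz : R z ≠ 0 := by
        rw [hzdef, QuadraticMap.map_add (⇑R), QuadraticMap.map_smul, hv, he, smul_zero, zero_add,
          QuadraticMap.polar_smul_right, smul_eq_mul, zero_add]
        exact mul_ne_zero (neg_ne_zero.2 hl) hve
      obtain ⟨p, hpS, hp, hpv⟩ := hperp z hz (LinearMap.ker ((polarBilin R).flip v)) (fun h => by
        have hm := mem_span_of_perpTo hR (u := ![z]) (a := v) fun y hy => h hy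
        rw [show Set.range ![z] = {z} by simp, Submodule.mem_span_singleton] at hm
        obtain ⟨r, hr⟩ := hm
        have h3 := congrArg R hr
        rw [QuadraticMap.map_smul, hv, smul_eq_zero, mul_eq_zero, or_self] at h3
        rw [h3.resolve_right hz, zero_smul] at hr
        exact hve (by rw [← hr, QuadraticMap.polar_zero_left]))
      change ¬ polar R p v = 0 at hpv
      have hpz : polar R p v = l * polar R p e := by
        have h := mem_perpTo.1 hpS 0
        simp only [Matrix.cons_val_zero, hzdef, QuadraticMap.polar_add_right,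
          QuadraticMap.polar_smul_right, smul_eq_mul] at h
        linear_combination h
      clear_value z
      set b := polar R p v with hb
      set u := b⁻¹ • z with hudef
      have hpu : polar R p u = 0 := by
        rw [hudef, QuadraticMap.polar_smul_right]
        exact smul_eq_zero_of_right _ (mem_perpTo.1 hpS 0)
      obtain ⟨E, hE, hEx⟩ := hroot p u hp hpu
      have hEi := hiso p u E hp hpu hEx
      obtain ⟨r, hr⟩ : ∃ r : F, E.1 *ᵥ v = l • e + r • p := ⟨polar R v u - R u * b, by
        rw [hEx, QuadraticMap.polar_comm R v p, ← hb, hudef, smul_smul, mul_inv_cancel₀ hpv, one_smul,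
          hzdef]
        module⟩
      have hr0 : r = 0 := by
        have h := hEi v
        rw [hr, QuadraticMap.map_add (⇑R), QuadraticMap.map_smul, QuadraticMap.map_smul, he, hp,
          smul_zero, smul_zero, zero_add, zero_add, QuadraticMap.polar_smul_left,
          QuadraticMap.polar_smul_right, hv, smul_eq_mul, smul_eq_mul, QuadraticMap.polar_comm R e p,
          ← mul_assoc, mul_comm l r, mul_assoc, ← hpz, mul_eq_zero] at h
        exact h.resolve_right hpv
      rw [hr0, zero_smul, add_zero] at hr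
      have h1 := HasTv.conj hE (φ := c • β (l • e)) (c := v) (by
        rw [Matrix.smul_vecMul, show β (l • e) ᵥ* E.1 = β v from dotProduct_eq _ _ fun x => by
          rw [← dotProduct_mulVec, hβ, hβ, ← hr, hpolE E hEi]]
        exact hT)
      rw [hr] at h1
      have h3 := h1.scale hl
      rwa [map_smul, smul_smul, smul_smul, mul_right_comm] at h3
    intro d
    have h := (hsq ((d / c + 1) / 2)).sub (hsq ((d / c - 1) / 2))
    rwa [← sub_smul, show (d / c + 1) / 2 * ((d / c + 1) / 2) * c - (d / c - 1) / 2 * ((d / c - 1) / 2) * c = d by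
      field_simp
      ring] at h
  have hall : ∀ e : V, R e = 0 → ∀ d : F, HasTv K' e (d • β e) := by
    intro e he
    by_cases he0 : e = 0
    · intro d; rw [he0, map_zero, smul_zero]; exact HasTv.zero _
    by_cases hve : polar R v₀ e = 0
    swap
    · exact hstep v₀ hv₀ c₀ hc₀ hT₀ e he hve
    obtain ⟨x, hxv, hxe⟩ : ∃ x, polar R x v₀ ≠ 0 ∧ polar R x e ≠ 0 := by
      obtain ⟨⟨a, ha⟩, -⟩ := hQ.nondegenerate v₀ hv₀0
      obtain ⟨⟨b, hb⟩, -⟩ := hQ.nondegenerate e he0
      by_cases ha' : polar R a e = 0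
      swap
      · exact ⟨a, ha, ha'⟩
      by_cases hb' : polar R b v₀ = 0
      swap
      · exact ⟨b, hb', hb⟩
      exact ⟨a + b, by rwa [QuadraticMap.polar_add_left, hb', add_zero],
        by rwa [QuadraticMap.polar_add_left, ha', zero_add]⟩
    set y := x + (-(R x) / polar R x v₀) • v₀ with hydef
    have hy : R y = 0 := by
      rw [hydef, QuadraticMap.map_add (⇑R), QuadraticMap.map_smul, hv₀, smul_zero, add_zero,
        QuadraticMap.polar_smul_right, smul_eq_mul, div_mul_cancel₀ _ hxv, add_neg_cancel]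
    refine hstep y hy 1 one_ne_zero (hstep v₀ hv₀ c₀ hc₀ hT₀ y hy ?_ 1) e he ?_
    · rw [hydef, QuadraticMap.polar_comm, QuadraticMap.polar_add_left, QuadraticMap.polar_smul_left,
        QuadraticMap.polar_self, hv₀, smul_zero, smul_zero, add_zero]
      exact hxv
    · rw [hydef, QuadraticMap.polar_add_left, QuadraticMap.polar_smul_left, hve, smul_zero, add_zero]
      exact hxe
  -- every transvection with centre the sum of a hyperbolic pair
  have hfull : ∀ v e : V, R v = 0 → R e = 0 → polar R v e ≠ 0 → Full K' (v + e) := by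
    intro v e hv he hd
    set d := polar R v e with hddef
    have hev : polar R e v = d := by rw [QuadraticMap.polar_comm]
    have hvv : polar R v v = 0 := by rw [QuadraticMap.polar_self, hv, smul_zero]
    have hee : polar R e e = 0 := by rw [QuadraticMap.polar_self, he, smul_zero]
    have hRc : R (v + e) ≠ 0 := by
      rwa [QuadraticMap.map_add (⇑R), hv, he, zero_add, zero_add]
    let U : Submodule F V :=
      { carrier := {y | ∀ a : F, HasTv K' (v + e) (a • β y)}
        add_mem' := fun {x y} hx hy a => by rw [map_add, smul_add]; exact (hx a).add (hy a)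
        zero_mem' := fun a => by rw [map_zero, smul_zero]; exact HasTv.zero _
        smul_mem' := fun r y hy a => by rw [map_smul, smul_smul]; exact hy _ }
    have hU : ∀ x ∈ U, ∀ y, R y = 0 → polar R (v + e) y = 0 → polar R y x ≠ 0 → y ∈ U := by
      intro x hx y hy hcy hyx a
      have h := (hx 1).comm (hall y hy (a / polar R y x))
        (by rw [smul_dotProduct, hβ, hcy, smul_zero])
      rwa [one_smul, hβ, smul_smul, mul_div_cancel₀ _ hyx] at h
    obtain ⟨ed, hm⟩ := hall e he d⁻¹
    have h0 : v - e ∈ U := fun a => by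
      have h := HasTv.conj hm (φ := a • β (v - e)) (c := v) (by
        rw [Matrix.smul_vecMul, show β (v - e) ᵥ* (tv e (d⁻¹ • β e) ed).1 = β v from
          dotProduct_eq _ _ fun x => by
            rw [← dotProduct_mulVec, hβ, hβ, tv_mulVec, smul_dotProduct, hβ,
              QuadraticMap.polar_sub_right, QuadraticMap.polar_add_left, QuadraticMap.polar_add_left,
              QuadraticMap.polar_smul_left, QuadraticMap.polar_smul_left, hev, hee]
            simp only [smul_eq_mul]
            field_simp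
            ring]
        exact hall v hv a)
      rwa [tv_mulVec, smul_dotProduct, hβ, ← hddef, smul_eq_mul, inv_mul_cancel₀ hd, one_smul] at h
    obtain ⟨y₀, hy₀S, hy₀, hy₀n⟩ := hperp (v + e) hRc (LinearMap.ker ((polarBilin R).flip (v - e)))
      (fun h => by
        have hm' : v - e ∈ perpTo R ![v + e] := mem_perpTo.2 fun i => by
          fin_cases i
          show polar R (v - e) (v + e) = 0
          rw [QuadraticMap.polar_sub_left, QuadraticMap.polar_add_right, QuadraticMap.polar_add_right,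
            hvv, hee, hev]
          ring
        have h' : polar R (v - e) (v - e) = 0 := h hm'
        rw [QuadraticMap.polar_sub_left, QuadraticMap.polar_sub_right, QuadraticMap.polar_sub_right,
          hvv, hee, hev] at h'
        exact mul_ne_zero h2 hd (by linear_combination -h'))
    change ¬ polar R y₀ (v - e) = 0 at hy₀n
    have hcy : ∀ y ∈ perpTo R ![v + e], polar R (v + e) y = 0 := fun y hy => by
      rw [QuadraticMap.polar_comm]; exact mem_perpTo.1 hy 0
    have hy₀U : y₀ ∈ U := hU _ h0 y₀ hy₀ (hcy _ hy₀S) hy₀n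
    have hsub : perpTo R ![v + e] ≤ U := by
      by_contra hc
      obtain ⟨y, hyS, hy, hyU⟩ := hperp (v + e) hRc U hc
      have hperpU : ∀ x ∈ U, polar R y x = 0 := fun x hx => by
        by_contra h; exact hyU (hU x hx y hy (hcy y hyS) h)
      have hs : R (y + y₀) = 0 := by
        rw [QuadraticMap.map_add (⇑R), hy, hy₀, hperpU y₀ hy₀U]; simp
      by_cases hmem : y + y₀ ∈ U
      · exact hyU (by simpa using U.sub_mem hmem hy₀U)
      refine hmem (hU _ h0 _ hs (hcy _ (Submodule.add_mem _ hyS hy₀S)) ?_)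
      rwa [QuadraticMap.polar_add_left, hperpU _ h0, zero_add]
    intro ψ hψ
    obtain ⟨y, rfl⟩ := hβb ψ
    rw [hβ] at hψ
    have := hsub (mem_perpTo.2 fun i => by
      fin_cases i; show polar R y (v + e) = 0; rw [QuadraticMap.polar_comm]; exact hψ) 1
    rwa [one_smul] at this
  -- singular vectors are centres of all transvections, and span
  have hsingfull : ∀ v : V, R v = 0 → v ∈ fullSubmodule K' := by
    intro v hv
    by_cases hv0 : v = 0
    · rw [hv0]; exact zero_mem _
    obtain ⟨e, -, he, hev⟩ := exists_singular_avoiding hR (S := (⊤ : Submodule F V))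
      (T := LinearMap.ker ((polarBilin R).flip v))
      (by rw [finrank_top, Module.finrank_fin_fun]; omega) (fun h => by
        obtain ⟨⟨z, hz⟩, -⟩ := hQ.nondegenerate v hv0
        exact hz (h Submodule.mem_top))
    change ¬ polar R e v = 0 at hev
    rw [QuadraticMap.polar_comm] at hev
    have e1 : v + e ∈ fullSubmodule K' := hfull v e hv he hev
    have e2 : v + (-1 : F) • e ∈ fullSubmodule K' := hfull v _ hv (by
      rw [QuadraticMap.map_smul, he, smul_zero]) (by
      rw [QuadraticMap.polar_smul_right, smul_eq_mul]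
      exact mul_ne_zero (neg_ne_zero.2 one_ne_zero) hev)
    have e3 := Submodule.add_mem _ e1 e2
    rw [neg_smul, one_smul, add_add_add_comm, add_neg_cancel, add_zero, ← two_smul F] at e3
    exact ((fullSubmodule K').smul_mem_iff h2).1 e3
  by_contra hne
  obtain ⟨x, -, hx, hxn⟩ := exists_singular_avoiding hR (S := (⊤ : Submodule F V))
    (T := fullSubmodule K') (by rw [finrank_top, Module.finrank_fin_fun]; omega)
    (fun h => hne (eq_top_iff.2 h))
  exact hxn (hsingfull x hx)

end CfsgLib.MaxSub.SLQuadAll
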