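/-
Five clauses of the list of geometric maximal subgroups of `SL_7`: subspaces, seven lines, subfields,
quadratic and unitary forms.
-/
import Cfsg.Agent.Lib.MaxSub.SubspaceMaximal
import Cfsg.Agent.Lib.MaxSub.SubfieldMaximalSL
import Cfsg.Agent.Lib.MaxSub.DecompMaximalSL
import Cfsg.Agent.Lib.MaxSub.Monomial.Seven
import Cfsg.Agent.Lib.MaxSub.FormMaximalSL
import Cfsg.Agent.Lib.MaxSub.SubspaceMaximalOrthGL
import Cfsg.Agent.Lib.FiniteForms.Standard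
import Cfsg.Agent.Lib.MaxSub.SLQuadraticAll
import Cfsg.Agent.Lib.MaxSub.SLUnitaryAll

set_option autoImplicit false
open Cfsg

namespace CfsgLib.MaxSub.SLSeven

variable {F : Type*} [Field F] [Fintype F]

theorem sl_seven_subspace : ∀ W : Submodule F (Fin 7 → F), W ≠ ⊥ → W ≠ ⊤ →
    Cfsg.Geo.IsMaximalIn (Cfsg.Geo.specialLinear (Fin 7) F)
      (Cfsg.Geo.subspaceStabilizer W ⊓ Cfsg.Geo.specialLinear (Fin 7) F) :=
  fun _ h0 h1 => CfsgLib.MaxSub.sl_subspace_maximal (by norm_num) h0 h1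

theorem sl_seven_lines : 5 ≤ Fintype.card F → ∀ D : Fin 7 → Submodule F (Fin 7 → F),
    Cfsg.Geo.IsMDecomposition 1 D → Cfsg.Geo.IsMaximalIn (Cfsg.Geo.specialLinear (Fin 7) F)
      (Cfsg.Geo.decompositionStabilizer D ⊓ Cfsg.Geo.specialLinear (Fin 7) F) := by
  intro hq D hD
  refine ⟨lt_of_le_of_ne inf_le_right fun e =>
    CfsgLib.Aschbacher.not_le_decompositionStabilizer' hD (e ▸ inf_le_left), fun M hM hMG => ?_⟩
  by_cases hle : M ≤ Cfsg.Geo.decompositionStabilizer D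
  · exact Or.inl (le_antisymm (le_inf hle hMG) hM)
  obtain ⟨g, hg, hgD⟩ := SetLike.not_le_iff_exists.1 hle
  obtain ⟨gs, hgs, hgs'⟩ := CfsgLib.MaxSub.exists_sl_of hMG hg
  have eg : (Matrix.SpecialLinearGroup.toGL gs : Matrix.GeneralLinearGroup (Fin 7) F) = g := Units.ext hgs'
  refine Or.inr (le_antisymm hMG (CfsgLib.MaxSub.specialLinear_le_of_top ?_))
  exact CfsgLib.MaxSub.DecompSL.top_of_lines_of hD
    (fun L A hL hA hA' => CfsgLib.MaxSub.Monomial.top_of_not_mono_seven hq hL hA hA')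
    (fun y hy => hM (Subgroup.mem_inf.2 ⟨hy, by
      rw [Cfsg.Geo.specialLinear, MonoidHom.mem_ker, Units.ext_iff, Matrix.GeneralLinearGroup.val_det_apply,
        Units.val_one]
      exact y.2⟩)) hgs (eg.symm ▸ hgD)

theorem sl_seven_subfield : ∀ (F₀ : Subfield F) (r : ℕ) (P : Matrix.GeneralLinearGroup (Fin 7) F),
    r.Prime → Fintype.card F = Nat.card F₀ ^ r → Cfsg.Geo.IsMaximalIn (Cfsg.Geo.specialLinear (Fin 7) F)
      (Cfsg.Geo.subfieldSubgroup F₀ P ⊓ Cfsg.Geo.specialLinear (Fin 7) F) :=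
  fun _ _ P hr hc => CfsgLib.MaxSub.SubfieldSL.sl_subfield_maximal (by norm_num) hr hc P

theorem sl_seven_quadratic : Odd (Fintype.card F) → ∀ Q : (Fin 7 → F) → F,
    Cfsg.Geo.IsNondegenerateQuadraticForm Q → Cfsg.Geo.IsMaximalIn (Cfsg.Geo.specialLinear (Fin 7) F)
      (Cfsg.Geo.quadSimilarityGroup Q ⊓ Cfsg.Geo.specialLinear (Fin 7) F) := by
  intro hodd Q hQ
  have h2 : (2 : F) ≠ 0 := CfsgLib.FiniteForms.two_ne_zero_of_odd (F := F) rfl hodd
  obtain ⟨R, hR, -⟩ := CfsgLib.MaxSub.Orth.exists_form hQ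
  exact CfsgLib.MaxSub.SLQuadAll.sl_quadratic_maximal_all (by norm_num) h2 hQ R hR

theorem sl_seven_unitary : ∀ (σ : F ≃+* F) (f : (Fin 7 → F) → (Fin 7 → F) → F),
    Cfsg.Geo.IsUnitaryForm σ f → Cfsg.Geo.IsMaximalIn (Cfsg.Geo.specialLinear (Fin 7) F)
      (Cfsg.Geo.similarityGroup f ⊓ Cfsg.Geo.specialLinear (Fin 7) F) :=
  fun _ _ hf => CfsgLib.MaxSub.SLHermAll.sl_unitary_maximal_all (by norm_num) hf

end CfsgLib.MaxSub.SLSeven
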