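/-
Rational unitary vectors and Hermitian root elements on an isotropic plane.
-/
import Cfsg.Agent.Lib.MaxSub.PairMaximalSU
import Cfsg.Agent.Lib.MaxSub.HermVectorsFour
import Cfsg.Agent.Lib.MaxSub.RationalTools
import Cfsg.Agent.Lib.MaxSub.SubfieldMaximalSL
import Cfsg.Agent.Lib.Aschbacher.UnitaryRational

set_option autoImplicit false
set_option maxHeartbeats 800000

namespace CfsgLib.MaxSub.SubfieldGU

open Matrix Module Cfsg Cfsg.Geo CfsgLib.UnitaryTransvection CfsgLib.MaxSub.Rational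
open CfsgLib.MaxSub.PairSU (IsT IsS gl_ext exists_T exists_S h_zero)

variable {F : Type*} [Field F] [Fintype F] {n q : ℕ} (hF : Fintype.card F = q ^ 2)

local notation "h" => Cfsg.hermForm n F q
local notation "σ" => frob hF
local notation "Mn" => Matrix (Fin n) (Fin n) F
local notation "V" => Fin n → F
local notation "G" => Cfsg.GU n F q ⊓ specialLinear (Fin n) F

/-- The rational vectors of the structure. -/
def IsR (F₀ : Subfield F) (P : GL (Fin n) F) (v : Fin n → F) : Prop :=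
  ∃ u, Rat F₀ u ∧ (P : Mn) *ᵥ u = v

/-- The field fixed by the Frobenius. -/
def fixedField : Subfield F where
  carrier := {x | σ x = x}
  one_mem' := map_one _
  zero_mem' := map_zero _
  mul_mem' := fun {a b} ha hb => by rw [Set.mem_setOf_eq, map_mul, ha, hb]
  add_mem' := fun {a b} ha hb => by rw [Set.mem_setOf_eq, map_add, ha, hb]
  neg_mem' := fun {a} ha => by rw [Set.mem_setOf_eq, map_neg, ha]
  inv_mem' := fun a ha => by rw [Set.mem_setOf_eq, map_inv₀, ha]

/-- The structure. -/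
structure RU (F₀ : Subfield F) (P : GL (Fin n) F) (θ : F) : Prop where
  rat : IsFormRationalStructure (Cfsg.hermForm n F q) F₀ 1 P
  mem : θ ∈ F₀
  moved : σ θ ≠ θ

variable {hF} {F₀ : Subfield F} {P : GL (Fin n) F} {θ : F}

local notation "E" => fixedField hF

theorem mem_fixedField {x : F} : x ∈ E ↔ σ x = x := Iff.rfl

theorem frob_mem {x : F} (hx : x ∈ F₀) : σ x ∈ F₀ := by rw [frob_apply]; exact pow_mem hx q

theorem tr_mem_fixed (x : F) : x + σ x ∈ E := by
  rw [mem_fixedField, map_add, frob_frob hF]; ring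

theorem skew_fixed {c κ : F} (hκ : σ κ = -κ) (hc : σ c = -c) : σ (c / κ) = c / κ := by
  rw [map_div₀, hc, hκ, neg_div_neg_eq]

theorem mem_of_trace (S : RU hF F₀ P θ) {b : F}
    (hb : ∀ l ∈ F₀, b * l + σ (b * l) ∈ F₀) : b ∈ F₀ := by
  have h1 := hb 1 F₀.one_mem
  have h2 := hb θ S.mem
  have hne : θ - σ θ ≠ 0 := sub_ne_zero.2 (Ne.symm S.moved)
  rw [show b = ((b * θ + σ (b * θ)) - σ θ * (b * 1 + σ (b * 1))) / (θ - σ θ) by
    rw [eq_div_iff hne, map_mul, map_mul, map_one]; ring]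
  exact F₀.div_mem (F₀.sub_mem h2 (F₀.mul_mem (frob_mem S.mem) h1))
    (F₀.sub_mem S.mem (frob_mem S.mem))

theorem exists_tr_one (S : RU hF F₀ P θ) : ∃ ξ ∈ F₀, ξ + σ ξ = 1 := by
  obtain ⟨l, hl, hl0⟩ : ∃ l ∈ F₀, l + σ l ≠ 0 := by
    by_contra hc
    push Not at hc
    have h1 := hc 1 F₀.one_mem
    have h2 := hc θ S.mem
    rw [map_one] at h1
    exact S.moved (by linear_combination h2 - θ * h1)
  refine ⟨l / (l + σ l), F₀.div_mem hl (F₀.add_mem hl (frob_mem hl)), ?_⟩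
  rw [map_div₀, map_add, frob_frob hF, add_comm (σ l) l, ← add_div, div_self hl0]

theorem card_fixedField (S : RU hF F₀ P θ) :
    Nat.card E = q ∧ Nat.card F₀ = Nat.card (F₀ ⊓ E : Subfield F) ^ 2 := by
  have hne : θ - σ θ ≠ 0 := sub_ne_zero.2 (Ne.symm S.moved)
  have hb : ∀ x : F, (x - σ x) / (θ - σ θ) ∈ E := fun x => by
    rw [mem_fixedField, map_div₀, map_sub, map_sub, frob_frob hF, frob_frob hF, ← neg_sub (x) (σ x),
      ← neg_sub θ (σ θ), neg_div_neg_eq]
  have ha : ∀ x : F, x - θ * ((x - σ x) / (θ - σ θ)) ∈ E := fun x => by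
    rw [mem_fixedField, map_sub, map_mul, (mem_fixedField.1 (hb x))]
    field_simp
    ring
  have hinj : ∀ a b c d : F, a ∈ E → b ∈ E → c ∈ E → d ∈ E → a + θ * b = c + θ * d →
      a = c ∧ b = d := by
    intro a b c d ha hb hc hd e
    have e' := congrArg σ e
    simp only [map_add, map_mul, mem_fixedField.1 ha, mem_fixedField.1 hb, mem_fixedField.1 hc,
      mem_fixedField.1 hd] at e'
    have hbd : b = d := by
      refine mul_left_cancel₀ hne ?_
      linear_combination e - e'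
    exact ⟨by subst hbd; linear_combination e, hbd⟩
  constructor
  · let m : E × E → F := fun p => p.1 + θ * p.2
    have hm : Function.Bijective m := by
      refine ⟨fun p p' e => ?_, fun x => ⟨(⟨_, ha x⟩, ⟨_, hb x⟩), by simp only [m]; ring⟩⟩
      obtain ⟨e1, e2⟩ := hinj _ _ _ _ p.1.2 p.2.2 p'.1.2 p'.2.2 e
      exact Prod.ext (Subtype.ext e1) (Subtype.ext e2)
    have h1 := Nat.card_eq_of_bijective m hm
    rw [Nat.card_prod, Nat.card_eq_fintype_card (α := F), hF, ← sq] at h1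
    exact Nat.pow_left_injective two_ne_zero h1
  · let E₀ : Subfield F := F₀ ⊓ E
    let m : E₀ × E₀ → F₀ := fun p =>
      ⟨p.1 + θ * p.2, F₀.add_mem p.1.2.1 (F₀.mul_mem S.mem p.2.2.1)⟩
    have hm : Function.Bijective m := by
      refine ⟨fun p p' e => ?_, fun x => ?_⟩
      · obtain ⟨e1, e2⟩ := hinj _ _ _ _ p.1.2.2 p.2.2.2 p'.1.2.2 p'.2.2.2 (congrArg Subtype.val e)
        exact Prod.ext (Subtype.ext e1) (Subtype.ext e2)
      · have hb0 : ((x : F) - σ x) / (θ - σ θ) ∈ F₀ :=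
          F₀.div_mem (F₀.sub_mem x.2 (frob_mem x.2)) (F₀.sub_mem S.mem (frob_mem S.mem))
        refine ⟨(⟨_, F₀.sub_mem x.2 (F₀.mul_mem S.mem hb0), ha x⟩, ⟨_, hb0, hb x⟩), Subtype.ext ?_⟩
        simp only [m]
        ring
    have h1 := Nat.card_eq_of_bijective m hm
    rw [Nat.card_prod] at h1
    rw [sq]
    exact h1.symm

omit [Fintype F] in
theorem IsR.add {u v : V} (hu : IsR F₀ P u) (hv : IsR F₀ P v) : IsR F₀ P (u + v) := by
  obtain ⟨x, hx, rfl⟩ := hu
  obtain ⟨y, hy, rfl⟩ := hv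
  exact ⟨x + y, rat_add hx hy, Matrix.mulVec_add _ _ _⟩

omit [Fintype F] in
theorem IsR.sub {u v : V} (hu : IsR F₀ P u) (hv : IsR F₀ P v) : IsR F₀ P (u - v) := by
  obtain ⟨x, hx, rfl⟩ := hu
  obtain ⟨y, hy, rfl⟩ := hv
  exact ⟨x - y, rat_sub hx hy, Matrix.mulVec_sub _ _ _⟩

omit [Fintype F] in
theorem IsR.smul {c : F} (hc : c ∈ F₀) {v : V} (hv : IsR F₀ P v) : IsR F₀ P (c • v) := by
  obtain ⟨x, hx, rfl⟩ := hv
  exact ⟨c • x, rat_smul hc hx, Matrix.mulVec_smul _ _ _⟩

omit [Fintype F] in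
theorem IsR.zero : IsR F₀ P (0 : V) := ⟨0, rat_zero, Matrix.mulVec_zero _⟩

/-- A rational basis vector. -/
def col (P : GL (Fin n) F) (i : Fin n) : Fin n → F := (P : Mn) *ᵥ Pi.single i 1

omit [Fintype F] in
theorem col_rat (i : Fin n) : IsR F₀ P (col P i) := ⟨_, rat_single i, rfl⟩

omit [Fintype F] in
theorem eq_sum_col (P : GL (Fin n) F) (v : V) :
    v = ∑ i, (((P⁻¹ : GL (Fin n) F) : Mn) *ᵥ v) i • col P i := by
  have e : v = (P : Mn) *ᵥ (((P⁻¹ : GL (Fin n) F) : Mn) *ᵥ v) := by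
    rw [Matrix.mulVec_mulVec, Units.mul_inv, Matrix.one_mulVec]
  conv_lhs => rw [e, pi_eq_sum_univ' (((P⁻¹ : GL (Fin n) F) : Mn) *ᵥ v), Matrix.mulVec_sum]
  exact Finset.sum_congr rfl fun i _ => Matrix.mulVec_smul _ _ _

theorem h_rat (S : RU hF F₀ P θ) {u v : V} (hu : IsR F₀ P u) (hv : IsR F₀ P v) : h u v ∈ F₀ := by
  obtain ⟨x, hx, rfl⟩ := hu
  obtain ⟨y, hy, rfl⟩ := hv
  simpa using S.rat x y hx hy

include hF in
theorem eq_zero_of_values {d : V} (e : ∀ i, h (col P i) d = 0) : d = 0 := by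
  refine h_nondeg hF fun y => ?_
  rw [← h_swap hF y d]
  have : h y d = 0 := by
    let L : V →+ F := AddMonoidHom.mk' (fun y => h y d) fun a b => h_add_left a b d
    show L y = 0
    rw [eq_sum_col P y, map_sum]
    refine Finset.sum_eq_zero fun i _ => ?_
    show h _ d = 0
    rw [h_smul_left, e, mul_zero]
  rw [this, map_zero]

/-- A vector with rational values, up to a scalar, is rational up to that scalar. -/
theorem exists_eq_smul (S : RU hF F₀ P θ) {x : V} {c : F} (hc : c ≠ 0)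
    (hx : ∀ i, h (col P i) x / σ c ∈ F₀) : ∃ r, IsR F₀ P r ∧ x = c • r := by
  let Φ : (Fin n → F₀) → (Fin n → F₀) := fun w i =>
    ⟨h (col P i) ((P : Mn) *ᵥ fun j => (w j : F)), h_rat S (col_rat i) ⟨_, fun j => (w j).2, rfl⟩⟩
  have hΦ : Function.Injective Φ := fun w w' e => by
    have h0 : (P : Mn) *ᵥ (fun j => (w j : F)) - (P : Mn) *ᵥ (fun j => (w' j : F)) = 0 :=
      eq_zero_of_values (hF := hF) (P := P) fun i => by
        rw [h_sub_right hF, sub_eq_zero]
        exact congrArg Subtype.val (congrFun e i)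
    have h1 := Matrix.mulVec_injective_iff_isUnit.2 P.isUnit (sub_eq_zero.1 h0)
    exact funext fun j => Subtype.ext (congrFun h1 j)
  obtain ⟨w, hw⟩ := Finite.injective_iff_surjective.1 hΦ fun i => ⟨_, hx i⟩
  refine ⟨_, ⟨_, fun j => (w j).2, rfl⟩, sub_eq_zero.1 (eq_zero_of_values (hF := hF) (P := P) fun i => ?_)⟩
  have e : h (col P i) ((P : Mn) *ᵥ fun j => (w j : F)) = h (col P i) x / σ c :=
    congrArg Subtype.val (congrFun hw i)
  rw [h_sub_right hF, h_smul_right hF, e, mul_div_cancel₀ _ (by simpa using hc), sub_self]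

/-- Independence over the subfield. -/
def Indep (F₀ : Subfield F) (a b : Fin n → F) : Prop :=
  ∀ s ∈ F₀, ∀ t ∈ F₀, s • a + t • b = 0 → s = 0 ∧ t = 0

omit [Fintype F] in
theorem Indep.symm {a b : V} (e : Indep F₀ a b) : Indep F₀ b a := fun s hs t ht e' =>
  (e t ht s hs (by rw [add_comm]; exact e')).symm

omit [Fintype F] in
theorem Indep.left_ne {a b : V} (e : Indep F₀ a b) : a ≠ 0 := fun e' => one_ne_zero (α := F)
  (e 1 F₀.one_mem 0 F₀.zero_mem (by rw [e', smul_zero, zero_smul, add_zero])).1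

/-- An isotropic rational vector with prescribed values. -/
theorem exists_iso (S : RU hF F₀ P θ) (hn : n = 4 ∨ 5 ≤ n) {k : ℕ} (v : Fin k → V)
    (a : Fin k → F)
    (hk : k ≤ 2 ∨ (k = 3 ∧ (∃ i j, h (v i) (v i) = 0 ∧ h (v j) (v j) = 0 ∧ h (v i) (v j) ≠ 0) ∧ (n = 4 → ∀ γ : Fin k → F,
      (∀ i, ∑ j, γ j * h (v j) (v i) = 0) → γ ≠ 0 → ∑ j, σ (γ j) * a j ≠ 0)))
    (hv : ∀ i, IsR F₀ P (v i))
    (hind : ∀ c : Fin k → F, (∀ i, c i ∈ F₀) → ∑ i, c i • v i = 0 → ∀ i, c i = 0)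
    (ha : ∀ i, a i ∈ F₀) :
    ∃ y, IsR F₀ P y ∧ h y y = 0 ∧ ∀ i, h y (v i) = a i := by
  let σ₀ : F₀ ≃+* F₀ :=
    { toFun := fun x => ⟨σ x, frob_mem x.2⟩
      invFun := fun x => ⟨σ x, frob_mem x.2⟩
      left_inv := fun x => Subtype.ext (frob_frob hF _)
      right_inv := fun x => Subtype.ext (frob_frob hF _)
      map_mul' := fun x y => Subtype.ext (map_mul σ _ _)
      map_add' := fun x y => Subtype.ext (map_add σ _ _) }
  let cv : (Fin n → F₀) → V := fun u => (P : Mn) *ᵥ fun j => (u j : F)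
  have hcv : ∀ u, IsR F₀ P (cv u) := fun u => ⟨_, fun j => (u j).2, rfl⟩
  have hadd : ∀ x y, cv (x + y) = cv x + cv y := fun x y => by
    show (P : Mn) *ᵥ _ = (P : Mn) *ᵥ _ + (P : Mn) *ᵥ _
    rw [← Matrix.mulVec_add]
    rfl
  have hsmul : ∀ (c : F₀) (x : Fin n → F₀), cv (c • x) = (c : F) • cv x := fun c x => by
    show (P : Mn) *ᵥ _ = (c : F) • ((P : Mn) *ᵥ _)
    rw [← Matrix.mulVec_smul]
    rfl
  let f₀ : (Fin n → F₀) → (Fin n → F₀) → F₀ := fun u w => ⟨h (cv u) (cv w), h_rat S (hcv u) (hcv w)⟩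
  have hf : IsUnitaryForm σ₀ f₀ :=
    { ne_refl := fun e => S.moved (congrArg Subtype.val (RingEquiv.congr_fun e ⟨θ, S.mem⟩))
      involutive := fun x => Subtype.ext (frob_frob hF _)
      add_left := fun x y w => Subtype.ext (by
        show h (cv (x + y)) _ = _ + _
        rw [hadd, h_add_left])
      smul_left := fun c x w => Subtype.ext (by
        show h (cv (c • x)) _ = _ * _
        rw [hsmul, h_smul_left])
      herm := fun x w => Subtype.ext (h_swap hF _ _).symm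
      nondegenerate := fun x hx => by
        have hx0 : cv x ≠ 0 := fun e => hx (funext fun j => Subtype.ext (congrFun
          (Matrix.mulVec_injective_iff_isUnit.2 P.isUnit (e.trans (Matrix.mulVec_zero _).symm)) j))
        obtain ⟨i, hi⟩ : ∃ i, h (col P i) (cv x) ≠ 0 := by
          by_contra hc
          push Not at hc
          exact hx0 (eq_zero_of_values (hF := hF) (P := P) hc)
        have he : cv (Pi.single i 1) = col P i := by
          show _ *ᵥ _ = _ *ᵥ _
          congr 1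
          funext j
          by_cases hj : j = i
          · subst hj; simp
          · simp [hj]
        refine ⟨⟨Pi.single i 1, fun e => hi ?_⟩, ⟨Pi.single i 1, fun e => hi ?_⟩⟩
        · rw [← he]; exact congrArg Subtype.val e
        · rw [← h_swap hF, ← he]
          exact (congrArg σ (congrArg Subtype.val e)).trans (map_zero _) }
  choose u hu hue using hv
  let w : Fin k → (Fin n → F₀) := fun i j => ⟨u i j, hu i j⟩
  have hcw : ∀ i, cv (w i) = v i := fun i => hue i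
  have hlin : LinearIndependent F₀ w := by
    rw [Fintype.linearIndependent_iff]
    intro c hc i
    refine Subtype.ext (hind (fun i => (c i : F)) (fun i => (c i).2) ?_ i)
    let L : (Fin n → F₀) →+ V := AddMonoidHom.mk' cv hadd
    have h0 := congrArg L hc
    rw [map_sum, map_zero] at h0
    rw [← h0]
    exact Finset.sum_congr rfl fun i _ => by
      show _ = cv (c i • w i)
      rw [hsmul, hcw]
  obtain ⟨z, hz, hza⟩ : ∃ z, f₀ z z = 0 ∧ ∀ i, f₀ z (w i) = ⟨a i, ha i⟩ := by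
    by_cases h6 : 2 * k < n
    · exact Herm.exists_iso_values_of hf hlin (Or.inl h6) _
    rcases hk with hk | ⟨rfl, ⟨i, j, hii, hjj, hij⟩, hrad⟩
    · exact Herm.exists_iso_values_pair hf hlin (by omega) _
    rcases hn with hn4 | hn
    · refine Herm.exists_iso_values_top hf hlin (by omega) _ fun γ hγ hγ0 e => ?_
      refine hrad hn4 (fun i => (γ i : F)) (fun i => ?_)
        (fun e' => hγ0 (funext fun i => Subtype.ext (congrFun e' i))) ?_
      · have h0 := congrArg Subtype.val (hγ i)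
        change h (cv (∑ j, γ j • w j)) (cv (w i)) = 0 at h0
        rw [hcw, Fin.sum_univ_three, hadd, hadd, hsmul, hsmul, hsmul, hcw, hcw, hcw, h_add_left,
          h_add_left, h_smul_left, h_smul_left, h_smul_left] at h0
        rw [Fin.sum_univ_three]
        exact h0
      · rw [Fin.sum_univ_three] at e ⊢
        exact congrArg Subtype.val e
    · by_cases h5 : n = 5
      · refine Herm.exists_iso_values_five hf hlin h5 _ (i := i) (j := j) (Subtype.ext ?_) (Subtype.ext ?_)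
          fun e => hij ?_
        · show h (cv (w i)) (cv (w i)) = 0
          rw [hcw]; exact hii
        · show h (cv (w j)) (cv (w j)) = 0
          rw [hcw]; exact hjj
        · rw [← hcw, ← hcw]
          exact congrArg Subtype.val e
      refine Herm.exists_iso_values_of hf hlin (Or.inr ⟨by omega, i, j, fun e => hij ?_⟩) _
      rw [← hcw, ← hcw]
      exact congrArg Subtype.val e
  refine ⟨cv z, hcv z, congrArg Subtype.val hz, fun i => ?_⟩
  rw [← hcw]
  exact congrArg Subtype.val (hza i)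

theorem exists_iso1 (S : RU hF F₀ P θ) (hn : n = 4 ∨ 5 ≤ n) {v : V} (hv : IsR F₀ P v) (hv0 : v ≠ 0)
    {a : F} (ha : a ∈ F₀) : ∃ y, IsR F₀ P y ∧ h y y = 0 ∧ h y v = a := by
  obtain ⟨y, hy, hyy, e⟩ := exists_iso S hn (k := 1) ![v] ![a] (Or.inl (by omega)) (fun i => by
    fin_cases i; exact hv) (fun c _ e i => by
      rw [Fin.sum_univ_one] at e
      fin_cases i
      exact (smul_eq_zero.1 e).resolve_right hv0) (fun i => by fin_cases i; exact ha)
  exact ⟨y, hy, hyy, e 0⟩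

theorem exists_iso2 (S : RU hF F₀ P θ) (hn : n = 4 ∨ 5 ≤ n) {v w : V} (hv : IsR F₀ P v) (hw : IsR F₀ P w)
    (hi : Indep F₀ v w) {a b : F} (ha : a ∈ F₀) (hb : b ∈ F₀) :
    ∃ y, IsR F₀ P y ∧ h y y = 0 ∧ h y v = a ∧ h y w = b := by
  obtain ⟨y, hy, hyy, e⟩ := exists_iso S hn (k := 2) ![v, w] ![a, b] (Or.inl le_rfl) (fun i => by
    fin_cases i <;> assumption) (fun c hc e i => by
      rw [Fin.sum_univ_two] at e
      obtain ⟨e1, e2⟩ := hi _ (hc 0) _ (hc 1) e
      fin_cases i <;> assumption) (fun i => by fin_cases i <;> assumption)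
  exact ⟨y, hy, hyy, e 0, e 1⟩

theorem exists_iso3 (S : RU hF F₀ P θ) (hn : n = 4 ∨ 5 ≤ n) {v w x : V} (hv : IsR F₀ P v) (hw : IsR F₀ P w)
    (hx : IsR F₀ P x) (hi : Indep F₀ v w) (hout : ∀ s t : F, x ≠ s • v + t • w) (hne : h v w ≠ 0)
    (hvv : h v v = 0) (hww : h w w = 0) {a b c : F} (ha : a ∈ F₀) (hb : b ∈ F₀) (hc : c ∈ F₀)
    (h4 : a = 0 ∧ b = 0 ∧ c ≠ 0) :
    ∃ y, IsR F₀ P y ∧ h y y = 0 ∧ h y v = a ∧ h y w = b ∧ h y x = c := by
  obtain ⟨y, hy, hyy, e⟩ := exists_iso S hn (k := 3) ![v, w, x] ![a, b, c]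
    (Or.inr ⟨rfl, ⟨0, 1, hvv, hww, hne⟩, fun _ γ hγ hγ0 e => by
      have e0 := hγ 0
      have e1 := hγ 1
      simp only [Fin.sum_univ_three, Matrix.cons_val_zero, Matrix.cons_val_one, Matrix.cons_val, hvv, hww,
        h4.1, h4.2.1, mul_zero, zero_add, add_zero] at e0 e1 e
      have h2 : γ 2 = 0 := by simpa [h4.2.2] using e
      rw [h2, zero_mul, add_zero, mul_eq_zero, or_iff_left (fun e' => hne (h_zero (hF := hF) e'))] at e0
      rw [h2, zero_mul, add_zero, mul_eq_zero, or_iff_left hne] at e1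
      exact hγ0 (funext fun i => by fin_cases i <;> assumption)⟩) (fun i => by
    fin_cases i <;> assumption) (fun c hc e i => by
      rw [Fin.sum_univ_three] at e
      have e' : c 0 • v + c 1 • w + c 2 • x = 0 := e
      have h2 : c 2 = 0 := by
        by_contra h0
        refine hout (-(c 0 / c 2)) (-(c 1 / c 2)) ?_
        have h1 := congrArg ((c 2)⁻¹ • ·) e'
        simp only [smul_add, smul_smul, smul_zero, inv_mul_cancel₀ h0, one_smul] at h1
        rw [← sub_eq_zero, ← h1]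
        simp only [div_eq_inv_mul]
        module
      obtain ⟨h0, h1⟩ := hi _ (hc 0) _ (hc 1) (by rw [h2, zero_smul, add_zero] at e'; exact e')
      fin_cases i <;> assumption) (fun i => by fin_cases i <;> assumption)
  exact ⟨y, hy, hyy, e 0, e 1, e 2⟩

/-- A rational vector is a combination of two isotropic ones. -/
theorem exists_decomp (S : RU hF F₀ P θ) (hn : n = 4 ∨ 5 ≤ n) {w : V} (hw : IsR F₀ P w) :
    ∃ a b, IsR F₀ P a ∧ h a a = 0 ∧ IsR F₀ P b ∧ h b b = 0 ∧ ∃ μ ∈ F₀, w = a + μ • b := by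
  by_cases hw0 : w = 0
  · exact ⟨0, 0, IsR.zero, by rw [hw0.symm]; simp [hw0, Cfsg.hermForm], IsR.zero,
      by simp [Cfsg.hermForm], 0, F₀.zero_mem, by simp [hw0]⟩
  obtain ⟨a, ha, haa, haw⟩ := exists_iso1 S hn hw hw0 F₀.one_mem
  obtain ⟨ξ, hξ, hξ1⟩ := exists_tr_one S
  have hwa : h w a = 1 := by rw [← h_swap hF, haw, map_one]
  have hww : σ (h w w) = h w w := h_swap hF w w
  set μ := -(h w w) * ξ with hμ
  have hμm : μ ∈ F₀ := F₀.mul_mem (F₀.neg_mem (h_rat S hw hw)) hξ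
  refine ⟨w + μ • a, a, hw.add (ha.smul hμm), ?_, ha, haa, -μ, F₀.neg_mem hμm, by module⟩
  simp only [h_add_left, h_add_right hF, h_smul_left, h_smul_right hF, haa, haw, hwa, hμ, map_mul,
    map_neg, hww]
  linear_combination (-(h w w)) * hξ1

/-- An element moving an isotropic rational line off the rational lines. -/
theorem exists_moved_iso (S : RU hF F₀ P θ) (hn : n = 4 ∨ 5 ≤ n) {g : GL (Fin n) F} (hg : g ∈ G)
    (hgS : g ∉ subfieldSubgroup F₀ P) :
    ∃ u, IsR F₀ P u ∧ h u u = 0 ∧ ∀ (c : F) w, IsR F₀ P w → (g : Mn) *ᵥ u ≠ c • w := by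
  by_contra hcon
  push Not at hcon
  choose! c r hr hcr using hcon
  have hginj : Function.Injective fun x : V => (g : Mn) *ᵥ x :=
    Matrix.mulVec_injective_iff_isUnit.2 g.isUnit
  have hprod : ∀ {u w : V}, IsR F₀ P u → h u u = 0 → IsR F₀ P w → h w w = 0 → h u w ≠ 0 →
      c u * σ (c w) ∈ F₀ ∧ c u * σ (c w) ≠ 0 := by
    intro u w hu huu hw hww huw
    have e : c u * σ (c w) * h (r u) (r w) = h u w := by
      rw [← G_isometry hg u w, hcr u hu huu, hcr w hw hww, h_smul_left, h_smul_right hF]; ring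
    have hne : c u * σ (c w) * h (r u) (r w) ≠ 0 := e ▸ huw
    refine ⟨?_, left_ne_zero_of_mul hne⟩
    rw [eq_div_of_mul_eq (right_ne_zero_of_mul hne) e]
    exact F₀.div_mem (h_rat S hu hw) (h_rat S (hr u hu huu) (hr w hw hww))
  obtain ⟨i0⟩ : Nonempty (Fin n) := ⟨⟨0, by omega⟩⟩
  have hc0 : (col P i0 : V) ≠ 0 := fun e => by
    have h1 := Matrix.mulVec_injective_iff_isUnit.2 P.isUnit (e.trans (Matrix.mulVec_zero _).symm)
    simpa using congrFun h1 i0
  obtain ⟨v, hv, hvv, hvc⟩ := exists_iso1 S hn (col_rat i0) hc0 F₀.one_mem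
  have hv0 : v ≠ 0 := fun e => by rw [e] at hvc; simp [Cfsg.hermForm] at hvc
  have hrel : ∀ {w : V}, IsR F₀ P w → h w w = 0 → w ≠ 0 → c w / c v ∈ F₀ := by
    intro w hw hww hw0
    obtain ⟨y, hy, hyy, hyv, hyw⟩ : ∃ y, IsR F₀ P y ∧ h y y = 0 ∧ h y v ≠ 0 ∧ h y w ≠ 0 := by
      by_cases hi : Indep F₀ v w
      · obtain ⟨y, hy, hyy, e1, e2⟩ := exists_iso2 S hn hv hw hi F₀.one_mem F₀.one_mem
        exact ⟨y, hy, hyy, by rw [e1]; exact one_ne_zero, by rw [e2]; exact one_ne_zero⟩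
      · unfold Indep at hi
        push Not at hi
        obtain ⟨s, hs, t, ht, e, hne⟩ := hi
        obtain ⟨y, hy, hyy, e1⟩ := exists_iso1 S hn hv hv0 F₀.one_mem
        refine ⟨y, hy, hyy, by rw [e1]; exact one_ne_zero, fun e2 => ?_⟩
        have hy0 : h y (0 : V) = 0 := by
          rw [← zero_smul F (0 : V), h_smul_right hF, map_zero, zero_mul]
        have e3 := congrArg (fun x => h y x) e
        simp only [h_add_right hF, h_smul_right hF, e1, e2, mul_zero, add_zero, mul_one, hy0] at e3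
        have hs0 : s = 0 := (map_eq_zero σ).1 e3
        rw [hs0, zero_smul, zero_add, smul_eq_zero] at e
        exact e.elim (hne hs0) hw0
    obtain ⟨h1, h1'⟩ := hprod hw hww hy hyy (fun e => hyw (by rw [← h_swap hF, e, map_zero]))
    obtain ⟨h2, h2'⟩ := hprod hv hvv hy hyy (fun e => hyv (by rw [← h_swap hF, e, map_zero]))
    have hyc : σ (c y) ≠ 0 := right_ne_zero_of_mul h1'
    rw [show c w / c v = (c w * σ (c y)) / (c v * σ (c y)) by rw [mul_div_mul_right _ _ hyc]]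
    exact F₀.div_mem h1 h2
  have hcv : c v ≠ 0 := fun e => hv0 (hginj (show (g : Mn) *ᵥ v = (g : Mn) *ᵥ 0 by
    rw [hcr v hv hvv, e, zero_smul, Matrix.mulVec_zero]))
  have hiso : ∀ w, IsR F₀ P w → h w w = 0 →
      ∃ r', IsR F₀ P r' ∧ (g : Mn) *ᵥ w = c v • r' := fun w hw hww => by
    by_cases hw0 : w = 0
    · exact ⟨0, IsR.zero, by rw [hw0, Matrix.mulVec_zero, smul_zero]⟩
    exact ⟨(c w / c v) • r w, (hr w hw hww).smul (hrel hw hww hw0), by
      rw [hcr w hw hww, smul_smul, mul_div_cancel₀ _ hcv]⟩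
  refine hgS (mem_of_entries (P := P) hcv
    (N := Matrix.of fun i j => (((P⁻¹ : GL (Fin n) F) : Mn) *ᵥ ((c v)⁻¹ • ((g : Mn) *ᵥ col P j))) i)
    (fun i j => ?_) ?_)
  · obtain ⟨a, b, ha, haa, hb, hbb, μ, hμ, e⟩ := exists_decomp S hn (col_rat (F₀ := F₀) (P := P) j)
    obtain ⟨ra, hra, ea⟩ := hiso a ha haa
    obtain ⟨rb, hrb, eb⟩ := hiso b hb hbb
    obtain ⟨z, hz, ez⟩ := hra.add (hrb.smul hμ)
    have hh : (c v)⁻¹ • ((g : Mn) *ᵥ col P j) = ra + μ • rb := by
      rw [e, Matrix.mulVec_add, Matrix.mulVec_smul, ea, eb, smul_add, smul_smul, smul_smul,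
        smul_smul, inv_mul_cancel₀ hcv, one_smul, show (c v)⁻¹ * μ * c v = μ by field_simp]
    rw [Matrix.of_apply, hh, ← ez, Matrix.mulVec_mulVec, Units.inv_mul, Matrix.one_mulVec]
    exact hz i
  · refine Matrix.ext fun i j => ?_
    rw [Matrix.smul_apply, Matrix.of_apply, Matrix.mulVec_smul, Pi.smul_apply, smul_eq_mul,
      smul_eq_mul, mul_inv_cancel_left₀ hcv]
    have e : ((P⁻¹ * g * P : GL (Fin n) F) : Mn) *ᵥ Pi.single j 1 =
        ((P⁻¹ : GL (Fin n) F) : Mn) *ᵥ ((g : Mn) *ᵥ col P j) := by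
      rw [Units.val_mul, Units.val_mul, ← Matrix.mulVec_mulVec, ← Matrix.mulVec_mulVec]; rfl
    rw [← e, Matrix.mulVec_single_one, Matrix.col_apply]

/-- An orthogonal pair of isotropic rational vectors. -/
structure Pair (q : ℕ) (F₀ : Subfield F) (P : GL (Fin n) F) (u v : Fin n → F) : Prop where
  ru : IsR F₀ P u
  rv : IsR F₀ P v
  uu : Cfsg.hermForm n F q u u = 0
  vv : Cfsg.hermForm n F q v v = 0
  uv : Cfsg.hermForm n F q u v = 0
  indep : Indep F₀ u v

variable (hF) in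
/-- `g` is the Hermitian root element with entries `a, b, c` on the plane. -/
def IsM (κ : F) (u v : Fin n → F) (a b c : F) (g : GL (Fin n) F) : Prop :=
  ∀ x, (g : Mn) *ᵥ x = x + (κ * (a * h x u + b * h x v)) • u
    + (κ * (σ b * h x u + c * h x v)) • v

theorem IsM.unique {κ : F} {u v : V} {a b c : F} {g g' : GL (Fin n) F} (e : IsM hF κ u v a b c g)
    (e' : IsM hF κ u v a b c g') : g = g' := gl_ext fun x => by rw [e x, e' x]

theorem IsM.mul {κ : F} {u v : V} (huu : h u u = 0) (hvv : h v v = 0) (huv : h u v = 0)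
    {a b c a' b' c' : F} {g g' : GL (Fin n) F} (e : IsM hF κ u v a b c g)
    (e' : IsM hF κ u v a' b' c' g') : IsM hF κ u v (a + a') (b + b') (c + c') (g * g') := fun x => by
  have hvu := h_zero (hF := hF) huv
  rw [Units.val_mul, ← Matrix.mulVec_mulVec, e' x, e]
  simp only [h_add_left, h_smul_left, huu, hvv, huv, hvu, map_add]
  module

theorem IsM.inv {κ : F} {u v : V} (huu : h u u = 0) (hvv : h v v = 0) (huv : h u v = 0)
    {a b c : F} {g : GL (Fin n) F} (e : IsM hF κ u v a b c g) :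
    IsM hF κ u v (-a) (-b) (-c) g⁻¹ := fun x => by
  have hvu := h_zero (hF := hF) huv
  have hx : (g : Mn) *ᵥ (x + (κ * (-a * h x u + -b * h x v)) • u
      + (κ * (σ (-b) * h x u + -c * h x v)) • v) = x := by
    rw [e]
    simp only [h_add_left, h_smul_left, huu, hvv, huv, hvu, map_neg]
    module
  conv_lhs => rw [← hx]
  rw [Matrix.mulVec_mulVec, Units.inv_mul, Matrix.one_mulVec]

theorem IsM.conj {κ : F} {u v : V} {a b c : F} {g k : GL (Fin n) F} (hk : k ∈ G)
    (e : IsM hF κ u v a b c g) :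
    IsM hF κ ((k : Mn) *ᵥ u) ((k : Mn) *ᵥ v) a b c (k * g * k⁻¹) := fun x => by
  obtain ⟨y, rfl⟩ : ∃ y, (k : Mn) *ᵥ y = x := ⟨((k⁻¹ : GL (Fin n) F) : Mn) *ᵥ x, by
    rw [Matrix.mulVec_mulVec, Units.mul_inv, Matrix.one_mulVec]⟩
  rw [Units.val_mul, Units.val_mul, ← Matrix.mulVec_mulVec, ← Matrix.mulVec_mulVec,
    show ((k⁻¹ : GL (Fin n) F) : Mn) *ᵥ ((k : Mn) *ᵥ y) = y by
      rw [Matrix.mulVec_mulVec, Units.inv_mul, Matrix.one_mulVec],
    e y, Matrix.mulVec_add, Matrix.mulVec_add, Matrix.mulVec_smul, Matrix.mulVec_smul,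
    G_isometry hk, G_isometry hk]

theorem IsM.subst {κ : F} {u v : V} {a b c : F} {g : GL (Fin n) F} (p r p' r' : F)
    (ha : σ a = a) (hc : σ c = c)
    (e : IsM hF κ (p • u + r • v) (p' • u + r' • v) a b c g) :
    IsM hF κ u v (a * p * σ p + b * p * σ p' + σ b * p' * σ p + c * p' * σ p')
      (a * p * σ r + b * p * σ r' + σ b * p' * σ r + c * p' * σ r')
      (a * r * σ r + b * r * σ r' + σ b * r' * σ r + c * r' * σ r') g := fun x => by
  rw [e x]
  simp only [h_add_right hF, h_smul_right hF, map_add, map_mul, frob_frob hF, ha, hc]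
  module

theorem isT_of_IsM {κ : F} {u v : V} {c : F} {g : GL (Fin n) F} (e : IsM hF κ u v 0 0 c g) :
    IsT q v (κ * c) g := fun x => by
  rw [e x, map_zero]; module

theorem IsM_of_isT {κ : F} {u v : V} {a : F} {g : GL (Fin n) F} (e : IsT q u (κ * a) g) :
    IsM hF κ u v a 0 0 g := fun x => by
  rw [e x, map_zero]; module

end CfsgLib.MaxSub.SubfieldGU
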