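/-
Rational symplectic vectors, Siegel elements, transitivity.
-/
import Cfsg.Agent.Lib.MaxSub.SubspaceMaximal
import Cfsg.Agent.Lib.MaxSub.RationalTools
import Cfsg.Agent.Lib.MaxSub.SubfieldMaximalSL

set_option autoImplicit false
set_option maxHeartbeats 800000

namespace CfsgLib.MaxSub.SubfieldSp

open Matrix Module Cfsg Cfsg.Geo CfsgLib.MaxSub.Rational
open CfsgLib.Aschbacher (sT sT_mem sT_mulVec sympForm_alt isRefl_sympForm)

variable {F : Type*} [Field F] {m : ℕ}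

local notation "V" => (Fin m ⊕ Fin m → F)
local notation "M2m" => Matrix (Fin m ⊕ Fin m) (Fin m ⊕ Fin m) F
local notation "B" => Cfsg.sympForm m F

/-- The scaled form. -/
def pairing (ζ : F) (u v : Fin m ⊕ Fin m → F) : F := ζ * Cfsg.sympForm m F u v

/-- The transvection with parameter relative to the scaled form. -/
def T (ζ : F) (v : Fin m ⊕ Fin m → F) (s : F) : GL (Fin m ⊕ Fin m) F := sT v (ζ * s)

/-- The rational vectors of the structure. -/
def IsR (F₀ : Subfield F) (P : GL (Fin m ⊕ Fin m) F) (v : Fin m ⊕ Fin m → F) : Prop :=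
  ∃ u, Rat F₀ u ∧ (P : M2m) *ᵥ u = v

/-- The structure. -/
structure RS (F₀ : Subfield F) (ζ : F) (P : GL (Fin m ⊕ Fin m) F) : Prop where
  ne : ζ ≠ 0
  rat : IsFormRationalStructure (Cfsg.sympForm m F) F₀ ζ P

variable {ζ : F} {F₀ : Subfield F} {P : GL (Fin m ⊕ Fin m) F}

local notation "f" => pairing ζ

theorem gl_ext {g g' : GL (Fin m ⊕ Fin m) F} (e : ∀ y, (g : M2m) *ᵥ y = (g' : M2m) *ᵥ y) : g = g' :=
  Units.ext (Matrix.ext_of_mulVec_single fun _ => e _)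

@[simp] theorem f_add_left (u v w : V) : f (u + v) w = f u w + f v w := by
  simp only [pairing, (isRefl_sympForm m).sesq.add_left, mul_add]

@[simp] theorem f_add_right (u v w : V) : f u (v + w) = f u v + f u w := by
  simp only [pairing, (isRefl_sympForm m).sesq.add_right, mul_add]

@[simp] theorem f_smul_left (c : F) (u w : V) : f (c • u) w = c * f u w := by
  simp only [pairing, (isRefl_sympForm m).sesq.smul_left]; ring

@[simp] theorem f_smul_right (c : F) (u w : V) : f u (c • w) = c * f u w := by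
  simp only [pairing, (isRefl_sympForm m).sesq.smul_right, RingEquiv.refl_apply]; ring

@[simp] theorem f_self (u : V) : f u u = 0 := by rw [pairing, sympForm_alt, mul_zero]

theorem f_swap (u v : V) : f v u = -f u v := by
  have h := f_self (ζ := ζ) (u + v)
  rw [f_add_left, f_add_right, f_add_right, f_self, f_self] at h
  linear_combination h

theorem f_sub_left (u v w : V) : f (u - v) w = f u w - f v w := by
  rw [sub_eq_add_neg, ← neg_one_smul F v, f_add_left, f_smul_left]; ring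

theorem f_sub_right (u v w : V) : f u (v - w) = f u v - f u w := by
  rw [sub_eq_add_neg, ← neg_one_smul F w, f_add_right, f_smul_right]; ring

theorem f_zero_right (u : V) : f u 0 = 0 := by rw [← zero_smul F (0 : V), f_smul_right, zero_mul]

theorem f_zero_left (u : V) : f 0 u = 0 := by rw [← zero_smul F (0 : V), f_smul_left, zero_mul]

theorem T_mulVec (v : V) (s : F) (x : V) :
    (T ζ v s : M2m) *ᵥ x = x + (s * f x v) • v := by
  rw [T, sT_mulVec, pairing]; congr 2; ring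

theorem T_mem (v : V) (s : F) : T ζ v s ∈ Cfsg.spGL m F := sT_mem _ _

theorem conj_T {k : GL (Fin m ⊕ Fin m) F} (hk : k ∈ Cfsg.spGL m F) (v : V) (s : F) :
    k * T ζ v s * k⁻¹ = T ζ ((k : M2m) *ᵥ v) s := conj_sT hk v _

theorem T_mul (v : V) (s t : F) : T ζ v s * T ζ v t = T ζ v (s + t) := gl_ext fun x => by
  simp only [Units.val_mul, ← Matrix.mulVec_mulVec, T_mulVec, f_add_left, f_smul_left, f_self]
  module

theorem T_smul (v : V) (a s : F) : T ζ (a • v) s = T ζ v (a ^ 2 * s) := gl_ext fun x => by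
  simp only [T_mulVec, f_smul_right, smul_smul]
  congr 2; ring

theorem T_zero (v : V) : T ζ v 0 = 1 := gl_ext fun x => by simp [T_mulVec]

theorem T_inv (v : V) (s : F) : (T ζ v s)⁻¹ = T ζ v (-s) :=
  inv_eq_of_mul_eq_one_right (by rw [T_mul, add_neg_cancel, T_zero])

/-- The product of three transvections on an isotropic plane. -/
def Sg (ζ : F) (a b : Fin m ⊕ Fin m → F) (m₁ m₂ m₃ : F) : GL (Fin m ⊕ Fin m) F :=
  T ζ (a + b) m₂ * T ζ a (m₁ - m₂) * T ζ b (m₃ - m₂)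

theorem Sg_mulVec {a b : V} (hab : f a b = 0) (m₁ m₂ m₃ : F) (x : V) :
    (Sg ζ a b m₁ m₂ m₃ : M2m) *ᵥ x = x + (m₁ * f x a + m₂ * f x b) • a
      + (m₂ * f x a + m₃ * f x b) • b := by
  have hba : f b a = 0 := by rw [f_swap, hab, neg_zero]
  simp only [Sg, Units.val_mul, ← Matrix.mulVec_mulVec, T_mulVec, f_add_left, f_add_right,
    f_smul_left, f_self, hab, hba]
  module

theorem Sg_single {a b : V} (hab : f a b = 0) (s : F) : Sg ζ a b s 0 0 = T ζ a s := gl_ext fun x => by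
  rw [Sg_mulVec hab, T_mulVec]; module

theorem Sg_mul {a b : V} (hab : f a b = 0) (m₁ m₂ m₃ n₁ n₂ n₃ : F) :
    Sg ζ a b m₁ m₂ m₃ * Sg ζ a b n₁ n₂ n₃ = Sg ζ a b (m₁ + n₁) (m₂ + n₂) (m₃ + n₃) :=
  gl_ext fun x => by
    have hba : f b a = 0 := by rw [f_swap, hab, neg_zero]
    simp only [Units.val_mul, ← Matrix.mulVec_mulVec, Sg_mulVec hab, f_add_left, f_smul_left,
      f_self, hab, hba]
    module

theorem Sg_subst {a b : V} (hab : f a b = 0) (p q p' q' m₁ m₂ m₃ : F) :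
    Sg ζ (p • a + q • b) (p' • a + q' • b) m₁ m₂ m₃ = Sg ζ a b
      (m₁ * p ^ 2 + 2 * m₂ * p * p' + m₃ * p' ^ 2)
      (m₁ * p * q + m₂ * (p * q' + q * p') + m₃ * p' * q')
      (m₁ * q ^ 2 + 2 * m₂ * q * q' + m₃ * q' ^ 2) := gl_ext fun x => by
  have hba : f b a = 0 := by rw [f_swap, hab, neg_zero]
  have h : f (p • a + q • b) (p' • a + q' • b) = 0 := by simp [hab, hba]
  rw [Sg_mulVec h, Sg_mulVec hab]
  simp only [f_add_right, f_smul_right]
  module

theorem conj_Sg {k : GL (Fin m ⊕ Fin m) F} (hk : k ∈ Cfsg.spGL m F) (a b : V) (m₁ m₂ m₃ : F) :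
    k * Sg ζ a b m₁ m₂ m₃ * k⁻¹ = Sg ζ ((k : M2m) *ᵥ a) ((k : M2m) *ᵥ b) m₁ m₂ m₃ := by
  rw [Sg, Sg, ← Matrix.mulVec_add, ← conj_T hk, ← conj_T hk, ← conj_T hk]
  group

theorem IsR.add {u v : V} (hu : IsR F₀ P u) (hv : IsR F₀ P v) : IsR F₀ P (u + v) := by
  obtain ⟨x, hx, rfl⟩ := hu
  obtain ⟨y, hy, rfl⟩ := hv
  exact ⟨x + y, rat_add hx hy, Matrix.mulVec_add _ _ _⟩

theorem IsR.sub {u v : V} (hu : IsR F₀ P u) (hv : IsR F₀ P v) : IsR F₀ P (u - v) := by
  obtain ⟨x, hx, rfl⟩ := hu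
  obtain ⟨y, hy, rfl⟩ := hv
  exact ⟨x - y, rat_sub hx hy, Matrix.mulVec_sub _ _ _⟩

theorem IsR.smul {c : F} (hc : c ∈ F₀) {v : V} (hv : IsR F₀ P v) : IsR F₀ P (c • v) := by
  obtain ⟨x, hx, rfl⟩ := hv
  exact ⟨c • x, rat_smul hc hx, Matrix.mulVec_smul _ _ _⟩

theorem IsR.zero : IsR F₀ P (0 : V) := ⟨0, rat_zero, Matrix.mulVec_zero _⟩

/-- A rational basis vector. -/
def col (P : GL (Fin m ⊕ Fin m) F) (i : Fin m ⊕ Fin m) : Fin m ⊕ Fin m → F :=
  (P : M2m) *ᵥ Pi.single i 1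

theorem col_rat (i : Fin m ⊕ Fin m) : IsR F₀ P (col P i) := ⟨_, rat_single i, rfl⟩

theorem eq_sum_col (P : GL (Fin m ⊕ Fin m) F) (v : V) :
    v = ∑ i, (((P⁻¹ : GL (Fin m ⊕ Fin m) F) : M2m) *ᵥ v) i • col P i := by
  have e : v = (P : M2m) *ᵥ (((P⁻¹ : GL (Fin m ⊕ Fin m) F) : M2m) *ᵥ v) := by
    rw [Matrix.mulVec_mulVec, Units.mul_inv, Matrix.one_mulVec]
  conv_lhs => rw [e, pi_eq_sum_univ' (((P⁻¹ : GL (Fin m ⊕ Fin m) F) : M2m) *ᵥ v), Matrix.mulVec_sum]
  exact Finset.sum_congr rfl fun i _ => Matrix.mulVec_smul _ _ _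

theorem f_rat (S : RS F₀ ζ P) {u v : V} (hu : IsR F₀ P u) (hv : IsR F₀ P v) : f u v ∈ F₀ := by
  obtain ⟨x, hx, rfl⟩ := hu
  obtain ⟨y, hy, rfl⟩ := hv
  exact S.rat x y hx hy

theorem T_mem_sub (S : RS F₀ ζ P) {v : V} (hv : IsR F₀ P v) {s : F} (hs : s ∈ F₀) :
    T ζ v s ∈ subfieldSubgroup F₀ P ⊓ Cfsg.spGL m F := by
  refine ⟨mem_of_maps fun w hw => ?_, T_mem v s⟩
  obtain ⟨y, hy, e⟩ := IsR.add (⟨w, hw, rfl⟩ : IsR F₀ P ((P : M2m) *ᵥ w))
    (IsR.smul (F₀.mul_mem hs (f_rat S ⟨w, hw, rfl⟩ hv)) hv)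
  exact ⟨y, hy, by rw [T_mulVec, e]⟩

theorem eq_zero_of_values (S : RS F₀ ζ P) {d : V} (h : ∀ i, f (col P i) d = 0) : d = 0 := by
  by_contra hd
  obtain ⟨-, y, hy⟩ := (isRefl_sympForm (F := F) m).nondeg d hd
  refine hy ?_
  have h0 : f y d = 0 := by
    let L : V →+ F := AddMonoidHom.mk' (fun y => f y d) fun a b => f_add_left a b d
    show L y = 0
    rw [eq_sum_col P y, map_sum]
    refine Finset.sum_eq_zero fun i _ => ?_
    show f _ d = 0
    rw [f_smul_left, h, mul_zero]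
  rw [f_swap, neg_eq_zero, pairing, mul_eq_zero, or_iff_right S.ne] at h0
  exact h0

theorem exists_value (S : RS F₀ ζ P) {v : V} (hv : v ≠ 0) : ∃ x, IsR F₀ P x ∧ f v x ≠ 0 := by
  by_contra hc
  push Not at hc
  exact hv (eq_zero_of_values S fun i => by rw [f_swap, hc _ (col_rat i), neg_zero])

/-- A vector with rational values, up to a scalar, is rational up to that scalar. -/
theorem exists_eq_smul [Finite F] (S : RS F₀ ζ P) {x : V} {c : F} (hc : c ≠ 0)
    (h : ∀ i, f (col P i) x / c ∈ F₀) : ∃ r, IsR F₀ P r ∧ x = c • r := by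
  let Φ : ((Fin m ⊕ Fin m) → F₀) → ((Fin m ⊕ Fin m) → F₀) := fun w i =>
    ⟨f (col P i) ((P : M2m) *ᵥ fun j => (w j : F)),
      f_rat S (col_rat i) ⟨_, fun j => (w j).2, rfl⟩⟩
  have hΦ : Function.Injective Φ := fun w w' e => by
    have h0 : (P : M2m) *ᵥ (fun j => (w j : F)) - (P : M2m) *ᵥ (fun j => (w' j : F)) = 0 :=
      eq_zero_of_values S fun i => by
        rw [f_sub_right, sub_eq_zero]
        exact congrArg Subtype.val (congrFun e i)
    have h1 := Matrix.mulVec_injective_iff_isUnit.2 P.isUnit (sub_eq_zero.1 h0)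
    exact funext fun j => Subtype.ext (congrFun h1 j)
  obtain ⟨w, hw⟩ := Finite.injective_iff_surjective.1 hΦ fun i => ⟨_, h i⟩
  refine ⟨_, ⟨_, fun j => (w j).2, rfl⟩, sub_eq_zero.1 (eq_zero_of_values S fun i => ?_)⟩
  have e : f (col P i) ((P : M2m) *ᵥ fun j => (w j : F)) = f (col P i) x / c :=
    congrArg Subtype.val (congrFun hw i)
  rw [f_sub_right, f_smul_right, e, mul_div_cancel₀ _ hc, sub_self]

/-- Independence over the subfield. -/
def Indep (F₀ : Subfield F) (a b : Fin m ⊕ Fin m → F) : Prop :=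
  ∀ s ∈ F₀, ∀ t ∈ F₀, s • a + t • b = 0 → s = 0 ∧ t = 0

theorem Indep.left_ne {a b : V} (h : Indep F₀ a b) : a ≠ 0 := fun e => one_ne_zero (α := F)
  (h 1 F₀.one_mem 0 F₀.zero_mem (by rw [e, smul_zero, zero_smul, add_zero])).1

theorem Indep.symm {a b : V} (h : Indep F₀ a b) : Indep F₀ b a := fun s hs t ht e =>
  (h t ht s hs (by rw [add_comm]; exact e)).symm

/-- A rational vector with values `1` and `0`. -/
theorem exists_dual (S : RS F₀ ζ P) {a b : V} (ha : IsR F₀ P a) (hb : IsR F₀ P b)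
    (hi : Indep F₀ a b) : ∃ z, IsR F₀ P z ∧ f a z = 1 ∧ f b z = 0 := by
  obtain ⟨x, hx, hbx⟩ := exists_value S hi.symm.left_ne
  set t := f a x / f b x with ht
  have htm : t ∈ F₀ := F₀.div_mem (f_rat S ha hx) (f_rat S hb hx)
  have ha' : a + (-t) • b ≠ 0 := fun e => one_ne_zero (α := F)
    (hi 1 F₀.one_mem (-t) (F₀.neg_mem htm) (by rw [one_smul]; exact e)).1
  obtain ⟨y, hy, hay⟩ := exists_value S ha'
  have hsm : f b y / f b x ∈ F₀ := F₀.div_mem (f_rat S hb hy) (f_rat S hb hx)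
  have hr : IsR F₀ P (y - (f b y / f b x) • x) := hy.sub (hx.smul hsm)
  have hval : f b (y - (f b y / f b x) • x) = 0 := by
    rw [f_sub_right, f_smul_right, div_mul_cancel₀ _ hbx, sub_self]
  have hne : f a (y - (f b y / f b x) • x) ≠ 0 := fun e => hay (by
    rw [f_sub_right, f_smul_right] at e
    rw [f_add_left, f_smul_left, ← e, ht]
    field_simp
    ring)
  exact ⟨_, hr.smul (F₀.inv_mem (f_rat S ha hr)), by rw [f_smul_right, inv_mul_cancel₀ hne],
    by rw [f_smul_right, hval, mul_zero]⟩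

/-- A rational vector orthogonal to a rational hyperbolic pair and outside its span. -/
theorem exists_out (S : RS F₀ ζ P) (hm : 2 ≤ m) {a b : V} (ha : IsR F₀ P a) (hb : IsR F₀ P b)
    (hab : f a b ≠ 0) :
    ∃ h, IsR F₀ P h ∧ f a h = 0 ∧ f b h = 0 ∧ ∀ s t : F, h ≠ s • a + t • b := by
  by_contra hc
  push Not at hc
  have hba : f b a ≠ 0 := by rw [f_swap]; exact neg_ne_zero.2 hab
  have htop : (⊤ : Submodule F V) ≤ Submodule.span F (Set.range ![a, b]) := fun x _ => by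
    rw [eq_sum_col P x]
    refine Submodule.sum_mem _ fun i _ => Submodule.smul_mem _ _ ?_
    obtain ⟨s, t, e⟩ := hc (col P i - (f a (col P i) / f a b) • b - (f b (col P i) / f b a) • a)
      (((col_rat i).sub (hb.smul (F₀.div_mem (f_rat S ha (col_rat i)) (f_rat S ha hb)))).sub
        (ha.smul (F₀.div_mem (f_rat S hb (col_rat i)) (f_rat S hb ha))))
      (by simp only [f_sub_right, f_smul_right, f_self, div_mul_cancel₀ _ hab]; ring)
      (by simp only [f_sub_right, f_smul_right, f_self, div_mul_cancel₀ _ hba]; ring)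
    rw [show col P i = (s + f b (col P i) / f b a) • a + (t + f a (col P i) / f a b) • b by
      rw [eq_comm, ← sub_eq_zero, ← sub_eq_zero.2 e.symm]; module]
    exact Submodule.add_mem _ (Submodule.smul_mem _ _ (Submodule.subset_span ⟨0, rfl⟩))
      (Submodule.smul_mem _ _ (Submodule.subset_span ⟨1, rfl⟩))
  have h1 := (Submodule.finrank_mono htop).trans (finrank_range_le_card ![a, b])
  rw [finrank_top, Module.finrank_fintype_fun_eq_card, Fintype.card_sum, Fintype.card_fin,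
    Fintype.card_fin] at h1
  omega

/-- An orthogonal pair of rational vectors. -/
structure Pair (ζ : F) (F₀ : Subfield F) (P : GL (Fin m ⊕ Fin m) F)
    (a b : Fin m ⊕ Fin m → F) : Prop where
  ra : IsR F₀ P a
  rb : IsR F₀ P b
  indep : Indep F₀ a b
  orth : pairing ζ a b = 0

theorem Pair.symm {a b : V} (h : Pair ζ F₀ P a b) : Pair ζ F₀ P b a :=
  ⟨h.rb, h.ra, h.indep.symm, by rw [f_swap, h.orth, neg_zero]⟩

theorem Pair.shear {a b : V} (h : Pair ζ F₀ P a b) : Pair ζ F₀ P (a + b) b := by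
  refine ⟨h.ra.add h.rb, h.rb, fun s hs t ht e => ?_, by simp [h.orth]⟩
  obtain ⟨h1, h2⟩ := h.indep s hs (s + t) (F₀.add_mem hs ht) (by rw [← e]; module)
  exact ⟨h1, by rw [h1, zero_add] at h2; exact h2⟩

theorem Pair.move (S : RS F₀ ζ P) {a b : V} (h : Pair ζ F₀ P a b) {u : V} (hu : IsR F₀ P u)
    {s : F} (hs : s ∈ F₀) :
    Pair ζ F₀ P (a + (s * f a u) • u) (b + (s * f b u) • u) := by
  refine ⟨h.ra.add (hu.smul (F₀.mul_mem hs (f_rat S h.ra hu))),
    h.rb.add (hu.smul (F₀.mul_mem hs (f_rat S h.rb hu))), fun s₁ hs₁ t₁ ht₁ e => ?_, ?_⟩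
  · have e1 : (s₁ • a + t₁ • b) + (s₁ * (s * f a u) + t₁ * (s * f b u)) • u = 0 := by
      rw [← e]; module
    have e2 := congrArg (fun z => f z u) e1
    simp only [f_add_left, f_smul_left, f_self, mul_zero, add_zero, f_zero_left] at e2
    refine h.indep s₁ hs₁ t₁ ht₁ ?_
    rwa [show s₁ * (s * f a u) + t₁ * (s * f b u) = s * (s₁ * f a u + t₁ * f b u) by ring,
      e2, mul_zero, zero_smul, add_zero] at e1
  · simp only [f_add_left, f_add_right, f_smul_left, f_smul_right, f_self, h.orth, f_swap b u]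
    ring

/-- Invariance under the rational transvections gives transitivity on vectors. -/
theorem trans_single (S : RS F₀ ζ P) {Φ : (Fin m ⊕ Fin m → F) → Prop}
    (hΦ : ∀ a u : V, IsR F₀ P u → ∀ s ∈ F₀, Φ a → Φ (a + (s * f a u) • u)) {a a' : V}
    (ha : IsR F₀ P a) (ha0 : a ≠ 0) (ha' : IsR F₀ P a') (ha'0 : a' ≠ 0) (h : Φ a) : Φ a' := by
  have move : ∀ {x z : V}, IsR F₀ P x → IsR F₀ P z → f x z ≠ 0 → Φ x → Φ z := by
    intro x z hx hz hxz hP
    have := hΦ x (z - x) (hz.sub hx) (f x z)⁻¹ (F₀.inv_mem (f_rat S hx hz)) hP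
    rwa [f_sub_right, f_self, sub_zero, inv_mul_cancel₀ hxz, one_smul, add_sub_cancel] at this
  obtain ⟨x, hx, hax⟩ := exists_value S ha0
  obtain ⟨y, hy, hay⟩ := exists_value S ha'0
  obtain ⟨z, hz, h1, h2⟩ : ∃ z, IsR F₀ P z ∧ f a z ≠ 0 ∧ f a' z ≠ 0 := by
    by_cases hx' : f a' x = 0
    · by_cases hy' : f a y = 0
      · exact ⟨x + y, hx.add hy, by rw [f_add_right, hy', add_zero]; exact hax,
          by rw [f_add_right, hx', zero_add]; exact hay⟩
      · exact ⟨y, hy, hy', hay⟩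
    · exact ⟨x, hx, hax, hx'⟩
  exact move hz ha' (by rw [f_swap]; exact neg_ne_zero.2 h2) (move ha hz h1 h)

/-- Invariance under the rational transvections gives transitivity on orthogonal pairs. -/
theorem trans_pairs (S : RS F₀ ζ P) {Φ : (Fin m ⊕ Fin m → F) → (Fin m ⊕ Fin m → F) → Prop}
    (hΦ : ∀ a b u : V, IsR F₀ P u → ∀ s ∈ F₀, Φ a b →
      Φ (a + (s * f a u) • u) (b + (s * f b u) • u)) {a b a' b' : V}
    (hab : Pair ζ F₀ P a b) (hab' : Pair ζ F₀ P a' b') (h : Φ a b) : Φ a' b' := by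
  obtain ⟨b₁, hb₁, h1⟩ := trans_single S (Φ := fun x => ∃ y, Pair ζ F₀ P x y ∧ Φ x y)
    (fun x u hu s hs ⟨y, hy, hP⟩ => ⟨_, hy.move S hu hs, hΦ x y u hu s hs hP⟩)
    hab.ra hab.indep.left_ne hab'.ra hab'.indep.left_ne ⟨b, hab, h⟩
  have moveB : ∀ {y z : V}, Pair ζ F₀ P a' y → Φ a' y → IsR F₀ P z → f a' z = 0 → f y z ≠ 0 →
      Pair ζ F₀ P a' z ∧ Φ a' z := by
    intro y z hy hP hz haz hyz
    have hu := hz.sub hy.rb
    have hs := F₀.inv_mem (f_rat S hy.rb hz)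
    have h2 : Pair ζ F₀ P _ _ ∧ Φ _ _ := ⟨hy.move S hu hs, hΦ a' y _ hu _ hs hP⟩
    rwa [show f y (z - y) = f y z by rw [f_sub_right, f_self, sub_zero],
      show f a' (z - y) = 0 by rw [f_sub_right, haz, hy.orth, sub_zero], mul_zero, zero_smul,
      add_zero, inv_mul_cancel₀ hyz, one_smul, add_sub_cancel] at h2
  obtain ⟨x₁, hx₁, hbx₁, hax₁⟩ := exists_dual S hb₁.rb hb₁.ra hb₁.indep.symm
  obtain ⟨x₂, hx₂, hbx₂, hax₂⟩ := exists_dual S hab'.rb hab'.ra hab'.indep.symm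
  obtain ⟨z, hz, haz, hbz, hb'z⟩ : ∃ z, IsR F₀ P z ∧ f a' z = 0 ∧ f b₁ z ≠ 0 ∧ f b' z ≠ 0 := by
    by_cases h3 : f b' x₁ = 0
    · by_cases h4 : f b₁ x₂ = 0
      · exact ⟨x₁ + x₂, hx₁.add hx₂, by rw [f_add_right, hax₁, hax₂, add_zero],
          by rw [f_add_right, h4, hbx₁, add_zero]; exact one_ne_zero,
          by rw [f_add_right, h3, hbx₂, zero_add]; exact one_ne_zero⟩
      · exact ⟨x₂, hx₂, hax₂, h4, by rw [hbx₂]; exact one_ne_zero⟩
    · exact ⟨x₁, hx₁, hax₁, by rw [hbx₁]; exact one_ne_zero, h3⟩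
  obtain ⟨hg, hPz⟩ := moveB hb₁ h1 hz haz hbz
  exact (moveB hg hPz hab'.rb hab'.orth (by rw [f_swap]; exact neg_ne_zero.2 hb'z)).2

end CfsgLib.MaxSub.SubfieldSp
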