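/-
The subfield subgroups are maximal in `Sp`.
-/
import Cfsg.Agent.Lib.MaxSub.SubfieldMaximalSpTools
import Cfsg.Agent.Lib.Aschbacher.SympProper

set_option autoImplicit false
set_option maxHeartbeats 1000000

namespace CfsgLib.MaxSub.SubfieldSp

open Matrix Module Cfsg Cfsg.Geo CfsgLib.MaxSub.Rational

variable {F : Type*} [Field F] {m : ℕ}

local notation "V" => (Fin m ⊕ Fin m → F)
local notation "M2m" => Matrix (Fin m ⊕ Fin m) (Fin m ⊕ Fin m) F

variable {ζ : F} {F₀ : Subfield F} {P : GL (Fin m ⊕ Fin m) F}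
  {K : Subgroup (GL (Fin m ⊕ Fin m) F)}

local notation "f" => pairing ζ

/-- The hypotheses on an overgroup. -/
structure Over (F₀ : Subfield F) (ζ : F) (P : GL (Fin m ⊕ Fin m) F)
    (K : Subgroup (GL (Fin m ⊕ Fin m) F)) : Prop where
  str : RS F₀ ζ P
  le : K ≤ Cfsg.spGL m F
  rat : ∀ v : Fin m ⊕ Fin m → F, IsR F₀ P v → ∀ s ∈ F₀, T ζ v s ∈ K

/-- The triple is available on all orthogonal pairs. -/
def InS (F₀ : Subfield F) (ζ : F) (P : GL (Fin m ⊕ Fin m) F)
    (K : Subgroup (GL (Fin m ⊕ Fin m) F)) (m₁ m₂ m₃ : F) : Prop :=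
  ∀ a b, Pair ζ F₀ P a b → Sg ζ a b m₁ m₂ m₃ ∈ K

/-- A nonrational long root element. -/
def Wit (F₀ : Subfield F) (ζ : F) (P : GL (Fin m ⊕ Fin m) F)
    (K : Subgroup (GL (Fin m ⊕ Fin m) F)) : Prop :=
  ∃ (v : Fin m ⊕ Fin m → F) (l : F), IsR F₀ P v ∧ v ≠ 0 ∧ l ∉ F₀ ∧ T ζ v l ∈ K

theorem mem_conj {k x : GL (Fin m ⊕ Fin m) F} (hk : k ∈ K) (hx : x ∈ K) : k * x * k⁻¹ ∈ K :=
  mul_mem (mul_mem hk hx) (inv_mem hk)

theorem InS.of_one (O : Over F₀ ζ P K) {a b : V} (hab : Pair ζ F₀ P a b) {m₁ m₂ m₃ : F}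
    (h : Sg ζ a b m₁ m₂ m₃ ∈ K) : InS F₀ ζ P K m₁ m₂ m₃ := fun _ _ hab' =>
  trans_pairs O.str (Φ := fun a b => Sg ζ a b m₁ m₂ m₃ ∈ K) (fun a b u hu s hs h => by
    have := mem_conj (O.rat u hu s hs) h
    rwa [conj_Sg (T_mem u s), T_mulVec, T_mulVec] at this) hab hab' h

theorem InS.rat (O : Over F₀ ζ P K) {m₁ m₂ m₃ : F} (h₁ : m₁ ∈ F₀) (h₂ : m₂ ∈ F₀) (h₃ : m₃ ∈ F₀) :
    InS F₀ ζ P K m₁ m₂ m₃ := fun a b hab =>
  mul_mem (mul_mem (O.rat _ (hab.ra.add hab.rb) _ h₂) (O.rat _ hab.ra _ (F₀.sub_mem h₁ h₂)))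
    (O.rat _ hab.rb _ (F₀.sub_mem h₃ h₂))

theorem InS.sub {m₁ m₂ m₃ n₁ n₂ n₃ : F} (h : InS F₀ ζ P K m₁ m₂ m₃) (h' : InS F₀ ζ P K n₁ n₂ n₃) :
    InS F₀ ζ P K (m₁ - n₁) (m₂ - n₂) (m₃ - n₃) := fun a b hab => by
  have e := Sg_mul (ζ := ζ) hab.orth (m₁ - n₁) (m₂ - n₂) (m₃ - n₃) n₁ n₂ n₃
  simp only [sub_add_cancel] at e
  have := mul_mem (h a b hab) (inv_mem (h' a b hab))
  rwa [← e, mul_inv_cancel_right] at this

theorem InS.shear {m₁ m₂ m₃ : F} (h : InS F₀ ζ P K m₁ m₂ m₃) :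
    InS F₀ ζ P K m₁ (m₂ + m₁) (m₃ + 2 * m₂ + m₁) := fun a b hab => by
  have := h _ _ hab.shear
  rw [show a + b = (1 : F) • a + (1 : F) • b by module,
    show Sg ζ ((1 : F) • a + (1 : F) • b) b m₁ m₂ m₃ =
      Sg ζ ((1 : F) • a + (1 : F) • b) ((0 : F) • a + (1 : F) • b) m₁ m₂ m₃ by simp,
    Sg_subst hab.orth] at this
  convert this using 2 <;> ring

theorem InS.swap {m₁ m₂ m₃ : F} (h : InS F₀ ζ P K m₁ m₂ m₃) : InS F₀ ζ P K m₃ m₂ m₁ :=
  fun a b hab => by
  have := h _ _ hab.symm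
  rw [show Sg ζ b a m₁ m₂ m₃ = Sg ζ ((0 : F) • a + (1 : F) • b) ((1 : F) • a + (0 : F) • b) m₁ m₂ m₃
    by simp, Sg_subst hab.orth] at this
  convert this using 2 <;> ring

theorem mem_of_sq [Finite F] (h2 : (2 : F) = 0) {c : F} (h : c * c ∈ F₀) : c ∈ F₀ := by
  haveI : Fintype F₀ := Fintype.ofFinite _
  haveI : CharP F 2 := CharTwo.of_one_ne_zero_of_two_eq_zero one_ne_zero h2
  haveI : CharP F₀ 2 := (RingHom.charP_iff _ F₀.subtype.injective 2).2 ‹_›
  obtain ⟨y, hy⟩ := FiniteField.isSquare_of_char_two (ringChar.eq F₀ 2) (⟨c * c, h⟩ : F₀)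
  have hy' : (y : F) * y = c * c := (congrArg Subtype.val hy).symm
  have hz : ((y : F) - c) ^ 2 = 0 := by linear_combination hy' + (c * c - (y : F) * c) * h2
  rw [← sub_eq_zero.1 ((pow_eq_zero_iff two_ne_zero).1 hz)]
  exact y.2

/-- The short root scalar in characteristic two. -/
theorem wit_short [Finite F] (O : Over F₀ ζ P K) (h2 : (2 : F) = 0) {a b : V}
    (hab : Pair ζ F₀ P a b) {c : F} (hc : c ∉ F₀) (h : InS F₀ ζ P K 0 c 0) : Wit F₀ ζ P K := by
  obtain ⟨z, hz, haz, hbz⟩ := exists_dual O.str hab.ra hab.rb hab.indep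
  have hzb : f z b = 0 := by rw [f_swap, hbz, neg_zero]
  have hza : f z a = -1 := by rw [f_swap, haz]
  have hp₁ : Pair ζ F₀ P (a + z) b := by
    refine ⟨hab.ra.add hz, hab.rb, fun s hs t ht e => ?_, by rw [f_add_left, hab.orth, hzb, add_zero]⟩
    have e' := congrArg (fun w => f a w) e
    simp only [f_add_right, f_smul_right, f_self, haz, hab.orth, f_zero_right] at e'
    have hs0 : s = 0 := by linear_combination e'
    exact hab.indep s hs t ht (by rw [← e, hs0]; module)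
  have hp₂ : Pair ζ F₀ P z b := by
    refine ⟨hz, hab.rb, fun s hs t ht e => ?_, hzb⟩
    have e' := congrArg (fun w => f a w) e
    simp only [f_add_right, f_smul_right, haz, hab.orth, f_zero_right] at e'
    have hs0 : s = 0 := by linear_combination e'
    exact ⟨hs0, (hab.indep s hs t ht (by rw [← e, hs0]; module)).2⟩
  refine ⟨b, c * c, hab.rb, hab.indep.symm.left_ne, fun e => hc (mem_of_sq h2 e), ?_⟩
  have key : Sg ζ (a + z) b 0 c 0 * Sg ζ a b 0 c 0 * Sg ζ z b 0 c 0 = T ζ b (c * c) :=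
    gl_ext fun x => by
      have hba : f b a = 0 := by rw [f_swap, hab.orth, neg_zero]
      simp only [Units.val_mul, ← Matrix.mulVec_mulVec, Sg_mulVec hp₁.orth, Sg_mulVec hab.orth,
        Sg_mulVec hp₂.orth, T_mulVec, f_add_left, f_add_right, f_smul_left, f_self, hab.orth, hba,
        hzb, hbz, haz, hza]
      have hneg : (-1 : F) = 1 := by linear_combination -h2
      match_scalars
      all_goals simp only [hneg]
      all_goals ring_nf
      all_goals first
        | linear_combination (c ^ 2 * f x b) * h2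
        | linear_combination (c * f x z + c * f x a + c ^ 2 * f x b) * h2
        | linear_combination (c * f x b) * h2
        | (simp [h2]; done)
  rw [← key]
  exact mul_mem (mul_mem (h _ _ hp₁) (h _ _ hab)) (h _ _ hp₂)

/-- The group induced on a plane modulo a fixed vector contains all diagonal elements. -/
theorem exists_diag [Fintype F] {u e₂ z : V} {A : AddSubgroup F}
    (hbig : ∀ p : ℕ, p.Prime → CharP F p → p ^ 2 ≤ Nat.card A)
    (hS : ∀ S : Subfield F, (∀ b ∈ A, b ∈ S) → S = ⊤)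
    (hlo : ∃ y ∈ K, (y : M2m) *ᵥ z = z ∧ ∃ t₁ t₂ : F,
      (y : M2m) *ᵥ u = u + e₂ + t₁ • z ∧ (y : M2m) *ᵥ e₂ = e₂ + t₂ • z)
    (hup : ∀ b ∈ A, ∃ y ∈ K, (y : M2m) *ᵥ z = z ∧ ∃ t₁ t₂ : F,
      (y : M2m) *ᵥ u = u + t₁ • z ∧ (y : M2m) *ᵥ e₂ = e₂ + b • u + t₂ • z)
    {s : F} (hs : s ≠ 0) : ∃ y ∈ K, ∃ σ t : F, (σ = s ∨ σ = -s) ∧ (y : M2m) *ᵥ z = z ∧
      (y : M2m) *ᵥ u = σ • u + t • z := by
  have hfin : ∀ y : GL (Fin m ⊕ Fin m) F, ∀ x : V, ((y⁻¹ : GL (Fin m ⊕ Fin m) F) : M2m) *ᵥ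
      ((y : M2m) *ᵥ x) = x := fun y x => by
    rw [Matrix.mulVec_mulVec, Units.inv_mul, Matrix.one_mulVec]
  let G2 : Subgroup (Matrix.SpecialLinearGroup (Fin 2) F) :=
    { carrier := {k | ∃ y ∈ K, (y : M2m) *ᵥ z = z ∧ ∃ t₁ t₂ : F,
        (y : M2m) *ᵥ u = k.1 0 0 • u + k.1 1 0 • e₂ + t₁ • z ∧
        (y : M2m) *ᵥ e₂ = k.1 0 1 • u + k.1 1 1 • e₂ + t₂ • z}
      one_mem' := ⟨1, K.one_mem, by simp, 0, 0, by simp, by simp⟩
      mul_mem' := by
        rintro k k' ⟨y, hy, hz, t₁, t₂, e1, e2⟩ ⟨y', hy', hz', t₁', t₂', e1', e2'⟩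
        refine ⟨y * y', K.mul_mem hy hy', ?_, k'.1 0 0 * t₁ + k'.1 1 0 * t₂ + t₁',
          k'.1 0 1 * t₁ + k'.1 1 1 * t₂ + t₂', ?_, ?_⟩
        · rw [Units.val_mul, ← Matrix.mulVec_mulVec, hz', hz]
        · rw [Units.val_mul, ← Matrix.mulVec_mulVec, e1', Matrix.mulVec_add, Matrix.mulVec_add,
            Matrix.mulVec_smul, Matrix.mulVec_smul, Matrix.mulVec_smul, e1, e2, hz, Dickson.mul_entry,
            Dickson.mul_entry]
          module
        · rw [Units.val_mul, ← Matrix.mulVec_mulVec, e2', Matrix.mulVec_add, Matrix.mulVec_add,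
            Matrix.mulVec_smul, Matrix.mulVec_smul, Matrix.mulVec_smul, e1, e2, hz, Dickson.mul_entry,
            Dickson.mul_entry]
          module
      inv_mem' := by
        rintro k ⟨y, hy, hz, t₁, t₂, e1, e2⟩
        obtain ⟨i00, i01, i10, i11⟩ := Dickson.inv_entries k
        have hd := Dickson.det_eq k
        refine ⟨y⁻¹, K.inv_mem hy, ?_, -(k.1 1 1 * t₁ - k.1 1 0 * t₂),
          -(k.1 0 0 * t₂ - k.1 0 1 * t₁), ?_, ?_⟩
        · conv_lhs => rw [← hz]
          exact hfin y _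
        · rw [i00, i10]
          conv_lhs => rw [show u = (y : M2m) *ᵥ (k.1 1 1 • u + (-k.1 1 0) • e₂
              + (-(k.1 1 1 * t₁ - k.1 1 0 * t₂)) • z) by
            rw [Matrix.mulVec_add, Matrix.mulVec_add, Matrix.mulVec_smul, Matrix.mulVec_smul,
              Matrix.mulVec_smul, e1, e2, hz]
            match_scalars <;> first | linear_combination hd | linear_combination -hd | ring]
          exact hfin y _
        · rw [i01, i11]
          conv_lhs => rw [show e₂ = (y : M2m) *ᵥ ((-k.1 0 1) • u + k.1 0 0 • e₂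
              + (-(k.1 0 0 * t₂ - k.1 0 1 * t₁)) • z) by
            rw [Matrix.mulVec_add, Matrix.mulVec_add, Matrix.mulVec_smul, Matrix.mulVec_smul,
              Matrix.mulVec_smul, e1, e2, hz]
            match_scalars <;> first | linear_combination hd | linear_combination -hd | ring]
          exact hfin y _ }
  have hlo' : Dickson.lo 1 ∈ G2 := by
    obtain ⟨y, hy, hz, t₁, t₂, e1, e2⟩ := hlo
    exact ⟨y, hy, hz, t₁, t₂, by rw [e1]; simp, by rw [e2]; simp⟩
  have hup' : ∀ b ∈ A, Dickson.up b ∈ G2 := fun b hb => by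
    obtain ⟨y, hy, hz, t₁, t₂, e1, e2⟩ := hup b hb
    exact ⟨y, hy, hz, t₁, t₂, by rw [e1]; simp, by rw [e2]; simp; abel⟩
  let d : Matrix.SpecialLinearGroup (Fin 2) F :=
    ⟨!![s, 0; 0, s⁻¹], by simp [Matrix.det_fin_two, hs]⟩
  rcases Plane.gen_top hlo' hup' hbig hS d with ⟨y, hy, hz, t₁, -, e1, -⟩ | ⟨y, hy, hz, t₁, -, e1, -⟩
  · exact ⟨y, hy, s, t₁, Or.inl rfl, hz, by rw [e1]; simp [d]⟩
  · rw [Matrix.SpecialLinearGroup.coe_neg] at e1
    exact ⟨y, hy, -s, t₁, Or.inr rfl, hz, by rw [e1]; simp [d]⟩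

/-- Two multiples of the subfield. -/
def spanTwo (F₀ : Subfield F) (β₁ β₂ : F) : AddSubgroup F where
  carrier := {x | ∃ c ∈ F₀, ∃ c' ∈ F₀, x = c * β₁ + c' * β₂}
  zero_mem' := ⟨0, F₀.zero_mem, 0, F₀.zero_mem, by ring⟩
  add_mem' := by
    rintro _ _ ⟨c, hc, c', hc', rfl⟩ ⟨d, hd, d', hd', rfl⟩
    exact ⟨c + d, F₀.add_mem hc hd, c' + d', F₀.add_mem hc' hd', by ring⟩
  neg_mem' := by
    rintro _ ⟨c, hc, c', hc', rfl⟩
    exact ⟨-c, F₀.neg_mem hc, -c', F₀.neg_mem hc', by ring⟩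

theorem spanTwo_big [Fintype F] {β₁ β₂ : F} (h₁ : β₁ ≠ 0) (h : β₂ / β₁ ∉ F₀) {p : ℕ}
    (hp : p.Prime) (hchar : CharP F p) : p ^ 2 ≤ Nat.card (spanTwo F₀ β₁ β₂) := by
  haveI : Fintype F₀ := Fintype.ofFinite _
  let g : F₀ × F₀ → spanTwo F₀ β₁ β₂ := fun x => ⟨_, x.1, x.1.2, x.2, x.2.2, rfl⟩
  have hg : Function.Injective g := by
    rintro ⟨⟨c, hc⟩, ⟨c', hc'⟩⟩ ⟨⟨d, hd⟩, ⟨d', hd'⟩⟩ e
    have e' : c * β₁ + c' * β₂ = d * β₁ + d' * β₂ := congrArg Subtype.val e
    by_cases he : c' = d'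
    · subst he
      have hcd : c = d := mul_right_cancel₀ h₁ (add_right_cancel e')
      subst hcd
      rfl
    · exfalso
      refine h ?_
      rw [show β₂ / β₁ = (d - c) / (c' - d') by
        rw [div_eq_div_iff h₁ (sub_ne_zero.2 he)]; linear_combination e']
      exact F₀.div_mem (F₀.sub_mem hd hc) (F₀.sub_mem hc' hd')
  refine le_trans ?_ (Nat.card_le_card_of_injective g hg)
  haveI : CharP F₀ p := (RingHom.charP_iff _ F₀.subtype.injective p).2 hchar
  obtain ⟨d, -, hd⟩ := FiniteField.card F₀ p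
  rw [Nat.card_eq_fintype_card, Fintype.card_prod, sq]
  exact Nat.mul_le_mul (hd ▸ Nat.le_self_pow d.ne_zero p) (hd ▸ Nat.le_self_pow d.ne_zero p)

theorem spanTwo_gen [Fintype F] {r : ℕ} (hr : r.Prime) (hc : Fintype.card F = Nat.card F₀ ^ r)
    {β₁ β₂ : F} (h₁ : β₁ ≠ 0) (h : β₂ / β₁ ∉ F₀) (S : Subfield F)
    (hS : ∀ b ∈ spanTwo F₀ β₁ β₂, b ∈ S) : S = ⊤ := by
  have hb₁ : β₁ ∈ S := hS _ ⟨1, F₀.one_mem, 0, F₀.zero_mem, by ring⟩
  refine SubfieldSL.eq_top_of_mem hr hc (fun t ht => ?_)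
    (S.div_mem (hS _ ⟨0, F₀.zero_mem, 1, F₀.one_mem, by ring⟩) hb₁) h
  rw [show t = t * β₁ / β₁ by rw [mul_div_cancel_right₀ t h₁]]
  exact S.div_mem (hS _ ⟨t, ht, 0, F₀.zero_mem, by ring⟩) hb₁

/-- A nonrational first entry. -/
theorem wit_first [Fintype F] (O : Over F₀ ζ P K) {r : ℕ} (hr : r.Prime)
    (hcard : Fintype.card F = Nat.card F₀ ^ r) {a b : V} (hab : Pair ζ F₀ P a b)
    {m₁ m₂ m₃ : F} (h : InS F₀ ζ P K m₁ m₂ m₃) (hm₁ : m₁ ∉ F₀) : Wit F₀ ζ P K := by
  have hδ := h.shear.sub h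
  rw [sub_self, show m₂ + m₁ - m₂ = m₁ by ring, show m₃ + 2 * m₂ + m₁ - m₃ = 2 * m₂ + m₁ by ring]
    at hδ
  by_cases h2 : (2 : F) = 0
  · rw [h2, zero_mul, zero_add] at hδ
    have hneg : ∀ s : F, -s = s := fun s => by linear_combination -s * h2
    have hY : Sg ζ a b m₁ 0 m₁ ∈ K := by
      have := hδ _ _ hab.symm.shear.symm
      rw [show Sg ζ a (b + a) 0 m₁ m₁ =
        Sg ζ ((1 : F) • a + (0 : F) • b) ((1 : F) • a + (1 : F) • b) 0 m₁ m₁ by
          simp [add_comm b a], Sg_subst hab.orth] at this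
      convert this using 2
      · linear_combination -m₁ * h2
      · linear_combination -m₁ * h2
      · ring
    obtain ⟨z, hz, haz, hbz⟩ := exists_dual O.str hab.ra hab.rb hab.indep
    have hzb : f z b = 0 := by rw [f_swap, hbz, neg_zero]
    have hzero : T ζ a (0 : F) ∈ K := O.rat a hab.ra _ F₀.zero_mem
    have key : ∀ {s : F}, s ≠ 0 → ∃ y ∈ K, ∃ σ t : F, (σ = s ∨ σ = -s) ∧
        (y : M2m) *ᵥ (0 : V) = 0 ∧ (y : M2m) *ᵥ a = σ • a + t • (0 : V) := by
      intro s hs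
      refine exists_diag (A := spanTwo F₀ 1 m₁) (e₂ := z)
        (fun p hp hch => spanTwo_big one_ne_zero (by rwa [div_one]) hp hch)
        (fun S hS => spanTwo_gen hr hcard one_ne_zero (by rwa [div_one]) S hS) ?_ ?_ hs
      · exact ⟨_, O.rat z hz 1 F₀.one_mem, Matrix.mulVec_zero _, 0, 0,
          by rw [T_mulVec, haz, one_mul, smul_zero, add_zero, one_smul],
          by rw [T_mulVec, f_self]; simp⟩
      · rintro _ ⟨c, hc, c', hc', rfl⟩
        by_cases hc0 : c' = 0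
        · refine ⟨_, O.rat a hab.ra c hc, Matrix.mulVec_zero _, 0, 0, ?_, ?_⟩
          · rw [T_mulVec, f_self]; simp
          · rw [T_mulVec, f_swap a z, haz, hc0, mul_neg, mul_one, hneg]; simp
        · obtain ⟨w, hw⟩ : ∃ w ∈ F₀, w ^ 2 = c' := by
            haveI : Fintype F₀ := Fintype.ofFinite _
            haveI : CharP F 2 := CharTwo.of_one_ne_zero_of_two_eq_zero one_ne_zero h2
            haveI : CharP F₀ 2 := (RingHom.charP_iff _ F₀.subtype.injective 2).2 ‹_›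
            obtain ⟨y, hy⟩ := FiniteField.isSquare_of_char_two (ringChar.eq F₀ 2) (⟨c', hc'⟩ : F₀)
            exact ⟨y, y.2, by rw [sq]; exact (congrArg Subtype.val hy).symm⟩
          have hw0 : w ≠ 0 := fun e => hc0 (by rw [← hw.2, e]; ring)
          have hp : Pair ζ F₀ P (w • a) b := ⟨hab.ra.smul hw.1, hab.rb,
            fun s hs t ht e => by
              obtain ⟨h1, h2⟩ := hab.indep (s * w) (F₀.mul_mem hs hw.1) t ht (by rw [← e]; module)
              exact ⟨(mul_eq_zero.1 h1).resolve_right hw0, h2⟩,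
            by rw [f_smul_left, hab.orth, mul_zero]⟩
          refine ⟨_, K.mul_mem (O.rat a hab.ra c hc) (InS.of_one O hab hY _ _ hp), Matrix.mulVec_zero _,
            0, 0, ?_, ?_⟩
          · rw [Units.val_mul, ← Matrix.mulVec_mulVec, Sg_mulVec hp.orth, T_mulVec]
            simp [hab.orth]
          · rw [Units.val_mul, ← Matrix.mulVec_mulVec, Sg_mulVec hp.orth, T_mulVec]
            simp only [f_add_left, f_smul_left, f_smul_right, f_self, hzb, f_swap a z, haz, hneg,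
              ← hw.2]
            module
    obtain ⟨s, hs⟩ : ∃ s, s * s = m₁ := by
      haveI : CharP F 2 := CharTwo.of_one_ne_zero_of_two_eq_zero one_ne_zero h2
      obtain ⟨y, hy⟩ := FiniteField.isSquare_of_char_two (ringChar.eq F 2) m₁
      exact ⟨y, hy.symm⟩
    obtain ⟨y, hy, σ, t, hσ, -, e⟩ := key (s := s) (fun e => hm₁ (by
      rw [← hs, e, mul_zero]; exact F₀.zero_mem))
    rw [smul_zero, add_zero] at e
    have := mem_conj hy (O.rat a hab.ra 1 F₀.one_mem)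
    rw [conj_T (O.le hy), e, T_smul, mul_one] at this
    refine ⟨a, σ ^ 2, hab.ra, hab.indep.left_ne, ?_, this⟩
    rw [show σ ^ 2 = m₁ by rcases hσ with rfl | rfl <;> linear_combination hs]
    exact hm₁
  · have hδ2 := (hδ.shear.sub hδ).swap
    simp only [add_zero, sub_self] at hδ2
    rw [show 2 * m₂ + m₁ + 2 * m₁ - (2 * m₂ + m₁) = 2 * m₁ by ring] at hδ2
    have := hδ2 a b hab
    rw [Sg_single hab.orth] at this
    refine ⟨a, _, hab.ra, hab.indep.left_ne, fun e => hm₁ ?_, this⟩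
    have h2m : (2 : F) ∈ F₀ := by simpa [one_add_one_eq_two] using F₀.add_mem F₀.one_mem F₀.one_mem
    rw [show m₁ = 2 * m₁ / 2 by rw [mul_div_cancel_left₀ _ h2]]
    exact F₀.div_mem e h2m

/-- A nonrational entry. -/
theorem wit_of_InS [Fintype F] (O : Over F₀ ζ P K) {r : ℕ} (hr : r.Prime)
    (hcard : Fintype.card F = Nat.card F₀ ^ r) {a b : V} (hab : Pair ζ F₀ P a b)
    {m₁ m₂ m₃ : F} (h : InS F₀ ζ P K m₁ m₂ m₃) (hn : ¬ (m₁ ∈ F₀ ∧ m₂ ∈ F₀ ∧ m₃ ∈ F₀)) :
    Wit F₀ ζ P K := by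
  by_cases h1 : m₁ ∈ F₀
  swap
  · exact wit_first O hr hcard hab h h1
  by_cases h3 : m₃ ∈ F₀
  swap
  · exact wit_first O hr hcard hab h.swap h3
  have h2m : m₂ ∉ F₀ := fun e => hn ⟨h1, e, h3⟩
  by_cases h2 : (2 : F) = 0
  · have h' := h.sub (InS.rat O h1 F₀.zero_mem h3)
    rw [sub_self, sub_self, sub_zero] at h'
    exact wit_short O h2 hab h2m h'
  · have hδ := (h.shear.sub h).swap
    rw [show m₃ + 2 * m₂ + m₁ - m₃ = 2 * m₂ + m₁ by ring] at hδ
    refine wit_first O hr hcard hab hδ fun e => h2m ?_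
    have h2c : (2 : F) ∈ F₀ := by simpa [one_add_one_eq_two] using F₀.add_mem F₀.one_mem F₀.one_mem
    rw [show m₂ = (2 * m₂ + m₁ - m₁) / 2 by rw [add_sub_cancel_right, mul_div_cancel_left₀ _ h2]]
    exact F₀.div_mem (F₀.sub_mem e h1) h2c

/-- An orthogonal pair on which the functional of a centre is irrational. -/
theorem exists_pair [Finite F] (O : Over F₀ ζ P K) (hm : 2 ≤ m) {x : V}
    (hx : ∀ (c : F) w, IsR F₀ P w → x ≠ c • w) :
    ∃ u u', Pair ζ F₀ P u u' ∧ f u x ≠ 0 ∧ (f u' x / f u x) ^ 2 ∉ F₀ := by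
  have S := O.str
  suffices h : ∃ u u', Pair ζ F₀ P u u' ∧ f u x ≠ 0 ∧ f u' x / f u x ∉ F₀ by
    obtain ⟨u, u', hp, hd, hρ⟩ := h
    by_cases h2 : (f u' x / f u x) ^ 2 ∈ F₀
    · by_cases hc2 : (2 : F) = 0
      · rw [sq] at h2; exact absurd (mem_of_sq hc2 h2) hρ
      · refine ⟨u, u' + u, hp.symm.shear.symm, hd, fun e => hρ ?_⟩
        rw [f_add_left, add_div, div_self hd] at e
        have h2c : (2 : F) ∈ F₀ := by
          simpa [one_add_one_eq_two] using F₀.add_mem F₀.one_mem F₀.one_mem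
        rw [show f u' x / f u x =
          ((f u' x / f u x + 1) ^ 2 - (f u' x / f u x) ^ 2 - 1) / 2 by field_simp; ring]
        exact F₀.div_mem (F₀.sub_mem (F₀.sub_mem e h2) F₀.one_mem) h2c
    · exact ⟨u, u', hp, hd, h2⟩
  obtain ⟨v, w, hv, hw, hvx, hρ⟩ : ∃ v w, IsR F₀ P v ∧ IsR F₀ P w ∧ f v x ≠ 0 ∧
      f w x / f v x ∉ F₀ := by
    obtain ⟨i, hi⟩ : ∃ i, f (col P i) x ≠ 0 := by
      by_contra hc
      push Not at hc
      exact hx 0 0 IsR.zero (by rw [zero_smul]; exact eq_zero_of_values S hc)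
    by_contra hc
    push Not at hc
    obtain ⟨r, hr, e⟩ := exists_eq_smul S hi fun j => hc (col P i) (col P j) (col_rat i) (col_rat j) hi
    exact hx _ r hr e
  have hind : ∀ {a b : V}, f a x ≠ 0 → f b x / f a x ∉ F₀ → Indep F₀ a b := by
    intro a b ha hb s hs t ht e
    have e' := congrArg (fun y => f y x) e
    simp only [f_add_left, f_smul_left, f_zero_left] at e'
    by_cases ht0 : t = 0
    · rw [ht0, zero_mul, add_zero, mul_eq_zero, or_iff_left ha] at e'
      exact ⟨e', ht0⟩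
    · exfalso
      refine hb ?_
      rw [show f b x / f a x = -(s / t) by
        rw [← neg_div, div_eq_div_iff ha ht0]; linear_combination e']
      exact F₀.neg_mem (F₀.div_mem hs ht)
  by_cases hvw : f v w = 0
  · exact ⟨v, w, ⟨hv, hw, hind hvx hρ, hvw⟩, hvx, hρ⟩
  have hwv : f w v ≠ 0 := by rw [f_swap]; exact neg_ne_zero.2 hvw
  by_cases hW : ∀ h, IsR F₀ P h → f v h = 0 → f w h = 0 → f h x = 0
  · obtain ⟨h, hh, hvh, hwh, hout⟩ := exists_out S hm hv hw hvw
    have hh0 : h ≠ 0 := fun e => hout 0 0 (by rw [e]; simp)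
    obtain ⟨z, hz, hhz⟩ := exists_value S hh0
    have hc1 : f v z / f v w ∈ F₀ := F₀.div_mem (f_rat S hv hz) (f_rat S hv hw)
    have hc2 : f w z / f w v ∈ F₀ := F₀.div_mem (f_rat S hw hz) (f_rat S hw hv)
    have hc : -f v w / f h z ∈ F₀ := F₀.div_mem (F₀.neg_mem (f_rat S hv hw)) (f_rat S hh hz)
    set h' := (-f v w / f h z) • (z - (f v z / f v w) • w - (f w z / f w v) • v) with hh'def
    have hh'R : IsR F₀ P h' := ((hz.sub (hw.smul hc1)).sub (hv.smul hc2)).smul hc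
    have e1 : f v h' = 0 := by
      simp only [hh'def, f_smul_right, f_sub_right, f_self, div_mul_cancel₀ _ hvw]; ring
    have e2 : f w h' = 0 := by
      simp only [hh'def, f_smul_right, f_sub_right, f_self, div_mul_cancel₀ _ hwv]; ring
    have e3 : f h h' = -f v w := by
      have hhv : f h v = 0 := by rw [f_swap, hvh, neg_zero]
      have hhw : f h w = 0 := by rw [f_swap, hwh, neg_zero]
      simp only [hh'def, f_smul_right, f_sub_right, hhv, hhw, mul_zero, sub_zero,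
        div_mul_cancel₀ _ hhz]
    have hL : f (v + h) x = f v x := by rw [f_add_left, hW h hh hvh hwh, add_zero]
    have hL' : f (w + h') x = f w x := by rw [f_add_left, hW h' hh'R e1 e2, add_zero]
    refine ⟨v + h, w + h', ⟨hv.add hh, hw.add hh'R, hind (hL ▸ hvx) ?_, ?_⟩, hL ▸ hvx, ?_⟩
    · rw [hL, hL']; exact hρ
    · rw [f_add_left, f_add_right, f_add_right, e1, e3, f_swap w h, hwh]; ring
    · rw [hL, hL']; exact hρ
  · push Not at hW
    obtain ⟨h, hh, hvh, hwh, hhx⟩ := hW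
    by_cases h1 : f h x / f v x ∈ F₀
    · have hwx : f w x ≠ 0 := fun e => hρ (by rw [e, zero_div]; exact F₀.zero_mem)
      have h1' : f h x / f w x ∉ F₀ := fun e => hρ (by
        rw [show f w x / f v x = (f h x / f v x) / (f h x / f w x) by field_simp]
        exact F₀.div_mem h1 e)
      exact ⟨w, h, ⟨hw, hh, hind hwx h1', hwh⟩, hwx, h1'⟩
    · exact ⟨v, h, ⟨hv, hh, hind hvx h1, hvh⟩, hvx, h1⟩

/-- A second element of a basis over the subfield. -/
theorem exists_relation [Fintype F] (hc : Fintype.card F = Nat.card F₀ ^ 2) {ρ : F} (hρ : ρ ∉ F₀) :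
    ∃ α ∈ F₀, ∃ β ∈ F₀, ρ * ρ = β + ρ * α := by
  haveI : Fintype F₀ := Fintype.ofFinite _
  let g : F₀ × F₀ → F := fun p => p.1 + ρ * p.2
  have hinj : Function.Injective g := by
    rintro ⟨⟨a, ha⟩, ⟨b, hb⟩⟩ ⟨⟨c, hc⟩, ⟨d, hd⟩⟩ e
    simp only [g] at e
    by_cases hbd : b = d
    · subst hbd; simp_all
    · exact absurd (show ρ ∈ F₀ by
        rw [show ρ = (c - a) / (b - d) by rw [eq_div_iff (sub_ne_zero.2 hbd)]; linear_combination e]
        exact F₀.div_mem (F₀.sub_mem hc ha) (F₀.sub_mem hb hd)) hρ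
  have hbij : Function.Bijective g := by
    rw [Fintype.bijective_iff_injective_and_card]
    exact ⟨hinj, by rw [Fintype.card_prod, hc, sq, Nat.card_eq_fintype_card]⟩
  obtain ⟨⟨β, α⟩, h⟩ := hbij.2 (ρ * ρ)
  exact ⟨α, α.2, β, β.2, h.symm⟩

/-- A nonrational centre gives a nonrational long root element. -/
theorem wit_of_centre [Fintype F] (O : Over F₀ ζ P K) (hm : 2 ≤ m) {r : ℕ} (hr : r.Prime)
    (hc : Fintype.card F = Nat.card F₀ ^ r) {x : V} (hx : ∀ (c : F) w, IsR F₀ P w → x ≠ c • w)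
    (hT : T ζ x 1 ∈ K) : Wit F₀ ζ P K := by
  obtain ⟨u, u', hp, hd, hρ2⟩ := exists_pair O hm hx
  obtain ⟨d, hd'⟩ : ∃ d, d = f u x := ⟨_, rfl⟩
  obtain ⟨ρ, hρ⟩ : ∃ ρ, ρ = f u' x / f u x := ⟨_, rfl⟩
  rw [← hρ] at hρ2
  rw [← hd'] at hd
  obtain ⟨z, hz⟩ : ∃ z, z = u' - ρ • u := ⟨_, rfl⟩
  have hu'x : f u' x = ρ * d := by rw [hρ, hd', div_mul_cancel₀ _ (hd' ▸ hd)]
  have hu'u : f u' u = 0 := by rw [f_swap, hp.orth, neg_zero]
  have hzx : f z x = 0 := by rw [hz, f_sub_left, f_smul_left, hu'x, ← hd', sub_self]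
  have hzu : f z u = 0 := by rw [hz, f_sub_left, f_smul_left, hu'u, f_self]; ring
  have hzu' : f z u' = 0 := by rw [hz, f_sub_left, f_smul_left, hp.orth, f_self]; ring
  have hu' : u' = ρ • u + z := by rw [hz]; module
  have hdiag : ∀ {s : F}, s ≠ 0 → ∃ y ∈ K, ∃ σ t : F, (σ = s ∨ σ = -s) ∧ (y : M2m) *ᵥ z = z ∧
      (y : M2m) *ᵥ u = σ • u + t • z := by
    intro s hs
    refine exists_diag (A := spanTwo F₀ (d ^ 2) ((ρ * d) ^ 2)) (e₂ := d • x)
      (fun p hp hch => spanTwo_big (pow_ne_zero 2 hd) (by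
        rwa [mul_pow, mul_div_cancel_right₀ _ (pow_ne_zero 2 hd)]) hp hch)
      (fun S hS => spanTwo_gen hr hc (pow_ne_zero 2 hd) (by
        rwa [mul_pow, mul_div_cancel_right₀ _ (pow_ne_zero 2 hd)]) S hS) ?_ ?_ hs
    · refine ⟨_, hT, ?_, 0, 0, ?_, ?_⟩
      · rw [T_mulVec, hzx, mul_zero, zero_smul, add_zero]
      · rw [T_mulVec, ← hd', one_mul, zero_smul, add_zero]
      · rw [T_mulVec, f_smul_left, f_self]; simp
    · rintro _ ⟨c, hc, c', hc', rfl⟩
      refine ⟨_, mul_mem (O.rat u hp.ra _ (F₀.neg_mem hc)) (O.rat u' hp.rb _ (F₀.neg_mem hc')),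
        ?_, 0, c' * ρ * d ^ 2, ?_, ?_⟩
      · rw [Units.val_mul, ← Matrix.mulVec_mulVec, T_mulVec (v := u'), hzu', mul_zero, zero_smul,
          add_zero, T_mulVec, hzu, mul_zero, zero_smul, add_zero]
      · rw [Units.val_mul, ← Matrix.mulVec_mulVec, T_mulVec (v := u'), hp.orth, mul_zero, zero_smul,
          add_zero, T_mulVec, f_self]
        simp
      · rw [Units.val_mul, ← Matrix.mulVec_mulVec, T_mulVec (v := u'), T_mulVec]
        simp only [f_add_left, f_smul_left, f_swap u x, f_swap u' x, hu'u, ← hd', hu'x]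
        rw [hu']
        module
  by_contra hw
  have hall : ∀ {m₁ m₂ m₃ : F}, Sg ζ u u' m₁ m₂ m₃ ∈ K → m₁ ∈ F₀ ∧ m₂ ∈ F₀ ∧ m₃ ∈ F₀ := fun h =>
    by_contra fun hn => hw (wit_of_InS O hr hc hp (InS.of_one O hp h) hn)
  by_cases hr2 : r = 2
  · subst hr2
    have hρn : ρ ∉ F₀ := fun e => hρ2 (F₀.pow_mem e 2)
    obtain ⟨α, hα, β, hβ, hrel⟩ := exists_relation hc hρn
    obtain ⟨y, hy, σ, t, hσ, hyz, hyu⟩ := hdiag (s := ρ) (fun e => hρn (e ▸ F₀.zero_mem))
    have hσn : σ ∉ F₀ := by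
      rcases hσ with rfl | rfl
      · exact hρn
      · exact fun e => hρn (by simpa using F₀.neg_mem e)
    have e1 : (y : M2m) *ᵥ u = (σ - ρ * t) • u + t • u' := by rw [hyu, hu']; module
    have e2 : (y : M2m) *ᵥ u' = (ρ * σ - ρ * (ρ * t + 1)) • u + (ρ * t + 1) • u' := by
      conv_lhs => rw [hu', Matrix.mulVec_add, Matrix.mulVec_smul, hyz, hyu]
      rw [hu']; module
    have key : ∀ {m₁ m₂ m₃ : F}, m₁ ∈ F₀ → m₂ ∈ F₀ → m₃ ∈ F₀ →
        (y * Sg ζ u u' m₁ m₂ m₃ * y⁻¹ : GL (Fin m ⊕ Fin m) F) ∈ K := fun h1 h2 h3 =>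
      mem_conj hy (InS.rat O h1 h2 h3 u u' hp)
    by_cases h2 : (2 : F) = 0
    · have h := key (m₁ := 0) (m₂ := 1) (m₃ := 0) F₀.zero_mem F₀.one_mem F₀.zero_mem
      rw [conj_Sg (O.le hy), e1, e2, Sg_subst hp.orth] at h
      refine hσn ?_
      convert (hall h).2.1 using 1
      linear_combination -(σ * ρ * t - ρ * t - ρ ^ 2 * t ^ 2) * h2
    · have h2c : (2 : F) ∈ F₀ := by
        simpa [one_add_one_eq_two] using F₀.add_mem F₀.one_mem F₀.one_mem
      have h := key (m₁ := -β) (m₂ := -α / 2) (m₃ := 1) (F₀.neg_mem hβ)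
        (F₀.div_mem (F₀.neg_mem hα) h2c) F₀.one_mem
      rw [conj_Sg (O.le hy), e1, e2, Sg_subst hp.orth] at h
      obtain ⟨hA, hB, hC⟩ := hall h
      revert hA hB hC
      generalize eA : -β * (σ - ρ * t) ^ 2 + 2 * (-α / 2) * (σ - ρ * t) * (ρ * σ - ρ * (ρ * t + 1))
        + 1 * (ρ * σ - ρ * (ρ * t + 1)) ^ 2 = A
      generalize eB : -β * (σ - ρ * t) * t + -α / 2 * ((σ - ρ * t) * (ρ * t + 1)
        + t * (ρ * σ - ρ * (ρ * t + 1))) + 1 * (ρ * σ - ρ * (ρ * t + 1)) * (ρ * t + 1) = Bm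
      generalize eC : -β * t ^ 2 + 2 * (-α / 2) * t * (ρ * t + 1) + 1 * (ρ * t + 1) ^ 2 = C
      intro hA hB hC
      have i1 : A + ρ * (2 * Bm) + ρ ^ 2 * C = 0 := by
        rw [← eA, ← eB, ← eC]
        field_simp
        linear_combination σ ^ 2 * hrel
      have i2 : Bm + ρ * C = σ * (ρ - α / 2) := by
        rw [← eB, ← eC]
        field_simp
        linear_combination (2 * σ * t) * hrel
      have i3 : 2 * Bm + α * C = 0 := by
        by_contra hne
        refine hρn ?_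
        rw [show ρ = -(A + β * C) / (2 * Bm + α * C) by
          rw [eq_div_iff hne]; linear_combination i1 - C * hrel]
        exact F₀.div_mem (F₀.neg_mem (F₀.add_mem hA (F₀.mul_mem hβ hC)))
          (F₀.add_mem (F₀.mul_mem h2c hB) (F₀.mul_mem hα hC))
      have hη : ρ - α / 2 ≠ 0 := fun e =>
        hρn (by rw [sub_eq_zero.1 e]; exact F₀.div_mem hα h2c)
      refine hσn ?_
      rwa [show σ = C from mul_right_cancel₀ hη (by
        rw [← i2]
        field_simp
        linear_combination i3)]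
  · haveI : Fintype F₀ := Fintype.ofFinite _
    have hsq : ∀ s : F, ∃ a b c : F₀, (b : F) * b = a * c ∧
        s ^ 2 = a + 2 * ρ * b + ρ ^ 2 * c := by
      intro s
      by_cases hs : s = 0
      · exact ⟨0, 0, 0, by simp, by simp [hs]⟩
      obtain ⟨y, hy, σ, t, hσ, hyz, hyu⟩ := hdiag hs
      have e1 : (y : M2m) *ᵥ u = (σ - ρ * t) • u + t • u' := by rw [hyu, hu']; module
      have h := mem_conj hy (O.rat u hp.ra 1 F₀.one_mem)
      rw [conj_T (O.le hy), e1, ← Sg_single (a := (σ - ρ * t) • u + t • u')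
        (b := (0 : F) • u + (0 : F) • u') (by simp [f_zero_right]) 1, Sg_subst hp.orth] at h
      obtain ⟨ha, hb, hc'⟩ := hall h
      refine ⟨⟨_, ha⟩, ⟨_, hb⟩, ⟨_, hc'⟩, by simp only; ring, ?_⟩
      have : s ^ 2 = σ ^ 2 := by rcases hσ with rfl | rfl <;> ring
      rw [this]
      simp only
      ring
    choose fa fb fc hbac hs2 using hsq
    have hr3 : 3 ≤ r := by have := hr.two_le; omega
    set q₀ := Nat.card F₀ with hq₀
    have hq₀2 : 2 ≤ q₀ := by rw [hq₀, Nat.card_eq_fintype_card]; exact Fintype.one_lt_card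
    have hq : q₀ ^ 3 ≤ Fintype.card F := by rw [hc]; exact Nat.pow_le_pow_right (by omega) hr3
    classical
    let g : F → (F₀ × F₀) × Bool := fun s =>
      ((fa s, if (fa s : F) = 0 then fc s else fb s),
        decide (s = (IsSquare.sq s).choose))
    have hkey : ∀ s s', (g s).1 = (g s').1 → s ^ 2 = s' ^ 2 := by
      intro s s' e
      simp only [g, Prod.mk.injEq] at e
      obtain ⟨e1, e2⟩ := e
      have hb : (fb s : F) = fb s' ∧ (fc s : F) = fc s' := by
        by_cases h0 : (fa s : F) = 0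
        · rw [if_pos h0, if_pos (e1 ▸ h0)] at e2
          have hb0 : (fb s : F) = 0 := by
            have := hbac s; rw [h0, zero_mul] at this; exact mul_self_eq_zero.1 this
          have hb0' : (fb s' : F) = 0 := by
            have := hbac s'; rw [← e1, h0, zero_mul] at this; exact mul_self_eq_zero.1 this
          exact ⟨hb0.trans hb0'.symm, congrArg Subtype.val e2⟩
        · rw [if_neg h0, if_neg (e1 ▸ h0)] at e2
          refine ⟨congrArg Subtype.val e2, mul_left_cancel₀ h0 ?_⟩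
          rw [← hbac s, e2, hbac s', e1]
      rw [hs2 s, hs2 s', e1, hb.1, hb.2]
    by_cases h2 : (2 : F) = 0
    · have hinj : Function.Injective fun s => (g s).1 := fun s s' e => by
        have h := hkey s s' e
        exact sub_eq_zero.1 ((pow_eq_zero_iff two_ne_zero).1
          (show (s - s') ^ 2 = 0 by linear_combination h + (s' ^ 2 - s * s') * h2))
      have h1 := Fintype.card_le_of_injective _ hinj
      rw [Fintype.card_prod, ← Nat.card_eq_fintype_card (α := F₀), ← hq₀] at h1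
      nlinarith
    · have hinj : Function.Injective g := fun s s' e => by
        have h := hkey s s' (congrArg Prod.fst e)
        have hb := congrArg Prod.snd e
        simp only [g, decide_eq_decide] at hb
        have hc1 := (IsSquare.sq s).choose_spec
        generalize hcs : (IsSquare.sq s).choose = w at hb hc1
        have hw' : (IsSquare.sq s').choose = w := by rw [← hcs]; congr 1; ext; rw [h]
        rw [hw'] at hb
        have hc2 : s' ^ 2 = w * w := h ▸ hc1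
        rcases mul_self_eq_mul_self_iff.1 (show s * s = w * w by rw [← hc1]; ring) with h3 | h3
        · rw [h3, (hb.1 h3)]
        · rcases mul_self_eq_mul_self_iff.1 (show s' * s' = w * w by rw [← hc2]; ring) with h4 | h4
          · rw [h4, hb.2 h4]
          · rw [h3, h4]
      have h1 := Fintype.card_le_of_injective _ hinj
      rw [Fintype.card_prod, Fintype.card_prod, Fintype.card_bool,
        ← Nat.card_eq_fintype_card (α := F₀), ← hq₀] at h1
      have hq3 : 3 ≤ q₀ := by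
        rcases Nat.lt_or_ge q₀ 3 with hlt | hge
        · exfalso
          have h2F : (2 : F₀) = 0 := by
            have := FiniteField.cast_card_eq_zero F₀
            rw [← Nat.card_eq_fintype_card, ← hq₀, show q₀ = 2 by omega] at this
            exact_mod_cast this
          exact h2 (by
            have := congrArg F₀.subtype h2F
            rwa [map_ofNat, map_zero] at this)
        · exact hge
      nlinarith

/-- All rational vectors are full centres. -/
theorem centre_rat [Fintype F] (O : Over F₀ ζ P K) (hm : 2 ≤ m) {r : ℕ} (hr : r.Prime)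
    (hc : Fintype.card F = Nat.card F₀ ^ r) (hw : Wit F₀ ζ P K) :
    ∀ v, IsR F₀ P v → Centre K v := by
  obtain ⟨v₀, l, hv₀, hv₀0, hl, hT⟩ := hw
  have S := O.str
  let A : AddSubgroup F :=
    { carrier := {c | ∀ v, IsR F₀ P v → T ζ v c ∈ K}
      zero_mem' := fun v _ => by rw [T_zero]; exact K.one_mem
      add_mem' := fun h h' v hv => by rw [← T_mul]; exact K.mul_mem (h v hv) (h' v hv)
      neg_mem' := fun h v hv => by rw [← T_inv]; exact K.inv_mem (h v hv) }
  have hlA : l ∈ A := fun v hv => by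
    by_cases hv0 : v = 0
    · rw [hv0, show T ζ (0 : V) l = 1 from gl_ext fun x => by simp [T_mulVec]]; exact K.one_mem
    · exact trans_single S (Φ := fun a => T ζ a l ∈ K) (fun a u hu s hs h => by
        have := mem_conj (O.rat u hu s hs) h
        rwa [conj_T (T_mem u s), T_mulVec] at this) hv₀ hv₀0 hv hv0 hT
  have hF₀A : ∀ c ∈ F₀, c ∈ A := fun c hc v hv => O.rat v hv c hc
  have hbig : ∀ p : ℕ, p.Prime → CharP F p → p ^ 2 ≤ Nat.card A := by
    intro p hp hchar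
    haveI : Fintype F₀ := Fintype.ofFinite _
    haveI : CharP F₀ p := (RingHom.charP_iff _ F₀.subtype.injective p).2 hchar
    obtain ⟨d, -, hd⟩ := FiniteField.card F₀ p
    obtain ⟨e, -, he⟩ := FiniteField.card F p
    obtain ⟨i, -, hi⟩ := (Nat.dvd_prime_pow hp).1
      (he ▸ Nat.card_eq_fintype_card (α := F) ▸ AddSubgroup.card_addSubgroup_dvd_card A :
        Nat.card A ∣ p ^ (e : ℕ))
    have hlt : Nat.card F₀ < Nat.card A := by
      haveI : Fintype A := Fintype.ofFinite _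
      rw [Nat.card_eq_fintype_card, Nat.card_eq_fintype_card]
      refine Fintype.card_lt_of_injective_of_notMem (fun c : F₀ => (⟨c, hF₀A c c.2⟩ : A))
        (fun a b e => Subtype.ext (congrArg (fun x : A => (x : F)) e)) (b := ⟨l, hlA⟩) ?_
      rintro ⟨c, e⟩
      have : (c : F) = l := congrArg Subtype.val e
      exact hl (this ▸ c.2)
    rw [Nat.card_eq_fintype_card, hd] at hlt
    rw [hi] at hlt ⊢
    have := (Nat.pow_lt_pow_iff_right hp.one_lt).1 hlt
    exact Nat.pow_le_pow_right hp.pos (by have := d.pos; omega)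
  have hgen : ∀ T' : Subfield F, (∀ b ∈ A, b ∈ T') → T' = ⊤ := fun T' hT' =>
    SubfieldSL.eq_top_of_mem hr hc (fun c hc => hT' c (hF₀A c hc)) (hT' l hlA) hl
  obtain ⟨v, hv, hv1⟩ : ∃ v, IsR F₀ P v ∧ f v₀ v = 1 := by
    obtain ⟨x, hx, hx0⟩ := exists_value S hv₀0
    exact ⟨_, hx.smul (F₀.inv_mem (f_rat S hv₀ hx)), by rw [f_smul_right, inv_mul_cancel₀ hx0]⟩
  have hsq : ∀ s : F, T ζ v₀ (s ^ 2) ∈ K := by
    intro s
    by_cases hs : s = 0
    · rw [hs, zero_pow two_ne_zero, T_zero]; exact K.one_mem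
    obtain ⟨y, hy, σ, t, hσ, -, e⟩ := exists_diag (K := K) (u := v₀) (e₂ := v) (z := (0 : V))
      hbig hgen ⟨_, O.rat v hv 1 F₀.one_mem, Matrix.mulVec_zero _, 0, 0,
        by rw [T_mulVec, hv1, one_mul, smul_zero, add_zero, one_smul],
        by rw [T_mulVec, f_self]; simp⟩
      (fun b hb => ⟨_, A.neg_mem hb v₀ hv₀, Matrix.mulVec_zero _, 0, 0,
        by rw [T_mulVec, f_self]; simp,
        by rw [T_mulVec, f_swap v₀ v, hv1]; simp⟩) hs
    rw [smul_zero, add_zero] at e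
    have h := mem_conj hy (O.rat v₀ hv₀ 1 F₀.one_mem)
    rw [conj_T (O.le hy), e, T_smul, mul_one] at h
    rwa [show s ^ 2 = σ ^ 2 by rcases hσ with rfl | rfl <;> ring]
  have hall : ∀ c, T ζ v₀ c ∈ K := by
    intro c
    by_cases h2 : (2 : F) = 0
    · haveI : CharP F 2 := CharTwo.of_one_ne_zero_of_two_eq_zero one_ne_zero h2
      obtain ⟨y, hy⟩ := FiniteField.isSquare_of_char_two (ringChar.eq F 2) c
      rw [hy, ← sq]
      exact hsq y
    · have := K.mul_mem (K.mul_mem (hsq (c / 2 + 1)) (K.inv_mem (hsq (c / 2)))) (K.inv_mem (hsq 1))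
      rw [T_inv, T_inv, T_mul, T_mul] at this
      convert this using 2
      field_simp
      ring
  intro w hw c
  have e : CfsgLib.Aschbacher.sT w c = T ζ w (c / ζ) := by rw [T, mul_div_cancel₀ _ S.ne]
  rw [e]
  by_cases hw0 : w = 0
  · rw [hw0, show T ζ (0 : V) (c / ζ) = 1 from gl_ext fun x => by simp [T_mulVec]]; exact K.one_mem
  · exact trans_single S (Φ := fun a => T ζ a (c / ζ) ∈ K) (fun a u hu s hs h => by
      have := mem_conj (O.rat u hu s hs) h
      rwa [conj_T (T_mem u s), T_mulVec] at this) hv₀ hv₀0 hw hw0 (hall _)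

/-- The centres reach every vector. -/
theorem centre_all [Fintype F] (O : Over F₀ ζ P K) (hC : ∀ v, IsR F₀ P v → Centre K v) (v : V) :
    Centre K v := by
  have S := O.str
  have move : ∀ {x e : V}, Centre K x → Centre K e → f x e ≠ 0 → ∀ t : F, Centre K (x + t • e) := by
    intro x e hx he hxe t
    have hB : Cfsg.sympForm m F x e ≠ 0 := fun h => hxe (by rw [pairing, h, mul_zero])
    have := hx.move he (t / Cfsg.sympForm m F x e)
    rwa [div_mul_cancel₀ _ hB] at this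
  have add : ∀ {x e : V}, Centre K x → IsR F₀ P e → ∀ t : F, Centre K (x + t • e) := by
    intro x e hx he t
    by_cases ht : t = 0
    · rwa [ht, zero_smul, add_zero]
    by_cases he0 : e = 0
    · rwa [he0, smul_zero, add_zero]
    by_cases hxe : f x e = 0
    swap
    · exact move hx (hC e he) hxe t
    by_cases hgood : ∃ z, IsR F₀ P z ∧ f x z ≠ 0 ∧ f e z ≠ 0 ∧ f x z + t * f e z ≠ 0
    · obtain ⟨z, hz, h1, h2, h3⟩ := hgood
      have c1 := move hx (hC z hz) h1 1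
      rw [one_smul] at c1
      have c2 := move c1 (hC e he) (by
        rw [f_add_left, hxe, zero_add, f_swap]; exact neg_ne_zero.2 h2) t
      have c3 := move c2 (hC z hz) (by
        simp only [f_add_left, f_smul_left, f_self, add_zero]; exact h3) (-1)
      convert c3 using 1
      module
    push Not at hgood
    obtain ⟨z₀, hz₀, hz₀e⟩ := exists_value S he0
    have hz₀x : f x z₀ / t ∈ F₀ := by
      by_cases h : f x z₀ = 0
      · rw [h, zero_div]; exact F₀.zero_mem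
      · rw [show f x z₀ / t = -f e z₀ by
          rw [div_eq_iff ht]; linear_combination hgood z₀ hz₀ h hz₀e]
        exact F₀.neg_mem (f_rat S he hz₀)
    have hval : ∀ z, IsR F₀ P z → f x z / t ∈ F₀ := by
      have hnz : ∀ z, IsR F₀ P z → f e z ≠ 0 → f x z / t ∈ F₀ := fun z hz hez => by
        by_cases h : f x z = 0
        · rw [h, zero_div]; exact F₀.zero_mem
        · rw [show f x z / t = -f e z by rw [div_eq_iff ht]; linear_combination hgood z hz h hez]
          exact F₀.neg_mem (f_rat S he hz)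
      intro z hz
      by_cases hez : f e z = 0
      · have h1 := hnz (z + z₀) (hz.add hz₀) (by rw [f_add_right, hez, zero_add]; exact hz₀e)
        rw [f_add_right, add_div] at h1
        simpa using F₀.sub_mem h1 hz₀x
      · exact hnz z hz hez
    obtain ⟨r, hr, e'⟩ := exists_eq_smul S ht fun i => by
      rw [f_swap, neg_div]; exact F₀.neg_mem (hval _ (col_rat i))
    rw [e', ← smul_add]
    exact (hC _ (hr.add he)).smul t
  rw [eq_sum_col P v]
  generalize ((P⁻¹ : GL (Fin m ⊕ Fin m) F) : M2m) *ᵥ v = y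
  induction (Finset.univ : Finset (Fin m ⊕ Fin m)) using Finset.induction with
  | empty => rw [Finset.sum_empty]; exact hC 0 IsR.zero
  | insert i s hi ih => rw [Finset.sum_insert hi, add_comm]; exact add ih (col_rat i) _

/-- The subfield subgroup is maximal. -/
theorem sp_subfield_maximal [Fintype F] (hm : 2 ≤ m) (S : RS F₀ ζ P) {r : ℕ} (hr : r.Prime)
    (hc : Fintype.card F = Nat.card F₀ ^ r) :
    IsMaximalIn (Cfsg.spGL m F) (subfieldSubgroup F₀ P ⊓ Cfsg.spGL m F) := by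
  refine ⟨lt_of_le_of_ne inf_le_right fun e => ?_, fun K hle hKG => ?_⟩
  · exact CfsgLib.Aschbacher.spGL_not_le_subfieldSubgroup (by omega) hr hc P
      (e.ge.trans inf_le_left)
  by_cases hKH : K ≤ subfieldSubgroup F₀ P
  · exact Or.inl (le_antisymm (le_inf hKH hKG) hle)
  have O : Over F₀ ζ P K := ⟨S, hKG, fun v hv s hs => hle (T_mem_sub S hv hs)⟩
  haveI : Nonempty (Fin m ⊕ Fin m) := ⟨Sum.inl ⟨0, by omega⟩⟩
  obtain ⟨g, hgK, hgS⟩ := SetLike.not_le_iff_exists.1 hKH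
  obtain ⟨u, hu, hmov⟩ := Rational.exists_moved hgS
  have hT := mem_conj hgK (O.rat _ ⟨u, hu, rfl⟩ 1 F₀.one_mem)
  rw [conj_T (hKG hgK)] at hT
  have hw := wit_of_centre O hm hr hc (fun c w ⟨w₀, hw₀, e⟩ he => hmov c w₀ hw₀
    (by rw [Matrix.mulVec_smul, e]; exact he)) hT
  exact Or.inr (le_antisymm hKG (spGL_le_of_centre (centre_all O (centre_rat O hm hr hc hw))))

end CfsgLib.MaxSub.SubfieldSp
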