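/-
The unitary subfield subgroups are maximal in `SU`.
-/
import Cfsg.Agent.Lib.MaxSub.SubfieldMaximalGUTools
import Cfsg.Agent.Lib.MaxSub.SubfieldMaximalSp
import Cfsg.Agent.Lib.Aschbacher.UnitaryProperGeneral

set_option autoImplicit false
set_option maxHeartbeats 1000000

namespace CfsgLib.MaxSub.SubfieldGU

open Matrix Module Cfsg Cfsg.Geo CfsgLib.UnitaryTransvection CfsgLib.MaxSub.Rational
open CfsgLib.MaxSub.PairSU (IsT IsS InT gl_ext exists_T exists_S h_zero)

variable {F : Type*} [Field F] [Fintype F] {n q : ℕ} {hF : Fintype.card F = q ^ 2}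
  {F₀ : Subfield F} {P : GL (Fin n) F} {θ : F} {K : Subgroup (GL (Fin n) F)}

local notation "h" => Cfsg.hermForm n F q
local notation "σ" => frob hF
local notation "Mn" => Matrix (Fin n) (Fin n) F
local notation "V" => Fin n → F
local notation "G" => Cfsg.GU n F q ⊓ specialLinear (Fin n) F
local notation "E" => fixedField (hF := hF)
local notation "κ" => (θ - frob hF θ)

/-- The hypotheses on an overgroup. -/
structure Over (hF : Fintype.card F = q ^ 2) (F₀ : Subfield F) (P : GL (Fin n) F) (θ : F)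
    (K : Subgroup (GL (Fin n) F)) : Prop where
  str : RU hF F₀ P θ
  nine : n = 4 ∨ 5 ≤ n
  le : K ≤ Cfsg.GU n F q ⊓ specialLinear (Fin n) F
  ge : subfieldSubgroup F₀ P ⊓ (Cfsg.GU n F q ⊓ specialLinear (Fin n) F) ≤ K

variable (hF) in
/-- The Hermitian root element is in `K`. -/
def InM (K : Subgroup (GL (Fin n) F)) (θ : F) (u v : Fin n → F) (a b c : F) : Prop :=
  ∃ g ∈ K, IsM hF (θ - frob hF θ) u v a b c g

variable (hF) in
/-- A nonrational transvection with rational centre. -/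
def Wit (F₀ : Subfield F) (P : GL (Fin n) F) (θ : F) (K : Subgroup (GL (Fin n) F)) : Prop :=
  ∃ (u : Fin n → F) (l : F), IsR F₀ P u ∧ u ≠ 0 ∧ Cfsg.hermForm n F q u u = 0 ∧ frob hF l = l ∧
    l ∉ F₀ ∧ InT q K u ((θ - frob hF θ) * l)

theorem kap_skew : σ κ = -κ := by rw [map_sub, frob_frob hF]; ring

theorem kap_mem (S : RU hF F₀ P θ) : κ ∈ F₀ := F₀.sub_mem S.mem (frob_mem S.mem)

theorem kap_ne (S : RU hF F₀ P θ) : κ ≠ 0 := sub_ne_zero.2 (Ne.symm S.moved)

theorem kap_sq : σ (κ * κ) = κ * κ := by rw [map_mul, kap_skew]; ring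

theorem kap_mul_skew {a : F} (ha : σ a = a) : κ * a + σ (κ * a) = 0 := by
  rw [map_mul, kap_skew, ha]; ring

theorem isT_fix {u z : V} {c : F} {g : GL (Fin n) F} (e : IsT q u c g) (hz : h z u = 0) :
    (g : Mn) *ᵥ z = z := by rw [e z, hz, mul_zero, zero_smul, add_zero]

theorem isT_conj {u : V} {c : F} {g k : GL (Fin n) F} (hk : k ∈ G) (e : IsT q u c g) :
    IsT q ((k : Mn) *ᵥ u) c (k * g * k⁻¹) := fun x => by
  obtain ⟨y, rfl⟩ : ∃ y, (k : Mn) *ᵥ y = x := ⟨((k⁻¹ : GL (Fin n) F) : Mn) *ᵥ x, by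
    rw [Matrix.mulVec_mulVec, Units.mul_inv, Matrix.one_mulVec]⟩
  rw [Units.val_mul, Units.val_mul, ← Matrix.mulVec_mulVec, ← Matrix.mulVec_mulVec,
    show ((k⁻¹ : GL (Fin n) F) : Mn) *ᵥ ((k : Mn) *ᵥ y) = y by
      rw [Matrix.mulVec_mulVec, Units.inv_mul, Matrix.one_mulVec],
    e y, Matrix.mulVec_add, Matrix.mulVec_smul, G_isometry hk]

theorem inT_conj (O : Over hF F₀ P θ K) {u : V} {c : F} (e : InT q K u c) {k : GL (Fin n) F}
    (hk : k ∈ K) : InT q K ((k : Mn) *ᵥ u) c := by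
  obtain ⟨g, hg, hT⟩ := e
  exact ⟨_, mul_mem (mul_mem hk hg) (inv_mem hk), isT_conj (O.le hk) hT⟩

/-- Rational transvections. -/
theorem inT_rat (O : Over hF F₀ P θ K) {u : V} (hu : IsR F₀ P u) (huu : h u u = 0) {c : F}
    (hc : c ∈ F₀) (hs : c + σ c = 0) : InT q K u c := by
  obtain ⟨g, hg, hT⟩ := exists_T (hF := hF) huu hs
  refine ⟨g, O.ge ⟨mem_of_maps fun w hw => ?_, hg⟩, hT⟩
  obtain ⟨y, hy, e⟩ := IsR.add (⟨w, hw, rfl⟩ : IsR F₀ P ((P : Mn) *ᵥ w))
    (IsR.smul (F₀.mul_mem hc (h_rat O.str ⟨w, hw, rfl⟩ hu)) hu)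
  exact ⟨y, hy, by rw [hT, e]⟩

theorem inT_kap (O : Over hF F₀ P θ K) {u : V} (hu : IsR F₀ P u) (huu : h u u = 0) {a : F}
    (ha : a ∈ F₀) (hs : σ a = a) : InT q K u (κ * a) :=
  inT_rat O hu huu (F₀.mul_mem (kap_mem O.str) ha) (kap_mul_skew hs)

theorem InM.mul {u v : V} (hp : Pair q F₀ P u v) {a b c a' b' c' : F}
    (e : InM hF K θ u v a b c) (e' : InM hF K θ u v a' b' c') :
    InM hF K θ u v (a + a') (b + b') (c + c') := by
  obtain ⟨g, hg, e⟩ := e
  obtain ⟨g', hg', e'⟩ := e'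
  exact ⟨_, mul_mem hg hg', e.mul hp.uu hp.vv hp.uv e'⟩

theorem InM.sub {u v : V} (hp : Pair q F₀ P u v) {a b c a' b' c' : F}
    (e : InM hF K θ u v a b c) (e' : InM hF K θ u v a' b' c') :
    InM hF K θ u v (a - a') (b - b') (c - c') := by
  obtain ⟨g', hg', e'⟩ := e'
  rw [sub_eq_add_neg, sub_eq_add_neg, sub_eq_add_neg]
  exact e.mul hp ⟨_, inv_mem hg', e'.inv hp.uu hp.vv hp.uv⟩

theorem InM.symm {u v : V} {a b c : F} (e : InM hF K θ u v a b c) :
    InM hF K θ v u c (σ b) a := by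
  obtain ⟨g, hg, e⟩ := e
  refine ⟨g, hg, fun x => ?_⟩
  rw [e x, frob_frob hF]
  module

theorem InM.of_left {u v : V} {a : F} (e : InT q K u (κ * a)) : InM hF K θ u v a 0 0 := by
  obtain ⟨g, hg, e⟩ := e
  exact ⟨g, hg, IsM_of_isT e⟩

theorem InM.of_right {u v : V} {c : F} (e : InT q K v (κ * c)) : InM hF K θ u v 0 0 c := by
  simpa using (InM.of_left (hF := hF) (θ := θ) (v := u) e).symm

theorem InM.to_right {u v : V} {c : F} (e : InM hF K θ u v 0 0 c) : InT q K v (κ * c) := by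
  obtain ⟨g, hg, e⟩ := e
  exact ⟨g, hg, isT_of_IsM e⟩

theorem Pair.symm {u v : V} (hp : Pair q F₀ P u v) (hF : Fintype.card F = q ^ 2) :
    Pair q F₀ P v u :=
  ⟨hp.rv, hp.ru, hp.vv, hp.uu, h_zero (hF := hF) hp.uv, hp.indep.symm⟩

/-- Rational root elements. -/
theorem inM_rat (O : Over hF F₀ P θ K) {u v : V} (hp : Pair q F₀ P u v) {a b c : F}
    (ha : a ∈ F₀) (hb : b ∈ F₀) (hc : c ∈ F₀) (hsa : σ a = a) (hsc : σ c = c) :
    InM hF K θ u v a b c := by
  have hvu := h_zero (hF := hF) hp.uv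
  obtain ⟨g, hg, e⟩ := inT_kap O (hp.ru.add (hp.rv.smul (frob_mem (hF := hF) hb)))
    (by simp [h_add_left, h_add_right hF, h_smul_left, h_smul_right hF, hp.uu, hp.vv, hp.uv, hvu])
    F₀.one_mem (map_one _)
  have e0 := IsM_of_isT (hF := hF) (v := v) e
  rw [show u + σ b • v = (1 : F) • u + σ b • v by rw [one_smul],
    show IsM hF κ ((1 : F) • u + σ b • v) v (1 : F) 0 0 g ↔
      IsM hF κ ((1 : F) • u + σ b • v) ((0 : F) • u + (1 : F) • v) (1 : F) 0 0 g by simp] at e0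
  have e1 := e0.subst 1 (σ b) 0 1 (map_one _) (map_zero _)
  simp only [map_one, map_zero, frob_frob hF, mul_one, one_mul, mul_zero, zero_mul,
    add_zero] at e1
  have e2 : InM hF K θ u v 1 b (σ b * b) := ⟨g, hg, e1⟩
  have e3 := (e2.mul hp (InM.of_left (v := v) (inT_kap O hp.ru hp.uu (F₀.sub_mem ha F₀.one_mem)
    (by rw [map_sub, hsa, map_one])))).mul hp (InM.of_right (u := u) (inT_kap O hp.rv hp.vv
      (F₀.sub_mem hc (F₀.mul_mem (frob_mem (hF := hF) hb) hb))
      (by rw [map_sub, map_mul, frob_frob hF, hsc]; ring)))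
  simpa using e3

/-- Shearing a pair by a rational element. -/
theorem InM.shear (O : Over hF F₀ P θ K) {u v : V} (hp : Pair q F₀ P u v) {a b c : F}
    (hsa : σ a = a) (hsc : σ c = c) (e : InM hF K θ u v a b c) {l : F} (hl : l ∈ F₀) :
    InM hF K θ u v a (a * σ l + b) (a * (l * σ l) + (b * l + σ (b * l)) + c) := by
  have S := O.str
  have hvu := h_zero (hF := hF) hp.uv
  obtain ⟨z, hz, hzz, hzu, hzv⟩ := exists_iso2 S O.nine hp.ru hp.rv hp.indep F₀.one_mem F₀.zero_mem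
  have huz : h u z = 1 := by rw [← h_swap hF, hzu, map_one]
  have hvz : h v z = 0 := by rw [← h_swap hF, hzv, map_zero]
  obtain ⟨k, hk, hS⟩ := exists_S (hF := hF) (u := z) (v := l • v) hzz
    (by simp [h_smul_left, h_smul_right hF, hp.vv]) (by simp [h_smul_right hF, hzv])
  have hkK : k ∈ K := by
    refine O.ge ⟨mem_of_maps fun w hw => ?_, hk⟩
    obtain ⟨y, hy, e⟩ := IsR.sub (IsR.add (⟨w, hw, rfl⟩ : IsR F₀ P ((P : Mn) *ᵥ w))
      (IsR.smul (h_rat S ⟨w, hw, rfl⟩ hz) (hp.rv.smul hl)))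
      (IsR.smul (h_rat S ⟨w, hw, rfl⟩ (hp.rv.smul hl)) hz)
    exact ⟨y, hy, by rw [hS, e]⟩
  have k1 : (k : Mn) *ᵥ u = (1 : F) • u + l • v := by
    rw [hS u, huz, h_smul_right hF, hp.uv]; simp
  have k2 : (k : Mn) *ᵥ v = (0 : F) • u + (1 : F) • v := by
    rw [hS v, hvz, h_smul_right hF, hp.vv]; simp
  obtain ⟨g, hg, e⟩ := e
  have e' := e.conj hk
  rw [k1, k2] at e'
  have e1 := e'.subst 1 l 0 1 hsa hsc
  refine ⟨_, mul_mem (mul_mem hkK hg) (inv_mem hkK), ?_⟩
  convert e1 using 1 <;> simp [map_mul] <;> ring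

/-- A nonrational first entry gives a nonrational transvection. -/
theorem wit_first (O : Over hF F₀ P θ K) {u v : V} (hp : Pair q F₀ P u v) {a b c : F}
    (hsa : σ a = a) (hsc : σ c = c) (e : InM hF K θ u v a b c) (ha : a ∉ F₀) :
    Wit hF F₀ P θ K := by
  obtain ⟨ξ, hξ, hξ1⟩ := exists_tr_one O.str
  have h2 := (e.shear O hp hsa hsc (F₀.add_mem hξ F₀.one_mem)).sub hp (e.shear O hp hsa hsc hξ)
  have h1 := (e.shear O hp hsa hsc F₀.one_mem).sub hp e
  have h3 := h2.sub hp h1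
  have h4 : InM hF K θ u v 0 0 a := by
    convert h3 using 1
    · ring
    · simp only [map_add, map_one]; ring
    · simp only [map_add, map_mul, map_one]
      linear_combination (-a) * hξ1
  exact ⟨v, a, hp.rv, hp.indep.symm.left_ne, hp.vv, hsa, ha, h4.to_right⟩

/-- A nonrational entry gives a nonrational transvection. -/
theorem rat_of_not_wit (O : Over hF F₀ P θ K) (hw : ¬ Wit hF F₀ P θ K) {u v : V}
    (hp : Pair q F₀ P u v) {a b c : F} (hsa : σ a = a) (hsc : σ c = c)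
    (e : InM hF K θ u v a b c) : a ∈ F₀ ∧ b ∈ F₀ ∧ c ∈ F₀ := by
  have ha : a ∈ F₀ := by_contra fun ha => hw (wit_first O hp hsa hsc e ha)
  have hc : c ∈ F₀ := by_contra fun hc => hw (wit_first O (hp.symm hF) hsc hsa e.symm hc)
  refine ⟨ha, mem_of_trace O.str fun l hl => by_contra fun hn => hw ?_, hc⟩
  have h1 := (e.shear O hp hsa hsc hl).sub hp e
  have h2 := h1.sub hp (inM_rat O hp F₀.zero_mem (F₀.mul_mem ha (frob_mem (hF := hF) hl))
    (F₀.mul_mem ha (F₀.mul_mem hl (frob_mem (hF := hF) hl))) (map_zero _)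
    (by rw [map_mul, map_mul, frob_frob hF, hsa]; ring))
  have h3 : InM hF K θ u v 0 0 (b * l + σ (b * l)) := by
    convert h2 using 1 <;> ring
  exact ⟨v, _, hp.rv, hp.indep.symm.left_ne, hp.vv, tr_mem_fixed _, hn, h3.to_right⟩

theorem L_sum (x : V) {ι : Type*} (s : Finset ι) (f : ι → V) :
    h (∑ i ∈ s, f i) x = ∑ i ∈ s, h (f i) x :=
  map_sum (AddMonoidHom.mk' (fun y => h y x) fun a b => h_add_left a b x) f s

/-- Some isotropic rational vector is not orthogonal to a given one. -/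
theorem exists_value (S : RU hF F₀ P θ) (hn : n = 4 ∨ 5 ≤ n) {x : V} (hx : x ≠ 0) :
    ∃ u, IsR F₀ P u ∧ h u u = 0 ∧ h u x ≠ 0 := by
  by_contra hc
  push Not at hc
  refine hx (eq_zero_of_values (hF := hF) (P := P) fun i => ?_)
  obtain ⟨a, b, ha, haa, hb, hbb, μ, -, e⟩ := exists_decomp S hn (col_rat (F₀ := F₀) (P := P) i)
  rw [e, h_add_left, h_smul_left, hc a ha haa, hc b hb hbb, mul_zero, add_zero]

/-- An orthogonal pair on which the functional of a centre is irrational. -/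
theorem exists_pair (S : RU hF F₀ P θ) (hn : n = 4 ∨ 5 ≤ n) {x : V}
    (hx : ∀ (c : F) w, IsR F₀ P w → x ≠ c • w) :
    ∃ u u', Pair q F₀ P u u' ∧ h u x ≠ 0 ∧ (h u' x / h u x) * σ (h u' x / h u x) ∉ F₀ := by
  have hzero : ∀ w : V, h (0 : V) w = 0 := fun w => by
    rw [← zero_smul F (0 : V), h_smul_left, zero_mul]
  have hind : ∀ {a b : V}, h a x ≠ 0 → h b x / h a x ∉ F₀ → Indep F₀ a b := by
    intro a b ha hb s hs t ht e
    have e' := congrArg (fun y => h y x) e
    simp only [h_add_left, h_smul_left, hzero] at e'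
    by_cases ht0 : t = 0
    · rw [ht0, zero_mul, add_zero, mul_eq_zero, or_iff_left ha] at e'
      exact ⟨e', ht0⟩
    · exfalso
      refine hb ?_
      rw [show h b x / h a x = -(s / t) by
        rw [← neg_div, div_eq_div_iff ha ht0]; linear_combination e']
      exact F₀.neg_mem (F₀.div_mem hs ht)
  suffices hs : ∃ u u', Pair q F₀ P u u' ∧ h u x ≠ 0 ∧ h u' x / h u x ∉ F₀ by
    obtain ⟨u, u', hp, hd, hρ⟩ := hs
    by_contra hcon
    push Not at hcon
    refine hρ (mem_of_trace S fun l hl => ?_)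
    have h0 := hcon u u' hp hd
    have hl' := frob_mem (hF := hF) hl
    have hval : h (u' + σ l • u) x / h u x = h u' x / h u x + σ l := by
      rw [h_add_left, h_smul_left, add_div, mul_div_cancel_right₀ _ hd]
    have hp' : Pair q F₀ P u (u' + σ l • u) := by
      refine ⟨hp.ru, hp.rv.add (hp.ru.smul hl'), hp.uu, ?_, ?_, hind hd ?_⟩
      · simp [h_add_left, h_add_right hF, h_smul_left, h_smul_right hF, hp.uu, hp.vv, hp.uv,
          h_zero (hF := hF) hp.uv]
      · simp [h_add_right hF, h_smul_right hF, hp.uu, hp.uv]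
      · rw [hval]
        exact fun e => hρ (by simpa using F₀.sub_mem e hl')
    have h1 := hcon u _ hp' hd
    rw [hval] at h1
    simp only [map_add, map_mul, frob_frob hF] at h1 ⊢
    have := F₀.sub_mem (F₀.sub_mem h1 h0) (F₀.mul_mem hl' hl)
    convert this using 1
    ring
  have hx0 : x ≠ 0 := fun e => hx 0 0 IsR.zero (by rw [e, zero_smul])
  obtain ⟨v, hv, hvv, hvx⟩ := exists_value S hn hx0
  obtain ⟨w, hw, hww, hρ⟩ : ∃ w, IsR F₀ P w ∧ h w w = 0 ∧ h w x / h v x ∉ F₀ := by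
    by_contra hc
    push Not at hc
    obtain ⟨r, hr, e⟩ := exists_eq_smul S (x := x) (c := σ (h v x)) (by simpa using hvx) fun i => by
      obtain ⟨a, b, ha, haa, hb, hbb, μ, hμ, e⟩ := exists_decomp S hn (col_rat (F₀ := F₀) (P := P) i)
      rw [frob_frob hF, e, h_add_left, h_smul_left, add_div, mul_div_assoc]
      exact F₀.add_mem (hc a ha haa) (F₀.mul_mem hμ (hc b hb hbb))
    exact hx _ r hr e
  have hwx : h w x ≠ 0 := fun e => hρ (by rw [e, zero_div]; exact F₀.zero_mem)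
  by_cases hvw : h v w = 0
  · exact ⟨v, w, ⟨hv, hw, hvv, hww, hvw, hind hvx hρ⟩, hvx, hρ⟩
  by_cases hW : ∃ y, IsR F₀ P y ∧ h y y = 0 ∧ h y v = 0 ∧ h y w = 0 ∧ h y x ≠ 0
  · obtain ⟨y, hy, hyy, hyv, hyw, hyx⟩ := hW
    have hvy := h_zero (hF := hF) hyv
    have hwy := h_zero (hF := hF) hyw
    by_cases h1 : h y x / h v x ∈ F₀
    · have h1' : h y x / h w x ∉ F₀ := fun e => hρ (by
        rw [show h w x / h v x = (h y x / h v x) / (h y x / h w x) by field_simp]
        exact F₀.div_mem h1 e)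
      exact ⟨w, y, ⟨hw, hy, hww, hyy, hwy, hind hwx h1'⟩, hwx, h1'⟩
    · exact ⟨v, y, ⟨hv, hy, hvv, hyy, hvy, hind hvx h1⟩, hvx, h1⟩
  push Not at hW
  have hi := hind hvx hρ
  obtain ⟨i, hi'⟩ : ∃ i, ∀ s t : F, col P i ≠ s • v + t • w := by
    by_contra hc
    push Not at hc
    have htop : (⊤ : Submodule F V) ≤ Submodule.span F (Set.range ![v, w]) := fun y _ => by
      rw [eq_sum_col P y]
      refine Submodule.sum_mem _ fun i _ => Submodule.smul_mem _ _ ?_
      obtain ⟨s, t, e⟩ := hc i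
      rw [e]
      exact Submodule.add_mem _ (Submodule.smul_mem _ _ (Submodule.subset_span ⟨0, rfl⟩))
        (Submodule.smul_mem _ _ (Submodule.subset_span ⟨1, rfl⟩))
    have h1 := (Submodule.finrank_mono htop).trans (finrank_range_le_card ![v, w])
    rw [finrank_top, Module.finrank_fintype_fun_eq_card, Fintype.card_fin, Fintype.card_fin] at h1
    omega
  obtain ⟨a, ha, haa, hav, haw, hai⟩ := exists_iso3 S hn hv hw (col_rat i) hi hi' hvw hvv hww F₀.zero_mem
    F₀.zero_mem F₀.one_mem ⟨rfl, rfl, one_ne_zero⟩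
  have hout : ∀ s t : F, a ≠ s • v + t • w := by
    intro s t e
    have e1 : t * h w v = 0 := by
      have := hav
      rw [e, h_add_left, h_smul_left, h_smul_left, hvv, mul_zero, zero_add] at this
      exact this
    have e2 : s * h v w = 0 := by
      have := haw
      rw [e, h_add_left, h_smul_left, h_smul_left, hww, mul_zero, add_zero] at this
      exact this
    rw [mul_eq_zero, or_iff_left (fun e3 => hvw (h_zero (hF := hF) e3))] at e1
    rw [mul_eq_zero, or_iff_left hvw] at e2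
    rw [e, e1, e2, zero_smul, zero_smul, add_zero, hzero] at hai
    exact zero_ne_one hai
  obtain ⟨b, hb, hbb, hbv, hbw, hba⟩ := exists_iso3 S hn hv hw ha hi hout hvw hvv hww F₀.zero_mem F₀.zero_mem
    (frob_mem (hF := hF) (F₀.neg_mem (h_rat S hv hw)))
    ⟨rfl, rfl, (map_ne_zero σ).2 (neg_ne_zero.2 hvw)⟩
  have hab : h a b = -h v w := by rw [← h_swap hF, hba, frob_frob hF]
  have e1 : h (v + a) x = h v x := by rw [h_add_left, hW a ha haa hav haw, add_zero]
  have e2 : h (w + b) x = h w x := by rw [h_add_left, hW b hb hbb hbv hbw, add_zero]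
  refine ⟨v + a, w + b, ⟨hv.add ha, hw.add hb, ?_, ?_, ?_, hind (e1 ▸ hvx) ?_⟩, e1 ▸ hvx, ?_⟩
  · simp [h_add_left, h_add_right hF, hvv, haa, hav, h_zero (hF := hF) hav]
  · simp [h_add_left, h_add_right hF, hww, hbb, hbw, h_zero (hF := hF) hbw]
  · simp [h_add_left, h_add_right hF, hab, haw, h_zero (hF := hF) hbv]
  · rwa [e1, e2]
  · rwa [e1, e2]

variable (hF) in
/-- The fixed part of the subfield, as a subfield of the fixed field. -/
def E₀ (F₀ : Subfield F) : Subfield (fixedField (hF := hF)) :=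
  F₀.comap (fixedField (hF := hF)).subtype

theorem card_fixed_pow (S : RU hF F₀ P θ) {r : ℕ} (hc : Fintype.card F = Nat.card F₀ ^ r) :
    Nat.card E = Nat.card (E₀ hF F₀) ^ r := by
  obtain ⟨h1, h2⟩ := card_fixedField S
  have h3 : Nat.card (E₀ hF F₀) = Nat.card (F₀ ⊓ E : Subfield F) := Nat.card_congr
    { toFun := fun x => ⟨((x : E) : F), x.2, x.1.2⟩
      invFun := fun x => ⟨⟨x, x.2.2⟩, x.2.1⟩
      left_inv := fun _ => rfl
      right_inv := fun _ => rfl }
  rw [hF, h2, ← pow_mul, mul_comm, pow_mul] at hc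
  rw [h1, h3]
  exact Nat.pow_left_injective two_ne_zero hc

/-- The group induced on a plane modulo a fixed vector contains all diagonal elements. -/
theorem exists_diag {u e₂ z : V} {A : AddSubgroup E}
    (hbig : ∀ p : ℕ, p.Prime → CharP E p → p ^ 2 ≤ Nat.card A)
    (hS : ∀ S : Subfield E, (∀ b ∈ A, b ∈ S) → S = ⊤)
    (hlo : ∃ y ∈ K, (y : Mn) *ᵥ z = z ∧ ∃ t₁ t₂ : F,
      (y : Mn) *ᵥ u = u + e₂ + t₁ • z ∧ (y : Mn) *ᵥ e₂ = e₂ + t₂ • z)
    (hup : ∀ b ∈ A, ∃ y ∈ K, (y : Mn) *ᵥ z = z ∧ ∃ t₁ t₂ : F,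
      (y : Mn) *ᵥ u = u + t₁ • z ∧ (y : Mn) *ᵥ e₂ = e₂ + (b : F) • u + t₂ • z)
    {s : F} (hs : s ≠ 0) (hsE : σ s = s) :
    ∃ y ∈ K, ∃ s' t : F, (s' = s ∨ s' = -s) ∧ (y : Mn) *ᵥ z = z ∧
      (y : Mn) *ᵥ u = s' • u + t • z := by
  haveI : Fintype E := Fintype.ofFinite _
  have hfin : ∀ y : GL (Fin n) F, ∀ x : V, ((y⁻¹ : GL (Fin n) F) : Mn) *ᵥ
      ((y : Mn) *ᵥ x) = x := fun y x => by
    rw [Matrix.mulVec_mulVec, Units.inv_mul, Matrix.one_mulVec]
  let G2 : Subgroup (Matrix.SpecialLinearGroup (Fin 2) E) :=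
    { carrier := {k | ∃ y ∈ K, (y : Mn) *ᵥ z = z ∧ ∃ t₁ t₂ : F,
        (y : Mn) *ᵥ u = (k.1 0 0 : F) • u + (k.1 1 0 : F) • e₂ + t₁ • z ∧
        (y : Mn) *ᵥ e₂ = (k.1 0 1 : F) • u + (k.1 1 1 : F) • e₂ + t₂ • z}
      one_mem' := ⟨1, K.one_mem, by simp, 0, 0, by simp, by simp⟩
      mul_mem' := by
        rintro k k' ⟨y, hy, hz, t₁, t₂, e1, e2⟩ ⟨y', hy', hz', t₁', t₂', e1', e2'⟩
        refine ⟨y * y', K.mul_mem hy hy', ?_, (k'.1 0 0 : F) * t₁ + (k'.1 1 0 : F) * t₂ + t₁',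
          (k'.1 0 1 : F) * t₁ + (k'.1 1 1 : F) * t₂ + t₂', ?_, ?_⟩
        · rw [Units.val_mul, ← Matrix.mulVec_mulVec, hz', hz]
        · rw [Units.val_mul, ← Matrix.mulVec_mulVec, e1', Matrix.mulVec_add, Matrix.mulVec_add,
            Matrix.mulVec_smul, Matrix.mulVec_smul, Matrix.mulVec_smul, e1, e2, hz, Dickson.mul_entry,
            Dickson.mul_entry]
          push_cast
          module
        · rw [Units.val_mul, ← Matrix.mulVec_mulVec, e2', Matrix.mulVec_add, Matrix.mulVec_add,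
            Matrix.mulVec_smul, Matrix.mulVec_smul, Matrix.mulVec_smul, e1, e2, hz, Dickson.mul_entry,
            Dickson.mul_entry]
          push_cast
          module
      inv_mem' := by
        rintro k ⟨y, hy, hz, t₁, t₂, e1, e2⟩
        obtain ⟨i00, i01, i10, i11⟩ := Dickson.inv_entries k
        have hd : (k.1 0 0 : F) * (k.1 1 1 : F) - (k.1 0 1 : F) * (k.1 1 0 : F) = 1 := by
          exact_mod_cast congrArg (Subtype.val) (Dickson.det_eq k)
        refine ⟨y⁻¹, K.inv_mem hy, ?_, -((k.1 1 1 : F) * t₁ - (k.1 1 0 : F) * t₂),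
          -((k.1 0 0 : F) * t₂ - (k.1 0 1 : F) * t₁), ?_, ?_⟩
        · conv_lhs => rw [← hz]
          exact hfin y _
        · rw [i00, i10, Subfield.coe_neg]
          conv_lhs => rw [show u = (y : Mn) *ᵥ ((k.1 1 1 : F) • u + (-(k.1 1 0 : F)) • e₂
              + (-((k.1 1 1 : F) * t₁ - (k.1 1 0 : F) * t₂)) • z) by
            rw [Matrix.mulVec_add, Matrix.mulVec_add, Matrix.mulVec_smul, Matrix.mulVec_smul,
              Matrix.mulVec_smul, e1, e2, hz]
            match_scalars <;> first | linear_combination hd | linear_combination -hd | ring]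
          exact hfin y _
        · rw [i01, i11, Subfield.coe_neg]
          conv_lhs => rw [show e₂ = (y : Mn) *ᵥ ((-(k.1 0 1 : F)) • u + (k.1 0 0 : F) • e₂
              + (-((k.1 0 0 : F) * t₂ - (k.1 0 1 : F) * t₁)) • z) by
            rw [Matrix.mulVec_add, Matrix.mulVec_add, Matrix.mulVec_smul, Matrix.mulVec_smul,
              Matrix.mulVec_smul, e1, e2, hz]
            match_scalars <;> first | linear_combination hd | linear_combination -hd | ring]
          exact hfin y _ }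
  have hlo' : Dickson.lo 1 ∈ G2 := by
    obtain ⟨y, hy, hz, t₁, t₂, e1, e2⟩ := hlo
    exact ⟨y, hy, hz, t₁, t₂, by rw [e1]; simp, by rw [e2]; simp⟩
  have hup' : ∀ b ∈ A, Dickson.up b ∈ G2 := fun b hb => by
    obtain ⟨y, hy, hz, t₁, t₂, e1, e2⟩ := hup b hb
    exact ⟨y, hy, hz, t₁, t₂, by rw [e1]; simp, by rw [e2]; simp; abel⟩
  obtain ⟨s₁, hs₁⟩ : ∃ s₁ : E, (s₁ : F) = s := ⟨⟨s, hsE⟩, rfl⟩
  have hs₁0 : s₁ ≠ 0 := fun e => hs (by rw [← hs₁, e]; rfl)
  let d : Matrix.SpecialLinearGroup (Fin 2) E :=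
    ⟨!![s₁, 0; 0, s₁⁻¹], by simp [Matrix.det_fin_two, hs₁0]⟩
  rcases Plane.gen_top hlo' hup' hbig hS d with ⟨y, hy, hz, t₁, -, e1, -⟩ | ⟨y, hy, hz, t₁, -, e1, -⟩
  · exact ⟨y, hy, s, t₁, Or.inl rfl, hz, by rw [e1]; simp [d, hs₁]⟩
  · rw [Matrix.SpecialLinearGroup.coe_neg] at e1
    exact ⟨y, hy, -s, t₁, Or.inr rfl, hz, by rw [e1]; simp [d, hs₁]⟩

/-- The additive group of rational triples, mapped to the fixed field. -/
noncomputable def triple (hF : Fintype.card F = q ^ 2) (F₀ : Subfield F) (ρ : F) :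
    E₀ hF F₀ × F₀ × E₀ hF F₀ →+ fixedField (hF := hF) :=
  AddMonoidHom.mk' (fun m => ⟨((m.1 : fixedField (hF := hF)) : F) + ((m.2.1 : F) * frob hF ρ
      + frob hF ((m.2.1 : F) * frob hF ρ))
      + ((m.2.2 : fixedField (hF := hF)) : F) * (ρ * frob hF ρ), by
    refine Subfield.add_mem _ (Subfield.add_mem _ (m.1 : fixedField (hF := hF)).2 (tr_mem_fixed _))
      (Subfield.mul_mem _ (m.2.2 : fixedField (hF := hF)).2 ?_)
    rw [mem_fixedField, map_mul, frob_frob hF, mul_comm]⟩) fun m m' => Subtype.ext (by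
    simp only [Prod.fst_add, Prod.snd_add, Subfield.coe_add, map_add, map_mul]
    ring)

theorem triple_val (ρ : F) (m : E₀ hF F₀ × F₀ × E₀ hF F₀) :
    ((triple hF F₀ ρ m : E) : F) = ((m.1 : E) : F) + ((m.2.1 : F) * σ ρ + σ ((m.2.1 : F) * σ ρ))
      + ((m.2.2 : E) : F) * (ρ * σ ρ) := rfl

/-- A nonrational centre gives a nonrational transvection with rational centre. -/
theorem wit_of_centre (O : Over hF F₀ P θ K) {r : ℕ} (hr : r.Prime) (hro : Odd r)
    (hc : Fintype.card F = Nat.card F₀ ^ r) {x : V} (hx : ∀ (c : F) w, IsR F₀ P w → x ≠ c • w)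
    (hxx : h x x = 0) (hT : InT q K x κ) : Wit hF F₀ P θ K := by
  have S := O.str
  haveI : Fintype E := Fintype.ofFinite _
  obtain ⟨u, u', hp, hd, hρ2⟩ := exists_pair S O.nine hx
  obtain ⟨d, hd'⟩ : ∃ d, d = h u x := ⟨_, rfl⟩
  obtain ⟨ρ, hρ⟩ : ∃ ρ, ρ = h u' x / h u x := ⟨_, rfl⟩
  rw [← hρ] at hρ2
  rw [← hd'] at hd
  have hρn : ρ ∉ F₀ := fun e => hρ2 (F₀.mul_mem e (frob_mem e))
  have hu'u := h_zero (hF := hF) hp.uv
  obtain ⟨z, hz⟩ : ∃ z, z = u' - ρ • u := ⟨_, rfl⟩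
  have hu'x : h u' x = ρ * d := by rw [hρ, hd', div_mul_cancel₀ _ (hd' ▸ hd)]
  have hxu : h x u = σ d := by rw [hd', h_swap hF]
  have hxu' : h x u' = σ (ρ * d) := by rw [← hu'x, h_swap hF]
  have hzx : h z x = 0 := by rw [hz, h_sub_left, h_smul_left, hu'x, ← hd', sub_self]
  have hzu : h z u = 0 := by rw [hz, h_sub_left, h_smul_left, hu'u, hp.uu]; ring
  have hzu' : h z u' = 0 := by rw [hz, h_sub_left, h_smul_left, hp.vv, hp.uv]; ring
  have hu' : u' = ρ • u + z := by rw [hz]; module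
  have hcE := card_fixed_pow S hc
  have hN : σ (ρ * σ ρ) = ρ * σ ρ := by rw [map_mul, frob_frob hF, mul_comm]
  obtain ⟨β₁, hβ₁⟩ : ∃ β₁ : E, (β₁ : F) = κ * κ * (d * σ d) :=
    ⟨⟨_, (fixedField (hF := hF)).mul_mem kap_sq
      (show σ (d * σ d) = d * σ d by rw [map_mul, frob_frob hF, mul_comm])⟩, rfl⟩
  obtain ⟨β₂, hβ₂⟩ : ∃ β₂ : E, (β₂ : F) = κ * κ * (d * σ d) * (ρ * σ ρ) :=
    ⟨⟨_, (fixedField (hF := hF)).mul_mem ((fixedField (hF := hF)).mul_mem kap_sq
      (show σ (d * σ d) = d * σ d by rw [map_mul, frob_frob hF, mul_comm])) hN⟩, rfl⟩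
  have hβ10 : (β₁ : F) ≠ 0 := by
    rw [hβ₁]
    exact mul_ne_zero (mul_ne_zero (kap_ne S) (kap_ne S)) (mul_ne_zero hd (by simpa using hd))
  have hβ1 : β₁ ≠ 0 := fun e => hβ10 (by rw [e]; rfl)
  have hβ : β₂ / β₁ ∉ E₀ hF F₀ := fun e => hρ2 (by
    have e' : ((β₂ / β₁ : E) : F) ∈ F₀ := e
    rw [Subfield.coe_div, hβ₂, hβ₁] at e'
    rwa [mul_div_cancel_left₀ _ (hβ₁ ▸ hβ10)] at e')
  have hdiag : ∀ {s : F}, s ≠ 0 → σ s = s → ∃ y ∈ K, ∃ s' t : F, (s' = s ∨ s' = -s) ∧
      (y : Mn) *ᵥ z = z ∧ (y : Mn) *ᵥ u = s' • u + t • z := by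
    intro s hs hsE
    refine exists_diag (A := SubfieldSp.spanTwo (E₀ hF F₀) β₁ β₂) (e₂ := (κ * d) • x)
      (fun p hp hch => SubfieldSp.spanTwo_big hβ1 hβ hp hch)
      (fun T hTS => SubfieldSp.spanTwo_gen hr (by rw [← Nat.card_eq_fintype_card]; exact hcE)
        hβ1 hβ T hTS) ?_ ?_ hs hsE
    · obtain ⟨y, hy, e⟩ := hT
      refine ⟨y, hy, isT_fix e hzx, 0, 0, ?_, ?_⟩
      · rw [e u, ← hd', zero_smul, add_zero]
      · rw [e, h_smul_left, hxx]; simp
    · rintro b ⟨c, hc₀, c', hc₀', rfl⟩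
      obtain ⟨y, hy, e⟩ := inT_kap O hp.ru hp.uu (a := (c : F)) hc₀ c.2
      obtain ⟨y', hy', e'⟩ := inT_kap O hp.rv hp.vv (a := (c' : F)) hc₀' c'.2
      refine ⟨y * y', mul_mem hy hy', ?_, 0, κ * (c' : F) * (κ * d * σ (ρ * d)), ?_, ?_⟩
      · rw [Units.val_mul, ← Matrix.mulVec_mulVec, isT_fix e' hzu', isT_fix e hzu]
      · rw [Units.val_mul, ← Matrix.mulVec_mulVec, isT_fix e' hp.uv, isT_fix e hp.uu]
        simp
      · rw [Units.val_mul, ← Matrix.mulVec_mulVec, e', e]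
        simp only [h_add_left, h_smul_left, hxu, hxu', hu'u, Subfield.coe_add, Subfield.coe_mul,
          hβ₁, hβ₂, map_mul]
        rw [hu']
        module
  by_contra hw
  have hall : ∀ {a b c : F}, σ a = a → σ c = c → InM hF K θ u u' a b c →
      a ∈ F₀ ∧ b ∈ F₀ ∧ c ∈ F₀ := fun ha hc' e => rat_of_not_wit O hw hp ha hc' e
  have hyu' : ∀ {y : GL (Fin n) F} {s' t : F}, (y : Mn) *ᵥ z = z →
      (y : Mn) *ᵥ u = s' • u + t • z → (y : Mn) *ᵥ u = (s' - ρ * t) • u + t • u' ∧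
        (y : Mn) *ᵥ u' = (ρ * s' - ρ * (1 + ρ * t)) • u + (1 + ρ * t) • u' := by
    intro y s' t hyz hyu
    constructor
    · rw [hyu, hu']; module
    · conv_lhs => rw [hu', Matrix.mulVec_add, Matrix.mulVec_smul, hyz, hyu]
      rw [hu']; module
  -- the squares are values of rational triples
  have hsq : ∀ w : E, w * w ∈ (triple hF F₀ ρ).range := by
    intro w
    by_cases hw0 : w = 0
    · exact ⟨0, by rw [map_zero, hw0, mul_zero]⟩
    obtain ⟨y, hy, s', t, hs', hyz, hyu⟩ := hdiag (s := (w : F))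
      (fun e => hw0 (Subtype.ext e)) w.2
    have hsE : σ s' = s' := by
      rcases hs' with rfl | rfl
      · exact w.2
      · rw [map_neg]; exact congrArg Neg.neg w.2
    obtain ⟨e1, -⟩ := hyu' hyz hyu
    obtain ⟨g, hg, e⟩ := inT_kap O hp.ru hp.uu F₀.one_mem (map_one _)
    have e0 : IsM hF κ ((y : Mn) *ᵥ u) ((0 : F) • u + (0 : F) • u') 1 0 0 (y * g * y⁻¹) :=
      IsM_of_isT (isT_conj (O.le hy) e)
    rw [e1] at e0
    have e2 := e0.subst _ t 0 0 (map_one _) (map_zero _)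
    simp only [map_zero, mul_zero, zero_mul, add_zero, one_mul] at e2
    have fa : σ ((s' - ρ * t) * σ (s' - ρ * t)) = (s' - ρ * t) * σ (s' - ρ * t) := by
      rw [map_mul, frob_frob hF, mul_comm]
    have fc : σ (t * σ t) = t * σ t := by rw [map_mul, frob_frob hF, mul_comm]
    obtain ⟨ha, hb, hc'⟩ := hall fa fc ⟨_, mul_mem (mul_mem hy hg) (inv_mem hy), e2⟩
    refine ⟨(⟨⟨(s' - ρ * t) * σ (s' - ρ * t), fa⟩, ha⟩, ⟨(s' - ρ * t) * σ t, hb⟩,
      ⟨⟨t * σ t, fc⟩, hc'⟩), Subtype.ext ?_⟩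
    rw [triple_val, Subfield.coe_mul]
    show (s' - ρ * t) * σ (s' - ρ * t) + ((s' - ρ * t) * σ t * σ ρ
      + σ ((s' - ρ * t) * σ t * σ ρ)) + t * σ t * (ρ * σ ρ) = (w : F) * (w : F)
    simp only [map_mul, map_sub, frob_frob hF, hsE]
    rcases hs' with rfl | rfl <;> ring
  have htop : (triple hF F₀ ρ).range = ⊤ := by
    refine eq_top_iff.2 fun w _ => ?_
    by_cases h2 : (2 : E) = 0
    · haveI : CharP E 2 := CharTwo.of_one_ne_zero_of_two_eq_zero one_ne_zero h2
      obtain ⟨y, hy⟩ := FiniteField.isSquare_of_char_two (ringChar.eq E 2) w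
      exact hy ▸ hsq y
    · rw [show w = (w + 1) / 2 * ((w + 1) / 2) - (w - 1) / 2 * ((w - 1) / 2) by field_simp; ring]
      exact sub_mem (hsq _) (hsq _)
  have hr3 : 3 ≤ r := by
    rcases hro with ⟨j, hj⟩
    have := hr.two_le
    omega
  have hq₀ : 2 ≤ Nat.card (E₀ hF F₀) := Finite.one_lt_card
  have hcount : Nat.card E * Nat.card (triple hF F₀ ρ).ker = Nat.card (E₀ hF F₀) ^ 4 := by
    have e1 := AddSubgroup.card_mul_index (triple hF F₀ ρ).ker
    rw [AddSubgroup.index_ker, htop, AddSubgroup.card_top, mul_comm] at e1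
    rw [e1, Nat.card_prod, Nat.card_prod, (card_fixedField S).2]
    have h3 : Nat.card (E₀ hF F₀) = Nat.card (F₀ ⊓ E : Subfield F) := Nat.card_congr
      { toFun := fun x => ⟨((x : E) : F), x.2, x.1.2⟩
        invFun := fun x => ⟨⟨x, x.2.2⟩, x.2.1⟩
        left_inv := fun _ => rfl
        right_inv := fun _ => rfl }
    rw [h3]; ring
  rw [hcE] at hcount
  obtain ⟨⟨⟨a, b, c⟩, hM⟩, hM0⟩ : ∃ M : (triple hF F₀ ρ).ker, M ≠ 0 := by
    by_contra hker
    push Not at hker
    haveI : Subsingleton (triple hF F₀ ρ).ker := ⟨fun x y => (hker x).trans (hker y).symm⟩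
    rw [Nat.card_unique (α := (triple hF F₀ ρ).ker), mul_one] at hcount
    have := Nat.pow_right_injective hq₀ hcount
    rcases hro with ⟨j, hj⟩
    omega
  have hn0 : ((a : E) : F) + ((b : F) * σ ρ + σ ((b : F) * σ ρ)) + ((c : E) : F) * (ρ * σ ρ) = 0 :=
    congrArg Subtype.val (AddMonoidHom.mem_ker.1 hM)
  have hη : (b : F) + ρ * ((c : E) : F) ≠ 0 := by
    intro e
    have hc0 : ((c : E) : F) = 0 := by
      by_contra hc0
      refine hρn ?_
      rw [show ρ = -(b : F) / ((c : E) : F) by rw [eq_div_iff hc0]; linear_combination e]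
      exact F₀.div_mem (F₀.neg_mem b.2) c.2
    have hb0 : (b : F) = 0 := by rw [hc0, mul_zero, add_zero] at e; exact e
    rw [hc0, hb0] at hn0
    simp only [zero_mul, map_zero, add_zero] at hn0
    exact hM0 (Subtype.ext (Prod.ext (Subtype.ext (Subtype.ext hn0))
      (Prod.ext (Subtype.ext hb0) (Subtype.ext (Subtype.ext hc0)))))
  obtain ⟨s, hsE, hsF⟩ : ∃ s : F, σ s = s ∧ s ∉ F₀ := by
    by_contra hcon
    push Not at hcon
    have h1 : Nat.card E ≤ Nat.card (E₀ hF F₀) :=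
      Nat.card_le_card_of_injective (fun w : E => (⟨w, hcon w w.2⟩ : E₀ hF F₀)) fun w w' e =>
        congrArg Subtype.val e
    rw [hcE] at h1
    have := (Nat.pow_lt_pow_right (a := Nat.card (E₀ hF F₀)) (by omega) (show 1 < r by omega))
    rw [pow_one] at this
    omega
  obtain ⟨y, hy, s', t, hs', hyz, hyu⟩ := hdiag (s := s) (fun e => hsF (e ▸ F₀.zero_mem)) hsE
  have hs'E : σ s' = s' := by
    rcases hs' with rfl | rfl
    · exact hsE
    · rw [map_neg, hsE]
  obtain ⟨e1, e2⟩ := hyu' hyz hyu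
  obtain ⟨g, hg, e⟩ := inM_rat O hp a.2 b.2 c.2 (a : E).2 (c : E).2
  have e' := e.conj (O.le hy)
  rw [e1, e2] at e'
  have e3 := e'.subst _ _ _ _ (a : E).2 (c : E).2
  obtain ⟨A', hA'⟩ : ∃ w, w = ((a : E) : F) * (s' - ρ * t) * σ (s' - ρ * t) + (b : F) * (s' - ρ * t)
      * σ (ρ * s' - ρ * (1 + ρ * t)) + σ (b : F) * (ρ * s' - ρ * (1 + ρ * t)) * σ (s' - ρ * t)
      + ((c : E) : F) * (ρ * s' - ρ * (1 + ρ * t)) * σ (ρ * s' - ρ * (1 + ρ * t)) := ⟨_, rfl⟩
  obtain ⟨B', hB'⟩ : ∃ w, w = ((a : E) : F) * (s' - ρ * t) * σ t + (b : F) * (s' - ρ * t)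
      * σ (1 + ρ * t) + σ (b : F) * (ρ * s' - ρ * (1 + ρ * t)) * σ t
      + ((c : E) : F) * (ρ * s' - ρ * (1 + ρ * t)) * σ (1 + ρ * t) := ⟨_, rfl⟩
  obtain ⟨C', hC'⟩ : ∃ w, w = ((a : E) : F) * t * σ t + (b : F) * t
      * σ (1 + ρ * t) + σ (b : F) * (1 + ρ * t) * σ t
      + ((c : E) : F) * (1 + ρ * t) * σ (1 + ρ * t) := ⟨_, rfl⟩
  rw [← hA', ← hB', ← hC'] at e3
  have hae : σ ((a : E) : F) = ((a : E) : F) := (a : E).2
  have hce : σ ((c : E) : F) = ((c : E) : F) := (c : E).2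
  have hsA : σ A' = A' := by
    rw [hA']; simp only [map_add, map_mul, frob_frob hF, hae, hce]; ring
  have hsC : σ C' = C' := by
    rw [hC']; simp only [map_add, map_mul, frob_frob hF, hae, hce]; ring
  obtain ⟨hA, hB, hC⟩ := hall hsA hsC ⟨_, mul_mem (mul_mem hy hg) (inv_mem hy), e3⟩
  have hker : (⟨⟨A', hsA⟩, hA⟩, ⟨B', hB⟩, ⟨⟨C', hsC⟩, hC⟩) ∈ (triple hF F₀ ρ).ker := by
    refine AddMonoidHom.mem_ker.2 (Subtype.ext ?_)
    rw [triple_val]
    show A' + (B' * σ ρ + σ (B' * σ ρ)) + C' * (ρ * σ ρ) = 0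
    rw [hA', hB', hC']
    simp only [map_add, map_sub, map_mul, map_one, frob_frob hF, hae, hce, hs'E] at hn0 ⊢
    linear_combination (s' * s') * hn0
  have hη' : B' + ρ * C' = s' * ((b : F) + ρ * ((c : E) : F)) := by
    rw [hB', hC']
    simp only [map_add, map_sub, map_mul, map_one, frob_frob hF] at hn0 ⊢
    linear_combination (s' * σ t) * hn0
  by_cases hprop : ∃ l : E₀ hF F₀, A' = ((l : E) : F) * ((a : E) : F) ∧
      B' = ((l : E) : F) * (b : F) ∧ C' = ((l : E) : F) * ((c : E) : F)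
  · obtain ⟨l, -, hlB, hlC⟩ := hprop
    rw [hlB, hlC] at hη'
    have : s' = ((l : E) : F) := mul_right_cancel₀ hη (by rw [← hη']; ring)
    refine hsF ?_
    rcases hs' with rfl | rfl
    · rw [this]; exact l.2
    · rw [show s = -((l : E) : F) by linear_combination -this]
      exact F₀.neg_mem l.2
  let g' : E₀ hF F₀ × E₀ hF F₀ → (triple hF F₀ ρ).ker := fun l =>
    ⟨(l.1 * a + l.2 * ⟨⟨A', hsA⟩, hA⟩,
      ⟨((l.1 : E) : F) * b + ((l.2 : E) : F) * B',
        F₀.add_mem (F₀.mul_mem l.1.2 b.2) (F₀.mul_mem l.2.2 hB)⟩,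
      l.1 * c + l.2 * ⟨⟨C', hsC⟩, hC⟩), AddMonoidHom.mem_ker.2 (Subtype.ext (by
        have h1 := hn0
        have h2 : A' + (B' * σ ρ + σ (B' * σ ρ)) + C' * (ρ * σ ρ) = 0 :=
          congrArg Subtype.val (AddMonoidHom.mem_ker.1 hker)
        have hl1 : σ ((l.1 : E) : F) = ((l.1 : E) : F) := (l.1 : E).2
        have hl2 : σ ((l.2 : E) : F) = ((l.2 : E) : F) := (l.2 : E).2
        rw [triple_val]
        simp only [Subfield.coe_add, Subfield.coe_mul, Subfield.coe_zero, map_add, map_mul,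
          frob_frob hF, hl1, hl2] at h1 h2 ⊢
        linear_combination ((l.1 : E) : F) * h1 + ((l.2 : E) : F) * h2))⟩
  have hg' : Function.Injective g' := by
    rintro ⟨l₁, l₂⟩ ⟨m₁, m₂⟩ e
    have e' := congrArg Subtype.val e
    simp only [g', Prod.mk.injEq, Subtype.ext_iff, Subfield.coe_add, Subfield.coe_mul] at e'
    obtain ⟨eA, eB, eC⟩ := e'
    by_cases hl : l₂ = m₂
    · subst hl
      refine Prod.ext ?_ rfl
      by_contra hne
      have hne' : ((l₁ : E) : F) - ((m₁ : E) : F) ≠ 0 :=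
        sub_ne_zero.2 fun e => hne (Subtype.ext (Subtype.ext e))
      refine hη ?_
      have eb : (((l₁ : E) : F) - ((m₁ : E) : F)) * (b : F) = 0 := by linear_combination eB
      have ec : (((l₁ : E) : F) - ((m₁ : E) : F)) * ((c : E) : F) = 0 := by linear_combination eC
      rw [(mul_eq_zero.1 eb).resolve_left hne', (mul_eq_zero.1 ec).resolve_left hne']
      ring
    · exfalso
      have hne : ((l₂ : E) : F) - ((m₂ : E) : F) ≠ 0 :=
        sub_ne_zero.2 fun e => hl (Subtype.ext (Subtype.ext e))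
      refine hprop ⟨(m₁ - l₁) / (l₂ - m₂), ?_, ?_, ?_⟩ <;>
        simp only [Subfield.coe_div, Subfield.coe_sub] <;>
        rw [div_mul_eq_mul_div, eq_div_iff hne]
      · linear_combination eA
      · linear_combination eB
      · linear_combination eC
  have h1 := Nat.card_le_card_of_injective g' hg'
  rw [Nat.card_prod] at h1
  have h2 : Nat.card (E₀ hF F₀) ^ 5 ≤ Nat.card (E₀ hF F₀) ^ 4 := by
    rw [← hcount, show (5 : ℕ) = 3 + 2 from rfl, pow_add, sq]
    exact Nat.mul_le_mul (Nat.pow_le_pow_right (by omega) hr3) h1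
  have := (Nat.pow_lt_pow_right (a := Nat.card (E₀ hF F₀)) (by omega) (show 4 < 5 by norm_num))
  omega

/-- A nonrational transvection gives a full rational centre. -/
theorem ctr_of_wit (O : Over hF F₀ P θ K) {r : ℕ} (hr : r.Prime)
    (hc : Fintype.card F = Nat.card F₀ ^ r) (hw : Wit hF F₀ P θ K) :
    ∃ v, IsR F₀ P v ∧ v ≠ 0 ∧ h v v = 0 ∧ Ctr hF K v := by
  obtain ⟨v, l, hv, hv0, hvv, hl, hlF, hT⟩ := hw
  have S := O.str
  haveI : Fintype E := Fintype.ofFinite _
  have hk := kap_ne S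
  let A : AddSubgroup E :=
    { carrier := {b | InT q K v (κ * ((b : F) / (κ * κ)))}
      zero_mem' := ⟨1, K.one_mem, fun x => by simp⟩
      add_mem' := fun {b b'} h1 h2 => by
        obtain ⟨g, hg, e⟩ := h1
        obtain ⟨g', hg', e'⟩ := h2
        refine ⟨g * g', K.mul_mem hg hg', fun x => ?_⟩
        rw [Units.val_mul, ← Matrix.mulVec_mulVec, e', e, h_add_left, h_smul_left, hvv,
          Subfield.coe_add, add_div]
        module
      neg_mem' := fun {b} h1 => by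
        obtain ⟨g, hg, e⟩ := h1
        refine ⟨g⁻¹, K.inv_mem hg, fun x => ?_⟩
        have hx : (g : Mn) *ᵥ (x + (κ * (((-b : E) : F) / (κ * κ)) * h x v) • v) = x := by
          rw [e, h_add_left, h_smul_left, hvv, Subfield.coe_neg, neg_div]
          module
        conv_lhs => rw [← hx]
        rw [Matrix.mulVec_mulVec, Units.inv_mul, Matrix.one_mulVec] }
  let k2 : E := ⟨κ * κ, kap_sq⟩
  have hk20 : k2 ≠ 0 := fun e => mul_ne_zero hk hk (congrArg Subtype.val e)
  have hk2F : k2 ∈ E₀ hF F₀ := F₀.mul_mem (kap_mem S) (kap_mem S)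
  have hratA : ∀ b ∈ E₀ hF F₀, b ∈ A := fun b hb => by
    show InT q K v (κ * ((b : F) / (κ * κ)))
    exact inT_kap O hv hvv (F₀.div_mem hb hk2F)
      (by rw [map_div₀, kap_sq, show σ (b : F) = b from b.2])
  let l' : E := ⟨κ * κ * l, (fixedField (hF := hF)).mul_mem kap_sq hl⟩
  have hlA : l' ∈ A := by
    show InT q K v (κ * ((κ * κ * l) / (κ * κ)))
    rwa [mul_div_cancel_left₀ _ (mul_ne_zero hk hk)]
  have hl'F : l' ∉ E₀ hF F₀ := fun e => hlF (by
    have := F₀.div_mem (show κ * κ * l ∈ F₀ from e) hk2F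
    change κ * κ * l / (κ * κ) ∈ F₀ at this
    rwa [mul_div_cancel_left₀ _ (mul_ne_zero hk hk)] at this)
  have hcE := card_fixed_pow S hc
  have hgen : ∀ T : Subfield E, (∀ b ∈ A, b ∈ T) → T = ⊤ := fun T hT' =>
    SubfieldSL.eq_top_of_mem hr (by rw [← Nat.card_eq_fintype_card]; exact hcE)
      (fun b hb => hT' b (hratA b hb)) (hT' l' hlA) hl'F
  have hbig : ∀ p : ℕ, p.Prime → CharP E p → p ^ 2 ≤ Nat.card A := by
    intro p hp hchar
    haveI : Fintype (E₀ hF F₀) := Fintype.ofFinite _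
    haveI : CharP (E₀ hF F₀) p := (RingHom.charP_iff _ (E₀ hF F₀).subtype.injective p).2 hchar
    obtain ⟨d, -, hd⟩ := FiniteField.card (E₀ hF F₀) p
    obtain ⟨e, -, he⟩ := FiniteField.card E p
    obtain ⟨i, -, hi⟩ := (Nat.dvd_prime_pow hp).1
      (he ▸ Nat.card_eq_fintype_card (α := E) ▸ AddSubgroup.card_addSubgroup_dvd_card A :
        Nat.card A ∣ p ^ (e : ℕ))
    have hlt : Nat.card (E₀ hF F₀) < Nat.card A := by
      haveI : Fintype A := Fintype.ofFinite _
      rw [Nat.card_eq_fintype_card, Nat.card_eq_fintype_card]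
      refine Fintype.card_lt_of_injective_of_notMem (fun c : E₀ hF F₀ => (⟨c, hratA c c.2⟩ : A))
        (fun a b e => Subtype.ext (congrArg (fun x : A => (x : E)) e)) (b := ⟨l', hlA⟩) ?_
      rintro ⟨c, e⟩
      have e' : (c : E) = l' := congrArg Subtype.val e
      exact hl'F (e' ▸ c.2)
    rw [Nat.card_eq_fintype_card, hd] at hlt
    rw [hi] at hlt ⊢
    have := (Nat.pow_lt_pow_iff_right hp.one_lt).1 hlt
    exact Nat.pow_le_pow_right hp.pos (by have := d.pos; omega)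
  obtain ⟨v', hv', hv'v', hv'v⟩ := exists_iso1 S O.nine hv hv0 F₀.one_mem
  have hvv' : h v v' = 1 := by rw [← h_swap hF, hv'v, map_one]
  have hsq : ∀ w : E, k2 * (w * w) ∈ A := by
    intro w
    by_cases hw0 : w = 0
    · rw [hw0, mul_zero, mul_zero]; exact A.zero_mem
    obtain ⟨y, hy, s', t, hs', -, e⟩ := exists_diag (K := K) (u := v) (e₂ := κ • v') (z := (0 : V))
      hbig hgen (by
        obtain ⟨g, hg, e⟩ := inT_kap O hv' hv'v' F₀.one_mem (map_one _)
        refine ⟨g, hg, Matrix.mulVec_zero _, 0, 0, ?_, ?_⟩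
        · rw [e, hvv']; simp
        · rw [e, h_smul_left, hv'v']; simp) (fun b hb => by
        obtain ⟨g, hg, e⟩ := hb
        refine ⟨g, hg, Matrix.mulVec_zero _, 0, 0, ?_, ?_⟩
        · rw [e, hvv]; simp
        · rw [e, h_smul_left, hv'v]
          simp only [smul_zero, add_zero]
          congr 2
          field_simp) (s := (w : F)) (fun e => hw0 (Subtype.ext e)) w.2
    rw [smul_zero, add_zero] at e
    obtain ⟨g, hg, e'⟩ := inT_conj O (inT_kap O hv hvv F₀.one_mem (map_one _)) hy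
    refine ⟨g, hg, fun x => ?_⟩
    have hsE : σ s' = s' := by
      rcases hs' with rfl | rfl
      · exact w.2
      · rw [map_neg]; exact congrArg Neg.neg w.2
    have hww : s' * s' = (w : F) * (w : F) := by rcases hs' with rfl | rfl <;> ring
    rw [e' x, e, h_smul_right hF, hsE, smul_smul, Subfield.coe_mul, Subfield.coe_mul,
      show (k2 : F) = κ * κ from rfl, mul_div_cancel_left₀ _ (mul_ne_zero hk hk), ← hww]
    congr 2
    ring
  have hall : ∀ w : E, k2 * w ∈ A := by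
    intro w
    by_cases h2 : (2 : E) = 0
    · haveI : CharP E 2 := CharTwo.of_one_ne_zero_of_two_eq_zero one_ne_zero h2
      obtain ⟨y, hy⟩ := FiniteField.isSquare_of_char_two (ringChar.eq E 2) w
      exact hy ▸ hsq y
    · rw [show w = (w + 1) / 2 * ((w + 1) / 2) - (w - 1) / 2 * ((w - 1) / 2) by field_simp; ring,
        mul_sub]
      exact sub_mem (hsq _) (hsq _)
  refine ⟨v, hv, hv0, hvv, PairSU.ctr_of_inT fun c hc0 => ?_⟩
  have hmem := hall ⟨c / κ, skew_fixed kap_skew (eq_neg_of_add_eq_zero_right hc0)⟩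
  change InT q K v (κ * (((k2 * _ : E) : F) / (κ * κ))) at hmem
  rw [Subfield.coe_mul, show (k2 : F) = κ * κ from rfl,
    mul_div_cancel_left₀ _ (mul_ne_zero hk hk)] at hmem
  rwa [mul_div_cancel₀ _ hk] at hmem

/-- Every isotropic rational vector is a full centre. -/
theorem ctr_rat (O : Over hF F₀ P θ K) {v : V} (hv : IsR F₀ P v) (hv0 : v ≠ 0) (hvv : h v v = 0)
    (hC : Ctr hF K v) : ∀ w, IsR F₀ P w → h w w = 0 → Ctr hF K w := by
  have S := O.str
  have step : ∀ {a b : V}, IsR F₀ P a → h a a = 0 → IsR F₀ P b → h b b = 0 → h b a ≠ 0 →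
      Ctr hF K a → Ctr hF K b := by
    intro a b ha haa hb hbb hba hCa
    set c := (h b a)⁻¹
    have hcm : c ∈ F₀ := F₀.inv_mem (h_rat S hb ha)
    have hb' : IsR F₀ P (c • b) := hb.smul hcm
    have hbb' : h (c • b) (c • b) = 0 := by simp [h_smul_left, h_smul_right hF, hbb]
    have h1 : h (c • b) a = 1 := by rw [h_smul_left, inv_mul_cancel₀ hba]
    have h2 : h a (c • b) = 1 := by rw [← h_swap hF, h1, map_one]
    obtain ⟨y, hy, e⟩ := inT_kap O hb' hbb' F₀.one_mem (map_one _)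
    obtain ⟨y', hy', e'⟩ := inT_kap O ha haa (a := -(κ * κ)⁻¹)
      (F₀.neg_mem (F₀.inv_mem (F₀.mul_mem (kap_mem S) (kap_mem S))))
      (by rw [map_neg, map_inv₀, kap_sq])
    have hmov : ((y * y' * y : GL (Fin n) F) : Mn) *ᵥ a = κ • (c • b) := by
      rw [Units.val_mul, Units.val_mul, ← Matrix.mulVec_mulVec, ← Matrix.mulVec_mulVec, e a, h2,
        e', h_add_left, h_smul_left, haa, h1]
      rw [show a + (κ * 1 * 1) • (c • b) + (κ * -(κ * κ)⁻¹ * (0 + κ * 1 * 1 * 1)) • a =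
        κ • (c • b) by
          rw [show κ * -(κ * κ)⁻¹ * (0 + κ * 1 * 1 * 1) = -1 by field_simp [kap_ne S]; ring]
          module,
        e, h_smul_left, hbb']
      simp
    have := hCa.conj (mul_mem (mul_mem hy hy') hy) (O.le (mul_mem (mul_mem hy hy') hy))
    rw [hmov, smul_smul] at this
    exact Ctr.of_smul (mul_ne_zero (kap_ne S) (inv_ne_zero hba)) this
  intro w hw hww
  by_cases hi : Indep F₀ v w
  · obtain ⟨y, hy, hyy, e1, e2⟩ := exists_iso2 S O.nine hv hw hi F₀.one_mem F₀.one_mem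
    have hCy := step hv hvv hy hyy (by rw [e1]; exact one_ne_zero) hC
    exact step hy hyy hw hww (by rw [← h_swap hF, e2, map_one]; exact one_ne_zero) hCy
  · unfold Indep at hi
    push Not at hi
    obtain ⟨s, hs, t, ht, e, hne⟩ := hi
    have ht0 : t ≠ 0 := fun ht0 => by
      rw [ht0, zero_smul, add_zero, smul_eq_zero, or_iff_left hv0] at e
      exact hne e ht0
    rw [show w = (-(t⁻¹ * s)) • v by
      refine smul_right_injective V ht0 ?_
      show t • w = t • ((-(t⁻¹ * s)) • v)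
      rw [smul_smul, mul_neg, ← mul_assoc, mul_inv_cancel₀ ht0, one_mul, neg_smul]
      exact eq_neg_of_add_eq_zero_right e]
    exact hC.smul _

/-- Full rational centres reach every isotropic vector. -/
theorem ctr_all (O : Over hF F₀ P θ K) (hC : ∀ w, IsR F₀ P w → h w w = 0 → Ctr hF K w) {v : V}
    (hvv : h v v = 0) : Ctr hF K v := by
  have S := O.str
  by_cases hv0 : v = 0
  · rw [hv0, ← zero_smul F (0 : V)]
    exact (hC 0 IsR.zero (by rw [← zero_smul F (0 : V), h_smul_left, zero_mul])).smul 0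
  have hfull : ∀ {a b : V}, Pair q F₀ P a b → ∀ x : F, InM hF K θ a b 0 x 0 := by
    intro a b hp x
    have hT : ∀ {w : V}, IsR F₀ P w → h w w = 0 → ∀ {e : F}, σ e = e → InT q K w (κ * e) := by
      intro w hw hww e he
      obtain ⟨g, hg, hT⟩ := exists_T (hF := hF) hww (kap_mul_skew (θ := θ) he)
      exact ⟨g, hC w hw hww g _ (kap_mul_skew he) (Matrix.ext_of_mulVec_single fun i => by
        rw [hT, tmat_mulVec]), hT⟩
    have hE : ∀ {e l : F}, σ e = e → l ∈ F₀ → InM hF K θ a b 0 (e * σ l) 0 := by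
      intro e l he hl
      have h1 := InM.of_left (v := b) (hT hp.ru hp.uu he)
      have h2 := ((h1.shear O hp he (map_zero _) hl).sub hp h1).sub hp
        (InM.of_right (u := a) (hT hp.rv hp.vv (e := e * (l * σ l))
          (by rw [map_mul, map_mul, frob_frob hF, he]; ring)))
      convert h2 using 1 <;> simp
    have hne := kap_ne S
    have hx2 : σ ((x - σ x) / κ) = (x - σ x) / κ := by
      rw [map_div₀, map_sub, kap_skew, frob_frob hF, ← neg_sub x (σ x), neg_div_neg_eq]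
    have hx1 : σ (x - θ * ((x - σ x) / κ)) = x - θ * ((x - σ x) / κ) := by
      rw [map_sub, map_mul, hx2]
      field_simp
      ring
    have := (hE hx1 F₀.one_mem).mul hp (hE hx2 (frob_mem (hF := hF) S.mem))
    convert this using 1 <;> simp [frob_frob hF] <;> ring
  obtain ⟨u, hu, huu, huv⟩ := exists_value S O.nine hv0
  have hu0 : u ≠ 0 := fun e => huv (by rw [e, ← zero_smul F (0 : V), h_smul_left, zero_mul])
  obtain ⟨u', hu', hu'u', hu'u⟩ := exists_iso1 S O.nine hu hu0 F₀.one_mem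
  have huu' : h u u' = 1 := by rw [← h_swap hF, hu'u, map_one]
  have hvu : h v u ≠ 0 := fun e => huv (h_zero (hF := hF) e)
  refine Ctr.of_smul (a := (h v u)⁻¹) (inv_ne_zero hvu) ?_
  obtain ⟨v₁, hv₁⟩ : ∃ v₁, v₁ = (h v u)⁻¹ • v := ⟨_, rfl⟩
  rw [← hv₁]
  have hv₁v₁ : h v₁ v₁ = 0 := by simp [hv₁, h_smul_left, h_smul_right hF, hvv]
  have hv₁u : h v₁ u = 1 := by rw [hv₁, h_smul_left, inv_mul_cancel₀ hvu]
  let π : V →ₗ[F] V :=
    { toFun := fun y => y - h y u • u' - h y u' • u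
      map_add' := fun y y' => by simp only [h_add_left]; module
      map_smul' := fun c y => by simp only [h_smul_left, RingHom.id_apply]; module }
  have hπ : ∀ y, π y = y - h y u • u' - h y u' • u := fun y => rfl
  have hπu : ∀ y, h (π y) u = 0 := fun y => by
    rw [hπ, h_sub_left, h_sub_left, h_smul_left, h_smul_left, hu'u, huu]; ring
  have hπu' : ∀ y, h (π y) u' = 0 := fun y => by
    rw [hπ, h_sub_left, h_sub_left, h_smul_left, h_smul_left, hu'u', huu']; ring
  -- the reachable vectors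
  have hadd : ∀ {w : V}, (∃ k ∈ K, ∃ τ : F, (k : Mn) *ᵥ u' = u' + w + τ • u) → h w u = 0 →
      ∀ {a : V}, IsR F₀ P a → h a a = 0 → h a u = 0 → h a u' = 0 → ∀ c : F,
        ∃ k ∈ K, ∃ τ : F, (k : Mn) *ᵥ u' = u' + (w + c • a) + τ • u := by
    intro w hw hwu a ha haa hau hau' c
    by_cases ha0 : a = 0
    · simpa [ha0] using hw
    have hua := h_zero (hF := hF) hau
    have hu'a := h_zero (hF := hF) hau'
    have hp : Pair q F₀ P u a := ⟨hu, ha, huu, haa, hua, fun s hs t ht e => by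
      have e' := congrArg (fun y => h y u') e
      simp only [h_add_left, h_smul_left, huu', hau', mul_one, mul_zero, add_zero] at e'
      rw [show h (0 : V) u' = 0 by rw [← zero_smul F (0 : V), h_smul_left, zero_mul]] at e'
      refine ⟨e', ?_⟩
      rw [e', zero_smul, zero_add, smul_eq_zero] at e
      exact e.resolve_right ha0⟩
    obtain ⟨g, hg, e⟩ := hfull hp (σ (c / κ))
    obtain ⟨k, hk, τ, ek⟩ := hw
    refine ⟨g * k, mul_mem hg hk, τ + κ * (σ (c / κ) * h w a), ?_⟩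
    rw [Units.val_mul, ← Matrix.mulVec_mulVec, ek, e]
    simp only [h_add_left, h_smul_left, hu'u, hwu, huu, hu'a, hua, frob_frob hF, mul_zero,
      zero_mul, mul_one, add_zero, zero_add, mul_div_cancel₀ _ (kap_ne S)]
    module
  have hreach : ∀ s : Finset (Fin n), ∀ f : Fin n → F,
      ∃ k ∈ K, ∃ τ : F, (k : Mn) *ᵥ u' = u' + (∑ i ∈ s, f i • π (col P i)) + τ • u := by
    intro s f
    induction s using Finset.induction with
    | empty => exact ⟨1, K.one_mem, 0, by simp⟩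
    | insert i s hi ih =>
      rw [Finset.sum_insert hi, add_comm (f i • π (col P i))]
      have hw : h (∑ j ∈ s, f j • π (col P j)) u = 0 := by
        rw [L_sum]
        exact Finset.sum_eq_zero fun j _ => by rw [h_smul_left, hπu, mul_zero]
      have hy : IsR F₀ P (π (col P i)) := by
        rw [hπ]
        exact ((col_rat i).sub (hu'.smul (h_rat S (col_rat i) hu))).sub
          (hu.smul (h_rat S (col_rat i) hu'))
      by_cases hy0 : π (col P i) = 0
      · simpa [hy0] using ih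
      have hiu : Indep F₀ u u' := fun s₁ hs₁ t₁ ht₁ e => by
        have e1 := congrArg (fun y => h y u) e
        have e2 := congrArg (fun y => h y u') e
        simp only [h_add_left, h_smul_left, huu, hu'u, hu'u', huu', mul_zero, mul_one, add_zero,
          zero_add] at e1 e2
        have h0 : ∀ w, h (0 : V) w = 0 := fun w => by rw [← zero_smul F (0 : V), h_smul_left, zero_mul]
        rw [h0] at e1 e2
        exact ⟨e2, e1⟩
      obtain ⟨a, ha, haa, hau, hau', hay⟩ := exists_iso3 S O.nine hu hu' hy hiu (fun s₁ t₁ e => hy0 (by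
        have e1 := hπu (col P i)
        have e2 := hπu' (col P i)
        rw [e] at e1 e2
        simp only [h_add_left, h_smul_left, huu, hu'u, hu'u', huu', mul_zero, mul_one, add_zero,
          zero_add] at e1 e2
        rw [e, e1, e2, zero_smul, zero_smul, add_zero])) (by rw [huu']; exact one_ne_zero) huu hu'u' F₀.zero_mem F₀.zero_mem F₀.one_mem
        ⟨rfl, rfl, one_ne_zero⟩
      obtain ⟨ξ, hξ, hξ1⟩ := exists_tr_one S
      set y := π (col P i)
      have hya : h y a = 1 := by rw [← h_swap hF, hay, map_one]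
      have hyy : σ (h y y) = h y y := h_swap hF y y
      set μ := -(h y y) * ξ with hμ
      have hμm : μ ∈ F₀ := F₀.mul_mem (F₀.neg_mem (h_rat S hy hy)) hξ
      have hbb : h (y + μ • a) (y + μ • a) = 0 := by
        simp only [h_add_left, h_add_right hF, h_smul_left, h_smul_right hF, haa, hay, hya, hμ,
          map_mul, map_neg, hyy]
        linear_combination (-(h y y)) * hξ1
      have h1 := hadd ih hw (hy.add (ha.smul hμm)) hbb
        (by rw [h_add_left, h_smul_left, hπu, hau]; ring)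
        (by rw [h_add_left, h_smul_left, hπu', hau']; ring) (f i)
      have h2 := hadd h1 (by rw [h_add_left, hw, h_smul_left, h_add_left, h_smul_left, hπu, hau]
                             ring) ha haa hau hau' (-(f i * μ))
      obtain ⟨k, hk, τ, ek⟩ := h2
      exact ⟨k, hk, τ, by rw [ek]; module⟩
  obtain ⟨k, hk, τ, ek⟩ := hreach Finset.univ (((P⁻¹ : GL (Fin n) F) : Mn) *ᵥ v₁)
  rw [show (∑ i, (((P⁻¹ : GL (Fin n) F) : Mn) *ᵥ v₁) i • π (col P i)) = π v₁ by
    conv_rhs => rw [eq_sum_col P v₁, map_sum]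
    simp only [map_smul], hπ, hv₁u, one_smul] at ek
  obtain ⟨δ, hδ⟩ : ∃ δ, δ = h v₁ u' - τ := ⟨_, rfl⟩
  have hδs : δ + σ δ = 0 := by
    have e := G_isometry (O.le hk) u' u'
    rw [ek, hu'u', show u' + (v₁ - u' - h v₁ u' • u) + τ • u = v₁ + (τ - h v₁ u') • u by module] at e
    simp only [h_add_left, h_add_right hF, h_smul_left, h_smul_right hF, hv₁v₁, hv₁u, huu,
      show h u v₁ = 1 by rw [← h_swap hF, hv₁u, map_one], map_sub, mul_one, mul_zero,
      zero_add, add_zero] at e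
    rw [hδ, map_sub]
    linear_combination -e
  obtain ⟨g, hg, hT⟩ : InT q K u δ := by
    obtain ⟨g, hg, hT⟩ := exists_T (hF := hF) huu hδs
    exact ⟨g, hC u hu huu g _ hδs (Matrix.ext_of_mulVec_single fun i => by
      rw [hT, tmat_mulVec]), hT⟩
  have hfin := (hC u' hu' hu'u').conj (mul_mem hg hk) (O.le (mul_mem hg hk))
  rw [Units.val_mul, ← Matrix.mulVec_mulVec, ek, hT] at hfin
  convert hfin using 1
  simp only [h_add_left, h_sub_left, h_smul_left, hu'u, hv₁u, huu, hδ]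
  module

/-- The unitary subfield subgroup is maximal. -/
theorem gu_subfield_maximal_of (hF : Fintype.card F = q ^ 2) (hn : n = 4 ∨ 5 ≤ n) {r : ℕ} (hr : r.Prime)
    (hro : Odd r) (hc : Fintype.card F = Nat.card F₀ ^ r)
    (hP : IsFormRationalStructure (Cfsg.hermForm n F q) F₀ 1 P) :
    IsMaximalIn G (subfieldSubgroup F₀ P ⊓ G) := by
  obtain ⟨θ, hθ, hmv⟩ : ∃ θ ∈ F₀, frob hF θ ≠ θ := by
    by_contra hcon
    push Not at hcon
    haveI : Fintype F₀ := Fintype.ofFinite _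
    haveI : Fintype (fixedField (hF := hF)) := Fintype.ofFinite _
    let ι : F₀ →+* (fixedField (hF := hF) : Subfield F) :=
      F₀.subtype.codRestrict _ fun x => hcon x x.2
    letI : Algebra F₀ (fixedField (hF := hF) : Subfield F) := ι.toAlgebra
    obtain ⟨e, he⟩ : ∃ e, Fintype.card (fixedField (hF := hF) : Subfield F) = Fintype.card F₀ ^ e :=
      ⟨_, Module.card_eq_pow_finrank⟩
    obtain ⟨x, hx⟩ : ∃ x : F, frob hF x ≠ x := by
      by_contra hall
      push Not at hall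
      exact frob_ne_id hF (RingHom.ext hall)
    have hq : Nat.card (fixedField (hF := hF) : Subfield F) = q := by
      have S' : ∃ y : F, frob hF y ≠ y := ⟨x, hx⟩
      exact (card_fixedField (n := n) (hF := hF) (F₀ := ⊤) (P := P) (θ := x)
        ⟨fun _ _ _ _ => Subfield.mem_top _, Subfield.mem_top _, hx⟩).1
    rw [Nat.card_eq_fintype_card] at hq
    rw [hF, Nat.card_eq_fintype_card (α := F₀), ← hq, he, ← pow_mul] at hc
    have := Nat.pow_right_injective (Fintype.one_lt_card : 1 < Fintype.card F₀) hc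
    rcases hro with ⟨j, hj⟩
    omega
  have S : RU hF F₀ P θ := ⟨hP, hθ, hmv⟩
  refine ⟨lt_of_le_of_ne inf_le_right fun e => ?_, fun K hle hKG => ?_⟩
  · exact CfsgLib.Aschbacher.not_SU_le_subfield hF (by omega) hr hc P
      (show G ≤ _ from e.ge.trans inf_le_left)
  by_cases hKH : K ≤ subfieldSubgroup F₀ P
  · exact Or.inl (le_antisymm (le_inf hKH hKG) hle)
  have O : Over hF F₀ P θ K := ⟨S, hn, hKG, hle⟩
  obtain ⟨g, hgK, hgS⟩ := SetLike.not_le_iff_exists.1 hKH
  obtain ⟨u, hu, huu, hmov⟩ := exists_moved_iso S hn (hKG hgK) hgS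
  have hT : InT q K ((g : Mn) *ᵥ u) (θ - frob hF θ) := by
    have := inT_conj O (inT_kap O hu huu F₀.one_mem (map_one _)) hgK
    rwa [mul_one] at this
  have hw := wit_of_centre O hr hro hc hmov (by rw [G_isometry (hKG hgK)]; exact huu) hT
  obtain ⟨v, hv, hv0, hvv, hC⟩ := ctr_of_wit O hr hc hw
  exact Or.inr (le_antisymm hKG (SU_le_of_ctr (hF := hF) (by omega) fun x hx =>
    ctr_all O (ctr_rat O hv hv0 hvv hC) hx))

/-- The unitary subfield subgroup is maximal from dimension six on. -/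
theorem gu_subfield_maximal (hF : Fintype.card F = q ^ 2) (hn : 6 ≤ n) {r : ℕ} (hr : r.Prime)
    (hro : Odd r) (hc : Fintype.card F = Nat.card F₀ ^ r)
    (hP : IsFormRationalStructure (Cfsg.hermForm n F q) F₀ 1 P) :
    IsMaximalIn G (subfieldSubgroup F₀ P ⊓ G) :=
  gu_subfield_maximal_of hF (Or.inr (by omega)) hr hro hc hP

end CfsgLib.MaxSub.SubfieldGU
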