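/-
The symplectic subfield subgroups are maximal in `SU`.
-/
import Cfsg.Agent.Lib.MaxSub.SubspaceMaximalUnitary
import Cfsg.Agent.Lib.MaxSub.RationalTools
import Cfsg.Agent.Lib.Aschbacher.UnitaryRational
import Cfsg.Agent.Lib.Aschbacher.UnitaryProperGeneral

set_option autoImplicit false
set_option maxHeartbeats 800000

namespace CfsgLib.MaxSub.SubfieldSU

open Matrix Module Cfsg Cfsg.Geo CfsgLib.UnitaryTransvection CfsgLib.MaxSub.Rational

variable {F : Type*} [Field F] [Fintype F] {n q : ℕ} (hF : Fintype.card F = q ^ 2)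

local notation "h" => Cfsg.hermForm n F q
local notation "σ" => frob hF
local notation "Mn" => Matrix (Fin n) (Fin n) F
local notation "V" => Fin n → F
local notation "G" => Cfsg.GU n F q ⊓ specialLinear (Fin n) F

/-- The data: a rational structure on which a skew multiple of the form is alternating. -/
structure SpStr (F₀ : Subfield F) (ζ : F) (P : GL (Fin n) F) : Prop where
  card : Nat.card F₀ = q
  ne : ζ ≠ 0
  skew : σ ζ = -ζ
  rat : ∀ u v : V, Rat F₀ u → Rat F₀ v → ζ * h ((P : Mn) *ᵥ u) ((P : Mn) *ᵥ v) ∈ F₀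
  alt : ∀ u : V, Rat F₀ u → h ((P : Mn) *ᵥ u) ((P : Mn) *ᵥ u) = 0

/-- The rational alternating form. -/
def pairing (q : ℕ) (ζ : F) (P : GL (Fin n) F) (u v : V) : F :=
  ζ * Cfsg.hermForm n F q ((P : Mn) *ᵥ u) ((P : Mn) *ᵥ v)

variable {hF} {F₀ : Subfield F} {ζ : F} {P : GL (Fin n) F}

local notation "f₀" => pairing q ζ P

theorem fixed (S : SpStr hF F₀ ζ P) {x : F} (hx : x ∈ F₀) : σ x = x := by
  haveI : Fintype F₀ := Fintype.ofFinite _
  rw [frob_apply, ← S.card, Nat.card_eq_fintype_card]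
  exact congrArg Subtype.val (FiniteField.pow_card (⟨x, hx⟩ : F₀))

theorem mem_fixed (S : SpStr hF F₀ ζ P) {x : F} (hx : σ x = x) : x ∈ F₀ :=
  CfsgLib.Aschbacher.mem_of_pow_card_eq (by rw [S.card, ← frob_apply hF, hx])

theorem f₀_add_left (u v w : V) : f₀ (u + v) w = f₀ u w + f₀ v w := by
  simp only [pairing, Matrix.mulVec_add, h_add_left, mul_add]

theorem f₀_smul_left (c : F) (u w : V) : f₀ (c • u) w = c * f₀ u w := by
  simp only [pairing, Matrix.mulVec_smul, h_smul_left]; ring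

include hF in
theorem f₀_add_right (u v w : V) : f₀ u (v + w) = f₀ u v + f₀ u w := by
  simp only [pairing, Matrix.mulVec_add, h_add_right hF, mul_add]

theorem f₀_smul_right (S : SpStr hF F₀ ζ P) {c : F} (hc : c ∈ F₀) (u w : V) :
    f₀ u (c • w) = c * f₀ u w := by
  simp only [pairing, Matrix.mulVec_smul, h_smul_right hF, fixed S hc]; ring

theorem f₀_self (S : SpStr hF F₀ ζ P) {u : V} (hu : Rat F₀ u) : f₀ u u = 0 := by
  rw [pairing, S.alt u hu, mul_zero]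

theorem f₀_skew (S : SpStr hF F₀ ζ P) {u v : V} (hu : Rat F₀ u) (hv : Rat F₀ v) :
    f₀ v u = -f₀ u v := by
  have h1 := fixed S (S.rat u v hu hv)
  rw [map_mul, S.skew, h_swap hF] at h1
  simp only [pairing]
  linear_combination -h1

theorem f₀_sub_right (S : SpStr hF F₀ ζ P) (u v w : V) : f₀ u (v - w) = f₀ u v - f₀ u w := by
  rw [sub_eq_add_neg, f₀_add_right (hF := hF), ← neg_one_smul F w,
    f₀_smul_right S (F₀.neg_mem F₀.one_mem)]
  ring

include hF in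
theorem rat_nondeg {u : V} (hu0 : u ≠ 0) (hζ : ζ ≠ 0) : ∃ x, Rat F₀ x ∧ f₀ u x ≠ 0 := by
  by_contra hc
  push Not at hc
  refine hu0 ?_
  have h0 : ∀ y, h ((P : Mn) *ᵥ u) y = 0 := fun y => by
    obtain ⟨z, rfl⟩ : ∃ z, (P : Mn) *ᵥ z = y := ⟨((P⁻¹ : GL (Fin n) F) : Mn) *ᵥ y, by
      rw [Matrix.mulVec_mulVec, Units.mul_inv, Matrix.one_mulVec]⟩
    rw [pi_eq_sum_univ' z, Matrix.mulVec_sum]
    let L : V →+ F := AddMonoidHom.mk' (fun y => h ((P : Mn) *ᵥ u) y) (fun a b => h_add_right hF _ a b)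
    show L _ = 0
    rw [map_sum]
    refine Finset.sum_eq_zero fun i _ => ?_
    show h _ _ = 0
    have h1 := hc _ (rat_single (F₀ := F₀) i)
    rw [pairing, mul_eq_zero, or_iff_right hζ] at h1
    rw [Matrix.mulVec_smul, h_smul_right hF, h1, mul_zero]
  have h1 := h_nondeg hF h0
  have := Matrix.mulVec_injective_iff_isUnit.2 P.isUnit (h1.trans (Matrix.mulVec_zero _).symm)
  exact this

/-- Two rational vectors. -/
structure Orth2 (q : ℕ) (F₀ : Subfield F) (ζ : F) (P : GL (Fin n) F) (a b : V) : Prop where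
  ra : Rat F₀ a
  rb : Rat F₀ b
  indep : ∀ s ∈ F₀, ∀ t ∈ F₀, s • a + t • b = 0 → s = 0 ∧ t = 0
  orth : pairing q ζ P a b = 0

variable {K : Subgroup (GL (Fin n) F)} {θ : F}

/-- The symplectic transvections. -/
theorem ctr_rat (S : SpStr hF F₀ ζ P) (hHK : subfieldSubgroup F₀ P ⊓ G ≤ K) {u : V}
    (hu : Rat F₀ u) : Ctr hF K ((P : Mn) *ᵥ u) := by
  intro g c hc hg
  have hiso := S.alt u hu
  refine hHK ⟨mem_of_maps fun w hw => ?_, ?_, ?_⟩
  · refine ⟨w + (c / ζ * f₀ w u) • u, rat_add hw (rat_smul (F₀.mul_mem (mem_fixed S ?_)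
      (S.rat w u hw hu)) hu), ?_⟩
    · rw [map_div₀, S.skew, eq_neg_of_add_eq_zero_right hc, neg_div_neg_eq]
    · rw [hg, tmat_mulVec, Matrix.mulVec_add, Matrix.mulVec_smul, pairing, ← mul_assoc,
        div_mul_cancel₀ _ S.ne]
  · intro x y
    show h ((g : Mn) *ᵥ x) ((g : Mn) *ᵥ y) = h x y
    rw [hg]
    exact tmat_isometry hF (by rw [Good, hiso, mul_zero, add_zero]; exact hc) x y
  · refine MonoidHom.mem_ker.2 (Units.ext ?_)
    show (g : Mn).det = 1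
    rw [hg, det_tmat, hiso, mul_zero, add_zero]

/-- Moving a centre by a symplectic transvection. -/
theorem step (S : SpStr hF F₀ ζ P) (hHK : subfieldSubgroup F₀ P ⊓ G ≤ K) {a b : V}
    (hab : Orth2 q F₀ ζ P a b) (hC : Ctr hF K ((P : Mn) *ᵥ (a + θ • b))) {u : V} (hu : Rat F₀ u)
    {s : F} (hs : s ∈ F₀) :
    Orth2 q F₀ ζ P (a + (s * f₀ a u) • u) (b + (s * f₀ b u) • u) ∧
      Ctr hF K ((P : Mn) *ᵥ ((a + (s * f₀ a u) • u) + θ • (b + (s * f₀ b u) • u))) := by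
  have hαm : s * f₀ a u ∈ F₀ := F₀.mul_mem hs (S.rat a u hab.ra hu)
  have hβm : s * f₀ b u ∈ F₀ := F₀.mul_mem hs (S.rat b u hab.rb hu)
  refine ⟨⟨rat_add hab.ra (rat_smul hαm hu), rat_add hab.rb (rat_smul hβm hu), ?_, ?_⟩, ?_⟩
  · intro s₁ hs₁ t₁ ht₁ e
    have e1 : (s₁ • a + t₁ • b) + (s₁ * (s * f₀ a u) + t₁ * (s * f₀ b u)) • u = 0 := by
      rw [← e]; module
    have e2 := congrArg (fun z => f₀ z u) e1
    simp only [f₀_add_left, f₀_smul_left, f₀_self S hu, mul_zero, add_zero] at e2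
    rw [show f₀ (0 : V) u = 0 by rw [← zero_smul F (0 : V), f₀_smul_left, zero_mul]] at e2
    refine hab.indep s₁ hs₁ t₁ ht₁ ?_
    rwa [show s₁ * (s * f₀ a u) + t₁ * (s * f₀ b u) = s * (s₁ * f₀ a u + t₁ * f₀ b u) by ring,
      e2, mul_zero, zero_smul, add_zero] at e1
  · rw [f₀_add_left, f₀_smul_left, f₀_add_right (hF := hF), f₀_add_right (hF := hF),
      f₀_smul_right S hβm, f₀_smul_right S hβm, f₀_self S hu, hab.orth, f₀_skew S hab.rb hu]
    ring
  · obtain ⟨k, hk, hkK, hkG⟩ : ∃ k : GL (Fin n) F, (k : Mn) =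
        Cfsg.unitaryTransvection n q ((P : Mn) *ᵥ u) (s * ζ) ∧ k ∈ K ∧ k ∈ G := by
      have hc : s * ζ + σ (s * ζ) = 0 := by rw [map_mul, fixed S hs, S.skew]; ring
      have hd : (Cfsg.unitaryTransvection n q ((P : Mn) *ᵥ u) (s * ζ)).det = 1 := by
        rw [det_tmat, S.alt u hu, mul_zero, add_zero]
      exact ⟨sg _ hd, rfl, ctr_rat S hHK hu (sg _ hd) _ hc rfl,
        sg_mem (tmat_isometry hF (by rw [Good, S.alt u hu, mul_zero, add_zero]; exact hc)) hd⟩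
    have h1 := hC.conj hkK hkG
    rw [hk, tmat_mulVec] at h1
    convert h1 using 2
    simp only [pairing, Matrix.mulVec_add, Matrix.mulVec_smul, h_add_left, h_smul_left]
    module

/-- Some rational vector pairs non-trivially with both. -/
theorem exists_both (S : SpStr hF F₀ ζ P) {a c : V} (ha : Rat F₀ a) (hc : Rat F₀ c) (ha0 : a ≠ 0)
    (hc0 : c ≠ 0) : ∃ x, Rat F₀ x ∧ f₀ a x ≠ 0 ∧ f₀ c x ≠ 0 := by
  obtain ⟨x, hx, hax⟩ := rat_nondeg (hF := hF) (F₀ := F₀) (P := P) ha0 S.ne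
  obtain ⟨y, hy, hcy⟩ := rat_nondeg (hF := hF) (F₀ := F₀) (P := P) hc0 S.ne
  by_cases hcx : f₀ c x = 0
  · by_cases hay : f₀ a y = 0
    · exact ⟨x + y, rat_add hx hy, by rw [f₀_add_right (hF := hF), hay, add_zero]; exact hax,
        by rw [f₀_add_right (hF := hF), hcx, zero_add]; exact hcy⟩
    · exact ⟨y, hy, hay, hcy⟩
  · exact ⟨x, hx, hax, hcx⟩

/-- Some rational vector orthogonal to `a` pairs non-trivially with `b`. -/
theorem exists_perp (S : SpStr hF F₀ ζ P) {a b : V} (ha : Rat F₀ a) (hb : Rat F₀ b)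
    (hi : ∀ s ∈ F₀, ∀ t ∈ F₀, s • a + t • b = 0 → s = 0 ∧ t = 0) :
    ∃ x, Rat F₀ x ∧ f₀ a x = 0 ∧ f₀ b x ≠ 0 := by
  have ha0 : a ≠ 0 := fun e => one_ne_zero
    (hi 1 F₀.one_mem 0 F₀.zero_mem (by rw [e, smul_zero, zero_smul, add_zero])).1
  obtain ⟨x, hx, hax⟩ := rat_nondeg (hF := hF) (F₀ := F₀) (P := P) ha0 S.ne
  set t := f₀ b x / f₀ a x with ht
  have htm : t ∈ F₀ := F₀.div_mem (S.rat b x hb hx) (S.rat a x ha hx)
  have hb' : b + (-t) • a ≠ 0 := fun e => one_ne_zero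
    (hi (-t) (F₀.neg_mem htm) 1 F₀.one_mem (by rw [← e]; module)).2
  obtain ⟨y, hy, hby⟩ := rat_nondeg (hF := hF) (F₀ := F₀) (P := P) hb' S.ne
  have hsm : f₀ a y / f₀ a x ∈ F₀ := F₀.div_mem (S.rat a y ha hy) (S.rat a x ha hx)
  refine ⟨y - (f₀ a y / f₀ a x) • x, rat_sub hy (rat_smul hsm hx), ?_, fun e => hby ?_⟩
  · rw [f₀_sub_right S, f₀_smul_right S hsm, div_mul_cancel₀ _ hax, sub_self]
  · rw [f₀_sub_right S, f₀_smul_right S hsm] at e
    rw [f₀_add_left, f₀_smul_left, ← e, ht]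
    field_simp
    ring

/-- All centres with both parts. -/
theorem ctr_good (S : SpStr hF F₀ ζ P) (hHK : subfieldSubgroup F₀ P ⊓ G ≤ K) {a b : V}
    (hab : Orth2 q F₀ ζ P a b) (hC : Ctr hF K ((P : Mn) *ᵥ (a + θ • b))) {a' b' : V}
    (hab' : Orth2 q F₀ ζ P a' b') : Ctr hF K ((P : Mn) *ᵥ (a' + θ • b')) := by
  have ha0 : ∀ {x y : V}, Orth2 q F₀ ζ P x y → x ≠ 0 := fun hxy e => one_ne_zero
    (hxy.indep 1 F₀.one_mem 0 F₀.zero_mem (by rw [e, smul_zero, zero_smul, add_zero])).1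
  -- move the first part
  have moveA : ∀ {x y z : V}, Orth2 q F₀ ζ P x y → Ctr hF K ((P : Mn) *ᵥ (x + θ • y)) →
      Rat F₀ z → f₀ x z ≠ 0 → ∃ w, Orth2 q F₀ ζ P z w ∧ Ctr hF K ((P : Mn) *ᵥ (z + θ • w)) := by
    intro x y z hxy hCx hz hxz
    have hu := rat_sub hz hxy.ra
    have hxu : f₀ x (z - x) = f₀ x z := by rw [f₀_sub_right S, f₀_self S hxy.ra, sub_zero]
    have h1 := step S hHK hxy hCx hu (s := (f₀ x z)⁻¹) (F₀.inv_mem (S.rat x z hxy.ra hz))
    rw [hxu, inv_mul_cancel₀ hxz, one_smul, add_sub_cancel] at h1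
    exact ⟨_, h1⟩
  obtain ⟨a'', ha'', hf1, hf2⟩ := exists_both S hab.ra hab'.ra (ha0 hab) (ha0 hab')
  obtain ⟨b₁, hg1, hC1⟩ := moveA hab hC ha'' hf1
  obtain ⟨b₂, hg2, hC2⟩ := moveA hg1 hC1 hab'.ra (by rw [f₀_skew S hab'.ra ha'']; simpa using hf2)
  -- move the second part
  have moveB : ∀ {y z : V}, Orth2 q F₀ ζ P a' y → Ctr hF K ((P : Mn) *ᵥ (a' + θ • y)) →
      Rat F₀ z → f₀ a' z = 0 → f₀ y z ≠ 0 →
        Orth2 q F₀ ζ P a' z ∧ Ctr hF K ((P : Mn) *ᵥ (a' + θ • z)) := by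
    intro y z hy hCy hz haz hyz
    have hu := rat_sub hz hy.rb
    have hyu : f₀ y (z - y) = f₀ y z := by rw [f₀_sub_right S, f₀_self S hy.rb, sub_zero]
    have hau : f₀ a' (z - y) = 0 := by rw [f₀_sub_right S, haz, hy.orth, sub_zero]
    have h1 := step S hHK hy hCy hu (s := (f₀ y z)⁻¹) (F₀.inv_mem (S.rat y z hy.rb hz))
    rwa [hyu, inv_mul_cancel₀ hyz, one_smul, add_sub_cancel, hau, mul_zero, zero_smul,
      add_zero] at h1
  obtain ⟨x₁, hx₁, hax₁, hbx₁⟩ := exists_perp S hab'.ra hg2.rb hg2.indep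
  obtain ⟨x₂, hx₂, hax₂, hbx₂⟩ := exists_perp S hab'.ra hab'.rb hab'.indep
  have fin : ∀ z, Rat F₀ z → f₀ a' z = 0 → f₀ b₂ z ≠ 0 → f₀ b' z ≠ 0 →
      Ctr hF K ((P : Mn) *ᵥ (a' + θ • b')) := by
    intro z hz haz hbz hb'z
    obtain ⟨hg3, hC3⟩ := moveB hg2 hC2 hz haz hbz
    exact (moveB hg3 hC3 hab'.rb hab'.orth (by rw [f₀_skew S hab'.rb hz]; simpa using hb'z)).2
  by_cases h1 : f₀ b' x₁ = 0
  · by_cases h2 : f₀ b₂ x₂ = 0
    · exact fin (x₁ + x₂) (rat_add hx₁ hx₂) (by rw [f₀_add_right (hF := hF), hax₁, hax₂, add_zero])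
        (by rw [f₀_add_right (hF := hF), h2, add_zero]; exact hbx₁)
        (by rw [f₀_add_right (hF := hF), h1, zero_add]; exact hbx₂)
    · exact fin x₂ hx₂ hax₂ h2 hbx₂
  · exact fin x₁ hx₁ hax₁ hbx₁ h1

/-- Splitting a vector along the subfield. -/
theorem exists_split (S : SpStr hF F₀ ζ P) (hθ : θ ∉ F₀) (y : V) :
    ∃ a b, Rat F₀ a ∧ Rat F₀ b ∧ y = a + θ • b := by
  haveI : Fintype F₀ := Fintype.ofFinite _
  let m : F₀ × F₀ → F := fun p => p.1 + θ * p.2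
  have hinj : Function.Injective m := by
    rintro ⟨⟨a, ha⟩, ⟨b, hb⟩⟩ ⟨⟨c, hc⟩, ⟨d, hd⟩⟩ e
    simp only [m] at e
    by_cases hbd : b = d
    · subst hbd; simp_all
    · exact absurd (show θ ∈ F₀ by
        rw [show θ = (c - a) / (b - d) by rw [eq_div_iff (sub_ne_zero.2 hbd)]; linear_combination e]
        exact F₀.div_mem (F₀.sub_mem hc ha) (F₀.sub_mem hb hd)) hθ
  have hbij : Function.Bijective m := by
    rw [Fintype.bijective_iff_injective_and_card]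
    refine ⟨hinj, ?_⟩
    rw [Fintype.card_prod, hF, ← Nat.card_eq_fintype_card, S.card, sq]
  choose p hp using fun i => hbij.2 (y i)
  exact ⟨fun i => (p i).1, fun i => (p i).2, fun i => (p i).1.2, fun i => (p i).2.2,
    funext fun i => (hp i).symm⟩

/-- The symplectic subfield subgroup is maximal. -/
theorem su_subfield_sp_maximal (S : SpStr hF F₀ ζ P) (hn : 4 ≤ n) (hq : Fintype.card F = Nat.card F₀ ^ 2) :
    IsMaximalIn G (subfieldSubgroup F₀ P ⊓ G) := by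
  refine ⟨lt_of_le_of_ne inf_le_right fun e => ?_, fun K hle hKG => ?_⟩
  · exact CfsgLib.Aschbacher.not_SU_le_subfield hF (by omega) Nat.prime_two hq P
      (show G ≤ _ from e.ge.trans inf_le_left)
  by_cases hKH : K ≤ subfieldSubgroup F₀ P
  · exact Or.inl (le_antisymm (le_inf hKH hKG) hle)
  refine Or.inr (le_antisymm hKG (SU_le_of_ctr (hF := hF) hn fun v hv => ?_))
  haveI : Nonempty (Fin n) := ⟨⟨0, by omega⟩⟩
  obtain ⟨θ, hθ⟩ : ∃ θ : F, θ ∉ F₀ := by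
    by_contra hall
    push Not at hall
    have h1 := Fintype.one_lt_card (α := F)
    have h2 : Nat.card F₀ = Fintype.card F := by
      rw [← Nat.card_eq_fintype_card]
      exact Nat.card_congr (Equiv.subtypeUnivEquiv hall)
    rw [h2] at hq
    nlinarith
  -- isotropic vectors split into orthogonal parts
  have horth : ∀ a b : V, Rat F₀ a → Rat F₀ b →
      h ((P : Mn) *ᵥ (a + θ • b)) ((P : Mn) *ᵥ (a + θ • b)) = 0 → f₀ a b = 0 := by
    intro a b ha hb e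
    simp only [Matrix.mulVec_add, Matrix.mulVec_smul, h_add_left, h_add_right hF, h_smul_left,
      h_smul_right hF, S.alt a ha, S.alt b hb] at e
    have h3 := f₀_skew S ha hb
    simp only [pairing] at h3 ⊢
    have h4 : (σ θ - θ) * (ζ * h ((P : Mn) *ᵥ a) ((P : Mn) *ᵥ b)) = 0 := by
      linear_combination ζ * e - θ * h3
    refine (mul_eq_zero.1 h4).resolve_left fun e0 => hθ (mem_fixed S (sub_eq_zero.1 e0))
  -- a line, or two independent parts
  have hcases : ∀ a b : V, Rat F₀ a → Rat F₀ b →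
      (∀ s ∈ F₀, ∀ t ∈ F₀, s • a + t • b = 0 → s = 0 ∧ t = 0) ∨
        ∃ (c : F) (w : V), Rat F₀ w ∧ a + θ • b = c • w := by
    intro a b ha hb
    refine or_iff_not_imp_left.2 fun hni => ?_
    push Not at hni
    obtain ⟨s, hs, t, ht, e, hne⟩ := hni
    by_cases hs0 : s = 0
    · have ht0 := hne hs0
      rw [hs0, zero_smul, zero_add, smul_eq_zero, or_iff_right ht0] at e
      exact ⟨1, a, ha, by rw [e, smul_zero, add_zero, one_smul]⟩
    · refine ⟨θ - t / s, b, hb, ?_⟩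
      rw [show a = (-(t / s)) • b by
        rw [eq_comm, ← sub_eq_zero]
        calc (-(t / s)) • b - a = (-s⁻¹) • (s • a + t • b) := by
              rw [smul_add, smul_smul, smul_smul, neg_mul, inv_mul_cancel₀ hs0, neg_mul,
                inv_mul_eq_div]
              module
          _ = 0 := by rw [e, smul_zero]]
      module
  obtain ⟨g, hgK, hgS⟩ := SetLike.not_le_iff_exists.1 hKH
  obtain ⟨u, hu, hmov⟩ := Rational.exists_moved hgS
  have hCg := (ctr_rat S hle hu).conj hgK (hKG hgK)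
  set x := (g : Mn) *ᵥ ((P : Mn) *ᵥ u) with hx
  have hxiso : h x x = 0 := by rw [hx, G_isometry (hKG hgK)]; exact S.alt u hu
  obtain ⟨a, b, ha, hb, hy⟩ := exists_split S hθ (((P⁻¹ : GL (Fin n) F) : Mn) *ᵥ x)
  have hxy : (P : Mn) *ᵥ (a + θ • b) = x := by
    rw [← hy, Matrix.mulVec_mulVec, Units.mul_inv, Matrix.one_mulVec]
  rw [← hxy] at hCg hxiso
  have hgood : Orth2 q F₀ ζ P a b := ⟨ha, hb, (hcases a b ha hb).resolve_right (by
    rintro ⟨c, w, hw, e⟩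
    exact hmov c w hw (by rw [← hxy, e])), horth a b ha hb hxiso⟩
  obtain ⟨a', b', ha', hb', hy'⟩ := exists_split S hθ (((P⁻¹ : GL (Fin n) F) : Mn) *ᵥ v)
  have hv' : (P : Mn) *ᵥ (a' + θ • b') = v := by
    rw [← hy', Matrix.mulVec_mulVec, Units.mul_inv, Matrix.one_mulVec]
  rw [← hv'] at hv ⊢
  rcases hcases a' b' ha' hb' with hi | ⟨c, w, hw, e⟩
  · exact ctr_good S hle hgood hCg ⟨ha', hb', hi, horth a' b' ha' hb' hv⟩
  · rw [e, Matrix.mulVec_smul]
    exact (ctr_rat S hle hw).smul c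

end CfsgLib.MaxSub.SubfieldSU
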