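/-
Orthogonal rational structures of the unitary space in odd characteristic.
-/
import Cfsg.Agent.Lib.MaxSub.SubfieldMaximalGUTools
import Cfsg.Agent.Lib.MaxSub.FormMaximalSLOrth

set_option autoImplicit false
set_option maxHeartbeats 800000

namespace CfsgLib.MaxSub.SubfieldOU

open Matrix Module Cfsg Cfsg.Geo CfsgLib.UnitaryTransvection CfsgLib.MaxSub.Rational
open CfsgLib.MaxSub.SubfieldGU (IsR col_rat eq_sum_col eq_zero_of_values)
open CfsgLib.MaxSub.PairSU (IsS InS exists_S h_zero conj_isS)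
open QuadraticMap (polar polarBilin)

variable {F : Type*} [Field F] [Fintype F] {n q : ℕ} {hF : Fintype.card F = q ^ 2}
  {F₀ : Subfield F} {P : GL (Fin n) F} {K : Subgroup (GL (Fin n) F)}

local notation "h" => Cfsg.hermForm n F q
local notation "σ" => frob hF
local notation "Mn" => Matrix (Fin n) (Fin n) F
local notation "V" => Fin n → F
local notation "G" => Cfsg.GU n F q ⊓ specialLinear (Fin n) F

/-- The structure: a real form of the unitary space, in odd characteristic. -/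
structure OU (hF : Fintype.card F = q ^ 2) (F₀ : Subfield F) (P : GL (Fin n) F) : Prop where
  dim : 5 ≤ n
  odd : Odd q
  card : Fintype.card F = Nat.card F₀ ^ 2
  rat : IsFormRationalStructure (Cfsg.hermForm n F q) F₀ 1 P

theorem fixed (S : OU hF F₀ P) {x : F} (hx : x ∈ F₀) : σ x = x := by
  haveI : Fintype F₀ := Fintype.ofFinite _
  have hq : Nat.card F₀ = q := Nat.pow_left_injective two_ne_zero (S.card.symm.trans hF)
  rw [frob_apply, ← hq, Nat.card_eq_fintype_card]
  exact congrArg Subtype.val (FiniteField.pow_card (⟨x, hx⟩ : F₀))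

theorem two_ne (S : OU hF F₀ P) : (2 : F) ≠ 0 := by
  intro e
  haveI : CharP F 2 := CharTwo.of_one_ne_zero_of_two_eq_zero one_ne_zero e
  obtain ⟨d, -, hd⟩ := FiniteField.card F 2
  have h1 : Odd (Fintype.card F) := hF ▸ S.odd.pow
  rw [hd, Nat.odd_iff] at h1
  have h2 : 2 ∣ 2 ^ (d : ℕ) := dvd_pow_self 2 d.ne_zero
  omega

theorem h_rat (S : OU hF F₀ P) {u v : V} (hu : IsR F₀ P u) (hv : IsR F₀ P v) : h u v ∈ F₀ := by
  obtain ⟨x, hx, rfl⟩ := hu
  obtain ⟨y, hy, rfl⟩ := hv
  simpa using S.rat x y hx hy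

theorem h_symm (S : OU hF F₀ P) {u v : V} (hu : IsR F₀ P u) (hv : IsR F₀ P v) : h v u = h u v := by
  rw [← h_swap hF, fixed S (h_rat S hu hv)]

variable (P) in
/-- The rational vector with given coordinates. -/
def emb (F₀ : Subfield F) (u : Fin n → F₀) : Fin n → F :=
  (P : Matrix (Fin n) (Fin n) F) *ᵥ fun j => (u j : F)

omit [Fintype F] in
theorem emb_rat (u : Fin n → F₀) : IsR F₀ P (emb P F₀ u) := ⟨_, fun j => (u j).2, rfl⟩

omit [Fintype F] in
theorem exists_emb {v : V} (hv : IsR F₀ P v) : ∃ u, emb P F₀ u = v := by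
  obtain ⟨x, hx, rfl⟩ := hv
  exact ⟨fun j => ⟨x j, hx j⟩, rfl⟩

omit [Fintype F] in
theorem emb_add (u w : Fin n → F₀) : emb P F₀ (u + w) = emb P F₀ u + emb P F₀ w := by
  rw [emb, emb, emb, ← Matrix.mulVec_add]; rfl

omit [Fintype F] in
theorem emb_smul (c : F₀) (u : Fin n → F₀) : emb P F₀ (c • u) = (c : F) • emb P F₀ u := by
  rw [emb, emb, ← Matrix.mulVec_smul]; rfl

omit [Fintype F] in
theorem emb_zero : emb P F₀ 0 = 0 := by
  rw [emb, ← Matrix.mulVec_zero (P : Mn)]; rfl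

/-- The rational symmetric form. -/
noncomputable def bil (S : OU hF F₀ P) : LinearMap.BilinForm F₀ (Fin n → F₀) :=
  LinearMap.mk₂ F₀ (fun u w => ⟨h (emb P F₀ u) (emb P F₀ w), h_rat S (emb_rat u) (emb_rat w)⟩)
    (fun a b w => Subtype.ext (by
      show h (emb P F₀ (a + b)) _ = _ + _
      rw [emb_add, h_add_left]))
    (fun c a w => Subtype.ext (by
      show h (emb P F₀ (c • a)) _ = _ * _
      rw [emb_smul, h_smul_left]))
    (fun a b w => Subtype.ext (by
      show h _ (emb P F₀ (b + w)) = _ + _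
      rw [emb_add, h_add_right hF]))
    (fun c a w => Subtype.ext (by
      show h _ (emb P F₀ (c • w)) = _ * _
      rw [emb_smul, h_smul_right hF, fixed S c.2]))

/-- The rational quadratic form. -/
noncomputable def Qf (S : OU hF F₀ P) : QuadraticForm F₀ (Fin n → F₀) :=
  LinearMap.BilinMap.toQuadraticMap (bil S)

theorem Qf_val (S : OU hF F₀ P) (u : Fin n → F₀) :
    ((Qf S u : F₀) : F) = h (emb P F₀ u) (emb P F₀ u) := rfl

theorem polar_val (S : OU hF F₀ P) (u w : Fin n → F₀) :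
    ((polar (Qf S) u w : F₀) : F) = 2 * h (emb P F₀ u) (emb P F₀ w) := by
  simp only [polar, Subfield.coe_sub, Qf_val, emb_add, h_add_left, h_add_right hF,
    h_symm S (emb_rat u) (emb_rat w)]
  ring

theorem polar_eq_zero (S : OU hF F₀ P) {u w : Fin n → F₀}
    (e : polar (Qf S) u w = 0) : h (emb P F₀ u) (emb P F₀ w) = 0 := by
  have := congrArg Subtype.val e
  rw [polar_val] at this
  exact (mul_eq_zero.1 this).resolve_left (two_ne S)

theorem nondeg (S : OU hF F₀ P) : (polarBilin (Qf S)).Nondegenerate := by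
  have key : ∀ u : Fin n → F₀, (∀ w, polar (Qf S) w u = 0) → u = 0 := by
    intro u hu
    have h0 : emb P F₀ u = 0 := eq_zero_of_values (hF := hF) (P := P) fun i => by
      obtain ⟨w, hw⟩ := exists_emb (col_rat (F₀ := F₀) (P := P) i)
      rw [← hw]
      exact polar_eq_zero S (hu w)
    exact funext fun j => Subtype.ext (congrFun
      (Matrix.mulVec_injective_iff_isUnit.2 P.isUnit (h0.trans (Matrix.mulVec_zero _).symm)) j)
  refine ⟨fun u hu => key u fun w => ?_, fun u hu => key u fun w => hu w⟩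
  rw [QuadraticMap.polar_comm]
  exact hu w

/-- A non-degenerate pair meets its orthogonal space trivially. -/
theorem pair_inf (S : OU hF F₀ P) {k : ℕ} {v : Fin k → V} {w : Fin k → (Fin n → F₀)}
    (hw : ∀ i, emb P F₀ (w i) = v i) {i j : Fin k}
    (hij : h (v i) (v i) * h (v j) (v j) - h (v i) (v j) * h (v j) (v i) ≠ 0) :
    MaxSub.perpTo (Qf S) w ⊓ Submodule.span F₀ (Set.range ![w i, w j]) = ⊥ := by
  rw [eq_bot_iff]
  rintro x ⟨hx, hx'⟩
  obtain ⟨c, rfl⟩ := (Submodule.mem_span_range_iff_exists_fun F₀).1 hx'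
  have e : ∀ l, (c 0 : F) * h (v i) (v l) + (c 1 : F) * h (v j) (v l) = 0 := fun l => by
    have := polar_eq_zero S (MaxSub.mem_perpTo.1 hx l)
    simpa [Fin.sum_univ_two, emb_add, emb_smul, hw, h_add_left, h_smul_left] using this
  have h0 : (c 0 : F) = 0 := (mul_eq_zero.1 (show (c 0 : F) *
      (h (v i) (v i) * h (v j) (v j) - h (v i) (v j) * h (v j) (v i)) = 0 by
    linear_combination h (v j) (v j) * e i - h (v j) (v i) * e j)).resolve_right hij
  have h1 : (c 1 : F) = 0 := (mul_eq_zero.1 (show (c 1 : F) *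
      (h (v i) (v i) * h (v j) (v j) - h (v i) (v j) * h (v j) (v i)) = 0 by
    linear_combination h (v i) (v i) * e j - h (v i) (v j) * e i)).resolve_right hij
  rw [Submodule.mem_bot, Fin.sum_univ_two, show c 0 = 0 from Subtype.ext h0,
    show c 1 = 0 from Subtype.ext h1, zero_smul, zero_smul, add_zero]

/-- The radical of the orthogonal space of few vectors is small. -/
theorem rad_small (S : OU hF F₀ P) {k : ℕ} {v : Fin k → V} {w : Fin k → (Fin n → F₀)}
    (hw : ∀ i, emb P F₀ (w i) = v i) (hk : k ≤ 1 ∨ k = 2 ∧ ∃ i j, h (v i) (v i) * h (v j) (v j) - h (v i) (v j) * h (v j) (v i) ≠ 0) :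
    finrank F₀ (Submodule.comap (MaxSub.perpTo (Qf S) w).subtype
        (Orth.orth (Qf S) (MaxSub.perpTo (Qf S) w))) + 3 ≤ finrank F₀ (MaxSub.perpTo (Qf S) w) ∧
      ¬ MaxSub.perpTo (Qf S) w ≤ MaxSub.perpTo (Qf S) w ⊓ Submodule.span F₀ (Set.range w) := by
  have hn := S.dim
  have hd := MaxSub.finrank_perpTo (R := Qf S) w
  have hsp : finrank F₀ (Submodule.span F₀ (Set.range w)) ≤ k :=
    (finrank_range_le_card w).trans_eq (Fintype.card_fin k)
  set T0 := Submodule.span F₀ (Set.range w)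
  set W := MaxSub.perpTo (Qf S) w with hW
  have hT : k + finrank F₀ (W ⊓ T0 : Submodule F₀ (Fin n → F₀)) ≤ 2 := by
    rcases hk with h' | ⟨rfl, i, j, hij⟩
    · have := (Submodule.finrank_mono (inf_le_right : W ⊓ T0 ≤ T0)).trans hsp
      omega
    · have hne : i ≠ j := fun e => hij (by rw [e]; ring)
      have hle : T0 ≤ Submodule.span F₀ (Set.range ![w i, w j]) := Submodule.span_le.2
        (Set.range_subset_iff.2 fun l => Submodule.subset_span (by
          rcases (show l = i ∨ l = j by fin_cases i <;> fin_cases j <;> fin_cases l <;> simp at hne ⊢) with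
            rfl | rfl
          · exact ⟨0, rfl⟩
          · exact ⟨1, rfl⟩))
      rw [show W ⊓ T0 = ⊥ from le_bot_iff.1 ((inf_le_inf_left W hle).trans (pair_inf S hw hij).le),
        finrank_bot]
  have hk2 : k ≤ 2 := by rcases hk with h' | ⟨h', -⟩ <;> omega
  refine ⟨?_, fun e => by have := Submodule.finrank_mono e; omega⟩
  have h1 := LinearMap.finrank_le_finrank_of_injective (f := (W.subtype.restrict (p :=
    Submodule.comap W.subtype (Orth.orth (Qf S) W)) (q := W ⊓ T0) fun x hx => ⟨x.2,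
      MaxSub.mem_span_of_perpTo (nondeg S) fun y hy => hx y hy⟩))
    (fun x y hh => Subtype.ext (Subtype.ext (congrArg Subtype.val hh :)))
  omega

/-- An isotropic rational vector orthogonal to given ones, outside their span. -/
theorem exists_out (S : OU hF F₀ P) {k : ℕ} (v : Fin k → V)
    (hv : ∀ i, IsR F₀ P (v i)) (hk : k ≤ 1 ∨ k = 2 ∧ ∃ i j, h (v i) (v i) * h (v j) (v j) - h (v i) (v j) * h (v j) (v i) ≠ 0) :
    ∃ z, IsR F₀ P z ∧ h z z = 0 ∧ (∀ i, h z (v i) = 0) ∧
      ∀ c : Fin k → F, (∀ i, c i ∈ F₀) → z ≠ ∑ i, c i • v i := by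
  haveI : Fintype F₀ := Fintype.ofFinite _
  have hn := S.dim
  choose w hw using fun i => exists_emb (hv i)
  obtain ⟨hrad, hnot⟩ := rad_small S hw hk
  set T0 := Submodule.span F₀ (Set.range w)
  obtain ⟨x, hx, hx0, hxT'⟩ := MaxSub.exists_singular_avoiding_rad (nondeg S) hrad hnot
  have hxT : x ∉ T0 := fun e => hxT' ⟨hx, e⟩
  refine ⟨emb P F₀ x, emb_rat x, ?_, fun i => ?_, fun c hc e => hxT ?_⟩
  · rw [← Qf_val S, hx0]; rfl
  · rw [← hw i]; exact polar_eq_zero S (MaxSub.mem_perpTo.1 hx i)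
  · have e' : emb P F₀ x = emb P F₀ (∑ i, (⟨c i, hc i⟩ : F₀) • w i) := by
      let L : (Fin n → F₀) →+ V := AddMonoidHom.mk' (emb P F₀) emb_add
      rw [e]
      show _ = L _
      rw [map_sum]
      exact Finset.sum_congr rfl fun i _ => by
        show _ = emb P F₀ _
        rw [emb_smul, hw]
    have e'' : x = ∑ i, (⟨c i, hc i⟩ : F₀) • w i := funext fun j => Subtype.ext
      (congrFun (Matrix.mulVec_injective_iff_isUnit.2 P.isUnit e') j)
    rw [e'']
    exact Submodule.sum_mem _ fun i _ => Submodule.smul_mem _ _ (Submodule.subset_span ⟨i, rfl⟩)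

/-- An isotropic rational vector orthogonal to given ones and not to a further one. -/
theorem exists_one (S : OU hF F₀ P) {k : ℕ} (v : Fin k → V)
    (hk : k ≤ 1 ∨ k = 2 ∧ ∃ i j, h (v i) (v i) * h (v j) (v j) - h (v i) (v j) * h (v j) (v i) ≠ 0)
    (hv : ∀ i, IsR F₀ P (v i)) {e : V} (he : IsR F₀ P e)
    (hout : ∀ c : Fin k → F, (∀ i, c i ∈ F₀) → e ≠ ∑ i, c i • v i) :
    ∃ z, IsR F₀ P z ∧ h z z = 0 ∧ (∀ i, h z (v i) = 0) ∧ h z e = 1 := by
  haveI : Fintype F₀ := Fintype.ofFinite _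
  have hn := S.dim
  choose w hw using fun i => exists_emb (hv i)
  obtain ⟨f, hf⟩ := exists_emb he
  have hd := MaxSub.finrank_perpTo (R := Qf S) w
  have hnot : ¬ MaxSub.perpTo (Qf S) w ≤ LinearMap.ker ((polarBilin (Qf S)).flip f) := fun hle => by
    have hmem := MaxSub.mem_span_of_perpTo (nondeg S) fun x hx => (hle hx : polar (Qf S) x f = 0)
    obtain ⟨c, hc⟩ := (Submodule.mem_span_range_iff_exists_fun F₀).1 hmem
    refine hout (fun i => (c i : F)) (fun i => (c i).2) ?_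
    let L : (Fin n → F₀) →+ V := AddMonoidHom.mk' (emb P F₀) emb_add
    rw [← hf, ← hc]
    show L _ = _
    rw [map_sum]
    exact Finset.sum_congr rfl fun i _ => by
      show emb P F₀ _ = _
      rw [emb_smul, hw]
  obtain ⟨x, hx, hx0, hxT⟩ := MaxSub.exists_singular_avoiding_rad (nondeg S) (rad_small S hw hk).1 hnot
  have hne : h (emb P F₀ x) e ≠ 0 := fun h0 => hxT (Subtype.ext (by
    show ((polar (Qf S) x f : F₀) : F) = 0
    rw [polar_val, hf, h0, mul_zero]))
  refine ⟨(h (emb P F₀ x) e)⁻¹ • emb P F₀ x,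
    (emb_rat x).smul (F₀.inv_mem (h_rat S (emb_rat x) he)), ?_, fun i => ?_, ?_⟩
  · rw [h_smul_left, h_smul_right hF, ← Qf_val S, hx0]; simp
  · rw [h_smul_left, ← hw i, polar_eq_zero S (MaxSub.mem_perpTo.1 hx i), mul_zero]
  · rw [h_smul_left, inv_mul_cancel₀ hne]

/-- A rational vector orthogonal to given ones is a combination of two isotropic ones. -/
theorem exists_decomp (S : OU hF F₀ P) {k : ℕ} (v : Fin k → V)
    (hk : k ≤ 1 ∨ k = 2 ∧ ∃ i j, h (v i) (v i) * h (v j) (v j) - h (v i) (v j) * h (v j) (v i) ≠ 0)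
    (hv : ∀ i, IsR F₀ P (v i)) {y : V} (hy : IsR F₀ P y) (hyv : ∀ i, h y (v i) = 0)
    (hout : ∀ c : Fin k → F, (∀ i, c i ∈ F₀) → y ≠ ∑ i, c i • v i) :
    ∃ a b, IsR F₀ P a ∧ h a a = 0 ∧ (∀ i, h a (v i) = 0) ∧ IsR F₀ P b ∧ h b b = 0 ∧
      (∀ i, h b (v i) = 0) ∧ ∃ μ ∈ F₀, y = a + μ • b := by
  obtain ⟨z, hz, hzz, hzv, hzy⟩ := exists_one S v hk hv hy hout
  have hyz : h y z = 1 := by rw [h_symm S hz hy, hzy]
  have h2 := two_ne S
  have hm : -(h y y) / 2 ∈ F₀ := F₀.div_mem (F₀.neg_mem (h_rat S hy hy))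
    (by rw [← one_add_one_eq_two]; exact F₀.add_mem F₀.one_mem F₀.one_mem)
  refine ⟨y + (-(h y y) / 2) • z, z, hy.add (hz.smul hm), ?_, fun i => ?_, hz, hzz, hzv, _,
    F₀.neg_mem hm, by module⟩
  · simp only [h_add_left, h_add_right hF, h_smul_left, h_smul_right hF, fixed S hm, hzz, hzy, hyz]
    field_simp
    ring
  · rw [h_add_left, h_smul_left, hyv, hzv, mul_zero, add_zero]

/-- An element moving an isotropic rational line off the rational lines. -/
theorem exists_moved_iso (S : OU hF F₀ P) {g : GL (Fin n) F} (hg : g ∈ G)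
    (hgS : g ∉ subfieldSubgroup F₀ P) :
    ∃ u, IsR F₀ P u ∧ h u u = 0 ∧ ∀ (c : F) w, IsR F₀ P w → (g : Mn) *ᵥ u ≠ c • w := by
  have hn := S.dim
  by_contra hcon
  push Not at hcon
  choose! c r hr hcr using hcon
  have hginj : Function.Injective fun x : V => (g : Mn) *ᵥ x :=
    Matrix.mulVec_injective_iff_isUnit.2 g.isUnit
  have hprod : ∀ {u w : V}, IsR F₀ P u → h u u = 0 → IsR F₀ P w → h w w = 0 → h u w ≠ 0 →
      c u * σ (c w) ∈ F₀ ∧ c u * σ (c w) ≠ 0 := by
    intro u w hu huu hw hww huw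
    have e : c u * σ (c w) * h (r u) (r w) = h u w := by
      rw [← G_isometry hg u w, hcr u hu huu, hcr w hw hww, h_smul_left, h_smul_right hF]; ring
    have hne : c u * σ (c w) * h (r u) (r w) ≠ 0 := e ▸ huw
    refine ⟨?_, left_ne_zero_of_mul hne⟩
    rw [eq_div_of_mul_eq (right_ne_zero_of_mul hne) e]
    exact F₀.div_mem (h_rat S hu hw) (h_rat S (hr u hu huu) (hr w hw hww))
  have hzero : ∀ w : V, h (0 : V) w = 0 := fun w => by
    rw [← zero_smul F (0 : V), h_smul_left, zero_mul]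
  obtain ⟨v, hv, hvv, -, hout⟩ := exists_out S (k := 0) ![] (fun i => i.elim0) (Or.inl (by omega))
  have hv0 : v ≠ 0 := fun e => hout ![] (fun i => i.elim0) (by rw [e]; simp)
  have hrel : ∀ {w : V}, IsR F₀ P w → h w w = 0 → w ≠ 0 → c w / c v ∈ F₀ := by
    intro w hw hww hw0
    obtain ⟨y, hy, hyy, hyv, hyw⟩ : ∃ y, IsR F₀ P y ∧ h y y = 0 ∧ h y v ≠ 0 ∧ h y w ≠ 0 := by
      by_cases hi : ∃ s ∈ F₀, w = s • v
      · obtain ⟨s, -, e⟩ := hi
        obtain ⟨y, hy, hyy, -, e1⟩ := exists_one S (k := 0) ![] (Or.inl (by omega)) (fun i => i.elim0) hv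
          (fun c _ e => hv0 (by rw [e]; simp))
        refine ⟨y, hy, hyy, by rw [e1]; exact one_ne_zero, fun e2 => hw0 ?_⟩
        rw [e, h_smul_right hF, e1, mul_one, map_eq_zero] at e2
        rw [e, e2, zero_smul]
      · obtain ⟨y, hy, hyy, e2, e1⟩ := exists_one S (k := 1) ![v - w] (Or.inl (by omega))
          (fun i => by fin_cases i; exact hv.sub hw) hv (fun d hd e => by
            rw [Fin.sum_univ_one] at e
            have e' : v = d 0 • (v - w) := e
            by_cases hd0 : d 0 = 0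
            · exact hv0 (by rw [e', hd0, zero_smul])
            refine hi ⟨(d 0 - 1) / d 0, F₀.div_mem (F₀.sub_mem (hd 0) F₀.one_mem) (hd 0), ?_⟩
            have e3 : d 0 • w = (d 0 - 1) • v := by
              rw [sub_smul, one_smul]
              conv_rhs => arg 2; rw [e']
              module
            rw [div_eq_inv_mul, ← smul_smul, ← e3, smul_smul, inv_mul_cancel₀ hd0, one_smul])
        have e2' : h y (v - w) = 0 := e2 0
        rw [h_sub_right hF, e1, sub_eq_zero] at e2'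
        exact ⟨y, hy, hyy, by rw [e1]; exact one_ne_zero, by rw [← e2']; exact one_ne_zero⟩
    obtain ⟨h1, h1'⟩ := hprod hw hww hy hyy (fun e => hyw (by rw [← h_swap hF, e, map_zero]))
    obtain ⟨h2, h2'⟩ := hprod hv hvv hy hyy (fun e => hyv (by rw [← h_swap hF, e, map_zero]))
    rw [show c w / c v = (c w * σ (c y)) / (c v * σ (c y)) by
      rw [mul_div_mul_right _ _ (right_ne_zero_of_mul h1')]]
    exact F₀.div_mem h1 h2
  have hcv : c v ≠ 0 := fun e => hv0 (hginj (show (g : Mn) *ᵥ v = (g : Mn) *ᵥ 0 by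
    rw [hcr v hv hvv, e, zero_smul, Matrix.mulVec_zero]))
  have hiso : ∀ w, IsR F₀ P w → h w w = 0 →
      ∃ r', IsR F₀ P r' ∧ (g : Mn) *ᵥ w = c v • r' := fun w hw hww => by
    by_cases hw0 : w = 0
    · exact ⟨0, IsR.zero, by rw [hw0, Matrix.mulVec_zero, smul_zero]⟩
    exact ⟨(c w / c v) • r w, (hr w hw hww).smul (hrel hw hww hw0), by
      rw [hcr w hw hww, smul_smul, mul_div_cancel₀ _ hcv]⟩
  refine hgS (mem_of_entries (P := P) hcv
    (N := Matrix.of fun i j => (((P⁻¹ : GL (Fin n) F) : Mn) *ᵥ ((c v)⁻¹ • ((g : Mn) *ᵥ SubfieldGU.col P j))) i)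
    (fun i j => ?_) ?_)
  · have hc0 : (SubfieldGU.col P j : V) ≠ 0 := fun e => by
      have h1 := Matrix.mulVec_injective_iff_isUnit.2 P.isUnit (e.trans (Matrix.mulVec_zero _).symm)
      simpa using congrFun h1 j
    obtain ⟨a, b, ha, haa, -, hb, hbb, -, μ, hμ, e⟩ := exists_decomp S (k := 0) ![] (Or.inl (by omega))
      (fun i => i.elim0) (col_rat (F₀ := F₀) (P := P) j) (fun i => i.elim0)
      (fun c _ e => hc0 (by rw [e]; simp))
    obtain ⟨ra, hra, ea⟩ := hiso a ha haa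
    obtain ⟨rb, hrb, eb⟩ := hiso b hb hbb
    obtain ⟨z, hz, ez⟩ := hra.add (hrb.smul hμ)
    have hh : (c v)⁻¹ • ((g : Mn) *ᵥ SubfieldGU.col P j) = ra + μ • rb := by
      rw [e, Matrix.mulVec_add, Matrix.mulVec_smul, ea, eb, smul_add, smul_smul, smul_smul,
        smul_smul, inv_mul_cancel₀ hcv, one_smul, show (c v)⁻¹ * μ * c v = μ by field_simp]
    rw [Matrix.of_apply, hh, ← ez, Matrix.mulVec_mulVec, Units.inv_mul, Matrix.one_mulVec]
    exact hz i
  · refine Matrix.ext fun i j => ?_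
    rw [Matrix.smul_apply, Matrix.of_apply, Matrix.mulVec_smul, Pi.smul_apply, smul_eq_mul,
      smul_eq_mul, mul_inv_cancel_left₀ hcv]
    have e : ((P⁻¹ * g * P : GL (Fin n) F) : Mn) *ᵥ Pi.single j 1 =
        ((P⁻¹ : GL (Fin n) F) : Mn) *ᵥ ((g : Mn) *ᵥ SubfieldGU.col P j) := by
      rw [Units.val_mul, Units.val_mul, ← Matrix.mulVec_mulVec, ← Matrix.mulVec_mulVec]; rfl
    rw [← e, Matrix.mulVec_single_one, Matrix.col_apply]

end CfsgLib.MaxSub.SubfieldOU
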