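/-
The orthogonal subgroups are maximal in `SU`, odd characteristic.
-/
import Cfsg.Agent.Lib.MaxSub.SubfieldMaximalOUTools
import Cfsg.Agent.Lib.MaxSub.SubfieldMaximalGU
import Cfsg.Agent.Lib.Aschbacher.UnitaryProperGeneral

set_option autoImplicit false
set_option maxHeartbeats 800000

namespace CfsgLib.MaxSub.SubfieldOU

open Matrix Module Cfsg Cfsg.Geo CfsgLib.UnitaryTransvection CfsgLib.MaxSub.Rational
open CfsgLib.MaxSub.SubfieldGU (IsR col_rat eq_sum_col eq_zero_of_values)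
open CfsgLib.MaxSub.PairSU (IsT IsS InS InT exists_S exists_T h_zero h_neg_right conj_isS gl_ext)

variable {F : Type*} [Field F] [Fintype F] {n q : ℕ} {hF : Fintype.card F = q ^ 2}
  {F₀ : Subfield F} {P : GL (Fin n) F} {K : Subgroup (GL (Fin n) F)}

local notation "h" => Cfsg.hermForm n F q
local notation "σ" => frob hF
local notation "Mn" => Matrix (Fin n) (Fin n) F
local notation "V" => Fin n → F
local notation "G" => Cfsg.GU n F q ⊓ specialLinear (Fin n) F

/-- The hypotheses on an overgroup. -/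
structure Over (hF : Fintype.card F = q ^ 2) (F₀ : Subfield F) (P : GL (Fin n) F)
    (K : Subgroup (GL (Fin n) F)) : Prop where
  str : OU hF F₀ P
  le : K ≤ Cfsg.GU n F q ⊓ specialLinear (Fin n) F
  ge : subfieldSubgroup F₀ P ⊓ (Cfsg.GU n F q ⊓ specialLinear (Fin n) F) ≤ K

include hF in
theorem h_zero_left (w : V) : h (0 : V) w = 0 := by rw [← zero_smul F (0 : V), h_smul_left, zero_mul]

include hF in
theorem h_zero_right (w : V) : h w (0 : V) = 0 := h_zero (hF := hF) (h_zero_left (hF := hF) w)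

/-- Rational root elements. -/
theorem inS_rat (O : Over hF F₀ P K) {u v : V} (hu : IsR F₀ P u) (hv : IsR F₀ P v)
    (huu : h u u = 0) (hvv : h v v = 0) (huv : h u v = 0) : InS q K u v := by
  obtain ⟨k, hk, hS⟩ := exists_S (hF := hF) huu hvv huv
  refine ⟨k, O.ge ⟨mem_of_maps fun w hw => ?_, hk⟩, hS⟩
  have hr : IsR F₀ P ((P : Mn) *ᵥ w) := ⟨w, hw, rfl⟩
  obtain ⟨y, hy, e⟩ := (hr.add (hv.smul (h_rat O.str hr hu))).sub (hu.smul (h_rat O.str hr hv))
  exact ⟨y, hy, by rw [hS, e]⟩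

include hF in
theorem inS_sub_left {x₁ x₂ v : V} (h22 : h x₂ x₂ = 0) (hvv : h v v = 0)
    (h2v : h x₂ v = 0) (h1v : h x₁ v = 0) (h21 : h x₂ x₁ = 0) (e₁ : InS q K x₁ v) (e₂ : InS q K x₂ v) :
    InS q K (x₁ - x₂) v := by
  obtain ⟨g₁, hg₁, e₁⟩ := e₁
  obtain ⟨g₂, hg₂, e₂⟩ := e₂
  refine ⟨g₁ * g₂⁻¹, mul_mem hg₁ (inv_mem hg₂), fun z => ?_⟩
  have hv2 := h_zero (hF := hF) h2v
  have hv1 := h_zero (hF := hF) h1v
  have hz : (g₂ : Mn) *ᵥ (z - h z x₂ • v + h z v • x₂) = z := by
    rw [e₂]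
    simp only [h_add_left, h_sub_left, h_smul_left, h22, hvv, h2v, hv2]
    module
  have hi : ((g₂⁻¹ : GL (Fin n) F) : Mn) *ᵥ z = z - h z x₂ • v + h z v • x₂ := by
    conv_lhs => rw [← hz]
    rw [Matrix.mulVec_mulVec, Units.inv_mul, Matrix.one_mulVec]
  rw [Units.val_mul, ← Matrix.mulVec_mulVec, hi, e₁]
  simp only [h_add_left, h_sub_left, h_smul_left, h_sub_right hF, hvv, h2v, hv1, h21]
  match_scalars <;> ring

include hF in
theorem inS_neg {u v : V} (e : InS q K u v) : InS q K v (-u) :=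
  e.swap fun x => h_neg_right (hF := hF) x u

include hF in
theorem inS_neg_neg {u v : V} (e : InS q K u v) : InS q K (-u) (-v) := inS_neg (hF := hF)
  (inS_neg (hF := hF) e)

theorem inS_move (O : Over hF F₀ P K) {u v : V} (e : InS q K u v) {z₁ z₂ : V}
    (hr₁ : IsR F₀ P z₁) (hr₂ : IsR F₀ P z₂) (h11 : h z₁ z₁ = 0) (h22 : h z₂ z₂ = 0)
    (h12 : h z₁ z₂ = 0) :
    InS q K (u + h u z₁ • z₂ - h u z₂ • z₁) (v + h v z₁ • z₂ - h v z₂ • z₁) := by
  obtain ⟨k, hk, hS⟩ := inS_rat O hr₁ hr₂ h11 h22 h12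
  have := e.conj hk (O.le hk)
  rwa [hS, hS] at this

variable (hF) in
/-- A nonrational transvection with rational centre. -/
def Wit (F₀ : Subfield F) (P : GL (Fin n) F) (K : Subgroup (GL (Fin n) F)) : Prop :=
  ∃ (v : Fin n → F) (c : F), IsR F₀ P v ∧ v ≠ 0 ∧ Cfsg.hermForm n F q v v = 0 ∧
    c + frob hF c = 0 ∧ c ≠ 0 ∧ InT q K v c

/-- A nonrational root element on a rational pair gives a transvection. -/
theorem wit_of_pair (O : Over hF F₀ P K) {u v : V} (hu : IsR F₀ P u) (hv : IsR F₀ P v)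
    (huu : h u u = 0) (hvv : h v v = 0) (huv : h u v = 0)
    (hout : ∀ s ∈ F₀, u ≠ s • v) (hv0 : v ≠ 0) {c : F} (hc : σ c ≠ c)
    (e : InS q K u (c • v)) : Wit hF F₀ P K := by
  have S := O.str
  have hvu := h_zero (hF := hF) huv
  obtain ⟨z, hz, hzz, e1, e2⟩ := exists_one S (k := 1) ![v] (Or.inl (by omega))
    (fun i => by fin_cases i; exact hv) hu (fun d hd e' => by
      rw [Fin.sum_univ_one] at e'
      exact hout _ (hd 0) e')
  have hzv : h z v = 0 := e1 0
  have huz : h u z = 1 := by rw [h_symm S hz hu, e2]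
  have hvz := h_zero (hF := hF) hzv
  have h1 := inS_move O e hz hv hzz hvv hzv
  rw [huz, huv, h_smul_left, h_smul_left, hvz, hvv, one_smul, zero_smul, sub_zero, mul_zero,
    zero_smul, zero_smul, add_zero, sub_zero] at h1
  have h2 : InS q K v (c • v) := by
    have := inS_sub_left (hF := hF) (x₁ := u + v) (x₂ := u) (v := c • v) huu
      (by rw [h_smul_left, h_smul_right hF, hvv]; simp)
      (by rw [h_smul_right hF, huv, mul_zero])
      (by rw [h_smul_right hF, h_add_left, huv, hvv, add_zero, mul_zero])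
      (by rw [h_add_right hF, huu, huv, add_zero]) h1 e
    rwa [add_sub_cancel_left] at this
  obtain ⟨g, hg, hS⟩ := h2
  refine ⟨v, c - σ c, hv, hv0, hvv, ?_, sub_ne_zero.2 (Ne.symm hc), g, hg, fun x => ?_⟩
  · rw [map_sub, frob_frob hF]; ring
  · rw [hS x, h_smul_right hF]; module

include hF in
theorem inv_apply_of {g : GL (Fin n) F} {z w : V} (e : (g : Mn) *ᵥ w = z) :
    ((g⁻¹ : GL (Fin n) F) : Mn) *ᵥ z = w := by
  rw [← e, Matrix.mulVec_mulVec, Units.inv_mul, Matrix.one_mulVec]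

/-- A rational Eichler transformation is in the overgroup. -/
theorem exists_E (O : Over hF F₀ P K) {r s : V} (hr : IsR F₀ P r) (hs : IsR F₀ P s)
    (hrr : h r r = 0) (hrs : h r s = 0) (hss : h s s ≠ 0) :
    ∃ k ∈ K, ∃ m : F, ∀ z, (k : Mn) *ᵥ z = z + h z r • s - h z s • r + (m * h z r) • r := by
  have S := O.str
  have hsr := h_zero (hF := hF) hrs
  obtain ⟨a, b, ha, haa, har, hb, hbb, hbr, μ, hμ, e⟩ := exists_decomp S (k := 1) ![r]
    (Or.inl le_rfl) (fun i => by fin_cases i; exact hr) hs (fun i => by fin_cases i; exact hsr)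
    (fun c _ e => hss (by
      rw [e, Fin.sum_univ_one]
      show h (c 0 • r) (c 0 • r) = 0
      rw [h_smul_left, h_smul_right hF, hrr, mul_zero, mul_zero]))
  have har' : h a r = 0 := har 0
  have hbr' : h b r = 0 := hbr 0
  have hra := h_zero (hF := hF) har'
  have hrb := h_zero (hF := hF) hbr'
  obtain ⟨g₁, hg₁, e₁⟩ := inS_rat O hr ha hrr haa hra
  obtain ⟨g₂, hg₂, e₂⟩ := inS_rat O hr (hb.smul hμ) hrr
    (by rw [h_smul_left, h_smul_right hF, hbb]; simp) (by rw [h_smul_right hF, hrb, mul_zero])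
  refine ⟨g₁ * g₂, mul_mem hg₁ hg₂, -(μ * h b a), fun z => ?_⟩
  rw [Units.val_mul, ← Matrix.mulVec_mulVec, e₁, e₂, e]
  simp only [h_add_left, h_sub_left, h_add_right hF, h_smul_left, h_smul_right hF, hrr, har', hbr',
    hra, hrb]
  module

/-- The second commutator with a rational Eichler transformation fixing the centre. -/
theorem second_diff (O : Over hF F₀ P K) {X y r s : V} (e : InS q K X y) (hXX : h X X = 0)
    (hyy : h y y = 0) (hXy : h X y = 0) (hr : IsR F₀ P r) (hs : IsR F₀ P s) (hrr : h r r = 0)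
    (hrs : h r s = 0) (hss : h s s ≠ 0) (hXr : h X r = 0) (hXs : h X s = 0) :
    InS q K X (-(h y r * h s s) • r) := by
  obtain ⟨g, hg, hS⟩ := e
  obtain ⟨k, hk, m, hk'⟩ := exists_E O hr hs hrr hrs hss
  have hkG := O.le hk
  have hsr := h_zero (hF := hF) hrs
  have hyX := h_zero (hF := hF) hXy
  have ekX : (k : Mn) *ᵥ X = X := by rw [hk', hXr, hXs]; module
  obtain ⟨d, hd⟩ : ∃ d, d = (k : Mn) *ᵥ y - y := ⟨_, rfl⟩
  have eky : (k : Mn) *ᵥ y = y + d := by rw [hd]; abel
  have hXd : h X d = 0 := by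
    rw [hd, h_sub_right hF, hXy, sub_zero]
    conv_lhs => rw [← ekX]
    rw [G_isometry hkG, hXy]
  have hdX := h_zero (hF := hF) hXd
  have hdd : h (y + d) (y + d) = 0 := by rw [← eky, G_isometry hkG, hyy]
  obtain ⟨g₁, hg₁, hS₁⟩ : ∃ g₁ ∈ K, ∀ z, (g₁ : Mn) *ᵥ z =
      z + h z X • d - h z d • X + (h y d * h z X) • X := by
    refine ⟨k * g * k⁻¹ * g⁻¹, mul_mem (mul_mem (mul_mem hk hg) (inv_mem hk)) (inv_mem hg),
      fun z => ?_⟩
    have h1 := conj_isS hkG hS
    rw [ekX, eky] at h1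
    rw [Units.val_mul _ g⁻¹, ← Matrix.mulVec_mulVec,
      inv_apply_of (hF := hF) (w := z - h z X • y + h z y • X) (by
        rw [hS]
        simp only [h_add_left, h_sub_left, h_smul_left, hXX, hyy, hXy, hyX]
        module), h1]
    simp only [h_add_left, h_sub_left, h_add_right hF, h_smul_left, hXX, hyy, hXy, hyX, hXd]
    module
  obtain ⟨γ, hγ⟩ : ∃ γ, γ = -(h y r * h s s) := ⟨_, rfl⟩
  rw [← hγ]
  have ekd : (k : Mn) *ᵥ d = d + γ • r := by
    have e1 : d = h y r • s + (m * h y r - h y s) • r := by rw [hd, hk']; module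
    rw [hk', hγ, e1]
    simp only [h_add_left, h_smul_left, hsr, hrr, hrs]
    module
  have hdr : h d r = 0 := by
    rw [show d = h y r • s + (m * h y r - h y s) • r by rw [hd, hk']; module]
    simp only [h_add_left, h_smul_left, hsr, hrr, mul_zero, add_zero]
  refine ⟨k * g₁ * k⁻¹ * g₁⁻¹, mul_mem (mul_mem (mul_mem hk hg₁) (inv_mem hk)) (inv_mem hg₁),
    fun z => ?_⟩
  have hyd : h y d + σ (h y d) + h d d = 0 := by
    rw [h_swap hF]
    rw [h_add_left, h_add_right hF, h_add_right hF, hyy] at hdd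
    linear_combination hdd
  have hσ : σ (h y d) = h d y := h_swap hF _ _
  rw [Units.val_mul _ g₁⁻¹, ← Matrix.mulVec_mulVec,
    inv_apply_of (hF := hF) (w := z - h z X • d + h z d • X + (σ (h y d) * h z X) • X) (by
      rw [hS₁]
      simp only [h_add_left, h_sub_left, h_smul_left, hXX, hXd, hdX]
      match_scalars <;> first | ring1 | linear_combination (h z X) * hyd | linear_combination (-h z X) * hyd)]
  obtain ⟨w, hw⟩ : ∃ w, (k : Mn) *ᵥ w = z - h z X • d + h z d • X + (σ (h y d) * h z X) • X :=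
    ⟨((k⁻¹ : GL (Fin n) F) : Mn) *ᵥ _, by
      rw [Matrix.mulVec_mulVec, Units.mul_inv, Matrix.one_mulVec]⟩
  rw [← hw, Units.val_mul, Units.val_mul, ← Matrix.mulVec_mulVec, ← Matrix.mulVec_mulVec,
    inv_apply_of (hF := hF) rfl, hS₁, Matrix.mulVec_add, Matrix.mulVec_sub, Matrix.mulVec_add,
    Matrix.mulVec_smul, Matrix.mulVec_smul, Matrix.mulVec_smul, ← G_isometry hkG w X,
    ← G_isometry hkG w d, ekX, ekd, hw]
  simp only [h_add_left, h_sub_left, h_add_right hF, h_smul_left, h_smul_right hF, hXX, hXd, hdX, hXr,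
    hdr]
  match_scalars <;> first | ring1 | linear_combination (h z X) * hyd | linear_combination (-h z X) * hyd

/-- A rational anisotropic vector orthogonal to two given ones. -/
theorem exists_aniso (S : OU hF F₀ P) {k : ℕ} (hk : k ≤ 3) (v : Fin k → V)
    (hv : ∀ i, IsR F₀ P (v i)) (h3 : k = 3 → ∃ i j, h (v i) (v i) * h (v j) (v j) - h (v i) (v j) * h (v j) (v i) ≠ 0) :
    ∃ s, IsR F₀ P s ∧ (∀ i, h (v i) s = 0) ∧ h s s ≠ 0 := by
  haveI : Fintype F₀ := Fintype.ofFinite _
  have hn := S.dim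
  choose w hw using fun i => exists_emb (hv i)
  by_contra hc
  push Not at hc
  have hall : ∀ x ∈ MaxSub.perpTo (Qf S) w, Qf S x = 0 := fun x hx => Subtype.ext (by
    rw [Qf_val]
    refine hc _ (emb_rat x) fun i => h_zero (hF := hF) ?_
    rw [← hw i]; exact polar_eq_zero S (MaxSub.mem_perpTo.1 hx i))
  have hle : MaxSub.perpTo (Qf S) w ≤ Submodule.span F₀ (Set.range w) := fun x hx =>
    MaxSub.mem_span_of_perpTo (nondeg S) fun y hy => by
      rw [QuadraticMap.polar, hall _ (add_mem hy hx), hall y hy, hall x hx]; simp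
  have hd := MaxSub.finrank_perpTo (R := Qf S) w
  have hsp : finrank F₀ (Submodule.span F₀ (Set.range w)) ≤ k :=
    (finrank_range_le_card w).trans_eq (Fintype.card_fin k)
  have h1 := Submodule.finrank_mono hle
  obtain ⟨i, j, hij⟩ := h3 (by omega)
  obtain rfl : k = 3 := by omega
  have hdisj := pair_inf S hw hij
  have hli : LinearIndependent F₀ ![w i, w j] := LinearIndependent.pair_iff.2 fun c d e => by
    have e' := congrArg (emb P F₀) e
    rw [emb_add, emb_smul, emb_smul, hw, hw, emb_zero] at e'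
    have e1 := congrArg (fun x => h x (v i)) e'
    have e2 := congrArg (fun x => h x (v j)) e'
    simp only [h_add_left, h_smul_left] at e1 e2
    rw [h_zero_left (hF := hF)] at e1 e2
    exact ⟨Subtype.ext ((mul_eq_zero.1 (show (c : F) *
        (h (v i) (v i) * h (v j) (v j) - h (v i) (v j) * h (v j) (v i)) = 0 by
      linear_combination h (v j) (v j) * e1 - h (v j) (v i) * e2)).resolve_right hij),
      Subtype.ext ((mul_eq_zero.1 (show (d : F) *
        (h (v i) (v i) * h (v j) (v j) - h (v i) (v j) * h (v j) (v i)) = 0 by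
      linear_combination h (v i) (v i) * e2 - h (v i) (v j) * e1)).resolve_right hij)⟩
  have h2 := Submodule.finrank_sup_add_finrank_inf_eq (MaxSub.perpTo (Qf S) w)
    (Submodule.span F₀ (Set.range ![w i, w j]))
  rw [hdisj, finrank_bot, finrank_span_eq_card hli, Fintype.card_fin] at h2
  have hpair : Submodule.span F₀ (Set.range ![w i, w j]) ≤ Submodule.span F₀ (Set.range w) :=
    Submodule.span_le.2 (Set.range_subset_iff.2 fun l => by
      fin_cases l <;> exact Submodule.subset_span ⟨_, rfl⟩)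
  have h4 := Submodule.finrank_mono (sup_le hle hpair)
  omega

/-- An overgroup element gives a transvection. -/
theorem wit_of_moved (O : Over hF F₀ P K) {g : GL (Fin n) F} (hgK : g ∈ K)
    (hgS : g ∉ subfieldSubgroup F₀ P) : Wit hF F₀ P K := by
  have S := O.str
  haveI : Fintype F₀ := Fintype.ofFinite _
  have hn := S.dim
  have hgG := O.le hgK
  obtain ⟨u, hu, huu, hmov⟩ := exists_moved_iso S hgG hgS
  obtain ⟨θ, hθ⟩ : ∃ θ : F, θ ∉ F₀ := by
    by_contra hall
    push Not at hall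
    have h1 := Fintype.one_lt_card (α := F)
    have h2 : Nat.card F₀ = Fintype.card F := by
      rw [← Nat.card_eq_fintype_card]
      exact Nat.card_congr (Equiv.subtypeUnivEquiv hall)
    have := S.card
    rw [h2] at this
    nlinarith
  have hsplit : ∀ y : V, ∃ a b, IsR F₀ P a ∧ IsR F₀ P b ∧ y = a + θ • b := by
    intro y
    let m : F₀ × F₀ → F := fun p => p.1 + θ * p.2
    have hinj : Function.Injective m := by
      rintro ⟨⟨a, ha⟩, ⟨b, hb⟩⟩ ⟨⟨c, hc⟩, ⟨d, hd⟩⟩ e
      simp only [m] at e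
      by_cases hbd : b = d
      · subst hbd; simp_all
      · exact absurd (show θ ∈ F₀ by
          rw [show θ = (c - a) / (b - d) by
            rw [eq_div_iff (sub_ne_zero.2 hbd)]; linear_combination e]
          exact F₀.div_mem (F₀.sub_mem hc ha) (F₀.sub_mem hb hd)) hθ
    have hbij : Function.Bijective m := by
      rw [Fintype.bijective_iff_injective_and_card]
      exact ⟨hinj, by rw [Fintype.card_prod, S.card, Nat.card_eq_fintype_card, sq]⟩
    choose p hp using fun i => hbij.2 ((((P⁻¹ : GL (Fin n) F) : Mn) *ᵥ y) i)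
    refine ⟨_, _, ⟨fun i => (p i).1, fun i => (p i).1.2, rfl⟩,
      ⟨fun i => (p i).2, fun i => (p i).2.2, rfl⟩, ?_⟩
    rw [← Matrix.mulVec_smul, ← Matrix.mulVec_add,
      show ((fun i => ((p i).1 : F)) + θ • fun i => ((p i).2 : F)) =
        ((P⁻¹ : GL (Fin n) F) : Mn) *ᵥ y from funext fun i => hp i,
      Matrix.mulVec_mulVec, Units.mul_inv, Matrix.one_mulVec]
  obtain ⟨a, b, ha, hb, hx⟩ := hsplit ((g : Mn) *ᵥ u)
  have hu0 : u ≠ 0 := fun e => hmov 0 0 IsR.zero (by rw [e, Matrix.mulVec_zero, zero_smul])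
  have hab : ∀ s ∈ F₀, ∀ t ∈ F₀, s • a + t • b = 0 → s = 0 ∧ t = 0 := by
    intro s hs t ht e
    by_cases ht0 : t = 0
    · refine ⟨?_, ht0⟩
      rw [ht0, zero_smul, add_zero, smul_eq_zero] at e
      rcases e with e | e
      · exact e
      · exact absurd (by rw [hx, e, zero_add]) (hmov θ b hb)
    · exfalso
      refine hmov (1 - θ * (s / t)) a ha ?_
      rw [hx]
      have : b = (-(s / t)) • a := by
        refine smul_right_injective V ht0 ?_
        show t • b = t • ((-(s / t)) • a)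
        rw [smul_smul, mul_neg, mul_div_cancel₀ _ ht0, neg_smul]
        exact eq_neg_of_add_eq_zero_right e
      rw [this]
      module
  obtain ⟨x, hxdef⟩ : ∃ x, x = (g : Mn) *ᵥ u := ⟨_, rfl⟩
  rw [← hxdef] at hx
  have hxx : h x x = 0 := by rw [hxdef, G_isometry hgG, huu]
  have hxperp : ∀ {z : V}, h a z = 0 → h b z = 0 → h x z = 0 := fun h1 h2 => by
    rw [hx, h_add_left, h_smul_left, h1, h2, mul_zero, add_zero]
  have ha0 : a ≠ 0 := fun e => one_ne_zero
    (hab 1 F₀.one_mem 0 F₀.zero_mem (by rw [e, smul_zero, zero_smul, add_zero])).1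
  -- an isotropic rational vector orthogonal to the plane and an anisotropic one
  obtain ⟨w, hw, hw0, hww, haw, hbw, s, hs, hws, has, hbs, hss⟩ : ∃ w, IsR F₀ P w ∧ w ≠ 0 ∧
      h w w = 0 ∧ h a w = 0 ∧ h b w = 0 ∧ ∃ s, IsR F₀ P s ∧ h w s = 0 ∧ h a s = 0 ∧ h b s = 0 ∧
      h s s ≠ 0 := by
    by_cases hA : h a a = 0 ∧ h a b = 0
    · obtain ⟨s, hs, e, hss⟩ := exists_aniso S (k := 2) (by omega) ![a, b]
        (fun i => by fin_cases i <;> assumption) (fun e => absurd e (by omega))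
      exact ⟨a, ha, ha0, hA.1, hA.1, h_zero (hF := hF) hA.2, s, hs, e 0, e 0, e 1, hss⟩
    · obtain ⟨a₀, hea⟩ := exists_emb ha
      obtain ⟨b₀, heb⟩ := exists_emb hb
      have hd := MaxSub.finrank_perpTo (R := Qf S) ![a₀, b₀]
      obtain ⟨z, hz, hz0, hzT⟩ := MaxSub.exists_singular_avoiding_or (nondeg S)
        (S := MaxSub.perpTo (Qf S) ![a₀, b₀]) (T := ⊥)
        (Or.inr ⟨fun e => two_ne S (congrArg Subtype.val e), by rw [finrank_bot]; omega⟩)
        (fun e => by have := Submodule.finrank_mono e; rw [finrank_bot] at this; omega)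
      have hzz : h (emb P F₀ z) (emb P F₀ z) = 0 := by rw [← Qf_val S, hz0]; rfl
      have hza : h (emb P F₀ z) a = 0 := by
        rw [← hea]; exact polar_eq_zero S (MaxSub.mem_perpTo.1 hz 0)
      have hzb : h (emb P F₀ z) b = 0 := by
        rw [← heb]; exact polar_eq_zero S (MaxSub.mem_perpTo.1 hz 1)
      have hz0' : emb P F₀ z ≠ 0 := fun e => hzT (by
        rw [Submodule.mem_bot]
        exact funext fun j => Subtype.ext (congrFun (Matrix.mulVec_injective_iff_isUnit.2 P.isUnit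
          (e.trans (Matrix.mulVec_zero _).symm)) j))
      have hR : ∀ i, IsR F₀ P (![a, b, emb P F₀ z] i) := fun i => by
        fin_cases i <;> [exact ha; exact hb; exact emb_rat z]
      obtain ⟨s, hs, e, hss⟩ := exists_aniso S (k := 3) le_rfl ![a, b, emb P F₀ z] hR
        (fun _ => ⟨0, 1, by
          show h a a * h b b - h a b * h b a ≠ 0
          intro hdet
          rw [h_symm S ha hb] at hdet
          have hrr : h (a + θ • b) (a + θ • b) = 0 := by rw [← hx]; exact hxx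
          simp only [h_add_left, h_add_right hF, h_smul_left, h_smul_right hF, h_symm S ha hb] at hrr
          by_cases haa : h a a = 0
          · refine hA ⟨haa, ?_⟩
            rw [haa, zero_mul, zero_sub, neg_eq_zero, mul_eq_zero, or_self] at hdet
            exact hdet
          have hm : (h a a + θ * h a b) * σ (h a a + θ * h a b) = 0 := by
            rw [map_add, map_mul, fixed S (h_rat S ha ha), fixed S (h_rat S ha hb)]
            linear_combination (h a a) * hrr - (θ * σ θ) * hdet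
          have hz : h a a + θ * h a b = 0 := by
            rcases mul_eq_zero.1 hm with e | e
            · exact e
            · exact (map_eq_zero σ).1 e
          by_cases hab0 : h a b = 0
          · exact haa (by rwa [hab0, mul_zero, add_zero] at hz)
          refine hθ ?_
          rw [show θ = -(h a a) / h a b by rw [eq_div_iff hab0]; linear_combination hz]
          exact F₀.div_mem (F₀.neg_mem (h_rat S ha ha)) (h_rat S ha hb)⟩)
      exact ⟨_, emb_rat z, hz0', hzz, h_zero (hF := hF) hza, h_zero (hF := hF) hzb, s, hs, e 2, e 0,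
        e 1, hss⟩
  have hxw := hxperp haw hbw
  have hxs := hxperp has hbs
  -- an image not orthogonal to it
  obtain ⟨v, hv, hvv, hvu, hvw⟩ : ∃ v, IsR F₀ P v ∧ h v v = 0 ∧ h v u = 0 ∧
      h ((g : Mn) *ᵥ v) w ≠ 0 := by
    by_contra hc
    push Not at hc
    have hperp : ∀ y, IsR F₀ P y → h y u = 0 → h ((g : Mn) *ᵥ y) w = 0 := by
      intro y hy hyu
      by_cases hs : ∃ s ∈ F₀, y = s • u
      · obtain ⟨s, -, rfl⟩ := hs
        rw [Matrix.mulVec_smul, ← hxdef, h_smul_left, hxw, mul_zero]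
      · obtain ⟨c, d, hc', hcc, hcu, hd', hdd, hdu, μ, -, e⟩ := exists_decomp S (k := 1) ![u]
          (Or.inl le_rfl) (fun i => by fin_cases i; exact hu) hy (fun i => by fin_cases i; exact hyu)
          (fun c hc e => hs ⟨c 0, hc 0, by rw [e, Fin.sum_univ_one]; rfl⟩)
        rw [e, Matrix.mulVec_add, Matrix.mulVec_smul, h_add_left, h_smul_left,
          hc c hc' hcc (hcu 0), hc d hd' hdd (hdu 0), mul_zero, add_zero]
    obtain ⟨u', hu', -, -, hu'u⟩ := exists_one S (k := 0) ![] (Or.inl (by omega)) (fun i => i.elim0) hu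
      (fun c _ e => hu0 (by rw [e]; simp))
    obtain ⟨κ, hκ⟩ : ∃ κ, κ = h ((g : Mn) *ᵥ u') w := ⟨_, rfl⟩
    have hrat : ∀ z, IsR F₀ P z → h ((g : Mn) *ᵥ z) w = h z u * κ := fun z hz => by
      have h1 := hperp _ (hz.sub (hu'.smul (h_rat S hz hu))) (by
        rw [h_sub_left, h_smul_left, hu'u, mul_one, sub_self])
      rw [Matrix.mulVec_sub, Matrix.mulVec_smul, h_sub_left, h_smul_left, sub_eq_zero] at h1
      rw [h1, hκ]
    have hwk : w = σ κ • x := by
      refine sub_eq_zero.1 ?_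
      obtain ⟨d, hd⟩ : ∃ d, (g : Mn) *ᵥ d = w - σ κ • x :=
        ⟨((g⁻¹ : GL (Fin n) F) : Mn) *ᵥ _, by
          rw [Matrix.mulVec_mulVec, Units.mul_inv, Matrix.one_mulVec]⟩
      rw [← hd]
      rw [eq_zero_of_values (hF := hF) (P := P) (d := d) fun i => ?_, Matrix.mulVec_zero]
      rw [← G_isometry hgG, hd, h_sub_right hF, h_smul_right hF, frob_frob hF, hxdef,
        hrat _ (col_rat i), G_isometry hgG]
      ring
    by_cases hκ0 : σ κ = 0
    · exact hw0 (by rw [hwk, hκ0, zero_smul])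
    · exact hmov (σ κ)⁻¹ w hw (by rw [← hxdef, hwk, smul_smul, inv_mul_cancel₀ hκ0, one_smul])
  have hxy : h x ((g : Mn) *ᵥ v) = 0 := by rw [hxdef, G_isometry hgG, h_zero (hF := hF) hvu]
  have hSxy : InS q K x ((g : Mn) *ᵥ v) := by
    rw [hxdef]
    exact (inS_rat O hu hv huu hvv (h_zero (hF := hF) hvu)).conj hgK hgG
  obtain ⟨c, hc⟩ : ∃ c, c = -(h ((g : Mn) *ᵥ v) w * h s s) := ⟨_, rfl⟩
  have hc0 : c ≠ 0 := by rw [hc]; exact neg_ne_zero.2 (mul_ne_zero hvw hss)
  have hSxw : InS q K x (c • w) := by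
    rw [hc]
    exact second_diff O hSxy hxx (by rw [G_isometry hgG, hvv]) hxy hw hs hww hws hss hxw hxs
  obtain ⟨X, hX⟩ : ∃ X, X = -σ c • x := ⟨_, rfl⟩
  have hwx := h_zero (hF := hF) hxw
  have hXX : h X X = 0 := by rw [hX, h_smul_left, h_smul_right hF, hxx, mul_zero, mul_zero]
  have hwX : h w X = 0 := by rw [hX, h_smul_right hF, hwx, mul_zero]
  have hSwX : InS q K w X := by
    obtain ⟨k, hk, hS⟩ := hSxw
    refine ⟨k, hk, fun z => ?_⟩
    rw [hS z, hX]
    simp only [h_smul_right hF, map_neg, frob_frob hF]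
    module
  by_cases hex : ∃ r, IsR F₀ P r ∧ h r r = 0 ∧ h w r = 0 ∧ h X r ∉ F₀
  · obtain ⟨r, hr, hrr, hwr, hXr⟩ := hex
    obtain ⟨t, ht, e, htt⟩ := exists_aniso S (k := 2) (by omega) ![w, r]
      (fun i => by fin_cases i <;> assumption) (fun e => absurd e (by omega))
    have h1 := second_diff O hSwX hww hXX hwX hr ht hrr (e 1) htt hwr (e 0)
    refine wit_of_pair O hw hr hww hrr hwr (fun l hl el => hXr ?_) ?_ (fun hf => hXr ?_) h1
    · by_cases hl0 : l = 0
      · exact absurd (by rw [el, hl0, zero_smul]) hw0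
      · have h0 : h X (l • r) = 0 := by rw [← el]; exact h_zero (hF := hF) hwX
        rw [h_smul_right hF, mul_eq_zero, map_eq_zero] at h0
        rw [h0.resolve_left hl0]; exact F₀.zero_mem
    · intro e0; rw [e0, h_zero_right (hF := hF)] at hXr; exact hXr F₀.zero_mem
    · have hm : -(h X r * h t t) ∈ F₀ := by
        refine CfsgLib.Aschbacher.mem_of_pow_card_eq ?_
        rw [Nat.pow_left_injective two_ne_zero (S.card.symm.trans hF), ← frob_apply hF, hf]
      rw [show h X r = (-(-(h X r * h t t))) / h t t by rw [neg_neg, mul_div_cancel_right₀ _ htt]]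
      exact F₀.div_mem (F₀.neg_mem hm) (h_rat S ht ht)
  push Not at hex
  have hvals : ∀ z, IsR F₀ P z → h w z = 0 → h X z ∈ F₀ := by
    intro z hz hwz
    by_cases hl : ∃ l ∈ F₀, z = l • w
    · obtain ⟨l, -, rfl⟩ := hl
      rw [h_smul_right hF, h_zero (hF := hF) hwX, mul_zero]; exact F₀.zero_mem
    · obtain ⟨c₁, d₁, hc₁, hcc, hcw, hd₁, hdd, hdw, μ, hμ, e⟩ := exists_decomp S (k := 1) ![w]
        (Or.inl le_rfl) (fun i => by fin_cases i; exact hw) hz
        (fun i => by fin_cases i; exact h_zero (hF := hF) hwz)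
        (fun c hc e => hl ⟨c 0, hc 0, by rw [e, Fin.sum_univ_one]; rfl⟩)
      rw [e, h_add_right hF, h_smul_right hF, fixed S hμ]
      exact F₀.add_mem (hex c₁ hc₁ hcc (h_zero (hF := hF) (hcw 0)))
        (F₀.mul_mem hμ (hex d₁ hd₁ hdd (h_zero (hF := hF) (hdw 0))))
  obtain ⟨z₀, hz₀, -, -, hz₀w⟩ := exists_one S (k := 0) ![] (Or.inl (by omega)) (fun i => i.elim0) hw
    (fun c _ e => hw0 (by rw [e]; simp))
  have hwz₀ : h w z₀ = 1 := by rw [h_symm S hz₀ hw, hz₀w]
  obtain ⟨μ, hμ⟩ : ∃ μ, μ = h X z₀ := ⟨_, rfl⟩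
  obtain ⟨A, B, hA, hB, hXAB⟩ := hsplit (X - μ • w)
  have hR : ∀ z, IsR F₀ P z → h (X - μ • w) z ∈ F₀ := by
    intro z hz
    have hzw : h w z ∈ F₀ := h_rat S hw hz
    have h1 := hvals _ (hz.sub (hz₀.smul hzw)) (by
      rw [h_sub_right hF, h_smul_right hF, fixed S hzw, hwz₀, mul_one, sub_self])
    rw [h_sub_right hF, h_smul_right hF, fixed S hzw, ← hμ] at h1
    rw [h_sub_left, h_smul_left, mul_comm μ]
    exact h1
  have hB0 : B = 0 := eq_zero_of_values (hF := hF) (P := P) fun i => by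
    have h1 := hR _ (col_rat (F₀ := F₀) (P := P) i)
    rw [hXAB, h_add_left, h_smul_left] at h1
    have hBc : h B (SubfieldGU.col P i) ∈ F₀ := h_rat S hB (col_rat i)
    refine h_zero (hF := hF) ?_
    by_contra hne
    refine hθ ?_
    rw [show θ = (h A (SubfieldGU.col P i) + θ * h B (SubfieldGU.col P i) -
      h A (SubfieldGU.col P i)) / h B (SubfieldGU.col P i) by field_simp; ring]
    exact F₀.div_mem (F₀.sub_mem h1 (h_rat S hA (col_rat i))) hBc
  rw [hB0, smul_zero, add_zero] at hXAB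
  have hXA : X = A + μ • w := by rw [← hXAB]; abel
  have hσc : -σ c ≠ 0 := neg_ne_zero.2 (by simpa using hc0)
  have hμne : σ μ ≠ μ := fun e => by
    have hμF : μ ∈ F₀ := CfsgLib.Aschbacher.mem_of_pow_card_eq (by
      rw [Nat.pow_left_injective two_ne_zero (S.card.symm.trans hF), ← frob_apply hF, e])
    refine hmov (-σ c)⁻¹ _ (hA.add (hw.smul hμF)) ?_
    rw [← hXA, hX, ← hxdef, smul_smul, inv_mul_cancel₀ hσc, one_smul]
  have hAw : h A w = 0 := by
    rw [show A = X - μ • w by rw [hXA]; abel, h_sub_left, h_smul_left, h_zero (hF := hF) hwX, hww]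
    ring
  have hAA : h A A = 0 := by
    rw [show A = X - μ • w by rw [hXA]; abel]
    simp only [h_sub_left, h_sub_right hF, h_smul_left, h_smul_right hF, hXX, hww, hwX,
      h_zero (hF := hF) hwX]
    ring
  have hnA : IsR F₀ P (-A) := by simpa using IsR.zero.sub hA
  obtain ⟨k₁, hk₁, e₁⟩ := hSwX
  have hnAA : h (-A) (-A) = 0 := by
    rw [h_neg_right (hF := hF), ← neg_one_smul F A, h_smul_left, hAA, mul_zero, neg_zero]
  obtain ⟨k₂, hk₂, e₂⟩ := inS_rat O hw hnA hww hnAA (by rw [h_neg_right (hF := hF), h_zero (hF := hF) hAw, neg_zero])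
  refine ⟨w, μ - σ μ, hw, hw0, hww, by rw [map_sub, frob_frob hF]; ring,
    sub_ne_zero.2 (Ne.symm hμne), k₂ * k₁, mul_mem hk₂ hk₁, fun z => ?_⟩
  rw [Units.val_mul, ← Matrix.mulVec_mulVec, e₂, e₁, hXA]
  simp only [h_add_left, h_sub_left, h_add_right hF, h_smul_left, h_smul_right hF,
    h_neg_right (hF := hF), hww, hAA, hAw, h_zero (hF := hF) hAw]
  module

/-- A transvection with rational centre gives all of them. -/
theorem ctr_rat (O : Over hF F₀ P K) (hW : Wit hF F₀ P K) :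
    ∀ w, IsR F₀ P w → h w w = 0 → Ctr hF K w := by
  obtain ⟨v, c₀, hv, hv0, hvv, hc₀, hc₀0, hT⟩ := hW
  have S := O.str
  have step : ∀ {a b : V}, IsR F₀ P a → h a a = 0 → IsR F₀ P b → h b b = 0 → h a b = 0 →
      (∀ s ∈ F₀, b ≠ s • a) → a ≠ 0 → ∃ k ∈ K, (k : Mn) *ᵥ a = b := by
    intro a b ha haa hb hbb hab hout ha0
    have hba := h_zero (hF := hF) hab
    obtain ⟨z, hz, hzz, e1, e2⟩ := exists_one S (k := 1) ![b - a] (Or.inl (by omega))
      (fun i => by fin_cases i; exact hb.sub ha) ha (fun d hd e => by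
        rw [Fin.sum_univ_one] at e
        have e' : a = d 0 • (b - a) := e
        by_cases hd0 : d 0 = 0
        · exact ha0 (by rw [e', hd0, zero_smul])
        refine hout ((1 + d 0) / d 0) (F₀.div_mem (F₀.add_mem F₀.one_mem (hd 0)) (hd 0)) ?_
        refine smul_right_injective V hd0 ?_
        show d 0 • b = d 0 • (((1 + d 0) / d 0) • a)
        rw [smul_smul, mul_div_cancel₀ _ hd0, add_smul, one_smul]
        conv_rhs => arg 1; rw [e']
        module)
    have hzba : h z (b - a) = 0 := e1 0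
    obtain ⟨k, hk, hS⟩ := inS_rat O hz (hb.sub ha) hzz
      (by simp [h_sub_left, h_sub_right hF, haa, hbb, hab, hba]) hzba
    refine ⟨k, hk, ?_⟩
    rw [hS, h_symm S hz ha, e2, h_sub_right hF, hab, haa, sub_zero, zero_smul, sub_zero, one_smul]
    module
  have conn : ∀ {b : V}, IsR F₀ P b → h b b = 0 → b ≠ 0 → ∃ k ∈ K, (k : Mn) *ᵥ v = b := by
    intro b hb hbb hb0
    by_cases hbv : h v b = 0
    · by_cases hs : ∃ s ∈ F₀, b = s • v
      · obtain ⟨s, hs, hbs⟩ := hs
        obtain ⟨m, hm, hmm, hmv, hmout⟩ := exists_out S (k := 1) ![v]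
          (fun i => by fin_cases i; exact hv) (Or.inl le_rfl)
        have hs0 : s ≠ 0 := fun e => hb0 (by rw [hbs, e, zero_smul])
        have hmv' : h m v = 0 := hmv 0
        obtain ⟨k₁, hk₁, e₁⟩ := step hv hvv hm hmm (h_zero (hF := hF) hmv') (fun l hl e =>
          hmout ![l] (fun i => by fin_cases i; exact hl) (by rw [Fin.sum_univ_one, e]; rfl)) hv0
        obtain ⟨k₂, hk₂, e₂⟩ := step hm hmm hb hbb
          (by rw [hbs, h_smul_right hF, hmv', mul_zero]) (fun l hl e => by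
          by_cases hl0 : l = 0
          · exact hb0 (by rw [e, hl0, zero_smul])
          refine hmout ![s / l] (fun i => by fin_cases i; exact F₀.div_mem hs hl) ?_
          rw [Fin.sum_univ_one]
          show m = (s / l) • v
          rw [div_eq_inv_mul, ← smul_smul, ← hbs, e, smul_smul, inv_mul_cancel₀ hl0, one_smul])
          (fun e => hmout 0 (fun _ => F₀.zero_mem) (by simp [e]))
        exact ⟨k₂ * k₁, mul_mem hk₂ hk₁, by rw [Units.val_mul, ← Matrix.mulVec_mulVec, e₁, e₂]⟩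
      · exact step hv hvv hb hbb hbv (fun s hs' e => hs ⟨s, hs', e⟩) hv0
    obtain ⟨m, hm, hmm, hmv, hmout⟩ := exists_out S (k := 2) ![v, b]
      (fun i => by fin_cases i <;> assumption) (Or.inr ⟨rfl, 0, 1, by
        show h v v * h b b - h v b * h b v ≠ 0
        rw [hvv, zero_mul, zero_sub, neg_ne_zero]
        exact mul_ne_zero hbv fun e => hbv (h_zero (hF := hF) e)⟩)
    obtain ⟨k₁, hk₁, e₁⟩ := step hv hvv hm hmm (h_zero (hF := hF) (hmv 0)) (fun s hs e =>
      hmout ![s, 0] (fun i => by fin_cases i <;> first | exact hs | exact F₀.zero_mem)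
        (by rw [Fin.sum_univ_two, e]; simp)) hv0
    obtain ⟨k₂, hk₂, e₂⟩ := step hm hmm hb hbb (hmv 1) (fun s hs e => by
      by_cases hs0 : s = 0
      · exact hb0 (by rw [e, hs0, zero_smul])
      refine hmout ![0, s⁻¹] (fun i => by
        fin_cases i <;> first | exact F₀.zero_mem | exact F₀.inv_mem hs) ?_
      rw [Fin.sum_univ_two]
      show m = (0 : F) • v + s⁻¹ • b
      rw [e, smul_smul, inv_mul_cancel₀ hs0]; module)
      (fun e => hmout 0 (fun _ => F₀.zero_mem) (by simp [e]))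
    exact ⟨k₂ * k₁, mul_mem hk₂ hk₁, by rw [Units.val_mul, ← Matrix.mulVec_mulVec, e₁, e₂]⟩
  have hadd : ∀ {c d : F}, InT q K v c → InT q K v d → InT q K v (c - d) := by
    rintro c d ⟨g, hg, e⟩ ⟨g', hg', e'⟩
    refine ⟨g * g'⁻¹, mul_mem hg (inv_mem hg'), fun z => ?_⟩
    have hz : (g' : Mn) *ᵥ (z - (d * h z v) • v) = z := by
      rw [e', h_sub_left, h_smul_left, hvv]; module
    have hi : ((g'⁻¹ : GL (Fin n) F) : Mn) *ᵥ z = z - (d * h z v) • v := by
      conv_lhs => rw [← hz]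
      rw [Matrix.mulVec_mulVec, Units.inv_mul, Matrix.one_mulVec]
    rw [Units.val_mul, ← Matrix.mulVec_mulVec, hi, e, h_sub_left, h_smul_left, hvv]
    module
  have hsq : ∀ l ∈ F₀, InT q K v (l * l * c₀) := by
    intro l hl
    by_cases hl0 : l = 0
    · exact ⟨1, K.one_mem, fun z => by simp [hl0]⟩
    obtain ⟨k, hk, ek⟩ := conn (hv.smul hl) (by rw [h_smul_left, h_smul_right hF, hvv]; simp)
      (smul_ne_zero hl0 hv0)
    obtain ⟨g, hg, e⟩ := hT
    refine ⟨k * g * k⁻¹, mul_mem (mul_mem hk hg) (inv_mem hk), fun z => ?_⟩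
    rw [SubfieldGU.isT_conj (O.le hk) e z, ek, h_smul_right hF, fixed S hl, smul_smul]
    congr 2
    ring
  have hCv : Ctr hF K v := PairSU.ctr_of_inT fun c hc => by
    have hm : c / c₀ ∈ F₀ := by
      refine CfsgLib.Aschbacher.mem_of_pow_card_eq ?_
      rw [Nat.pow_left_injective two_ne_zero (S.card.symm.trans hF), ← frob_apply hF, map_div₀,
        eq_neg_of_add_eq_zero_right hc, eq_neg_of_add_eq_zero_right hc₀, neg_div_neg_eq]
    have h2 := two_ne S
    have h2m : (2 : F) ∈ F₀ := by rw [← one_add_one_eq_two]; exact F₀.add_mem F₀.one_mem F₀.one_mem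
    have h3 := hadd (hsq _ (F₀.div_mem (F₀.add_mem hm F₀.one_mem) h2m))
      (hsq _ (F₀.div_mem (F₀.sub_mem hm F₀.one_mem) h2m))
    rwa [show (c / c₀ + 1) / 2 * ((c / c₀ + 1) / 2) * c₀
      - (c / c₀ - 1) / 2 * ((c / c₀ - 1) / 2) * c₀ = c by field_simp; ring] at h3
  intro w hw hww
  by_cases hw0 : w = 0
  · rw [hw0, ← zero_smul F v]
    exact hCv.smul 0
  obtain ⟨k, hk, e⟩ := conn hw hww hw0
  rw [← e]
  exact hCv.conj hk (O.le hk)

/-- Full rational centres reach every isotropic vector. -/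
theorem ctr_all (O : Over hF F₀ P K) (hC : ∀ w, IsR F₀ P w → h w w = 0 → Ctr hF K w) {v : V}
    (hvv : h v v = 0) : Ctr hF K v := by
  have S := O.str
  have h2 := two_ne S
  have h2m : (2 : F) ∈ F₀ := by rw [← one_add_one_eq_two]; exact F₀.add_mem F₀.one_mem F₀.one_mem
  have hT : ∀ {w : V}, IsR F₀ P w → h w w = 0 → ∀ {c : F}, c + σ c = 0 → InT q K w c := by
    intro w hw hww c hc
    obtain ⟨g, hg, e⟩ := exists_T (hF := hF) hww hc
    exact ⟨g, hC w hw hww g c hc (Matrix.ext_of_mulVec_single fun i => by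
      rw [e, tmat_mulVec]), e⟩
  have hfull : ∀ {a b : V}, IsR F₀ P a → IsR F₀ P b → h a a = 0 → h b b = 0 → h a b = 0 →
      ∀ c : F, InS q K a (c • b) := by
    intro a b ha hb haa hbb hab c
    have hba := h_zero (hF := hF) hab
    have hfix : (c + σ c) / 2 ∈ F₀ := by
      refine CfsgLib.Aschbacher.mem_of_pow_card_eq ?_
      rw [Nat.pow_left_injective two_ne_zero (S.card.symm.trans hF), ← frob_apply hF, map_div₀,
        map_add, frob_frob hF, add_comm, fixed S h2m]
    obtain ⟨f, hf⟩ : ∃ f, f = (c - σ c) / 2 := ⟨_, rfl⟩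
    have hsf : σ f = -f := by
      rw [hf, map_div₀, map_sub, frob_frob hF, fixed S h2m]; ring
    obtain ⟨g₁, hg₁, e₁⟩ := hT (ha.add hb)
      (by simp [h_add_left, h_add_right hF, haa, hbb, hab, hba]) (c := f) (by rw [hsf]; ring)
    obtain ⟨g₂, hg₂, e₂⟩ := hT ha haa (c := -f) (by rw [map_neg, hsf]; ring)
    obtain ⟨g₃, hg₃, e₃⟩ := hT hb hbb (c := -f) (by rw [map_neg, hsf]; ring)
    obtain ⟨g₄, hg₄, e₄⟩ := inS_rat O ha (hb.smul hfix) haa
      (by rw [h_smul_left, h_smul_right hF, hbb]; simp) (by rw [h_smul_right hF, hab, mul_zero])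
    refine ⟨g₄ * (g₁ * g₂ * g₃), mul_mem hg₄ (mul_mem (mul_mem hg₁ hg₂) hg₃), fun z => ?_⟩
    simp only [Units.val_mul, ← Matrix.mulVec_mulVec, e₁ _, e₂ _, e₃ _, e₄ _, h_add_left,
      h_add_right hF, h_smul_left, h_smul_right hF, haa, hbb, hab, hba, map_div₀, map_add,
      frob_frob hF, fixed S h2m]
    rw [hf]
    match_scalars <;> field_simp <;> ring
  by_cases hv0 : v = 0
  · rw [hv0, ← zero_smul F (0 : V)]
    exact (hC 0 IsR.zero (h_zero_left (hF := hF) 0)).smul 0
  obtain ⟨u, hu, huu, huv⟩ : ∃ u, IsR F₀ P u ∧ h u u = 0 ∧ h u v ≠ 0 := by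
    by_contra hc
    push Not at hc
    refine hv0 (eq_zero_of_values (hF := hF) (P := P) fun i => ?_)
    by_cases hi : SubfieldGU.col P i = 0
    · rw [hi, h_zero_left (hF := hF)]
    obtain ⟨a, b, ha, haa, -, hb, hbb, -, μ, -, e⟩ := exists_decomp S (k := 0) ![] (Or.inl (by omega))
      (fun i => i.elim0) (col_rat (F₀ := F₀) (P := P) i) (fun i => i.elim0)
      (fun c _ e => hi (by rw [e]; simp))
    rw [e, h_add_left, h_smul_left, hc a ha haa, hc b hb hbb, mul_zero, add_zero]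
  have hu0 : u ≠ 0 := fun e => huv (by rw [e, h_zero_left (hF := hF)])
  obtain ⟨u', hu', hu'u', -, hu'u⟩ := exists_one S (k := 0) ![] (Or.inl (by omega)) (fun i => i.elim0) hu
    (fun c _ e => hu0 (by rw [e]; simp))
  have huu' : h u u' = 1 := by rw [h_symm S hu' hu, hu'u]
  have hvu : h v u ≠ 0 := fun e => huv (h_zero (hF := hF) e)
  refine Ctr.of_smul (a := (h v u)⁻¹) (inv_ne_zero hvu) ?_
  obtain ⟨v₁, hv₁⟩ : ∃ v₁, v₁ = (h v u)⁻¹ • v := ⟨_, rfl⟩
  rw [← hv₁]
  have hv₁v₁ : h v₁ v₁ = 0 := by simp [hv₁, h_smul_left, h_smul_right hF, hvv]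
  have hv₁u : h v₁ u = 1 := by rw [hv₁, h_smul_left, inv_mul_cancel₀ hvu]
  let π : V →ₗ[F] V :=
    { toFun := fun y => y - h y u • u' - h y u' • u
      map_add' := fun y y' => by simp only [h_add_left]; module
      map_smul' := fun c y => by simp only [h_smul_left, RingHom.id_apply]; module }
  have hπ : ∀ y, π y = y - h y u • u' - h y u' • u := fun y => rfl
  have hπu : ∀ y, h (π y) u = 0 := fun y => by
    rw [hπ, h_sub_left, h_sub_left, h_smul_left, h_smul_left, hu'u, huu]; ring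
  have hπu' : ∀ y, h (π y) u' = 0 := fun y => by
    rw [hπ, h_sub_left, h_sub_left, h_smul_left, h_smul_left, hu'u', huu']; ring
  have hadd : ∀ {w : V}, (∃ k ∈ K, ∃ τ : F, (k : Mn) *ᵥ u' = u' + w + τ • u) → h w u = 0 →
      ∀ {a : V}, IsR F₀ P a → h a a = 0 → h a u = 0 → h a u' = 0 → ∀ c : F,
        ∃ k ∈ K, ∃ τ : F, (k : Mn) *ᵥ u' = u' + (w + c • a) + τ • u := by
    intro w hw hwu a ha haa hau hau' c
    have hua := h_zero (hF := hF) hau
    have hu'a := h_zero (hF := hF) hau'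
    obtain ⟨g, hg, e⟩ := hfull hu ha huu haa hua c
    obtain ⟨k, hk, τ, ek⟩ := hw
    refine ⟨g * k, mul_mem hg hk, τ - σ c * h w a, ?_⟩
    rw [Units.val_mul, ← Matrix.mulVec_mulVec, ek, e]
    simp only [h_add_left, h_smul_left, h_smul_right hF, hu'u, hwu, huu, hu'a, hua]
    module
  have hreach : ∀ s : Finset (Fin n), ∀ f : Fin n → F,
      ∃ k ∈ K, ∃ τ : F, (k : Mn) *ᵥ u' = u' + (∑ i ∈ s, f i • π (SubfieldGU.col P i)) + τ • u := by
    intro s f
    induction s using Finset.induction with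
    | empty => exact ⟨1, K.one_mem, 0, by simp⟩
    | insert i s hi ih =>
      rw [Finset.sum_insert hi, add_comm (f i • π (SubfieldGU.col P i))]
      have hw : h (∑ j ∈ s, f j • π (SubfieldGU.col P j)) u = 0 := by
        rw [SubfieldGU.L_sum]
        exact Finset.sum_eq_zero fun j _ => by rw [h_smul_left, hπu, mul_zero]
      have hy : IsR F₀ P (π (SubfieldGU.col P i)) := by
        rw [hπ]
        exact ((col_rat i).sub (hu'.smul (h_rat S (col_rat i) hu))).sub
          (hu.smul (h_rat S (col_rat i) hu'))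
      by_cases hy0 : π (SubfieldGU.col P i) = 0
      · simpa [hy0] using ih
      obtain ⟨a, b, ha, haa, hav, hb, hbb, hbv, μ, -, e⟩ := exists_decomp S (k := 2)
        ![u, u'] (Or.inr ⟨rfl, 0, 1, by
          show h u u * h u' u' - h u u' * h u' u ≠ 0
          rw [huu, hu'u', huu', hu'u]; simp⟩) (fun j => by fin_cases j <;> assumption) hy
        (fun j => by fin_cases j <;> first | exact hπu _ | exact hπu' _) (fun d _ e => hy0 (by
          have e' : π (SubfieldGU.col P i) = d 0 • u + d 1 • u' := by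
            rw [e, Fin.sum_univ_two]; rfl
          have e1 := hπu (SubfieldGU.col P i)
          have e2 := hπu' (SubfieldGU.col P i)
          rw [e'] at e1 e2
          simp only [h_add_left, h_smul_left, huu, hu'u, hu'u', huu', mul_zero, mul_one, add_zero,
            zero_add] at e1 e2
          rw [e', e1, e2, zero_smul, zero_smul, add_zero]))
      have h1 := hadd ih hw ha haa (hav 0) (hav 1) (f i)
      have hau : h a u = 0 := hav 0
      have h3 := hadd h1 (by
        rw [h_add_left, hw, h_smul_left, hau, mul_zero, add_zero])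
        hb hbb (hbv 0) (hbv 1) (f i * μ)
      obtain ⟨k, hk, τ, ek⟩ := h3
      exact ⟨k, hk, τ, by rw [ek, e]; module⟩
  obtain ⟨k, hk, τ, ek⟩ := hreach Finset.univ (((P⁻¹ : GL (Fin n) F) : Mn) *ᵥ v₁)
  rw [show (∑ i, (((P⁻¹ : GL (Fin n) F) : Mn) *ᵥ v₁) i • π (SubfieldGU.col P i)) = π v₁ by
    conv_rhs => rw [eq_sum_col P v₁, map_sum]
    simp only [map_smul], hπ, hv₁u, one_smul] at ek
  obtain ⟨δ, hδ⟩ : ∃ δ, δ = h v₁ u' - τ := ⟨_, rfl⟩
  have hδs : δ + σ δ = 0 := by
    have e := G_isometry (O.le hk) u' u'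
    rw [ek, hu'u', show u' + (v₁ - u' - h v₁ u' • u) + τ • u = v₁ + (τ - h v₁ u') • u by module] at e
    simp only [h_add_left, h_add_right hF, h_smul_left, h_smul_right hF, hv₁v₁, hv₁u, huu,
      show h u v₁ = 1 by rw [← h_swap hF, hv₁u, map_one], map_sub, mul_one, mul_zero,
      zero_add, add_zero] at e
    rw [hδ, map_sub]
    linear_combination -e
  obtain ⟨g, hg, hgT⟩ := hT hu huu hδs
  have hfin := (hC u' hu' hu'u').conj (mul_mem hg hk) (O.le (mul_mem hg hk))
  rw [Units.val_mul, ← Matrix.mulVec_mulVec, ek, hgT] at hfin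
  convert hfin using 1
  simp only [h_add_left, h_sub_left, h_smul_left, hu'u, hv₁u, huu, hδ]
  module

/-- The orthogonal subgroups are maximal in `SU`. -/
theorem ou_subfield_maximal (S : OU hF F₀ P) :
    IsMaximalIn G (subfieldSubgroup F₀ P ⊓ G) := by
  have hn := S.dim
  refine ⟨lt_of_le_of_ne inf_le_right fun e => ?_, fun K hle hKG => ?_⟩
  · exact CfsgLib.Aschbacher.not_SU_le_subfield hF (by omega) Nat.prime_two S.card P
      (show G ≤ _ from e.ge.trans inf_le_left)
  by_cases hKH : K ≤ subfieldSubgroup F₀ P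
  · exact Or.inl (le_antisymm (le_inf hKH hKG) hle)
  have O : Over hF F₀ P K := ⟨S, hKG, hle⟩
  obtain ⟨g, hgK, hgS⟩ := SetLike.not_le_iff_exists.1 hKH
  exact Or.inr (le_antisymm hKG (SU_le_of_ctr (hF := hF) (by omega) fun x hx =>
    ctr_all O (ctr_rat O (wit_of_moved O hgK hgS)) hx))

end CfsgLib.MaxSub.SubfieldOU
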