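/-
Singer groups: centraliser and normaliser.
-/
import Mathlib

set_option autoImplicit false
set_option linter.style.haveILetI false
set_option linter.unusedSectionVars false

namespace CfsgLib.MaxSub

variable {F K : Type*} [Field F] [Fintype F] [Field K] [Fintype K] [Algebra F K]

variable (F K) in
/-- The Singer group. -/
abbrev singer : Subgroup (Module.End F K)ˣ :=
  (Units.map ((Algebra.lmul F K : K →ₐ[F] Module.End F K) : K →* Module.End F K)).range

variable (F) in
/-- Multiplication by a unit. -/
abbrev mulUnit : Kˣ →* (Module.End F K)ˣ :=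
  Units.map ((Algebra.lmul F K : K →ₐ[F] Module.End F K) : K →* Module.End F K)

theorem mulUnit_apply (u : Kˣ) (y : K) : (mulUnit F u : Module.End F K) y = (u : K) * y := rfl

theorem val_one_ne_zero (g : (Module.End F K)ˣ) : (g : Module.End F K) 1 ≠ 0 := by
  intro e
  have h : ((g⁻¹ * g : (Module.End F K)ˣ) : Module.End F K) 1 = 1 := by rw [inv_mul_cancel]; rfl
  rw [Units.val_mul, Module.End.mul_apply, e, map_zero] at h
  exact zero_ne_one h

theorem centralizer_singer : Subgroup.centralizer (singer F K : Set (Module.End F K)ˣ) = singer F K := by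
  refine le_antisymm (fun g hg => ?_) ?_
  · refine ⟨Units.mk0 _ (val_one_ne_zero g), Units.ext (LinearMap.ext fun y => ?_)⟩
    show (g : Module.End F K) 1 * y = (g : Module.End F K) y
    by_cases hy : y = 0
    · rw [hy, mul_zero, map_zero]
    · have h := congrArg (fun f : (Module.End F K)ˣ => (f : Module.End F K) 1)
        (Subgroup.mem_centralizer_iff.mp hg (mulUnit F (Units.mk0 y hy)) ⟨_, rfl⟩)
      simp only [Units.val_mul, Module.End.mul_apply, mulUnit_apply, Units.val_mk0, mul_one] at h
      rw [← h, mul_comm]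
  · rintro _ ⟨u, rfl⟩
    rw [Subgroup.mem_centralizer_iff]
    rintro _ ⟨v, rfl⟩
    rw [← map_mul, ← map_mul, mul_comm]

theorem normalizer_singer_card :
    Nat.card (Subgroup.normalizer (singer F K : Set (Module.End F K)ˣ)) =
      Module.finrank F K * (Fintype.card K - 1) := by
  classical
  haveI : Module.Finite F K := Module.Finite.of_finite
  let semi : (K ≃ₐ[F] K) → (Module.End F K)ˣ := fun σ =>
    { val := σ.toLinearMap
      inv := σ.symm.toLinearMap
      val_inv := LinearMap.ext fun y => σ.apply_symm_apply y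
      inv_val := LinearMap.ext fun y => σ.symm_apply_apply y }
  have hsemi : ∀ (σ : K ≃ₐ[F] K) (u : Kˣ),
      semi σ * mulUnit F u = mulUnit F (Units.map (σ : K →* K) u) * semi σ := fun σ u =>
    Units.ext (LinearMap.ext fun y => (map_mul σ (u : K) y))
  have hmem : ∀ (c : Kˣ) (σ : K ≃ₐ[F] K),
      mulUnit F c * semi σ ∈ Subgroup.normalizer (singer F K : Set (Module.End F K)ˣ) := by
    intro c σ
    refine Subgroup.mul_mem _ (Subgroup.le_normalizer ⟨c, rfl⟩) (Subgroup.mem_normalizer_iff.mpr fun x => ⟨?_, ?_⟩)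
    · rintro ⟨u, rfl⟩
      exact ⟨_, eq_mul_inv_of_mul_eq (hsemi σ u).symm⟩
    · rintro ⟨u, hu⟩
      refine ⟨Units.map (σ.symm : K →* K) u, ?_⟩
      have h := hsemi σ (Units.map (σ.symm : K →* K) u)
      rw [show Units.map (σ : K →* K) (Units.map (σ.symm : K →* K) u) = u from Units.ext (σ.apply_symm_apply _), hu,
        inv_mul_cancel_right] at h
      exact mul_left_cancel h
  let ψ : Kˣ × (K ≃ₐ[F] K) → Subgroup.normalizer (singer F K : Set (Module.End F K)ˣ) :=
    fun x => ⟨mulUnit F x.1 * semi x.2, hmem x.1 x.2⟩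
  have hψ : Function.Bijective ψ := by
    constructor
    · rintro ⟨c, σ⟩ ⟨c', σ'⟩ e
      have h : ∀ y : K, (c : K) * σ y = (c' : K) * σ' y := fun y =>
        congrArg (fun f : Subgroup.normalizer (singer F K : Set (Module.End F K)ˣ) => ((f : (Module.End F K)ˣ) : Module.End F K) y) e
      have hc : c = c' := Units.ext (by simpa using h 1)
      subst hc
      exact Prod.ext rfl (AlgEquiv.ext fun y => mul_left_cancel₀ c.ne_zero (h y))
    · rintro ⟨g, hg⟩
      have hg1 := val_one_ne_zero g
      set g' : Module.End F K := (g : Module.End F K) with hg'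
      have hmul : ∀ x y, g' (x * y) = g' x * (g' 1)⁻¹ * g' y := by
        intro x y
        by_cases hx : x = 0
        · rw [hx, zero_mul, map_zero, zero_mul, zero_mul]
        obtain ⟨u, hu⟩ := (Subgroup.mem_normalizer_iff.mp hg _).mp
          (⟨Units.mk0 x hx, rfl⟩ : mulUnit F (Units.mk0 x hx) ∈ singer F K)
        have e : ∀ z, g' (x * z) = (u : K) * g' z := fun z => by
          have h := congrArg (fun f : (Module.End F K)ˣ => (f : Module.End F K) z) (eq_mul_inv_iff_mul_eq.mp hu)
          exact h.symm
        rw [e y, show g' x = (u : K) * g' 1 by rw [← e 1, mul_one], mul_assoc (u : K), mul_inv_cancel₀ hg1, mul_one]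
      let s : K →ₗ[F] K := (LinearMap.mulRight F (g' 1)⁻¹).comp g'
      have hs : ∀ x, s x = g' x * (g' 1)⁻¹ := fun x => rfl
      let A : K →ₐ[F] K := AlgHom.ofLinearMap s (by rw [hs, mul_inv_cancel₀ hg1])
        (fun x y => by rw [hs, hs, hs, hmul]; ring)
      let σ : K ≃ₐ[F] K := AlgEquiv.ofBijective A (Finite.injective_iff_bijective.mp A.toRingHom.injective)
      refine ⟨(Units.mk0 _ hg1, σ), Subtype.ext (Units.ext (LinearMap.ext fun y => ?_))⟩
      show g' 1 * (g' y * (g' 1)⁻¹) = g' y
      field_simp
  rw [← Nat.card_congr (Equiv.ofBijective ψ hψ), Nat.card_prod, IsGalois.card_aut_eq_finrank, Nat.card_units,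
    Nat.card_eq_fintype_card, mul_comm]

end CfsgLib.MaxSub

namespace CfsgLib.MaxSub

variable {F K : Type*} [Field F] [Fintype F] [Field K] [Fintype K] [Algebra F K]

theorem singer_inter (n : ℕ) (hdim : Module.finrank F K = n) (g : (Module.End F K)ˣ)
    (hg : (singer F K).map (MulAut.conj g).toMonoidHom ≠ singer F K) :
    ∃ r : ℕ, 1 ≤ r ∧ r ∣ n ∧ r < n ∧
      Nat.card ↥((singer F K).map (MulAut.conj g).toMonoidHom ⊓ singer F K) ∣ Fintype.card F ^ r - 1 := by
  classical
  haveI : Module.Finite F K := Module.Finite.of_finite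
  set C := (singer F K).map (MulAut.conj g).toMonoidHom with hC
  set S : Subalgebra F K := (Subalgebra.centralizer F ((fun u : (Module.End F K)ˣ => (u : Module.End F K)) '' (C : Set (Module.End F K)ˣ))).comap
    (Algebra.lmul F K) with hS
  have hmemS : ∀ y, y ∈ S ↔ ∀ c ∈ C, (c : Module.End F K) * Algebra.lmul F K y = Algebra.lmul F K y * c := by
    intro y
    rw [hS, Subalgebra.mem_comap, Subalgebra.mem_centralizer_iff]
    exact ⟨fun h c hc => h _ ⟨c, hc, rfl⟩, fun h _ ⟨c, hc, e⟩ => e ▸ h c hc⟩
  let E : IntermediateField F K := S.toIntermediateField fun x hx => by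
    by_cases h0 : x = 0
    · rw [h0, inv_zero]; exact zero_mem S
    · have hq : 2 ≤ Fintype.card K := Fintype.one_lt_card
      have : x⁻¹ = x ^ (Fintype.card K - 2) := by
        refine inv_eq_of_mul_eq_one_right ?_
        rw [← pow_succ', show Fintype.card K - 2 + 1 = Fintype.card K - 1 by omega,
          FiniteField.pow_card_sub_one_eq_one x h0]
      rw [this]; exact pow_mem hx _
  refine ⟨Module.finrank F E, Module.finrank_pos, ⟨Module.finrank E K, by rw [← hdim, Module.finrank_mul_finrank]⟩, ?_, ?_⟩
  · rw [← hdim]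
    refine lt_of_le_of_ne (Submodule.finrank_le (Subalgebra.toSubmodule E.toSubalgebra)) fun e => hg ?_
    have htop : Subalgebra.toSubmodule E.toSubalgebra = ⊤ := Submodule.eq_top_of_finrank_eq e
    have hle : C ≤ Subgroup.centralizer (singer F K : Set (Module.End F K)ˣ) := by
      intro c hc
      rw [Subgroup.mem_centralizer_iff]
      rintro _ ⟨u, rfl⟩
      have hu : (u : K) ∈ Subalgebra.toSubmodule E.toSubalgebra := htop ▸ Submodule.mem_top
      exact Units.ext ((hmemS _).mp hu c hc).symm
    rw [centralizer_singer] at hle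
    exact Subgroup.eq_of_le_of_card_ge hle (by
      rw [hC, Subgroup.card_map_of_injective (MulAut.conj g).injective])
  · have hinj : Function.Injective (mulUnit F : Kˣ →* (Module.End F K)ˣ) := fun u v e => by
      have := congrArg (fun w : (Module.End F K)ˣ => (w : Module.End F K) 1) e
      exact Units.ext (by simpa [mulUnit_apply] using this)
    let D : Subgroup Kˣ := (C ⊓ singer F K).comap (mulUnit F)
    have hD : D.map (mulUnit F) = C ⊓ singer F K :=
      Subgroup.map_comap_eq_self inf_le_right
    rw [← hD, Subgroup.card_map_of_injective hinj]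
    have hsub : ∀ d : D, ((d : Kˣ) : K) ∈ E := fun d => by
      show ((d : Kˣ) : K) ∈ S
      rw [hmemS]
      intro c hc
      obtain ⟨c', ⟨u, rfl⟩, rfl⟩ := hc
      obtain ⟨e', ⟨v, rfl⟩, he⟩ := (Subgroup.mem_inf.mp d.2).1
      have hcomm : (MulAut.conj g) (mulUnit F u) * mulUnit F (d : Kˣ) = mulUnit F (d : Kˣ) * (MulAut.conj g) (mulUnit F u) := by
        rw [← he, MulEquiv.coe_toMonoidHom, ← map_mul, ← map_mul, ← map_mul, ← map_mul, mul_comm]
      exact congrArg Units.val hcomm
    let φ : D →* Eˣ :=
      { toFun := fun d => Units.mk0 (⟨((d : Kˣ) : K), hsub d⟩ : E) (fun e => (d : Kˣ).ne_zero (congrArg Subtype.val e))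
        map_one' := Units.ext (Subtype.ext rfl)
        map_mul' := fun a b => Units.ext (Subtype.ext rfl) }
    have hφ : Function.Injective φ := fun a b e =>
      Subtype.ext (Units.ext (congrArg (fun x : Eˣ => ((x : E) : K)) e))
    haveI : Fintype E := Fintype.ofFinite E
    have h := Subgroup.card_dvd_of_injective φ hφ
    rwa [Nat.card_units, Nat.card_eq_fintype_card (α := E), Module.card_eq_pow_finrank (K := F) (V := E)] at h

end CfsgLib.MaxSub
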