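/-
Stabilisers of non-degenerate subspaces are maximal in `Ω`, odd characteristic, down to dimension five.
-/
import Cfsg.Agent.Lib.MaxSub.SubspaceMaximalOrth

set_option autoImplicit false
set_option maxHeartbeats 400000

namespace CfsgLib.MaxSub.Orth

open QuadraticMap Module CfsgLib.WittExtension CfsgLib.SpinorNorm CfsgLib.Eichler
open CfsgLib.OmegaSimple (eich_conj eich_scale eich_mem)

variable {F V : Type*} [Field F] [AddCommGroup V] [Module F V] [FiniteDimensional F V]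
  {Q : QuadraticForm F V}

/-- An Eichler transformation with a centre off both sides preserves them only trivially. -/
theorem eich_preserve (h2 : (2 : F) ≠ 0) {W : Submodule F V}
    (hW : ∀ x ∈ W, (∀ y ∈ W, polar Q x y = 0) → x = 0)
    (hP : ∀ x ∈ orth Q W, (∀ y ∈ orth Q W, polar Q x y = 0) → x = 0)
    {w p u v : V} (hw : w ∈ W) (hw0 : w ≠ 0) (hp : p ∈ orth Q W) (hp0 : p ≠ 0)
    (hu : u ∈ W) (hv : v ∈ orth Q W) {s : quadIso Q} (hs : IsEich Q (w + p) (u + v) s)
    (hsW : s ∈ St Q W) : ∃ μ : F, u + v = μ • (w + p) := by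
  set P := orth Q W with hPdef
  have hinf : ∀ x, x ∈ W → x ∈ P → x = 0 := fun x hx hx' =>
    hW x hx fun y hy => orth_comm hx' hy
  set κ := Q (u + v) with hκ
  have hWy : ∀ y ∈ W, polar Q w y • v = (polar Q u y + κ * polar Q w y) • p := fun y hy => by
    refine sub_eq_zero.1 (hinf _ ?_ (P.sub_mem (P.smul_mem _ hv) (P.smul_mem _ hp)))
    have h1 := maps_of_mem hsW hy
    rw [hs y, polar_add_left, orth_comm hp hy, add_zero, polar_add_left, orth_comm hv hy,
      add_zero] at h1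
    have h3 := W.sub_mem (W.sub_mem h1 hy) (W.sub_mem (W.smul_mem (polar Q w y) hu)
      (W.smul_mem (polar Q u y + κ * polar Q w y) hw))
    convert h3 using 1
    rw [hκ]
    module
  have hPy : ∀ y ∈ P, polar Q p y • u = (polar Q v y + κ * polar Q p y) • w := fun y hy => by
    refine sub_eq_zero.1 (hinf _ (W.sub_mem (W.smul_mem _ hu) (W.smul_mem _ hw)) ?_)
    have h1 := maps_of_mem (St_orth hsW) hy
    rw [hs y, polar_add_left, polar_comm Q w y, orth_comm hy hw, zero_add, polar_add_left,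
      polar_comm Q u y, orth_comm hy hu, zero_add] at h1
    have h3 := P.sub_mem (P.sub_mem h1 hy) (P.sub_mem (P.smul_mem (polar Q p y) hv)
      (P.smul_mem (polar Q v y + κ * polar Q p y) hp))
    convert h3 using 1
    rw [hκ]
    module
  obtain ⟨y₁, hy₁, hwy⟩ : ∃ y ∈ W, polar Q w y ≠ 0 := by
    by_contra hc
    push Not at hc
    exact hw0 (hW w hw hc)
  obtain ⟨y₂, hy₂, hpy⟩ : ∃ y ∈ P, polar Q p y ≠ 0 := by
    by_contra hc
    push Not at hc
    exact hp0 (hP p hp hc)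
  set μ := (polar Q u y₁ + κ * polar Q w y₁) / polar Q w y₁ with hμ
  have hvμ : v = μ • p := by
    refine smul_right_injective V hwy ?_
    show polar Q w y₁ • v = polar Q w y₁ • μ • p
    rw [hWy y₁ hy₁, smul_smul, hμ, mul_div_cancel₀ _ hwy]
  have huμ : u = (μ - κ) • w := by
    refine sub_eq_zero.1 (hW _ (W.sub_mem hu (W.smul_mem _ hw)) fun y hy => ?_)
    have h1 := hWy y hy
    rw [hvμ, smul_smul] at h1
    have h3 := smul_left_injective F hp0 h1
    rw [polar_sub_left, polar_smul_left, smul_eq_mul]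
    linear_combination -h3
  have h1 := hPy y₂ hy₂
  rw [huμ, hvμ, smul_smul, polar_smul_left, smul_eq_mul] at h1
  have h3 := smul_left_injective F hw0 h1
  have hκ0 : κ = 0 := by
    have : (2 * polar Q p y₂) * κ = 0 := by linear_combination -h3
    exact (mul_eq_zero.1 this).resolve_left (mul_ne_zero h2 hpy)
  exact ⟨μ, by rw [huμ, hvμ, hκ0]; module⟩

variable [Fintype F] (hQ : (polarBilin Q).Nondegenerate) (hn : 5 ≤ finrank F V)
  {K : Subgroup (quadIso Q)}

include hQ hn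

/-- Stabilisers of non-degenerate subspaces are maximal in `Ω` in odd characteristic when the perpendicular
has dimension at least four. -/
theorem maxStab_nondeg_odd (h2 : (2 : F) ≠ 0) {W : Submodule F V} (h0 : W ≠ ⊥)
    (hW : ∀ x ∈ W, (∀ y ∈ W, polar Q x y = 0) → x = 0) (hle : 2 * finrank F W ≤ finrank F V)
    (hP4 : 4 ≤ finrank F (orth Q W))
    (hiso : ∀ g : quadIso Q, ¬ (orth Q W).map (g.1 : V →ₗ[F] V) ≤ W)
    (hex : ¬ (Fintype.card F ≤ 3 ∧ finrank F W = 2 ∧ ∃ z ∈ W, z ≠ 0 ∧ Q z = 0)) :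
    MaxStab Q W := by
  classical
  set P := orth Q W with hPdef
  have hdim : finrank F W + finrank F P = finrank F V := finrank_orth hQ W
  have hinf : ∀ x, x ∈ W → x ∈ P → x = 0 := fun x hx hx' =>
    hW x hx fun y hy => orth_comm hx' hy
  have hsup : ∀ x, ∃ a ∈ W, ∃ b ∈ P, a + b = x := fun x => by
    have h1 := Submodule.finrank_sup_add_finrank_inf_eq W P
    have h2 : W ⊓ P = ⊥ := eq_bot_iff.2 fun x hx => (Submodule.mem_bot F).2 (hinf x hx.1 hx.2)
    rw [h2, finrank_bot] at h1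
    have h3 : W ⊔ P = ⊤ := Submodule.eq_top_of_finrank_eq (by omega)
    exact Submodule.mem_sup.1 (h3 ▸ Submodule.mem_top : x ∈ W ⊔ P)
  have hPn : ∀ x ∈ P, (∀ y ∈ P, polar Q x y = 0) → x = 0 := fun x hx h => hQ.1 x fun z => by
    obtain ⟨a, ha, b, hb, rfl⟩ := hsup z
    show polar Q x (a + b) = 0
    rw [polar_add_right, orth_comm hx ha, h b hb, add_zero]
  have h1 : W ≠ ⊤ := fun h => by rw [h, finrank_top] at hle; omega
  refine ⟨not_le_St hQ hn h0 h1, fun K hKG hHK g hg hgW => ?_⟩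
  have hPA : ∀ {e a : V}, e ∈ P → a ∈ P → e ≠ 0 → Q e = 0 → polar Q e a = 0 → InA K e a :=
    fun he ha he0 hes hea => inA_of_maps hQ hn hHK he0 hes hea fun w hw => by
      rw [orth_comm he hw, orth_comm ha hw]; simpa using hw
  -- a conjugate Eichler transformation outside the stabiliser
  obtain ⟨e₀, he₀P, he₀0, he₀, a₀, ha₀P, hea₀, t, ht, hs⟩ : ∃ e₀ ∈ P, e₀ ≠ 0 ∧ Q e₀ = 0 ∧
      ∃ a₀ ∈ P, polar Q e₀ a₀ = 0 ∧ ∃ t, IsEich Q e₀ a₀ t ∧ g * t * g⁻¹ ∉ St Q W := by
    by_contra hc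
    push Not at hc
    have hside : ∀ e ∈ P, e ≠ 0 → Q e = 0 → (∀ a ∈ P, polar Q e a = 0 → g.1 a ∈ W) ∨
        (∀ a ∈ P, polar Q e a = 0 → g.1 a ∈ P) := by
      intro e heP he0 he
      obtain ⟨f, -, -, -, -, a₁, ha₁, a₂, ha₂, h1, h2, h12⟩ :=
        pair_data_four hPn hP4 heP he0 he
      set S := (P ⊓ LinearMap.ker (polarBilin Q e)).map (g.1 : V →ₗ[F] V) with hS
      have hge : Q (g.1 e) = 0 := by rw [g.2, he]
      have key : ∀ X : Submodule F V, (∀ k ∈ St Q W, k ∈ St Q X) →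
          (∃ x ∈ X, polar Q (g.1 e) x ≠ 0) → ∀ a ∈ P, polar Q e a = 0 → g.1 a ∈ X := by
        intro X hX ⟨x, hx, hex'⟩ a ha hea
        refine (eich_core (Q := Q) (W := X) (S := S) hge hx hex' ?_
          (Submodule.mem_map_of_mem ⟨ha₁, h1⟩) (Submodule.mem_map_of_mem ⟨ha₂, h2⟩) ?_ ?_).2
          (Submodule.mem_map_of_mem ⟨ha, hea⟩)
        · rintro _ ⟨b, hb, rfl⟩
          show polar Q (g.1 e) (g.1 b) = 0
          rw [OrthOrder.polar_map g.2]
          exact hb.2
        · show polar Q (g.1 a₁) (g.1 a₂) ≠ 0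
          rw [OrthOrder.polar_map g.2, h12]
          exact one_ne_zero
        · rintro _ ⟨b, hb, rfl⟩ g' hg' y hy
          obtain ⟨t, ht⟩ := exists_eich Q he (show polar Q e b = 0 from hb.2)
          rw [eich_unique Q hg' (eich_conj Q ht g)]
          exact maps_of_mem (hX _ (hc e heP he0 he b hb.1 hb.2 t ht)) hy
      obtain ⟨x, hx⟩ : ∃ x, polar Q (g.1 e) x ≠ 0 := by
        by_contra h
        push Not at h
        exact he0 (g.1.injective ((hQ.1 _ h).trans g.1.map_zero.symm))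
      obtain ⟨u, hu, v, hv, rfl⟩ := hsup x
      by_cases hxu : polar Q (g.1 e) u = 0
      · refine Or.inr (key P (fun k hk => St_orth hk) ⟨v, hv, fun h => hx ?_⟩)
        rw [polar_add_right, hxu, h, add_zero]
      · exact Or.inl (key W (fun k hk => hk) ⟨u, hu, hxu⟩)
    obtain ⟨e, heP, he0, he⟩ := exists_singular_in (Q := Q) (S := P) (by omega)
    obtain ⟨f, hfP, hf, hef, huniv, -⟩ := pair_data_four hPn hP4 heP he0 he
    have hf0 : f ≠ 0 := fun h => by simp [h] at hef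
    obtain ⟨a, haP, ha0, hea, hfa, -⟩ := huniv 1 one_ne_zero
    have hga : g.1 a ≠ 0 := fun h => ha0 (g.1.injective (h.trans g.1.map_zero.symm))
    have hall : ∀ X : Submodule F V, (∀ a ∈ P, polar Q e a = 0 → g.1 a ∈ X) →
        (∀ a ∈ P, polar Q f a = 0 → g.1 a ∈ X) → P.map (g.1 : V →ₗ[F] V) ≤ X := by
      rintro X h1 h2 _ ⟨z, hz, rfl⟩
      have e1 := h1 (z - polar Q e z • f) (P.sub_mem hz (P.smul_mem _ hfP)) (by
        rw [polar_sub_right, polar_smul_right, hef, smul_eq_mul, mul_one, sub_self])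
      have e2 := h2 f hfP (by rw [ReflectionGen.pol_self, hf, mul_zero])
      have e3 := X.add_mem e1 (X.smul_mem (polar Q e z) e2)
      rw [map_sub, map_smul, sub_add_cancel] at e3
      exact e3
    rcases hside e heP he0 he with h1 | h1 <;> rcases hside f hfP hf0 hf with h2 | h2
    · exact hiso g (hall W h1 h2)
    · exact hga (hinf _ (h1 a haP hea) (h2 a haP hfa))
    · exact hga (hinf _ (h2 a haP hfa) (h1 a haP hea))
    · refine hgW ((St_orth_eq hQ W) ▸ mem_St fun x hx => ?_)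
      exact hall P h1 h2 ⟨x, hx, rfl⟩
  -- a conjugate fixing a singular vector of the perpendicular
  obtain ⟨s, hsK, hs, e, heP, he0', he', hfix⟩ : ∃ s ∈ K, s ∉ St Q W ∧
      ∃ e ∈ P, e ≠ 0 ∧ Q e = 0 ∧ s.1 e = e := by
    have hge₀ : Q (g.1 e₀) = 0 := by rw [g.2, he₀]
    have hfix : ∀ (a : V) (t : quadIso Q), IsEich Q e₀ a t → ∀ x, polar Q (g.1 e₀) x = 0 →
        polar Q (g.1 a) x = 0 → (g * t * g⁻¹).1 x = x := fun a t ht x h1 h2 => by
      rw [eich_conj Q ht g x, h1, h2]; simp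
    have hmem : ∀ (a : V) (t : quadIso Q), a ∈ P → polar Q e₀ a = 0 → IsEich Q e₀ a t →
        g * t * g⁻¹ ∈ K := fun a t ha hea ht =>
      mul_mem (mul_mem hg (hPA he₀P ha he₀0 he₀ hea t ht)) (inv_mem hg)
    obtain ⟨w, hw, p, hp, hwp⟩ := hsup (g.1 e₀)
    by_cases hw0 : w = 0
    · refine ⟨_, hmem a₀ t ha₀P hea₀ ht, hs, g.1 e₀, ?_,
        fun h => he₀0 (g.1.injective (h.trans g.1.map_zero.symm)), hge₀,
        hfix a₀ t ht _ (by rw [ReflectionGen.pol_self, hge₀]; simp)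
          (by rw [OrthOrder.polar_map g.2, polar_comm, hea₀])⟩
      rw [← hwp, hw0, zero_add]
      exact hp
    by_cases hp0 : p = 0
    · have hGW : g.1 e₀ ∈ W := by rw [← hwp, hp0, add_zero]; exact hw
      have hT := finrank_inf_ker P (polarBilin Q (g.1 a₀))
      obtain ⟨x, hx, hx0, hxs⟩ := exists_singular_in (Q := Q)
        (S := P ⊓ LinearMap.ker (polarBilin Q (g.1 a₀))) (by omega)
      exact ⟨_, hmem a₀ t ha₀P hea₀ ht, hs, x, hx.1, hx0, hxs,
        hfix a₀ t ht x (by rw [polar_comm]; exact orth_comm hx.1 hGW) hx.2⟩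
    obtain ⟨x, hx, hx0, hxs⟩ := exists_singular_in (Q := Q)
      (S := P ⊓ LinearMap.ker (polarBilin Q (g.1 e₀))) (by
        have := finrank_inf_ker P (polarBilin Q (g.1 e₀))
        omega)
    obtain ⟨a, ha, hae⟩ : ∃ a ∈ P ⊓ LinearMap.ker (polarBilin Q e₀) ⊓
        LinearMap.ker (polarBilin Q (g.1.symm x)), a ∉ Submodule.span F ({e₀} : Set V) := by
      refine SetLike.not_le_iff_exists.1 fun h => ?_
      have h1 := finrank_inf_ker P (polarBilin Q e₀)
      have h3 := finrank_inf_ker (P ⊓ LinearMap.ker (polarBilin Q e₀)) (polarBilin Q (g.1.symm x))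
      have h4 := Submodule.finrank_mono h
      rw [finrank_span_singleton he₀0] at h4
      omega
    obtain ⟨ta, hta⟩ := exists_eich Q he₀ (show polar Q e₀ a = 0 from ha.1.2)
    refine ⟨_, hmem a ta ha.1.1 ha.1.2 hta, fun hst => hae ?_, x, hx.1, hx0, hxs,
      hfix a ta hta x hx.2 ?_⟩
    · obtain ⟨u, hu, v, hv, huv⟩ := hsup (g.1 a)
      have hsE := eich_conj Q hta g
      rw [← hwp, ← huv] at hsE
      obtain ⟨μ, hμ⟩ := eich_preserve h2 hW hPn hw hw0 hp hp0 hu hv hsE hst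
      rw [huv, hwp, ← map_smul] at hμ
      rw [g.1.injective hμ]
      exact Submodule.smul_mem _ _ (Submodule.mem_span_singleton_self e₀)
    · rw [← g.1.apply_symm_apply x, OrthOrder.polar_map g.2, polar_comm]
      exact ha.2
  exact le_of_vector hQ hn hW hHK hP4 hex heP he0' he'
    (exists_vector hQ hn hW hHK hKG hP4 hsK hs heP he0' he' hfix)

end CfsgLib.MaxSub.Orth
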