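/-
Rational structures of orthogonal spaces in any characteristic.
-/
import Cfsg.Agent.Lib.MaxSub.RationalTools
import Cfsg.Agent.Lib.MaxSub.FormMaximalSLOrth

set_option autoImplicit false
set_option maxHeartbeats 800000

namespace CfsgLib.MaxSub.SubfieldOrth

open Matrix Module Cfsg Cfsg.Geo CfsgLib.MaxSub.Rational
open QuadraticMap (polar polarBilin)

variable {F : Type*} [Field F] {ι : Type} [Fintype ι] [DecidableEq ι]

local notation "V" => (ι → F)
local notation "Mn" => Matrix ι ι F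

/-- The scaled polar form. -/
def pf (ζ : F) (R : QuadraticForm F (ι → F)) (u v : ι → F) : F := ζ * polar R u v

/-- The rational vectors of the structure. -/
def IsR (F₀ : Subfield F) (P : GL ι F) (v : ι → F) : Prop :=
  ∃ u, Rat F₀ u ∧ (P : Matrix ι ι F) *ᵥ u = v

/-- The structure. -/
structure OS (F₀ : Subfield F) (ζ : F) (R : QuadraticForm F (ι → F)) (P : GL ι F) : Prop where
  dim : 7 ≤ Fintype.card ι
  ne : ζ ≠ 0
  nd : (polarBilin R).Nondegenerate
  rat : ∀ u : ι → F, Rat F₀ u → ζ * R ((P : Matrix ι ι F) *ᵥ u) ∈ F₀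

variable {F₀ : Subfield F} {ζ : F} {R : QuadraticForm F (ι → F)} {P : GL ι F}

local notation "f" => pf ζ R

@[simp] theorem f_add_left (u v w : V) : f (u + v) w = f u w + f v w := by
  simp only [pf, QuadraticMap.polar_add_left, mul_add]

@[simp] theorem f_add_right (u v w : V) : f u (v + w) = f u v + f u w := by
  simp only [pf, QuadraticMap.polar_add_right, mul_add]

@[simp] theorem f_smul_left (c : F) (u w : V) : f (c • u) w = c * f u w := by
  simp only [pf, QuadraticMap.polar_smul_left, smul_eq_mul]; ring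

@[simp] theorem f_smul_right (c : F) (u w : V) : f u (c • w) = c * f u w := by
  simp only [pf, QuadraticMap.polar_smul_right, smul_eq_mul]; ring

theorem f_comm (u v : V) : f u v = f v u := by rw [pf, pf, QuadraticMap.polar_comm]

@[simp] theorem f_sub_left (u v w : V) : f (u - v) w = f u w - f v w := by
  simp only [pf, QuadraticMap.polar_sub_left, mul_sub]

@[simp] theorem f_sub_right (u v w : V) : f u (v - w) = f u v - f u w := by
  simp only [pf, QuadraticMap.polar_sub_right, mul_sub]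

@[simp] theorem f_zero_left (u : V) : f 0 u = 0 := by simp [pf]

@[simp] theorem f_zero_right (u : V) : f u 0 = 0 := by simp [pf]

theorem f_self {u : V} (hu : R u = 0) : f u u = 0 := by
  rw [pf, QuadraticMap.polar_self, hu, smul_zero, mul_zero]

theorem R_add {u v : V} (hu : R u = 0) (hv : R v = 0) (huv : f u v = 0) (hζ : ζ ≠ 0) :
    R (u + v) = 0 := by
  rw [QuadraticMap.map_add R, hu, hv, (mul_eq_zero.1 huv).resolve_left hζ, add_zero, add_zero]

theorem R_smul {u : V} (hu : R u = 0) (c : F) : R (c • u) = 0 := by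
  rw [QuadraticMap.map_smul, hu, smul_zero]

theorem R_sub {u v : V} (hu : R u = 0) (hv : R v = 0) (huv : f u v = 0) (hζ : ζ ≠ 0) :
    R (u - v) = 0 := by
  rw [sub_eq_add_neg, ← neg_one_smul F v]
  exact R_add hu (R_smul hv _) (by rw [f_smul_right, huv, mul_zero]) hζ

theorem IsR.add {u v : V} (hu : IsR F₀ P u) (hv : IsR F₀ P v) : IsR F₀ P (u + v) := by
  obtain ⟨x, hx, rfl⟩ := hu
  obtain ⟨y, hy, rfl⟩ := hv
  exact ⟨x + y, rat_add hx hy, Matrix.mulVec_add _ _ _⟩

theorem IsR.sub {u v : V} (hu : IsR F₀ P u) (hv : IsR F₀ P v) : IsR F₀ P (u - v) := by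
  obtain ⟨x, hx, rfl⟩ := hu
  obtain ⟨y, hy, rfl⟩ := hv
  exact ⟨x - y, rat_sub hx hy, Matrix.mulVec_sub _ _ _⟩

theorem IsR.smul {c : F} (hc : c ∈ F₀) {v : V} (hv : IsR F₀ P v) : IsR F₀ P (c • v) := by
  obtain ⟨x, hx, rfl⟩ := hv
  exact ⟨c • x, rat_smul hc hx, Matrix.mulVec_smul _ _ _⟩

theorem IsR.zero : IsR F₀ P (0 : V) := ⟨0, rat_zero, Matrix.mulVec_zero _⟩

theorem f_rat (S : OS F₀ ζ R P) {u v : V} (hu : IsR F₀ P u) (hv : IsR F₀ P v) : f u v ∈ F₀ := by
  obtain ⟨x, hx, rfl⟩ := hu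
  obtain ⟨y, hy, rfl⟩ := hv
  rw [pf, polar, ← Matrix.mulVec_add, mul_sub, mul_sub]
  exact F₀.sub_mem (F₀.sub_mem (S.rat _ (rat_add hx hy)) (S.rat _ hx)) (S.rat _ hy)

theorem R_rat (S : OS F₀ ζ R P) {u : V} (hu : IsR F₀ P u) : ζ * R u ∈ F₀ := by
  obtain ⟨x, hx, rfl⟩ := hu
  exact S.rat x hx

/-- A rational basis vector. -/
def col (P : GL ι F) (i : ι) : ι → F := (P : Matrix ι ι F) *ᵥ Pi.single i 1

theorem col_rat (i : ι) : IsR F₀ P (col P i) := ⟨_, rat_single i, rfl⟩

theorem col_ne (i : ι) : col P i ≠ 0 := fun e => by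
  have h1 := Matrix.mulVec_injective_iff_isUnit.2 P.isUnit (e.trans (Matrix.mulVec_zero _).symm)
  simpa using congrFun h1 i

theorem eq_sum_col (P : GL ι F) (v : V) :
    v = ∑ i, (((P⁻¹ : GL ι F) : Mn) *ᵥ v) i • col P i := by
  have e : v = (P : Mn) *ᵥ (((P⁻¹ : GL ι F) : Mn) *ᵥ v) := by
    rw [Matrix.mulVec_mulVec, Units.mul_inv, Matrix.one_mulVec]
  conv_lhs => rw [e, pi_eq_sum_univ' (((P⁻¹ : GL ι F) : Mn) *ᵥ v), Matrix.mulVec_sum]
  exact Finset.sum_congr rfl fun i _ => Matrix.mulVec_smul _ _ _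

theorem f_sum_left {κ : Type*} (s : Finset κ) (g : κ → V) (w : V) :
    f (∑ i ∈ s, g i) w = ∑ i ∈ s, f (g i) w :=
  map_sum (AddMonoidHom.mk' (fun y => f y w) fun a b => f_add_left a b w) g s

theorem eq_zero_of_values (S : OS F₀ ζ R P) {d : V} (e : ∀ i, f (col P i) d = 0) : d = 0 := by
  refine S.nd.1 d fun y => ?_
  show polar R d y = 0
  have h0 : f y d = 0 := by
    rw [eq_sum_col P y, f_sum_left]
    exact Finset.sum_eq_zero fun i _ => by rw [f_smul_left, e, mul_zero]
  rw [QuadraticMap.polar_comm]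
  exact (mul_eq_zero.1 h0).resolve_left S.ne

/-- A vector with rational values, up to a scalar, is rational up to that scalar. -/
theorem exists_eq_smul [Finite F] (S : OS F₀ ζ R P) {x : V} {c : F} (hc : c ≠ 0)
    (h : ∀ i, f (col P i) x / c ∈ F₀) : ∃ r, IsR F₀ P r ∧ x = c • r := by
  let Φ : (ι → F₀) → (ι → F₀) := fun w i =>
    ⟨f (col P i) ((P : Mn) *ᵥ fun j => (w j : F)), f_rat S (col_rat i) ⟨_, fun j => (w j).2, rfl⟩⟩
  have hΦ : Function.Injective Φ := fun w w' e => by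
    have h0 : (P : Mn) *ᵥ (fun j => (w j : F)) - (P : Mn) *ᵥ (fun j => (w' j : F)) = 0 :=
      eq_zero_of_values S fun i => by
        rw [f_sub_right, sub_eq_zero]
        exact congrArg Subtype.val (congrFun e i)
    have h1 := Matrix.mulVec_injective_iff_isUnit.2 P.isUnit (sub_eq_zero.1 h0)
    exact funext fun j => Subtype.ext (congrFun h1 j)
  obtain ⟨w, hw⟩ := Finite.injective_iff_surjective.1 hΦ fun i => ⟨_, h i⟩
  refine ⟨_, ⟨_, fun j => (w j).2, rfl⟩, sub_eq_zero.1 (eq_zero_of_values S fun i => ?_)⟩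
  have e : f (col P i) ((P : Mn) *ᵥ fun j => (w j : F)) = f (col P i) x / c :=
    congrArg Subtype.val (congrFun hw i)
  rw [f_sub_right, f_smul_right, e, mul_div_cancel₀ _ hc, sub_self]

/-- Applying a linear functional to the coefficients of a relation between rational vectors. -/
theorem map_relation {κ : Type*} [Fintype κ] {w : κ → V} (hw : ∀ i, IsR F₀ P (w i)) {c : κ → F}
    (L : F →ₗ[F₀] F₀) (e : ∑ i, c i • w i = 0) : ∑ i, ((L (c i) : F₀) : F) • w i = 0 := by
  choose x hx hxe using hw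
  have e1 : ∑ i, c i • x i = 0 := by
    refine Matrix.mulVec_injective_iff_isUnit.2 P.isUnit ?_
    show (P : Mn) *ᵥ _ = (P : Mn) *ᵥ 0
    rw [Matrix.mulVec_zero, Matrix.mulVec_sum, ← e]
    exact Finset.sum_congr rfl fun i _ => by rw [Matrix.mulVec_smul, hxe]
  have e2 : ∑ i, ((L (c i) : F₀) : F) • x i = 0 := by
    funext j
    have h1 := congrFun e1 j
    simp only [Finset.sum_apply, Pi.smul_apply, Pi.zero_apply, smul_eq_mul] at h1 ⊢
    have h2 := congrArg (fun y => ((L y : F₀) : F)) h1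
    simp only [map_sum, map_zero] at h2
    rw [show ((0 : F₀) : F) = 0 from rfl, AddSubmonoidClass.coe_finsetSum] at h2
    rw [← h2]
    refine Finset.sum_congr rfl fun i _ => ?_
    have h3 := L.map_smul (⟨x i j, hx i j⟩ : F₀) (c i)
    have h4 := congrArg Subtype.val h3
    simp only [Subfield.smul_def, smul_eq_mul, Subfield.coe_mul] at h4
    rw [mul_comm (c i), h4, mul_comm]
  calc ∑ i, ((L (c i) : F₀) : F) • w i = (P : Mn) *ᵥ ∑ i, ((L (c i) : F₀) : F) • x i := by
        rw [Matrix.mulVec_sum]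
        exact Finset.sum_congr rfl fun i _ => by rw [Matrix.mulVec_smul, hxe]
    _ = 0 := by rw [e2, Matrix.mulVec_zero]

/-- A functional separating an element from a line over the subfield. -/
theorem exists_functional {a b : F} (h : ∀ s ∈ F₀, b ≠ s * a) :
    ∃ L : F →ₗ[F₀] F₀, L a = 0 ∧ L b = 1 := by
  have hb : b ∉ Submodule.span F₀ {a} := fun hm => by
    obtain ⟨s, e⟩ := Submodule.mem_span_singleton.1 hm
    exact h s s.2 (by rw [← e]; rfl)
  obtain ⟨L, hLb, hL⟩ := Submodule.exists_dual_map_eq_bot_of_notMem hb inferInstance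
  have ha : L a = 0 := by
    have : L a ∈ (Submodule.span F₀ {a}).map L :=
      Submodule.mem_map_of_mem (Submodule.mem_span_singleton_self a)
    rwa [hL, Submodule.mem_bot] at this
  exact ⟨(L b)⁻¹ • L, by simp [ha], by simp [hLb]⟩

variable (P) in
/-- The rational vector with given coordinates. -/
noncomputable def emb (F₀ : Subfield F) (u : Fin (Fintype.card ι) → F₀) : ι → F :=
  (P : Matrix ι ι F) *ᵥ fun j => (u (Fintype.equivFin ι j) : F)

theorem emb_rat (u : Fin (Fintype.card ι) → F₀) : IsR F₀ P (emb P F₀ u) :=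
  ⟨_, fun j => (u (Fintype.equivFin ι j)).2, rfl⟩

theorem exists_emb {v : V} (hv : IsR F₀ P v) : ∃ u, emb P F₀ u = v := by
  obtain ⟨x, hx, rfl⟩ := hv
  exact ⟨fun j => ⟨x ((Fintype.equivFin ι).symm j), hx _⟩, by simp [emb]⟩

theorem emb_add (u w : Fin (Fintype.card ι) → F₀) :
    emb P F₀ (u + w) = emb P F₀ u + emb P F₀ w := by
  rw [emb, emb, emb, ← Matrix.mulVec_add]; rfl

theorem emb_smul (c : F₀) (u : Fin (Fintype.card ι) → F₀) :
    emb P F₀ (c • u) = (c : F) • emb P F₀ u := by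
  rw [emb, emb, ← Matrix.mulVec_smul]; rfl

theorem emb_injective : Function.Injective (emb P F₀) := fun u w e => funext fun j => Subtype.ext (by
  have := congrFun (Matrix.mulVec_injective_iff_isUnit.2 P.isUnit e) ((Fintype.equivFin ι).symm j)
  simpa using this)

/-- The rational quadratic form. -/
noncomputable def Qf (S : OS F₀ ζ R P) : QuadraticForm F₀ (Fin (Fintype.card ι) → F₀) :=
  QuadraticMap.ofPolar (fun u => ⟨ζ * R (emb P F₀ u), R_rat S (emb_rat u)⟩)
    (fun a u => Subtype.ext (by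
      show ζ * R (emb P F₀ (a • u)) = (a : F) * (a : F) * (ζ * R (emb P F₀ u))
      rw [emb_smul, QuadraticMap.map_smul, smul_eq_mul]; ring))
    (fun u u' w => Subtype.ext (by
      have := f_add_left (ζ := ζ) (R := R) (emb P F₀ u) (emb P F₀ u') (emb P F₀ w)
      simp only [pf, polar, ← emb_add] at this
      simp only [polar, Subfield.coe_sub, Subfield.coe_add]
      linear_combination this))
    (fun a u w => Subtype.ext (by
      have := f_smul_left (ζ := ζ) (R := R) (a : F) (emb P F₀ u) (emb P F₀ w)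
      simp only [pf, polar, ← emb_smul, ← emb_add] at this
      simp only [polar, Subfield.coe_sub, smul_eq_mul, Subfield.coe_mul]
      linear_combination this))

theorem Qf_val (S : OS F₀ ζ R P) (u : Fin (Fintype.card ι) → F₀) :
    ((Qf S u : F₀) : F) = ζ * R (emb P F₀ u) := rfl

theorem polar_val (S : OS F₀ ζ R P) (u w : Fin (Fintype.card ι) → F₀) :
    ((polar (Qf S) u w : F₀) : F) = f (emb P F₀ u) (emb P F₀ w) := by
  simp only [polar, pf, Subfield.coe_sub, Qf_val, emb_add, mul_sub]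

theorem nondeg (S : OS F₀ ζ R P) : (polarBilin (Qf S)).Nondegenerate := by
  have key : ∀ u, (∀ w, polar (Qf S) w u = 0) → u = 0 := by
    intro u hu
    have h0 : emb P F₀ u = 0 := eq_zero_of_values S fun i => by
      obtain ⟨w, hw⟩ := exists_emb (col_rat (F₀ := F₀) (P := P) i)
      rw [← hw, ← polar_val S, hu w]; rfl
    refine emb_injective (h0.trans ?_)
    rw [emb, ← Matrix.mulVec_zero (P : Mn)]; rfl
  refine ⟨fun u hu => key u fun w => ?_, fun u hu => key u fun w => hu w⟩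
  rw [QuadraticMap.polar_comm]
  exact hu w

/-- The radical of the perpendicular of rational vectors is small. -/
theorem rad_le [Finite F] (S : OS F₀ ζ R P) {k r : ℕ} {w : Fin k → Fin (Fintype.card ι) → F₀}
    (g : Fin r → V) (hg : ∀ i, IsR F₀ P (g i))
    (hrad : ∀ c : Fin k → F, (∀ i, c i ∈ F₀) →
      (∀ j, f (∑ i, c i • emb P F₀ (w i)) (emb P F₀ (w j)) = 0) →
      ∃ d : Fin r → F, (∀ i, d i ∈ F₀) ∧ ∑ i, c i • emb P F₀ (w i) = ∑ i, d i • g i)
    (hn : k + r + 3 ≤ Fintype.card ι) :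
    finrank F₀ (Submodule.comap (MaxSub.perpTo (Qf S) w).subtype
      (Orth.orth (Qf S) (MaxSub.perpTo (Qf S) w))) + 3 ≤ finrank F₀ (MaxSub.perpTo (Qf S) w) := by
  choose g' hg' using fun i => exists_emb (hg i)
  let L : (Fin (Fintype.card ι) → F₀) →+ V := AddMonoidHom.mk' (emb P F₀) emb_add
  have hL : ∀ {m : ℕ} (z : Fin m → Fin (Fintype.card ι) → F₀) (c : Fin m → F₀),
      emb P F₀ (∑ i, c i • z i) = ∑ i, (c i : F) • emb P F₀ (z i) := fun z c => by
    show L _ = _
    rw [map_sum]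
    exact Finset.sum_congr rfl fun i _ => emb_smul _ _
  have hle : ∀ x : Submodule.comap (MaxSub.perpTo (Qf S) w).subtype
      (Orth.orth (Qf S) (MaxSub.perpTo (Qf S) w)), (x.1.1 : Fin (Fintype.card ι) → F₀) ∈
      Submodule.span F₀ (Set.range g') := by
    rintro ⟨⟨x, hx⟩, hx'⟩
    have hsp : x ∈ Submodule.span F₀ (Set.range w) := MaxSub.mem_span_of_perpTo (nondeg S)
      fun y hy => (hx' y hy : polar (Qf S) y x = 0)
    obtain ⟨c, rfl⟩ := (Submodule.mem_span_range_iff_exists_fun F₀).1 hsp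
    obtain ⟨d, hd, e⟩ := hrad (fun i => (c i : F)) (fun i => (c i).2) fun j => by
      rw [← hL, ← polar_val S, MaxSub.mem_perpTo.1 hx j]; rfl
    refine (Submodule.mem_span_range_iff_exists_fun F₀).2
      ⟨fun i => ⟨d i, hd i⟩, emb_injective (P := P) ?_⟩
    rw [hL, hL, e]
    exact Finset.sum_congr rfl fun i _ => by rw [hg']
  let Lm := LinearMap.codRestrict
    (Submodule.span F₀ (Set.range g')) ((MaxSub.perpTo (Qf S) w).subtype.comp
      (Submodule.comap (MaxSub.perpTo (Qf S) w).subtype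
        (Orth.orth (Qf S) (MaxSub.perpTo (Qf S) w))).subtype) hle
  have hinj : Function.Injective Lm := fun x y h =>
    Subtype.ext (Subtype.ext (congrArg Subtype.val h :))
  have h1 := LinearMap.finrank_le_finrank_of_injective hinj
  have h2 := (finrank_range_le_card (R := F₀) g').trans_eq (Fintype.card_fin r)
  have h3 := MaxSub.finrank_perpTo (R := Qf S) w
  unfold Set.finrank at h2
  omega

/-- A singular rational vector orthogonal to given ones and avoiding a span. -/
theorem exists_out_gen [Finite F] (S : OS F₀ ζ R P) {k l r : ℕ} (v : Fin k → V)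
    (hv : ∀ i, IsR F₀ P (v i)) (u : Fin l → V) (hu : ∀ i, IsR F₀ P (u i))
    (g : Fin r → V) (hg : ∀ i, IsR F₀ P (g i))
    (hrad : ∀ c : Fin k → F, (∀ i, c i ∈ F₀) → (∀ j, f (∑ i, c i • v i) (v j) = 0) →
      ∃ d : Fin r → F, (∀ i, d i ∈ F₀) ∧ ∑ i, c i • v i = ∑ i, d i • g i)
    (hn : k + r + 3 ≤ Fintype.card ι) (hl : k + l < Fintype.card ι) :
    ∃ z, IsR F₀ P z ∧ R z = 0 ∧ (∀ i, f z (v i) = 0) ∧
      ∀ c : Fin l → F, (∀ i, c i ∈ F₀) → z ≠ ∑ i, c i • u i := by
  choose w hw using fun i => exists_emb (hv i)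
  choose w' hw' using fun i => exists_emb (hu i)
  have hd := MaxSub.finrank_perpTo (R := Qf S) w
  have hsp : finrank F₀ (Submodule.span F₀ (Set.range w')) ≤ l :=
    (finrank_range_le_card w').trans_eq (Fintype.card_fin l)
  have hnot : ¬ MaxSub.perpTo (Qf S) w ≤ Submodule.span F₀ (Set.range w') := fun e => by
    have := Submodule.finrank_mono e
    omega
  obtain ⟨x, hx, hx0, hxT⟩ := MaxSub.exists_singular_avoiding_rad (nondeg S)
    (rad_le S g hg (by simpa only [hw] using hrad) hn) hnot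
  refine ⟨emb P F₀ x, emb_rat x, ?_, fun i => ?_, fun c hc e => hxT ?_⟩
  · have := Qf_val S x
    rw [hx0] at this
    exact (mul_eq_zero.1 this.symm).resolve_left S.ne
  · rw [← hw i, ← polar_val S, MaxSub.mem_perpTo.1 hx i]; rfl
  · have e' : emb P F₀ x = emb P F₀ (∑ i, (⟨c i, hc i⟩ : F₀) • w' i) := by
      let L : (Fin (Fintype.card ι) → F₀) →+ V := AddMonoidHom.mk' (emb P F₀) emb_add
      rw [e]
      show _ = L _
      rw [map_sum]
      exact Finset.sum_congr rfl fun i _ => by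
        show _ = emb P F₀ _
        rw [emb_smul, hw']
    rw [emb_injective e']
    exact Submodule.sum_mem _ fun i _ => Submodule.smul_mem _ _ (Submodule.subset_span ⟨i, rfl⟩)

/-- A singular rational vector orthogonal to given ones, outside their span. -/
theorem exists_out [Finite F] (S : OS F₀ ζ R P) {k : ℕ} (hk : k ≤ 2) (v : Fin k → V)
    (hv : ∀ i, IsR F₀ P (v i)) :
    ∃ z, IsR F₀ P z ∧ R z = 0 ∧ (∀ i, f z (v i) = 0) ∧
      ∀ c : Fin k → F, (∀ i, c i ∈ F₀) → z ≠ ∑ i, c i • v i :=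
  exists_out_gen S v hv v hv v hv (fun c hc _ => ⟨c, hc, rfl⟩) (by have := S.dim; omega)
    (by have := S.dim; omega)

/-- A singular rational vector orthogonal to given ones and not to a further one. -/
theorem exists_one_gen [Finite F] (S : OS F₀ ζ R P) {k r : ℕ} (v : Fin k → V)
    (hv : ∀ i, IsR F₀ P (v i)) (g : Fin r → V) (hg : ∀ i, IsR F₀ P (g i))
    (hrad : ∀ c : Fin k → F, (∀ i, c i ∈ F₀) → (∀ j, f (∑ i, c i • v i) (v j) = 0) →
      ∃ d : Fin r → F, (∀ i, d i ∈ F₀) ∧ ∑ i, c i • v i = ∑ i, d i • g i)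
    (hn : k + r + 3 ≤ Fintype.card ι) {e : V} (he : IsR F₀ P e)
    (hout : ∀ c : Fin k → F, (∀ i, c i ∈ F₀) → e ≠ ∑ i, c i • v i) :
    ∃ z, IsR F₀ P z ∧ R z = 0 ∧ (∀ i, f z (v i) = 0) ∧ f z e = 1 := by
  choose w hw using fun i => exists_emb (hv i)
  obtain ⟨d, hd'⟩ := exists_emb he
  have hnot : ¬ MaxSub.perpTo (Qf S) w ≤ LinearMap.ker ((polarBilin (Qf S)).flip d) := fun hle => by
    have hmem := MaxSub.mem_span_of_perpTo (nondeg S) fun x hx => (hle hx : polar (Qf S) x d = 0)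
    obtain ⟨c, hc⟩ := (Submodule.mem_span_range_iff_exists_fun F₀).1 hmem
    refine hout (fun i => (c i : F)) (fun i => (c i).2) ?_
    let L : (Fin (Fintype.card ι) → F₀) →+ V := AddMonoidHom.mk' (emb P F₀) emb_add
    rw [← hd', ← hc]
    show L _ = _
    rw [map_sum]
    exact Finset.sum_congr rfl fun i _ => by
      show emb P F₀ _ = _
      rw [emb_smul, hw]
  obtain ⟨x, hx, hx0, hxT⟩ := MaxSub.exists_singular_avoiding_rad (nondeg S)
    (rad_le S g hg (by simpa only [hw] using hrad) hn) hnot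
  have hne : f (emb P F₀ x) e ≠ 0 := fun h0 => hxT (Subtype.ext (by
    show ((polar (Qf S) x d : F₀) : F) = 0
    rw [polar_val, hd', h0]))
  refine ⟨(f (emb P F₀ x) e)⁻¹ • emb P F₀ x,
    (emb_rat x).smul (F₀.inv_mem (f_rat S (emb_rat x) he)), R_smul ?_ _, fun i => ?_, ?_⟩
  · have := Qf_val S x
    rw [hx0] at this
    exact (mul_eq_zero.1 this.symm).resolve_left S.ne
  · rw [f_smul_left, ← hw i, ← polar_val S, MaxSub.mem_perpTo.1 hx i]; simp
  · rw [f_smul_left, inv_mul_cancel₀ hne]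

/-- A singular rational vector orthogonal to a few given ones and not to a further one. -/
theorem exists_one [Finite F] (S : OS F₀ ζ R P) {k : ℕ} (hk : k ≤ 2) (v : Fin k → V)
    (hv : ∀ i, IsR F₀ P (v i)) {e : V} (he : IsR F₀ P e)
    (hout : ∀ c : Fin k → F, (∀ i, c i ∈ F₀) → e ≠ ∑ i, c i • v i) :
    ∃ z, IsR F₀ P z ∧ R z = 0 ∧ (∀ i, f z (v i) = 0) ∧ f z e = 1 :=
  exists_one_gen S v hv v hv (fun c hc _ => ⟨c, hc, rfl⟩) (by have := S.dim; omega) he hout

/-- A rational vector orthogonal to given ones is a combination of two singular ones. -/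
theorem exists_decomp [Finite F] (S : OS F₀ ζ R P) {k : ℕ} (hk : k ≤ 2) (v : Fin k → V)
    (hv : ∀ i, IsR F₀ P (v i)) {y : V} (hy : IsR F₀ P y) (hyv : ∀ i, f y (v i) = 0)
    (hout : ∀ c : Fin k → F, (∀ i, c i ∈ F₀) → y ≠ ∑ i, c i • v i) :
    ∃ a b, IsR F₀ P a ∧ R a = 0 ∧ (∀ i, f a (v i) = 0) ∧ IsR F₀ P b ∧ R b = 0 ∧
      (∀ i, f b (v i) = 0) ∧ ∃ μ ∈ F₀, y = a + μ • b := by
  obtain ⟨z, hz, hzz, hzv, hzy⟩ := exists_one S hk v hv hy hout
  have hm : -(ζ * R y) ∈ F₀ := F₀.neg_mem (R_rat S hy)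
  refine ⟨y + (-(ζ * R y)) • z, z, hy.add (hz.smul hm), ?_, fun i => ?_, hz, hzz, hzv, _,
    F₀.neg_mem hm, by module⟩
  · rw [QuadraticMap.map_add R, QuadraticMap.map_smul, hzz, smul_zero, add_zero,
      QuadraticMap.polar_smul_right, smul_eq_mul, QuadraticMap.polar_comm]
    have hzy' : ζ * polar R z y = 1 := hzy
    linear_combination (-(R y)) * hzy'
  · rw [f_add_left, f_smul_left, hyv, hzv, mul_zero, add_zero]

/-- An element moving a singular rational line off the rational lines. -/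
theorem exists_moved_iso [Finite F] (S : OS F₀ ζ R P) {g : GL ι F}
    (hg : ∀ v, R ((g : Mn) *ᵥ v) = R v) (hgS : g ∉ subfieldSubgroup F₀ P) :
    ∃ u, IsR F₀ P u ∧ R u = 0 ∧ ∀ (c : F) w, IsR F₀ P w → (g : Mn) *ᵥ u ≠ c • w := by
  have hn := S.dim
  by_contra hcon
  push Not at hcon
  choose! c r hr hcr using hcon
  have hiso : ∀ u v, f ((g : Mn) *ᵥ u) ((g : Mn) *ᵥ v) = f u v := fun u v => by
    simp only [pf, polar, ← Matrix.mulVec_add, hg]
  have hginj : Function.Injective fun x : V => (g : Mn) *ᵥ x :=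
    Matrix.mulVec_injective_iff_isUnit.2 g.isUnit
  have hprod : ∀ {u w : V}, IsR F₀ P u → R u = 0 → IsR F₀ P w → R w = 0 → f u w ≠ 0 →
      c u * c w ∈ F₀ ∧ c u * c w ≠ 0 := by
    intro u w hu huu hw hww huw
    have e : c u * c w * f (r u) (r w) = f u w := by
      rw [← hiso u w, hcr u hu huu, hcr w hw hww, f_smul_left, f_smul_right]; ring
    have hne : c u * c w * f (r u) (r w) ≠ 0 := e ▸ huw
    refine ⟨?_, left_ne_zero_of_mul hne⟩
    rw [eq_div_of_mul_eq (right_ne_zero_of_mul hne) e]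
    exact F₀.div_mem (f_rat S hu hw) (f_rat S (hr u hu huu) (hr w hw hww))
  obtain ⟨v, hv, hvv, -, hout⟩ := exists_out S (k := 0) (by omega) ![] (fun i => i.elim0)
  have hv0 : v ≠ 0 := fun e => hout ![] (fun i => i.elim0) (by rw [e]; simp)
  have hrel : ∀ {w : V}, IsR F₀ P w → R w = 0 → w ≠ 0 → c w / c v ∈ F₀ := by
    intro w hw hww hw0
    obtain ⟨y, hy, hyy, hyv, hyw⟩ : ∃ y, IsR F₀ P y ∧ R y = 0 ∧ f y v ≠ 0 ∧ f y w ≠ 0 := by
      by_cases hi : ∃ s ∈ F₀, w = s • v
      · obtain ⟨s, -, e⟩ := hi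
        obtain ⟨y, hy, hyy, -, e1⟩ := exists_one S (k := 0) (by omega) ![] (fun i => i.elim0) hv
          (fun c _ e => hv0 (by rw [e]; simp))
        refine ⟨y, hy, hyy, by rw [e1]; exact one_ne_zero, fun e2 => hw0 ?_⟩
        rw [e, f_smul_right, e1, mul_one] at e2
        rw [e, e2, zero_smul]
      · obtain ⟨y, hy, hyy, e2, e1⟩ := exists_one S (k := 1) (by omega) ![v - w]
          (fun i => by fin_cases i; exact hv.sub hw) hv (fun d hd e => by
            rw [Fin.sum_univ_one] at e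
            have e' : v = d 0 • (v - w) := e
            by_cases hd0 : d 0 = 0
            · exact hv0 (by rw [e', hd0, zero_smul])
            refine hi ⟨(d 0 - 1) / d 0, F₀.div_mem (F₀.sub_mem (hd 0) F₀.one_mem) (hd 0), ?_⟩
            have e3 : d 0 • w = (d 0 - 1) • v := by
              rw [sub_smul, one_smul]
              conv_rhs => arg 2; rw [e']
              module
            rw [div_eq_inv_mul, ← smul_smul, ← e3, smul_smul, inv_mul_cancel₀ hd0, one_smul])
        have e2' : f y (v - w) = 0 := e2 0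
        rw [f_sub_right, e1, sub_eq_zero] at e2'
        exact ⟨y, hy, hyy, by rw [e1]; exact one_ne_zero, by rw [← e2']; exact one_ne_zero⟩
    obtain ⟨h1, h1'⟩ := hprod hw hww hy hyy (by rw [f_comm]; exact hyw)
    obtain ⟨h2, h2'⟩ := hprod hv hvv hy hyy (by rw [f_comm]; exact hyv)
    rw [show c w / c v = (c w * c y) / (c v * c y) by
      rw [mul_div_mul_right _ _ (right_ne_zero_of_mul h1')]]
    exact F₀.div_mem h1 h2
  have hcv : c v ≠ 0 := fun e => hv0 (hginj (show (g : Mn) *ᵥ v = (g : Mn) *ᵥ 0 by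
    rw [hcr v hv hvv, e, zero_smul, Matrix.mulVec_zero]))
  have hiso' : ∀ w, IsR F₀ P w → R w = 0 →
      ∃ r', IsR F₀ P r' ∧ (g : Mn) *ᵥ w = c v • r' := fun w hw hww => by
    by_cases hw0 : w = 0
    · exact ⟨0, IsR.zero, by rw [hw0, Matrix.mulVec_zero, smul_zero]⟩
    exact ⟨(c w / c v) • r w, (hr w hw hww).smul (hrel hw hww hw0), by
      rw [hcr w hw hww, smul_smul, mul_div_cancel₀ _ hcv]⟩
  refine hgS (mem_of_entries (P := P) hcv
    (N := Matrix.of fun i j => (((P⁻¹ : GL ι F) : Mn) *ᵥ ((c v)⁻¹ • ((g : Mn) *ᵥ col P j))) i)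
    (fun i j => ?_) ?_)
  · obtain ⟨a, b, ha, haa, -, hb, hbb, -, μ, hμ, e⟩ := exists_decomp S (k := 0) (by omega) ![]
      (fun i => i.elim0) (col_rat (F₀ := F₀) (P := P) j) (fun i => i.elim0)
      (fun c _ e => col_ne (P := P) j (by rw [e]; simp))
    obtain ⟨ra, hra, ea⟩ := hiso' a ha haa
    obtain ⟨rb, hrb, eb⟩ := hiso' b hb hbb
    obtain ⟨z, hz, ez⟩ := hra.add (hrb.smul hμ)
    have hh : (c v)⁻¹ • ((g : Mn) *ᵥ col P j) = ra + μ • rb := by
      rw [e, Matrix.mulVec_add, Matrix.mulVec_smul, ea, eb, smul_add, smul_smul, smul_smul,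
        smul_smul, inv_mul_cancel₀ hcv, one_smul, show (c v)⁻¹ * μ * c v = μ by field_simp]
    rw [Matrix.of_apply, hh, ← ez, Matrix.mulVec_mulVec, Units.inv_mul, Matrix.one_mulVec]
    exact hz i
  · refine Matrix.ext fun i j => ?_
    rw [Matrix.smul_apply, Matrix.of_apply, Matrix.mulVec_smul, Pi.smul_apply, smul_eq_mul,
      smul_eq_mul, mul_inv_cancel_left₀ hcv]
    have e : ((P⁻¹ * g * P : GL ι F) : Mn) *ᵥ Pi.single j 1 =
        ((P⁻¹ : GL ι F) : Mn) *ᵥ ((g : Mn) *ᵥ col P j) := by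
      rw [Units.val_mul, Units.val_mul, ← Matrix.mulVec_mulVec, ← Matrix.mulVec_mulVec]; rfl
    rw [← e, Matrix.mulVec_single_one, Matrix.col_apply]

end CfsgLib.MaxSub.SubfieldOrth
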