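/-
The subfield subgroups are maximal in `Ω`.
-/
import Cfsg.Agent.Lib.MaxSub.SubfieldMaximalOrthTools
import Cfsg.Agent.Lib.MaxSub.SubfieldMaximalSp
import Cfsg.Agent.Lib.MaxSub.SubspaceMaximalOrthGL

set_option autoImplicit false
set_option maxHeartbeats 1000000

namespace CfsgLib.MaxSub.SubfieldOrth

open Matrix Module Cfsg Cfsg.Geo CfsgLib.MaxSub.Rational
open CfsgLib.Eichler (Sieg IsEich exists_eich sieg_eich)
open CfsgLib.WittExtension (quadIso)
open CfsgLib.MaxSub.Orth (toMat toMat_mulVec omegaGL_eq)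
open QuadraticMap (polar polarBilin)

variable {F : Type*} [Field F] [Fintype F] {ι : Type} [Fintype ι] [DecidableEq ι]

local notation "V" => (ι → F)
local notation "Mn" => Matrix ι ι F

variable {F₀ : Subfield F} {ζ : F} {R : QuadraticForm F (ι → F)} {P : GL ι F}
  {K : Subgroup (GL ι F)}

local notation "f" => pf ζ R

omit [Fintype F] in
theorem gl_ext {g g' : GL ι F} (e : ∀ y, (g : Mn) *ᵥ y = (g' : Mn) *ᵥ y) : g = g' :=
  Units.ext (Matrix.ext_of_mulVec_single fun _ => e _)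

omit [Fintype F] in
theorem isometry_of_mem {g : GL ι F} (hg : g ∈ omegaGL ⇑R) (v : V) : R ((g : Mn) *ᵥ v) = R v := by
  obtain ⟨g', -, rfl⟩ := hg
  exact g'.2 v v

omit [Fintype F] in
theorem f_isometry {g : GL ι F} (hg : g ∈ omegaGL ⇑R) (u v : V) :
    f ((g : Mn) *ᵥ u) ((g : Mn) *ᵥ v) = f u v := by
  simp only [pf, polar, ← Matrix.mulVec_add, isometry_of_mem hg]

/-- `g` is the root element of the plane of `a` and `b`. -/
def IsE (ζ : F) (R : QuadraticForm F (ι → F)) (a b : ι → F) (s : F) (g : GL ι F) : Prop :=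
  ∀ x, (g : Matrix ι ι F) *ᵥ x = x + (s * pf ζ R x a) • b - (s * pf ζ R x b) • a

/-- The root element is in `K`. -/
def InE (ζ : F) (R : QuadraticForm F (ι → F)) (K : Subgroup (GL ι F)) (a b : ι → F) (s : F) : Prop :=
  ∃ g ∈ K, IsE ζ R a b s g

/-- `g` is the product of root elements in a totally singular space. -/
def IsE3 (ζ : F) (R : QuadraticForm F (ι → F)) (a b c : ι → F) (p q r : F) (g : GL ι F) : Prop :=
  ∀ x, (g : Matrix ι ι F) *ᵥ x = x + (p * pf ζ R x a) • b - (p * pf ζ R x b) • a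
    + ((q * pf ζ R x a) • c - (q * pf ζ R x c) • a)
    + ((r * pf ζ R x b) • c - (r * pf ζ R x c) • b)

/-- The product of root elements is in `K`. -/
def InE3 (ζ : F) (R : QuadraticForm F (ι → F)) (K : Subgroup (GL ι F)) (a b c : ι → F) (p q r : F) :
    Prop :=
  ∃ g ∈ K, IsE3 ζ R a b c p q r g

/-- The hypotheses on an overgroup. -/
structure Over (F₀ : Subfield F) (ζ : F) (R : QuadraticForm F (ι → F)) (P : GL ι F)
    (K : Subgroup (GL ι F)) : Prop where
  str : OS F₀ ζ R P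
  le : K ≤ omegaGL ⇑R
  ge : subfieldSubgroup F₀ P ⊓ omegaGL ⇑R ≤ K

theorem exists_E (S : OS F₀ ζ R P) {a b : V} (ha : R a = 0) (hb : R b = 0) (hab : f a b = 0)
    (s : F) : ∃ g ∈ omegaGL ⇑R, IsE ζ R a b s g := by
  have hp : polar R a b = 0 := (mul_eq_zero.1 hab).resolve_left S.ne
  obtain ⟨g, hg⟩ := exists_eich R (e := a) (w := (s * ζ) • b) ha (by
    rw [QuadraticMap.polar_smul_right, hp, smul_zero])
  have hS : g ∈ Sieg R := ⟨a, b, s * ζ, ha, hb, hp, (sieg_eich R hb g).2 hg⟩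
  refine ⟨toMat R g, ?_, fun x => ?_⟩
  · rw [omegaGL_eq S.nd (by have := S.dim; omega)]
    exact Subgroup.mem_map_of_mem _ (Subgroup.subset_closure hS)
  · rw [toMat_mulVec, hg x, QuadraticMap.map_smul, hb, smul_zero, zero_mul, sub_zero,
      QuadraticMap.polar_smul_left, smul_eq_mul]
    simp only [pf, QuadraticMap.polar_comm R x]
    module

theorem inE_rat (O : Over F₀ ζ R P K) {a b : V} (ha : IsR F₀ P a) (hb : IsR F₀ P b) (haa : R a = 0)
    (hbb : R b = 0) (hab : f a b = 0) {s : F} (hs : s ∈ F₀) : InE ζ R K a b s := by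
  obtain ⟨g, hg, e⟩ := exists_E O.str haa hbb hab s
  refine ⟨g, O.ge ⟨mem_of_maps fun w hw => ?_, hg⟩, e⟩
  have hr : IsR F₀ P ((P : Mn) *ᵥ w) := ⟨w, hw, rfl⟩
  obtain ⟨y, hy, e'⟩ := (hr.add (hb.smul (F₀.mul_mem hs (f_rat O.str hr ha)))).sub
    (ha.smul (F₀.mul_mem hs (f_rat O.str hr hb)))
  exact ⟨y, hy, by rw [e, e']⟩

theorem IsE.conj {a b : V} {s : F} {g k : GL ι F} (hk : k ∈ omegaGL ⇑R) (e : IsE ζ R a b s g) :
    IsE ζ R ((k : Mn) *ᵥ a) ((k : Mn) *ᵥ b) s (k * g * k⁻¹) := fun x => by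
  obtain ⟨y, rfl⟩ : ∃ y, (k : Mn) *ᵥ y = x := ⟨((k⁻¹ : GL ι F) : Mn) *ᵥ x, by
    rw [Matrix.mulVec_mulVec, Units.mul_inv, Matrix.one_mulVec]⟩
  rw [Units.val_mul, Units.val_mul, ← Matrix.mulVec_mulVec, ← Matrix.mulVec_mulVec,
    show ((k⁻¹ : GL ι F) : Mn) *ᵥ ((k : Mn) *ᵥ y) = y by
      rw [Matrix.mulVec_mulVec, Units.inv_mul, Matrix.one_mulVec],
    e y, Matrix.mulVec_sub, Matrix.mulVec_add, Matrix.mulVec_smul, Matrix.mulVec_smul,
    f_isometry hk, f_isometry hk]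

theorem IsE3.conj {a b c : V} {p q r : F} {g k : GL ι F} (hk : k ∈ omegaGL ⇑R)
    (e : IsE3 ζ R a b c p q r g) :
    IsE3 ζ R ((k : Mn) *ᵥ a) ((k : Mn) *ᵥ b) ((k : Mn) *ᵥ c) p q r (k * g * k⁻¹) := fun x => by
  obtain ⟨y, rfl⟩ : ∃ y, (k : Mn) *ᵥ y = x := ⟨((k⁻¹ : GL ι F) : Mn) *ᵥ x, by
    rw [Matrix.mulVec_mulVec, Units.mul_inv, Matrix.one_mulVec]⟩
  rw [Units.val_mul, Units.val_mul, ← Matrix.mulVec_mulVec, ← Matrix.mulVec_mulVec,
    show ((k⁻¹ : GL ι F) : Mn) *ᵥ ((k : Mn) *ᵥ y) = y by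
      rw [Matrix.mulVec_mulVec, Units.inv_mul, Matrix.one_mulVec],
    e y]
  simp only [Matrix.mulVec_sub, Matrix.mulVec_add, Matrix.mulVec_smul, f_isometry hk]

theorem InE.conj (O : Over F₀ ζ R P K) {a b : V} {s : F} (e : InE ζ R K a b s) {k : GL ι F}
    (hk : k ∈ K) : InE ζ R K ((k : Mn) *ᵥ a) ((k : Mn) *ᵥ b) s := by
  obtain ⟨g, hg, e⟩ := e
  exact ⟨_, mul_mem (mul_mem hk hg) (inv_mem hk), e.conj (O.le hk)⟩

omit [Fintype F] in
theorem InE.swap {a b : V} {s : F} (e : InE ζ R K a b s) : InE ζ R K b a (-s) := by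
  obtain ⟨g, hg, e⟩ := e
  exact ⟨g, hg, fun x => by rw [e x]; module⟩

omit [Fintype F] in
theorem InE.smul {a b : V} {s : F} (p r : F) (e : InE ζ R K (p • a) (r • b) s) :
    InE ζ R K a b (s * (p * r)) := by
  obtain ⟨g, hg, e⟩ := e
  exact ⟨g, hg, fun x => by rw [e x, f_smul_right, f_smul_right]; module⟩

omit [Fintype F] in
theorem InE.add {a b : V} (haa : R a = 0) (hbb : R b = 0) (hab : f a b = 0) {s t : F}
    (e : InE ζ R K a b s) (e' : InE ζ R K a b t) : InE ζ R K a b (s + t) := by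
  obtain ⟨g, hg, e⟩ := e
  obtain ⟨g', hg', e'⟩ := e'
  refine ⟨g * g', mul_mem hg hg', fun x => ?_⟩
  rw [Units.val_mul, ← Matrix.mulVec_mulVec, e', e]
  simp only [f_add_left, f_sub_left, f_smul_left, f_self haa, f_self hbb, hab, f_comm b a]
  module

omit [Fintype F] in
theorem InE.neg {a b : V} (haa : R a = 0) (hbb : R b = 0) (hab : f a b = 0) {s : F}
    (e : InE ζ R K a b s) : InE ζ R K a b (-s) := by
  obtain ⟨g, hg, e⟩ := e
  refine ⟨g⁻¹, inv_mem hg, fun x => ?_⟩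
  have hx : (g : Mn) *ᵥ (x + (-s * f x a) • b - (-s * f x b) • a) = x := by
    rw [e]
    simp only [f_add_left, f_sub_left, f_smul_left, f_self haa, f_self hbb, hab, f_comm b a]
    module
  conv_lhs => rw [← hx]
  rw [Matrix.mulVec_mulVec, Units.inv_mul, Matrix.one_mulVec]

/-- Independence of two vectors over the subfield. -/
def Indep2 (F₀ : Subfield F) (a b : ι → F) : Prop :=
  ∀ s ∈ F₀, ∀ t ∈ F₀, s • a + t • b = 0 → s = 0 ∧ t = 0

omit [Fintype F] [DecidableEq ι] [Fintype ι] in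
theorem Indep2.symm {a b : V} (e : Indep2 F₀ a b) : Indep2 F₀ b a := fun s hs t ht e' =>
  (e t ht s hs (by rw [add_comm]; exact e')).symm

omit [Fintype F] [DecidableEq ι] [Fintype ι] in
theorem Indep2.left_ne {a b : V} (e : Indep2 F₀ a b) : a ≠ 0 := fun e' => one_ne_zero (α := F)
  (e 1 F₀.one_mem 0 F₀.zero_mem (by rw [e', smul_zero, zero_smul, add_zero])).1

/-- A rational totally singular three-space, with a basis. -/
structure Tri (F₀ : Subfield F) (ζ : F) (R : QuadraticForm F (ι → F)) (P : GL ι F)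
    (a b c : ι → F) : Prop where
  ra : IsR F₀ P a
  rb : IsR F₀ P b
  rc : IsR F₀ P c
  aa : R a = 0
  bb : R b = 0
  cc : R c = 0
  ab : pf ζ R a b = 0
  ac : pf ζ R a c = 0
  bc : pf ζ R b c = 0
  indep : ∀ s ∈ F₀, ∀ t ∈ F₀, ∀ u ∈ F₀, s • a + t • b + u • c = 0 → s = 0 ∧ t = 0 ∧ u = 0

omit [Fintype F] in
theorem Tri.swap12 {a b c : V} (T : Tri F₀ ζ R P a b c) : Tri F₀ ζ R P b a c :=
  ⟨T.rb, T.ra, T.rc, T.bb, T.aa, T.cc, by rw [f_comm, T.ab], T.bc, T.ac, fun s hs t ht u hu e => by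
    obtain ⟨h1, h2, h3⟩ := T.indep t ht s hs u hu (by rw [← e]; abel)
    exact ⟨h2, h1, h3⟩⟩

omit [Fintype F] in
theorem Tri.swap23 {a b c : V} (T : Tri F₀ ζ R P a b c) : Tri F₀ ζ R P a c b :=
  ⟨T.ra, T.rc, T.rb, T.aa, T.cc, T.bb, T.ac, T.ab, by rw [f_comm, T.bc], fun s hs t ht u hu e => by
    obtain ⟨h1, h2, h3⟩ := T.indep s hs u hu t ht (by rw [← e]; abel)
    exact ⟨h1, h3, h2⟩⟩

omit [Fintype F] in
theorem IsE3.swap12 {a b c : V} {p q r : F} {g : GL ι F} (e : IsE3 ζ R a b c p q r g) :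
    IsE3 ζ R b a c (-p) r q g := fun x => by rw [e x]; module

omit [Fintype F] in
theorem IsE3.swap23 {a b c : V} {p q r : F} {g : GL ι F} (e : IsE3 ζ R a b c p q r g) :
    IsE3 ζ R a c b q p (-r) g := fun x => by rw [e x]; module

/-- A nonrational root element on a rational plane. -/
def Wit (F₀ : Subfield F) (ζ : F) (R : QuadraticForm F (ι → F)) (P : GL ι F)
    (K : Subgroup (GL ι F)) : Prop :=
  ∃ (a b : ι → F) (l : F), IsR F₀ P a ∧ IsR F₀ P b ∧ R a = 0 ∧ R b = 0 ∧ pf ζ R a b = 0 ∧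
    Indep2 F₀ a b ∧ l ∉ F₀ ∧ InE ζ R K a b l

theorem middle_rat (O : Over F₀ ζ R P K) (hw : ¬ Wit F₀ ζ R P K) {a b c : V}
    (T : Tri F₀ ζ R P a b c) {p q r : F} (e : InE3 ζ R K a b c p q r) : q ∈ F₀ := by
  have S := O.str
  by_contra hq
  obtain ⟨z, hz, hzz, hzv, hza⟩ := exists_one S (k := 2) (by omega) ![b, c]
    (fun i => by fin_cases i; exacts [T.rb, T.rc]) T.ra (fun d hd e' => by
      have e2 : a = d 0 • b + d 1 • c := by rw [e', Fin.sum_univ_two]; rfl
      have := (T.indep 1 F₀.one_mem (-(d 0)) (F₀.neg_mem (hd 0)) (-(d 1)) (F₀.neg_mem (hd 1))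
        (by rw [e2]; module)).1
      exact one_ne_zero this)
  have hzb : f z b = 0 := hzv 0
  have hzc : f z c = 0 := hzv 1
  obtain ⟨k, hk, ek⟩ := inE_rat O hz T.rb hzz T.bb hzb F₀.one_mem
  have k1 : (k : Mn) *ᵥ a = a + b := by
    rw [ek a, f_comm a z, hza, T.ab]; module
  have k2 : (k : Mn) *ᵥ b = b := by
    rw [ek b, f_comm b z, hzb, f_self T.bb]; module
  have k3 : (k : Mn) *ᵥ c = c := by
    rw [ek c, f_comm c z, hzc, f_comm c b, T.bc]; module
  obtain ⟨g, hg, e⟩ := e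
  have e1 := e.conj (O.le hk)
  rw [k1, k2, k3] at e1
  refine hw ⟨b, c, q, T.rb, T.rc, T.bb, T.cc, T.bc, fun s hs t ht e' => ?_, hq,
    k * g * k⁻¹ * g⁻¹, mul_mem (mul_mem (mul_mem hk hg) (inv_mem hk)) (inv_mem hg), fun x => ?_⟩
  · have := T.indep 0 F₀.zero_mem s hs t ht (by rw [← e']; module)
    exact ⟨this.2.1, this.2.2⟩
  · obtain ⟨y, rfl⟩ : ∃ y, (g : Mn) *ᵥ y = x := ⟨((g⁻¹ : GL ι F) : Mn) *ᵥ x, by
      rw [Matrix.mulVec_mulVec, Units.mul_inv, Matrix.one_mulVec]⟩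
    rw [Units.val_mul (k * g * k⁻¹), ← Matrix.mulVec_mulVec,
      show ((g⁻¹ : GL ι F) : Mn) *ᵥ ((g : Mn) *ᵥ y) = y by
        rw [Matrix.mulVec_mulVec, Units.inv_mul, Matrix.one_mulVec], e1 y, e y]
    simp only [f_add_left, f_add_right, f_sub_left, f_smul_left, f_self T.bb, f_self T.cc, T.ab,
      T.ac, T.bc, f_comm c b, f_comm b a, f_comm c a]
    module

/-- Without a witness the products of root elements on rational three-spaces are rational. -/
theorem rat_of_not_wit (O : Over F₀ ζ R P K) (hw : ¬ Wit F₀ ζ R P K) {a b c : V}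
    (T : Tri F₀ ζ R P a b c) {p q r : F} (e : InE3 ζ R K a b c p q r) :
    p ∈ F₀ ∧ q ∈ F₀ ∧ r ∈ F₀ := by
  obtain ⟨g, hg, e⟩ := e
  exact ⟨middle_rat O hw T.swap23 ⟨g, hg, e.swap23⟩, middle_rat O hw T ⟨g, hg, e⟩,
    middle_rat O hw T.swap12 ⟨g, hg, e.swap12⟩⟩

omit [Fintype F] in
theorem isE3_of_isE {a b c : V} {A₁ A₂ A₃ B₁ B₂ B₃ : F} {g : GL ι F}
    (e : IsE ζ R (A₁ • a + A₂ • b + A₃ • c) (B₁ • a + B₂ • b + B₃ • c) 1 g) :
    IsE3 ζ R a b c (A₁ * B₂ - A₂ * B₁) (A₁ * B₃ - A₃ * B₁) (A₂ * B₃ - A₃ * B₂) g := fun x => by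
  rw [e x]
  simp only [f_add_right, f_smul_right]
  module

/-- The action on one copy of the natural module, modulo `z`. -/
def Act (z u e : ι → F) (k : Matrix.SpecialLinearGroup (Fin 2) F) (y : GL ι F) : Prop :=
  ∃ t₁ t₂ : F, (y : Matrix ι ι F) *ᵥ u = k.1 0 0 • u + k.1 1 0 • e + t₁ • z ∧
    (y : Matrix ι ι F) *ᵥ e = k.1 0 1 • u + k.1 1 1 • e + t₂ • z

omit [Fintype F] in
theorem Act.mul {z u e : V} {k k' : Matrix.SpecialLinearGroup (Fin 2) F} {y y' : GL ι F}
    (hz : (y : Mn) *ᵥ z = z) (h : Act z u e k y) (h' : Act z u e k' y') :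
    Act z u e (k * k') (y * y') := by
  obtain ⟨t₁, t₂, e1, e2⟩ := h
  obtain ⟨t₁', t₂', e1', e2'⟩ := h'
  refine ⟨k'.1 0 0 * t₁ + k'.1 1 0 * t₂ + t₁', k'.1 0 1 * t₁ + k'.1 1 1 * t₂ + t₂', ?_, ?_⟩
  · rw [Units.val_mul, ← Matrix.mulVec_mulVec, e1', Matrix.mulVec_add, Matrix.mulVec_add,
      Matrix.mulVec_smul, Matrix.mulVec_smul, Matrix.mulVec_smul, e1, e2, hz, Dickson.mul_entry,
      Dickson.mul_entry]
    module
  · rw [Units.val_mul, ← Matrix.mulVec_mulVec, e2', Matrix.mulVec_add, Matrix.mulVec_add,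
      Matrix.mulVec_smul, Matrix.mulVec_smul, Matrix.mulVec_smul, e1, e2, hz, Dickson.mul_entry,
      Dickson.mul_entry]
    module

omit [Fintype F] in
theorem Act.inv {z u e : V} {k : Matrix.SpecialLinearGroup (Fin 2) F} {y : GL ι F}
    (hz : (y : Mn) *ᵥ z = z) (h : Act z u e k y) : Act z u e k⁻¹ y⁻¹ := by
  have hfin : ∀ x : V, ((y⁻¹ : GL ι F) : Mn) *ᵥ ((y : Mn) *ᵥ x) = x := fun x => by
    rw [Matrix.mulVec_mulVec, Units.inv_mul, Matrix.one_mulVec]
  obtain ⟨t₁, t₂, e1, e2⟩ := h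
  obtain ⟨i00, i01, i10, i11⟩ := Dickson.inv_entries k
  have hd := Dickson.det_eq k
  refine ⟨-(k.1 1 1 * t₁ - k.1 1 0 * t₂), -(k.1 0 0 * t₂ - k.1 0 1 * t₁), ?_, ?_⟩
  · rw [i00, i10]
    conv_lhs => rw [show u = (y : Mn) *ᵥ (k.1 1 1 • u + (-k.1 1 0) • e
        + (-(k.1 1 1 * t₁ - k.1 1 0 * t₂)) • z) by
      rw [Matrix.mulVec_add, Matrix.mulVec_add, Matrix.mulVec_smul, Matrix.mulVec_smul,
        Matrix.mulVec_smul, e1, e2, hz]
      match_scalars <;> first | linear_combination hd | linear_combination -hd | ring]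
    exact hfin _
  · rw [i01, i11]
    conv_lhs => rw [show e = (y : Mn) *ᵥ ((-k.1 0 1) • u + k.1 0 0 • e
        + (-(k.1 0 0 * t₂ - k.1 0 1 * t₁)) • z) by
      rw [Matrix.mulVec_add, Matrix.mulVec_add, Matrix.mulVec_smul, Matrix.mulVec_smul,
        Matrix.mulVec_smul, e1, e2, hz]
      match_scalars <;> first | linear_combination hd | linear_combination -hd | ring]
    exact hfin _

/-- The group induced on two copies of a plane modulo a fixed vector contains all diagonal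
elements. -/
theorem exists_diag {u v e₂ e₃ z : V} {A : AddSubgroup F}
    (hbig : ∀ p : ℕ, p.Prime → CharP F p → p ^ 2 ≤ Nat.card A)
    (hS : ∀ S : Subfield F, (∀ b ∈ A, b ∈ S) → S = ⊤)
    (hlo : ∃ y ∈ K, (y : Mn) *ᵥ z = z ∧ Act z u e₂ (Dickson.lo 1) y ∧ Act z v e₃ (Dickson.lo 1) y)
    (hup : ∀ b ∈ A, ∃ y ∈ K, (y : Mn) *ᵥ z = z ∧ Act z u e₂ (Dickson.up b) y ∧
      Act z v e₃ (Dickson.up b) y)
    {s : F} (hs : s ≠ 0) : ∃ y ∈ K, ∃ σ t₁ t₂ : F, (σ = s ∨ σ = -s) ∧ (y : Mn) *ᵥ z = z ∧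
      (y : Mn) *ᵥ u = σ • u + t₁ • z ∧ (y : Mn) *ᵥ v = σ • v + t₂ • z := by
  let G2 : Subgroup (Matrix.SpecialLinearGroup (Fin 2) F) :=
    { carrier := {k | ∃ y ∈ K, (y : Mn) *ᵥ z = z ∧ Act z u e₂ k y ∧ Act z v e₃ k y}
      one_mem' := ⟨1, K.one_mem, by simp, ⟨0, 0, by simp, by simp⟩, ⟨0, 0, by simp, by simp⟩⟩
      mul_mem' := by
        rintro k k' ⟨y, hy, hz, a1, a2⟩ ⟨y', hy', hz', a1', a2'⟩
        exact ⟨y * y', K.mul_mem hy hy', by rw [Units.val_mul, ← Matrix.mulVec_mulVec, hz', hz],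
          a1.mul hz a1', a2.mul hz a2'⟩
      inv_mem' := by
        rintro k ⟨y, hy, hz, a1, a2⟩
        refine ⟨y⁻¹, K.inv_mem hy, ?_, a1.inv hz, a2.inv hz⟩
        conv_lhs => rw [← hz]
        rw [Matrix.mulVec_mulVec, Units.inv_mul, Matrix.one_mulVec] }
  let d : Matrix.SpecialLinearGroup (Fin 2) F :=
    ⟨!![s, 0; 0, s⁻¹], by simp [Matrix.det_fin_two, hs]⟩
  rcases Plane.gen_top (G := G2) hlo hup hbig hS d with
    ⟨y, hy, hz, ⟨t₁, -, e1, -⟩, ⟨t₂, -, e2, -⟩⟩ | ⟨y, hy, hz, ⟨t₁, -, e1, -⟩, ⟨t₂, -, e2, -⟩⟩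
  · exact ⟨y, hy, s, t₁, t₂, Or.inl rfl, hz, by rw [e1]; simp [d], by rw [e2]; simp [d]⟩
  · rw [Matrix.SpecialLinearGroup.coe_neg] at e1 e2
    exact ⟨y, hy, -s, t₁, t₂, Or.inr rfl, hz, by rw [e1]; simp [d], by rw [e2]; simp [d]⟩

omit [Fintype F] in
theorem Act.of_lo {z u e : V} {y : GL ι F} {t₁ t₂ : F} (e1 : (y : Mn) *ᵥ u = u + e + t₁ • z)
    (e2 : (y : Mn) *ᵥ e = e + t₂ • z) : Act z u e (Dickson.lo 1) y :=
  ⟨t₁, t₂, by rw [e1]; simp, by rw [e2]; simp⟩

omit [Fintype F] in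
theorem Act.of_up {z u e : V} {y : GL ι F} {b t₁ t₂ : F} (e1 : (y : Mn) *ᵥ u = u + t₁ • z)
    (e2 : (y : Mn) *ᵥ e = e + b • u + t₂ • z) : Act z u e (Dickson.up b) y :=
  ⟨t₁, t₂, by rw [e1]; simp, by rw [e2]; simp; abel⟩

/-- The two-by-two minor. -/
def om (ζ : F) (R : QuadraticForm F (ι → F)) (x y u w : ι → F) : F :=
  pf ζ R u x * pf ζ R w y - pf ζ R u y * pf ζ R w x

/-- A suitable rational three-space gives a nonrational root element. -/
theorem wit_of_tri (O : Over F₀ ζ R P K) {r : ℕ} (hr : r.Prime)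
    (hc : Fintype.card F = Nat.card F₀ ^ r) {x y : V} (hxx : R x = 0) (hyy : R y = 0)
    (hxy : f x y = 0) (hE : InE ζ R K x y 1) {u v w : V} (T : Tri F₀ ζ R P u v w)
    (h1 : om ζ R x y u v ≠ 0) (h2 : om ζ R x y u w / om ζ R x y u v ∉ F₀) :
    Wit F₀ ζ R P K := by
  by_contra hw
  obtain ⟨m₁, hm₁⟩ : ∃ m, m = om ζ R x y u v := ⟨_, rfl⟩
  obtain ⟨m₂, hm₂⟩ : ∃ m, m = om ζ R x y u w := ⟨_, rfl⟩
  obtain ⟨m₃, hm₃⟩ : ∃ m, m = om ζ R x y v w := ⟨_, rfl⟩
  rw [← hm₁] at h1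
  rw [← hm₁, ← hm₂] at h2
  obtain ⟨z, hz⟩ : ∃ z, z = m₃ • u + (-m₂) • v + m₁ • w := ⟨_, rfl⟩
  simp only [om] at hm₁ hm₂ hm₃
  have fba : f v u = 0 := by rw [f_comm, T.ab]
  have fca : f w u = 0 := by rw [f_comm, T.ac]
  have fcb : f w v = 0 := by rw [f_comm, T.bc]
  have fyx : f y x = 0 := by rw [f_comm, hxy]
  have hzx : f z x = 0 := by
    rw [hz]; simp only [f_add_left, f_smul_left, hm₁, hm₂, hm₃]; ring
  have hzy : f z y = 0 := by
    rw [hz]; simp only [f_add_left, f_smul_left, hm₁, hm₂, hm₃]; ring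
  have hzu : f z u = 0 := by
    rw [hz]; simp only [f_add_left, f_smul_left, f_self T.aa, fba, fca]; ring
  have hzv : f z v = 0 := by
    rw [hz]; simp only [f_add_left, f_smul_left, f_self T.bb, T.ab, fcb]; ring
  have hzw : f z w = 0 := by
    rw [hz]; simp only [f_add_left, f_smul_left, f_self T.cc, T.ac, T.bc]; ring
  have hdiag : ∀ {s : F}, s ≠ 0 → ∃ k ∈ K, ∃ σ t₁ t₂ : F, (σ = s ∨ σ = -s) ∧ (k : Mn) *ᵥ z = z ∧
      (k : Mn) *ᵥ u = σ • u + t₁ • z ∧ (k : Mn) *ᵥ v = σ • v + t₂ • z := by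
    intro s hs
    refine exists_diag (A := SubfieldSp.spanTwo F₀ m₁ m₂) (e₂ := f u x • y - f u y • x)
      (e₃ := f v x • y - f v y • x) (fun p hp hch => SubfieldSp.spanTwo_big h1 h2 hp hch)
      (fun S hS => SubfieldSp.spanTwo_gen hr hc h1 h2 S hS) ?_ ?_ hs
    · obtain ⟨g, hg, e⟩ := hE
      refine ⟨g, hg, ?_, Act.of_lo (t₁ := 0) (t₂ := 0) ?_ ?_, Act.of_lo (t₁ := 0) (t₂ := 0) ?_ ?_⟩
      · rw [e z, hzx, hzy]; module
      · rw [e u]; module
      · rw [e]; simp only [f_sub_left, f_smul_left, f_self hxx, f_self hyy, hxy, fyx]; module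
      · rw [e v]; module
      · rw [e]; simp only [f_sub_left, f_smul_left, f_self hxx, f_self hyy, hxy, fyx]; module
    · rintro b ⟨c, hc₀, c', hc₀', rfl⟩
      obtain ⟨g, hg, e⟩ := inE_rat O T.ra T.rb T.aa T.bb T.ab (F₀.neg_mem hc₀)
      obtain ⟨g', hg', e'⟩ := inE_rat O T.ra T.rc T.aa T.cc T.ac (F₀.neg_mem hc₀')
      refine ⟨g * g', mul_mem hg hg', ?_, Act.of_up (t₁ := 0) (t₂ := 0) ?_ ?_,
        Act.of_up (t₁ := 0) (t₂ := c') ?_ ?_⟩ <;>
        rw [Units.val_mul, ← Matrix.mulVec_mulVec, e', e]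
      · simp only [f_add_left, f_sub_left, f_smul_left, hzu, hzv, hzw, f_self T.aa, fca, fcb, T.ab]
        module
      · simp only [f_add_left, f_sub_left, f_smul_left, f_self T.aa, fca, fcb, T.ab, T.ac]
        module
      · simp only [f_add_left, f_sub_left, f_smul_left, f_self T.aa, fca, fcb, T.ab, f_comm y _,
          f_comm x _, hm₁, hm₂]
        module
      · simp only [f_add_left, f_sub_left, f_smul_left, f_self T.aa, f_self T.bb, fba, fca, fcb,
          T.ab, T.bc]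
        module
      · simp only [f_add_left, f_sub_left, f_smul_left, f_self T.aa, fca, fcb, T.ab, f_comm y _,
          f_comm x _, hz, hm₁, hm₂, hm₃]
        module
  obtain ⟨s, hs⟩ : ∃ s : F, s ∉ F₀ := by
    by_contra hall
    push Not at hall
    have h2' : Nat.card F₀ = Fintype.card F := by
      rw [← Nat.card_eq_fintype_card]
      exact Nat.card_congr (Equiv.subtypeUnivEquiv hall)
    rw [h2'] at hc
    have := Nat.pow_right_injective (Fintype.one_lt_card : 1 < Fintype.card F)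
      (show Fintype.card F ^ 1 = Fintype.card F ^ r by rw [pow_one]; exact hc)
    have := hr.two_le
    omega
  obtain ⟨k, hk, σ, t₁, t₂, hσ, kz, ku, kv⟩ := hdiag (s := s) (fun e => hs (e ▸ F₀.zero_mem))
  have hσn : σ ∉ F₀ := by
    rcases hσ with rfl | rfl
    · exact hs
    · exact fun e => hs (by simpa using F₀.neg_mem e)
  obtain ⟨t₃, ht₃⟩ : ∃ t, t = (1 - σ - m₃ * t₁ + m₂ * t₂) / m₁ := ⟨_, rfl⟩
  have hsum : t₁ * m₃ + t₂ * (-m₂) + t₃ * m₁ = 1 - σ := by
    rw [ht₃, div_mul_cancel₀ _ h1]; ring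
  have kw : (k : Mn) *ᵥ w = σ • w + t₃ • z := by
    have e : (k : Mn) *ᵥ z = z := kz
    conv_lhs at e => rw [hz]
    rw [Matrix.mulVec_add, Matrix.mulVec_add, Matrix.mulVec_smul, Matrix.mulVec_smul,
      Matrix.mulVec_smul, ku, kv] at e
    refine smul_right_injective V h1 ?_
    show m₁ • ((k : Mn) *ᵥ w) = m₁ • (σ • w + t₃ • z)
    rw [eq_sub_of_add_eq' e, hz, ht₃]
    match_scalars <;> field_simp <;> ring
  have eu : (k : Mn) *ᵥ u =
      (σ + t₁ * m₃) • u + (t₁ * (-m₂)) • v + (t₁ * m₁) • w := by rw [ku, hz]; module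
  have ev : (k : Mn) *ᵥ v =
      (t₂ * m₃) • u + (σ + t₂ * (-m₂)) • v + (t₂ * m₁) • w := by rw [kv, hz]; module
  have ew : (k : Mn) *ᵥ w =
      (t₃ * m₃) • u + (t₃ * (-m₂)) • v + (σ + t₃ * m₁) • w := by rw [kw, hz]; module
  have key : ∀ {a b : V}, InE ζ R K a b 1 → ∀ {A₁ A₂ A₃ B₁ B₂ B₃ : F},
      (k : Mn) *ᵥ a = A₁ • u + A₂ • v + A₃ • w → (k : Mn) *ᵥ b = B₁ • u + B₂ • v + B₃ • w →
      (A₁ * B₂ - A₂ * B₁ ∈ F₀ ∧ A₁ * B₃ - A₃ * B₁ ∈ F₀ ∧ A₂ * B₃ - A₃ * B₂ ∈ F₀) := by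
    intro a b e A₁ A₂ A₃ B₁ B₂ B₃ ea eb
    obtain ⟨g, hg, e'⟩ := e.conj O hk
    rw [ea, eb] at e'
    exact rat_of_not_wit O hw T ⟨g, hg, isE3_of_isE e'⟩
  obtain ⟨a1, a2, a3⟩ := key (inE_rat O T.ra T.rb T.aa T.bb T.ab F₀.one_mem) eu ev
  obtain ⟨b1, b2, b3⟩ := key (inE_rat O T.ra T.rc T.aa T.cc T.ac F₀.one_mem) eu ew
  obtain ⟨c1, c2, c3⟩ := key (inE_rat O T.rb T.rc T.bb T.cc T.bc F₀.one_mem) ev ew
  have q23 : σ * t₂ * m₁ ∈ F₀ := by convert a2 using 1; ring
  have q13 : σ * t₁ * m₁ ∈ F₀ := by convert F₀.neg_mem a3 using 1; ring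
  have q32 : σ * t₃ * (-m₂) ∈ F₀ := by convert b1 using 1; ring
  have q12 : σ * t₁ * (-m₂) ∈ F₀ := by convert b3 using 1; ring
  have q31 : σ * t₃ * m₃ ∈ F₀ := by convert F₀.neg_mem c1 using 1; ring
  have q21 : σ * t₂ * m₃ ∈ F₀ := by convert c2 using 1; ring
  have d12 : σ - σ * t₃ * m₁ ∈ F₀ := by convert a1 using 1; linear_combination (-σ) * hsum
  have d23 : σ - σ * t₁ * m₃ ∈ F₀ := by convert c3 using 1; linear_combination (-σ) * hsum
  have h20 : m₂ ≠ 0 := fun e => h2 (by rw [e, zero_div]; exact F₀.zero_mem)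
  have hσ0 : σ ≠ 0 := fun e => hσn (e ▸ F₀.zero_mem)
  refine hσn ?_
  by_cases ht1 : t₁ = 0
  · have := F₀.add_mem d23 (show σ * t₁ * m₃ ∈ F₀ by rw [ht1, mul_zero, zero_mul]; exact F₀.zero_mem)
    simpa using this
  · have hne : σ * t₁ * (-m₂) ≠ 0 := mul_ne_zero (mul_ne_zero hσ0 ht1) (neg_ne_zero.2 h20)
    have := F₀.add_mem d12 (F₀.div_mem (F₀.mul_mem q13 q32) q12)
    convert this using 1
    field_simp
    ring

/-- Some singular rational vector avoids a hyperplane and a small rational subspace. -/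
theorem exists_avoid (S : OS F₀ ζ R P) {e : V} (he : e ≠ 0) (W : Fin 4 → V)
    (hW : ∀ i, IsR F₀ P (W i)) :
    ∃ u, IsR F₀ P u ∧ R u = 0 ∧ f u e ≠ 0 ∧
      ∀ c : Fin 4 → F, (∀ i, c i ∈ F₀) → u ≠ ∑ i, c i • W i := by
  obtain ⟨a, ha, haa, hae⟩ : ∃ a, IsR F₀ P a ∧ R a = 0 ∧ f a e ≠ 0 := by
    by_contra hc
    push Not at hc
    refine he (eq_zero_of_values S fun i => ?_)
    obtain ⟨a, b, ha, haa, -, hb, hbb, -, μ, -, e'⟩ := exists_decomp S (k := 0) (by omega) ![]
      (fun i => i.elim0) (col_rat (F₀ := F₀) (P := P) i) (fun i => i.elim0)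
      (fun c _ e => col_ne (P := P) i (by rw [e]; simp))
    rw [e', f_add_left, f_smul_left, hc a ha haa, hc b hb hbb, mul_zero, add_zero]
  by_cases ho : ∀ c : Fin 4 → F, (∀ i, c i ∈ F₀) → a ≠ ∑ i, c i • W i
  · exact ⟨a, ha, haa, hae, ho⟩
  push Not at ho
  obtain ⟨d, hd, hda⟩ := ho
  obtain ⟨b, hb, hbb, hbv, hbW⟩ := exists_out_gen S ![a] (fun i => by fin_cases i; exact ha) W hW
    ![a] (fun i => by fin_cases i; exact ha) (fun c hc _ => ⟨c, hc, rfl⟩)
    (by have := S.dim; omega) (by have := S.dim; omega)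
  by_cases hbe : f b e = 0
  · refine ⟨a + b, ha.add hb, R_add haa hbb (by rw [f_comm]; exact hbv 0) S.ne, ?_, fun c hc e' => ?_⟩
    · rw [f_add_left, hbe, add_zero]; exact hae
    · refine hbW (c - d) (fun i => F₀.sub_mem (hc i) (hd i)) ?_
      rw [eq_sub_of_add_eq' e', hda, ← Finset.sum_sub_distrib]
      exact Finset.sum_congr rfl fun i _ => by rw [Pi.sub_apply, sub_smul]
  · exact ⟨b, hb, hbb, hbe, hbW⟩

/-- A nonrational plane has a rational three-space with irrational minors. -/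
theorem exists_tri (S : OS F₀ ζ R P) {x y : V} (hind : ∀ s t : F, s • x + t • y = 0 → s = 0 ∧ t = 0)
    (hX : ∀ w₁ w₂ : V, IsR F₀ P w₁ → IsR F₀ P w₂ →
      ¬ ((∃ s t : F, x = s • w₁ + t • w₂) ∧ ∃ s t : F, y = s • w₁ + t • w₂)) :
    ∃ u v w, Tri F₀ ζ R P u v w ∧ om ζ R x y u v ≠ 0 ∧
      om ζ R x y u w / om ζ R x y u v ∉ F₀ := by
  have hadd : ∀ u a b : V, om ζ R x y u (a + b) = om ζ R x y u a + om ζ R x y u b := fun u a b => by
    simp only [om, f_add_left]; ring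
  have hsmul : ∀ (u : V) (c : F) (a : V), om ζ R x y u (c • a) = c * om ζ R x y u a := fun u c a => by
    simp only [om, f_smul_left]; ring
  have hself : ∀ u : V, om ζ R x y u u = 0 := fun u => by simp only [om]; ring
  have hzero : ∀ u : V, om ζ R x y u 0 = 0 := fun u => by simp only [om, f_zero_left]; ring
  by_contra hcon
  push Not at hcon
  have mk : ∀ {u v w : V}, IsR F₀ P u → IsR F₀ P v → IsR F₀ P w → R u = 0 → R v = 0 → R w = 0 →
      f u v = 0 → f u w = 0 → f v w = 0 → om ζ R x y u v ≠ 0 →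
      om ζ R x y u w / om ζ R x y u v ∈ F₀ := by
    intro u v w hu hv hw huu hvv hww huv huw hvw h1
    by_contra h2
    refine h2 (hcon u v w ⟨hu, hv, hw, huu, hvv, hww, huv, huw, hvw, fun s hs t ht c hc e => ?_⟩ h1)
    have e1 := congrArg (om ζ R x y u) e
    simp only [hadd, hsmul, hself, hzero, mul_zero, zero_add] at e1
    by_cases hc0 : c = 0
    · rw [hc0, zero_mul, add_zero, mul_eq_zero, or_iff_left h1] at e1
      rw [hc0, e1, zero_smul, zero_smul, add_zero, add_zero, smul_eq_zero] at e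
      refine ⟨e.resolve_right fun e0 => h1 ?_, e1, hc0⟩
      rw [e0, om, f_zero_left, f_zero_left]; ring
    · exfalso
      refine h2 ?_
      rw [show om ζ R x y u w / om ζ R x y u v = -(t / c) by
        rw [← neg_div, div_eq_div_iff h1 hc0]; linear_combination e1]
      exact F₀.neg_mem (F₀.div_mem ht hc)
  have hfail : ∀ {u v w : V}, IsR F₀ P u → IsR F₀ P v → IsR F₀ P w → R u = 0 → R v = 0 → R w = 0 →
      f u v = 0 → f u w = 0 → om ζ R x y u v ≠ 0 → om ζ R x y u w / om ζ R x y u v ∈ F₀ := by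
    intro u v w hu hv hw huu hvv hww huv huw h1
    by_contra h2
    have hw0 : om ζ R x y u w ≠ 0 := fun e => h2 (by rw [e, zero_div]; exact F₀.zero_mem)
    by_cases hY : ∃ a, IsR F₀ P a ∧ R a = 0 ∧ f a u = 0 ∧ f a v = 0 ∧ f a w = 0 ∧
        om ζ R x y u a ≠ 0
    · obtain ⟨a, ha, haa, hau, hav, haw, ha1⟩ := hY
      have h3 := mk hu hv ha huu hvv haa huv (by rw [f_comm]; exact hau) (by rw [f_comm]; exact hav) h1
      have h4 := mk hu hw ha huu hww haa huw (by rw [f_comm]; exact hau) (by rw [f_comm]; exact haw) hw0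
      refine h2 ?_
      rw [show om ζ R x y u w / om ζ R x y u v =
        (om ζ R x y u a / om ζ R x y u v) / (om ζ R x y u a / om ζ R x y u w) by field_simp]
      exact F₀.div_mem h3 h4
    push Not at hY
    have hvw : f v w ≠ 0 := fun hvw => h2 (mk hu hv hw huu hvv hww huv huw hvw h1)
    have hrad : ∀ c : Fin 3 → F, (∀ i, c i ∈ F₀) →
        (∀ j, f (∑ i, c i • ![u, v, w] i) (![u, v, w] j) = 0) →
        ∃ d : Fin 1 → F, (∀ i, d i ∈ F₀) ∧ ∑ i, c i • ![u, v, w] i = ∑ i, d i • ![u] i := by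
      intro c hc hperp
      rw [Fin.sum_univ_three] at hperp ⊢
      have e1 : f (c 0 • u + c 1 • v + c 2 • w) v = 0 := hperp 1
      have e2 : f (c 0 • u + c 1 • v + c 2 • w) w = 0 := hperp 2
      simp only [f_add_left, f_smul_left, huv, huw, f_self hvv, f_self hww, f_comm w v, mul_zero,
        zero_add, add_zero, mul_eq_zero, hvw, or_false] at e1 e2
      refine ⟨![c 0], fun i => by fin_cases i; exact hc 0, ?_⟩
      rw [Fin.sum_univ_one]
      show c 0 • u + c 1 • v + c 2 • w = c 0 • u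
      rw [e1, e2, zero_smul, zero_smul, add_zero, add_zero]
    obtain ⟨a, ha, haa, hav, haout⟩ := exists_out_gen S ![u, v, w]
      (fun i => by fin_cases i <;> assumption) ![u, v, w] (fun i => by fin_cases i <;> assumption)
      ![u] (fun i => by fin_cases i; exact hu) hrad (by have := S.dim; omega)
      (by have := S.dim; omega)
    obtain ⟨b, hb, hbb, hbv, hba⟩ := exists_one_gen S ![u, v, w]
      (fun i => by fin_cases i <;> assumption) ![u] (fun i => by fin_cases i; exact hu) hrad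
      (by have := S.dim; omega) ha haout
    have ha' : f a u = 0 ∧ f a v = 0 ∧ f a w = 0 := ⟨hav 0, hav 1, hav 2⟩
    have hb' : f b u = 0 ∧ f b v = 0 ∧ f b w = 0 := ⟨hbv 0, hbv 1, hbv 2⟩
    have oa : om ζ R x y u a = 0 := hY a ha haa ha'.1 ha'.2.1 ha'.2.2
    have ob : om ζ R x y u b = 0 := hY b hb hbb hb'.1 hb'.2.1 hb'.2.2
    have := mk hu (hv.add ha) (hw.add (hb.smul (F₀.neg_mem (f_rat S hv hw)))) huu
      (R_add hvv haa (by rw [f_comm]; exact ha'.2.1) S.ne)
      (R_add hww (R_smul hbb _) (by rw [f_smul_right, f_comm w b, hb'.2.2, mul_zero]) S.ne)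
      (by rw [f_add_right, huv, f_comm u a, ha'.1, add_zero])
      (by rw [f_add_right, huw, f_smul_right, f_comm u b, hb'.1, mul_zero, add_zero])
      (by
        simp only [f_add_left, f_add_right, f_smul_right, ha'.2.2, f_comm v b, hb'.2.1,
          f_comm a b, hba]
        ring)
      (by rw [hadd, oa, add_zero]; exact h1)
    rw [hadd, hadd, hsmul, oa, ob, mul_zero, add_zero, add_zero] at this
    exact h2 this
  have hxu : ∀ u w : V, f w (f u x • y - f u y • x) = om ζ R x y u w := fun u w => by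
    simp only [om, f_sub_right, f_smul_right]
  -- each vector gives a vector of the plane in a rational plane
  have hline : ∀ u, IsR F₀ P u → R u = 0 → u ≠ 0 →
      ∃ (m c : F) (r : V), IsR F₀ P r ∧ f u x • y - f u y • x = m • r + c • u := by
    intro u hu huu hu0
    obtain ⟨u', hu', hu'u', -, hu'u⟩ := exists_one S (k := 0) (by omega) ![] (fun i => i.elim0) hu
      (fun c _ e => hu0 (by rw [e]; simp))
    obtain ⟨m, hm, hmv⟩ : ∃ m : F, m ≠ 0 ∧ ∀ w, IsR F₀ P w → R w = 0 → f u w = 0 →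
        om ζ R x y u w / m ∈ F₀ := by
      by_cases hv : ∃ v, IsR F₀ P v ∧ R v = 0 ∧ f u v = 0 ∧ om ζ R x y u v ≠ 0
      · obtain ⟨v, hv, hvv, huv, hv1⟩ := hv
        exact ⟨_, hv1, fun w hw hww huw => hfail hu hv hw huu hvv hww huv huw hv1⟩
      · push Not at hv
        exact ⟨1, one_ne_zero, fun w hw hww huw => by
          rw [hv w hw hww huw, zero_div]; exact F₀.zero_mem⟩
    obtain ⟨c, hc⟩ : ∃ c, c = f u' (f u x • y - f u y • x) := ⟨_, rfl⟩
    obtain ⟨r, hr, e⟩ := exists_eq_smul S (x := (f u x • y - f u y • x) - c • u) hm fun i => by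
      have hci := col_rat (F₀ := F₀) (P := P) i
      obtain ⟨p, hp⟩ : ∃ p, p = col P i - f (col P i) u • u' := ⟨_, rfl⟩
      have hval : f (col P i) ((f u x • y - f u y • x) - c • u) = om ζ R x y u p := by
        rw [← hxu, hp, f_sub_left, f_smul_left, ← hc, f_sub_right, f_smul_right]; ring
      rw [hval]
      have hpR : IsR F₀ P p := hp ▸ hci.sub (hu'.smul (f_rat S hci hu))
      have hpu : f p u = 0 := by rw [hp, f_sub_left, f_smul_left, hu'u, mul_one, sub_self]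
      by_cases hs : ∃ s ∈ F₀, p = s • u
      · obtain ⟨s, -, e⟩ := hs
        rw [e, hsmul, hself, mul_zero, zero_div]
        exact F₀.zero_mem
      obtain ⟨a, b, ha, haa, hau, hb, hbb, hbu, μ, hμ, e⟩ := exists_decomp S (k := 1) (by omega)
        ![u] (fun i => by fin_cases i; exact hu) hpR (fun i => by fin_cases i; exact hpu)
        (fun d hd e => hs ⟨d 0, hd 0, by rw [e, Fin.sum_univ_one]; rfl⟩)
      rw [e, hadd, hsmul, add_div, mul_div_assoc]
      exact F₀.add_mem (hmv a ha haa (by rw [f_comm]; exact hau 0))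
        (F₀.mul_mem hμ (hmv b hb hbb (by rw [f_comm]; exact hbu 0)))
    exact ⟨m, c, r, hr, by rw [← e]; module⟩
  have hx0 : x ≠ 0 := fun e => one_ne_zero (α := F) (hind 1 0 (by rw [e]; simp)).1
  -- some of these vectors are rational
  have hpoint : ∀ e : V, e ≠ 0 → (∃ s t : F, e = s • x + t • y) →
      ∃ u w, f u e ≠ 0 ∧ f u w = 0 ∧ IsR F₀ P w ∧ w ≠ 0 ∧ ∃ s t : F, w = s • x + t • y := by
    intro e he ⟨se, te, hee⟩
    by_contra hp
    push Not at hp
    have hnr : ∀ u, f u e ≠ 0 → ∀ (l : F) (w : V), IsR F₀ P w →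
        f u x • y - f u y • x ≠ l • w := by
      intro u hue l w hw e'
      have hne : f u x • y - f u y • x ≠ 0 := fun e0 => hue (by
        obtain ⟨h1, h2⟩ := hind (-f u y) (f u x) (by rw [← e0]; module)
        rw [hee, f_add_right, f_smul_right, f_smul_right, h2, neg_eq_zero.1 h1]; ring)
      have hl : l ≠ 0 := fun e0 => hne (by rw [e', e0, zero_smul])
      have hw0 : w ≠ 0 := fun e0 => hne (by rw [e', e0, smul_zero])
      refine hp u w hue ?_ hw hw0 (-(f u y) / l) (f u x / l) ?_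
      · have h1 := hxu u u
        rw [hself, e', f_smul_right] at h1
        exact (mul_eq_zero.1 h1).resolve_left hl
      · refine smul_right_injective V hl ?_
        show l • w = l • ((-(f u y) / l) • x + (f u x / l) • y)
        rw [← e', smul_add, smul_smul, smul_smul, mul_div_cancel₀ _ hl, mul_div_cancel₀ _ hl]
        module
    have hbase : ∀ u, IsR F₀ P u → R u = 0 → f u e ≠ 0 → ∃ (m c : F) (r : V), IsR F₀ P r ∧
        f u x • y - f u y • x = m • r + c • u ∧ ∀ s ∈ F₀, c ≠ s * m := by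
      intro u hu huu hue
      obtain ⟨m, c, r, hr, e'⟩ := hline u hu huu (fun e0 => hue (by rw [e0, f_zero_left]))
      refine ⟨m, c, r, hr, e', fun s hs hcs => hnr u hue m (r + s • u) (hr.add (hu.smul hs)) ?_⟩
      rw [e', hcs]; module
    obtain ⟨u₁, hu₁, hu₁u₁, hu₁e, -⟩ := exists_avoid S he 0 (fun _ => IsR.zero)
    obtain ⟨m₁, c₁, r₁, hr₁, e₁, hc₁⟩ := hbase u₁ hu₁ hu₁u₁ hu₁e
    obtain ⟨u₂, hu₂, hu₂u₂, hu₂e, ho₂⟩ := exists_avoid S he ![r₁, u₁, 0, 0]
      (fun i => by fin_cases i; exacts [hr₁, hu₁, IsR.zero, IsR.zero])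
    obtain ⟨m₂, c₂, r₂, hr₂, e₂, hc₂⟩ := hbase u₂ hu₂ hu₂u₂ hu₂e
    obtain ⟨u₃, hu₃, hu₃u₃, hu₃e, ho₃⟩ := exists_avoid S he ![r₁, u₁, r₂, u₂]
      (fun i => by fin_cases i; exacts [hr₁, hu₁, hr₂, hu₂])
    obtain ⟨m₃, c₃, r₃, hr₃, e₃, hc₃⟩ := hbase u₃ hu₃ hu₃u₃ hu₃e
    have hrel : ∀ A B : F, m₃ • r₃ + c₃ • u₃ ≠ A • (m₁ • r₁ + c₁ • u₁) + B • (m₂ • r₂ + c₂ • u₂) := by
      intro A B e'
      obtain ⟨L, hLm, hLc⟩ := exists_functional (F₀ := F₀) hc₃
      have h := map_relation (P := P) (w := ![r₁, u₁, r₂, u₂, r₃, u₃])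
        (fun i => by fin_cases i <;> assumption)
        (c := ![A * m₁, A * c₁, B * m₂, B * c₂, -m₃, -c₃]) L (by
          rw [Fin.sum_univ_six]
          show (A * m₁) • r₁ + (A * c₁) • u₁ + (B * m₂) • r₂ + (B * c₂) • u₂ + (-m₃) • r₃
            + (-c₃) • u₃ = 0
          rw [← sub_eq_zero] at e'
          rw [← neg_eq_zero, ← e']
          module)
      rw [Fin.sum_univ_six] at h
      change ((L (A * m₁) : F₀) : F) • r₁ + ((L (A * c₁) : F₀) : F) • u₁
        + ((L (B * m₂) : F₀) : F) • r₂ + ((L (B * c₂) : F₀) : F) • u₂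
        + ((L (-m₃) : F₀) : F) • r₃ + ((L (-c₃) : F₀) : F) • u₃ = 0 at h
      rw [map_neg, map_neg, hLm, hLc, neg_zero] at h
      refine ho₃ (fun i => ![((L (A * m₁) : F₀) : F), L (A * c₁), L (B * m₂), L (B * c₂)] i)
        (fun i => by fin_cases i <;> exact Subtype.prop _) ?_
      rw [Fin.sum_univ_four]
      show u₃ = ((L (A * m₁) : F₀) : F) • r₁ + ((L (A * c₁) : F₀) : F) • u₁
        + ((L (B * m₂) : F₀) : F) • r₂ + ((L (B * c₂) : F₀) : F) • u₂
      rw [← sub_eq_zero, ← neg_eq_zero]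
      conv_rhs => rw [← h]
      simp only [Subfield.coe_neg, Subfield.coe_zero, Subfield.coe_one]
      module
    by_cases hD : f u₁ x * f u₂ y - f u₂ x * f u₁ y = 0
    · obtain ⟨A, hA⟩ : ∃ A : F, m₂ • r₂ + c₂ • u₂ = A • (m₁ • r₁ + c₁ • u₁) := by
        rw [← e₁, ← e₂]
        by_cases hx1 : f u₁ x = 0
        · have hy1 : f u₁ y ≠ 0 := fun e0 => hnr u₁ hu₁e 0 0 IsR.zero (by rw [hx1, e0]; simp)
          refine ⟨f u₂ y / f u₁ y, ?_⟩
          have hx2 : f u₂ x = 0 := by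
            rw [hx1, zero_mul, zero_sub, neg_eq_zero] at hD
            exact (mul_eq_zero.1 hD).resolve_right hy1
          rw [hx1, hx2]
          refine smul_right_injective V hy1 ?_
          simp only [zero_smul, zero_sub, smul_neg, smul_smul, mul_div_cancel₀ _ hy1]
          match_scalars <;> field_simp
        · refine ⟨f u₂ x / f u₁ x, ?_⟩
          match_scalars <;> field_simp <;> (first | ring1 | linear_combination hD | linear_combination -hD)
      obtain ⟨L, hLm, hLc⟩ := exists_functional (F₀ := F₀) hc₂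
      have h := map_relation (P := P) (w := ![r₁, u₁, r₂, u₂])
        (fun i => by fin_cases i <;> assumption) (c := ![A * m₁, A * c₁, -m₂, -c₂]) L (by
          rw [Fin.sum_univ_four]
          show (A * m₁) • r₁ + (A * c₁) • u₁ + (-m₂) • r₂ + (-c₂) • u₂ = 0
          rw [← sub_eq_zero] at hA
          rw [← neg_eq_zero, ← hA]
          module)
      rw [Fin.sum_univ_four] at h
      change ((L (A * m₁) : F₀) : F) • r₁ + ((L (A * c₁) : F₀) : F) • u₁
        + ((L (-m₂) : F₀) : F) • r₂ + ((L (-c₂) : F₀) : F) • u₂ = 0 at h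
      rw [map_neg, map_neg, hLm, hLc, neg_zero] at h
      refine ho₂ ![((L (A * m₁) : F₀) : F), L (A * c₁), 0, 0] (fun i => by
        fin_cases i <;> first | exact F₀.zero_mem | exact Subtype.prop _) ?_
      rw [Fin.sum_univ_four]
      show u₂ = ((L (A * m₁) : F₀) : F) • r₁ + ((L (A * c₁) : F₀) : F) • u₁
        + (0 : F) • 0 + (0 : F) • 0
      rw [← sub_eq_zero, ← neg_eq_zero]
      conv_rhs => rw [← h]
      simp only [Subfield.coe_neg, Subfield.coe_zero, Subfield.coe_one]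
      module
    · refine hrel ((f u₃ x * f u₂ y - f u₂ x * f u₃ y) / (f u₁ x * f u₂ y - f u₂ x * f u₁ y))
        ((f u₁ x * f u₃ y - f u₃ x * f u₁ y) / (f u₁ x * f u₂ y - f u₂ x * f u₁ y)) ?_
      rw [← e₁, ← e₂, ← e₃]
      refine smul_right_injective V hD ?_
      simp only [smul_add, smul_smul, mul_div_cancel₀ _ hD]
      module
  obtain ⟨u₁, w₁, -, -, hw₁, hw₁0, s₁, t₁, e₁⟩ := hpoint x hx0 ⟨1, 0, by simp⟩
  obtain ⟨u₂, w₂, hu₂, hu₂w, hw₂, hw₂0, s₂, t₂, e₂⟩ := hpoint w₁ hw₁0 ⟨s₁, t₁, e₁⟩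
  by_cases hD : s₁ * t₂ - s₂ * t₁ = 0
  · refine hu₂ ?_
    by_cases hs2 : s₂ = 0
    · have ht2 : t₂ ≠ 0 := fun e => hw₂0 (by rw [e₂, hs2, e]; simp)
      have hs1 : s₁ = 0 := by
        rw [hs2, zero_mul, sub_zero] at hD
        exact (mul_eq_zero.1 hD).resolve_right ht2
      have : w₁ = (t₁ / t₂) • w₂ := by
        rw [e₁, e₂, hs1, hs2]
        simp only [zero_smul, zero_add, smul_smul, div_mul_cancel₀ _ ht2]
      rw [this, f_smul_right, hu₂w, mul_zero]
    · have : w₁ = (s₁ / s₂) • w₂ := by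
        rw [e₁, e₂]
        refine smul_right_injective V hs2 ?_
        simp only [smul_add, smul_smul, mul_div_cancel₀ _ hs2]
        rw [← mul_assoc, mul_div_cancel₀ _ hs2, ← mul_assoc, mul_div_cancel₀ _ hs2]
        match_scalars
        · ring1
        · linear_combination -hD
      rw [this, f_smul_right, hu₂w, mul_zero]
  · refine hX w₁ w₂ hw₁ hw₂ ⟨⟨t₂ / (s₁ * t₂ - s₂ * t₁), -t₁ / (s₁ * t₂ - s₂ * t₁), ?_⟩,
      ⟨-s₂ / (s₁ * t₂ - s₂ * t₁), s₁ / (s₁ * t₂ - s₂ * t₁), ?_⟩⟩ <;>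
      rw [e₁, e₂] <;> refine smul_right_injective V hD ?_ <;>
      simp only [smul_add, ← mul_smul, ← mul_assoc, mul_div_cancel₀ _ hD] <;> module

/-- An overgroup element gives a nonrational root element. -/
theorem wit_of_moved (O : Over F₀ ζ R P K) {r : ℕ} (hr : r.Prime)
    (hc : Fintype.card F = Nat.card F₀ ^ r) {g : GL ι F} (hgK : g ∈ K)
    (hgS : g ∉ subfieldSubgroup F₀ P) : Wit F₀ ζ R P K := by
  have S := O.str
  have hgO := O.le hgK
  obtain ⟨u, hu, huu, hmov⟩ := exists_moved_iso S (isometry_of_mem hgO) hgS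
  have hu0 : u ≠ 0 := fun e => hmov 0 0 IsR.zero (by rw [e, Matrix.mulVec_zero, zero_smul])
  obtain ⟨v₁, hv₁, hv₁v₁, hv₁u, hv₁out⟩ := exists_out S (k := 1) (by omega) ![u]
    (fun i => by fin_cases i; exact hu)
  obtain ⟨v₂, hv₂, hv₂v₂, hv₂v, hv₂out⟩ := exists_out S (k := 2) (by omega) ![u, v₁]
    (fun i => by fin_cases i <;> assumption)
  have hinj : ∀ a b : V, (g : Mn) *ᵥ a = (g : Mn) *ᵥ b → a = b := fun a b e =>
    Matrix.mulVec_injective_iff_isUnit.2 g.isUnit e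
  have hindF : ∀ {v : V}, IsR F₀ P v → (∀ s ∈ F₀, v ≠ s • u) →
      ∀ s t : F, s • ((g : Mn) *ᵥ u) + t • ((g : Mn) *ᵥ v) = 0 → s = 0 ∧ t = 0 := by
    intro v hv ho s t e
    rw [← Matrix.mulVec_smul, ← Matrix.mulVec_smul, ← Matrix.mulVec_add,
      ← Matrix.mulVec_zero (g : Mn)] at e
    have e' := hinj _ _ e
    by_cases ht : t = 0
    · rw [ht, zero_smul, add_zero, smul_eq_zero] at e'
      exact ⟨e'.resolve_right hu0, ht⟩
    · exfalso
      obtain ⟨L, -, hL⟩ := exists_functional (F₀ := F₀) (a := (0 : F)) (b := t)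
        (fun s _ => by rw [mul_zero]; exact ht)
      have h := map_relation (P := P) (w := ![u, v]) (fun i => by fin_cases i <;> assumption)
        (c := ![s, t]) L (by rw [Fin.sum_univ_two]; exact e')
      rw [Fin.sum_univ_two] at h
      change ((L s : F₀) : F) • u + ((L t : F₀) : F) • v = 0 at h
      rw [hL] at h
      refine ho (-((L s : F₀) : F)) (F₀.neg_mem (Subtype.prop _)) ?_
      rw [← sub_eq_zero, ← h]
      simp
      abel
  obtain ⟨v, hv, hvv, hvu, hvo, hX⟩ : ∃ v, IsR F₀ P v ∧ R v = 0 ∧ f v u = 0 ∧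
      (∀ s ∈ F₀, v ≠ s • u) ∧ ∀ w₁ w₂ : V, IsR F₀ P w₁ → IsR F₀ P w₂ →
        ¬ ((∃ s t : F, (g : Mn) *ᵥ u = s • w₁ + t • w₂) ∧
          ∃ s t : F, (g : Mn) *ᵥ v = s • w₁ + t • w₂) := by
    have ho₁ : ∀ s ∈ F₀, v₁ ≠ s • u := fun s hs e => hv₁out ![s] (fun i => by
      fin_cases i; exact hs) (by rw [e, Fin.sum_univ_one]; rfl)
    have ho₂ : ∀ s ∈ F₀, v₂ ≠ s • u := fun s hs e => hv₂out ![s, 0] (fun i => by
      fin_cases i; exacts [hs, F₀.zero_mem]) (by rw [e, Fin.sum_univ_two]; simp)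
    by_contra hcon
    push Not at hcon
    obtain ⟨w₁, w₂, hw₁, hw₂, ⟨a₁, b₁, ex⟩, c₁, d₁, ey⟩ := hcon v₁ hv₁ hv₁v₁ (hv₁u 0) ho₁
    obtain ⟨w₃, w₄, hw₃, hw₄, ⟨a, b, ex'⟩, c₂, d₂, ey'⟩ := hcon v₂ hv₂ hv₂v₂ (hv₂v 0) ho₂
    have hsub : ∀ {p q : F} {z₁ z₂ : V}, IsR F₀ P z₁ → IsR F₀ P z₂ →
        (g : Mn) *ᵥ u = p • z₁ + q • z₂ → ∃ s t : F, z₂ = s • w₁ + t • w₂ := by
      intro p q z₁ z₂ hz₁ hz₂ e
      obtain ⟨L, hLa, hLb⟩ := exists_functional (F₀ := F₀) (a := p) (b := q) fun s hs e0 =>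
        hmov p (z₁ + s • z₂) (hz₁.add (hz₂.smul hs)) (by rw [e, e0]; module)
      have h := map_relation (P := P) (w := ![z₁, z₂, w₁, w₂])
        (fun i => by fin_cases i <;> assumption) (c := ![p, q, -a₁, -b₁]) L (by
          rw [Fin.sum_univ_four]
          show p • z₁ + q • z₂ + (-a₁) • w₁ + (-b₁) • w₂ = 0
          rw [← e, ex]; module)
      rw [Fin.sum_univ_four] at h
      change ((L p : F₀) : F) • z₁ + ((L q : F₀) : F) • z₂ + ((L (-a₁) : F₀) : F) • w₁
        + ((L (-b₁) : F₀) : F) • w₂ = 0 at h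
      rw [hLa, hLb] at h
      refine ⟨-((L (-a₁) : F₀) : F), -((L (-b₁) : F₀) : F), ?_⟩
      rw [← sub_eq_zero, ← h]
      simp only [Subfield.coe_zero, Subfield.coe_one]
      module
    obtain ⟨s₃, t₃, e₃⟩ := hsub hw₄ hw₃ (by rw [ex']; module : (g : Mn) *ᵥ u = b • w₄ + a • w₃)
    obtain ⟨s₄, t₄, e₄⟩ := hsub hw₃ hw₄ ex'
    have hD : a₁ * d₁ - b₁ * c₁ ≠ 0 := fun hD => by
      by_cases ha : a₁ = 0
      · exact hmov b₁ w₂ hw₂ (by rw [ex, ha]; module)
      · have := (hindF hv₁ ho₁ (-(c₁ / a₁)) 1 (by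
          rw [ex, ey]
          match_scalars <;> field_simp <;> (first | ring1 | linear_combination hD | linear_combination -hD))).2
        exact one_ne_zero this
    obtain ⟨A, B, e₅⟩ : ∃ A B : F, v₂ = A • u + B • v₁ := by
      refine ⟨((c₂ * s₃ + d₂ * s₄) * d₁ - (c₂ * t₃ + d₂ * t₄) * c₁) / (a₁ * d₁ - b₁ * c₁),
        ((c₂ * t₃ + d₂ * t₄) * a₁ - (c₂ * s₃ + d₂ * s₄) * b₁) / (a₁ * d₁ - b₁ * c₁), hinj _ _ ?_⟩
      rw [Matrix.mulVec_add, Matrix.mulVec_smul, Matrix.mulVec_smul, ex, ey, ey', e₃, e₄]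
      refine smul_right_injective V hD ?_
      simp only [smul_add, ← mul_smul, ← mul_assoc, mul_div_cancel₀ _ hD]
      module
    obtain ⟨L, -, hL⟩ := exists_functional (F₀ := F₀) (a := (0 : F)) (b := (1 : F))
      (fun s _ => by rw [mul_zero]; exact one_ne_zero)
    have h := map_relation (P := P) (w := ![u, v₁, v₂]) (fun i => by fin_cases i <;> assumption)
      (c := ![-A, -B, 1]) L (by
        rw [Fin.sum_univ_three]
        show (-A) • u + (-B) • v₁ + (1 : F) • v₂ = 0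
        rw [e₅]; module)
    rw [Fin.sum_univ_three] at h
    change ((L (-A) : F₀) : F) • u + ((L (-B) : F₀) : F) • v₁ + ((L 1 : F₀) : F) • v₂ = 0 at h
    rw [hL] at h
    refine hv₂out ![-((L (-A) : F₀) : F), -((L (-B) : F₀) : F)] (fun i => by
      fin_cases i <;> exact F₀.neg_mem (Subtype.prop _)) ?_
    rw [Fin.sum_univ_two]
    show v₂ = (-((L (-A) : F₀) : F)) • u + (-((L (-B) : F₀) : F)) • v₁
    rw [← sub_eq_zero, ← h]
    simp only [Subfield.coe_one]
    module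
  obtain ⟨a, b, c, T, h1, h2⟩ := exists_tri S (hindF hv hvo) hX
  refine wit_of_tri O hr hc (by rw [isometry_of_mem hgO, huu]) (by rw [isometry_of_mem hgO, hvv])
    (by rw [f_isometry hgO, f_comm, hvu]) ?_ T h1 h2
  exact (inE_rat O hu hv huu hvv (by rw [f_comm, hvu]) F₀.one_mem).conj O hgK

/-- All root elements of a plane. -/
def FullP (ζ : F) (R : QuadraticForm F (ι → F)) (K : Subgroup (GL ι F)) (a b : ι → F) : Prop :=
  ∀ s : F, InE ζ R K a b s

omit [Fintype F] in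
theorem FullP.symm {a b : V} (h : FullP ζ R K a b) : FullP ζ R K b a := fun s => by
  simpa using (h (-s)).swap

/-- A nonrational root element gives a full plane. -/
theorem full_of_wit (O : Over F₀ ζ R P K) {r : ℕ} (hr : r.Prime)
    (hc : Fintype.card F = Nat.card F₀ ^ r) (hw : Wit F₀ ζ R P K) :
    ∃ a b, IsR F₀ P a ∧ IsR F₀ P b ∧ R a = 0 ∧ R b = 0 ∧ f a b = 0 ∧ Indep2 F₀ a b ∧
      FullP ζ R K a b := by
  obtain ⟨u, v, l, hu, hv, huu, hvv, huv, hi, hl, hE⟩ := hw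
  refine ⟨u, v, hu, hv, huu, hvv, huv, hi, ?_⟩
  have S := O.str
  have hvu : f v u = 0 := by rw [f_comm, huv]
  obtain ⟨u', hu', hu'u', e1, hu'u⟩ := exists_one S (k := 1) (by omega) ![v]
    (fun i => by fin_cases i; exact hv) hu (fun d hd e => by
      rw [Fin.sum_univ_one] at e
      have e' : u = d 0 • v := e
      exact one_ne_zero (hi 1 F₀.one_mem (-(d 0)) (F₀.neg_mem (hd 0)) (by rw [e']; module)).1)
  have hu'v : f u' v = 0 := e1 0
  obtain ⟨v', hv', hv'v', e2, hv'v⟩ := exists_one S (k := 2) (by omega) ![u, u']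
    (fun i => by fin_cases i <;> assumption) hv (fun d hd e => by
      have e' : v = d 0 • u + d 1 • u' := by rw [e, Fin.sum_univ_two]; rfl
      have h1 : d 1 = 0 := by
        have := congrArg (fun z => f z u) e'
        simp only [f_add_left, f_smul_left, hvu, f_self huu, hu'u, mul_zero, mul_one,
          zero_add] at this
        exact this.symm
      refine one_ne_zero (hi (-(d 0)) (F₀.neg_mem (hd 0)) 1 F₀.one_mem ?_).2
      rw [e', h1]; module)
  have hv'u : f v' u = 0 := e2 0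
  have hv'u' : f v' u' = 0 := e2 1
  let A : AddSubgroup F :=
    { carrier := {s | InE ζ R K u v s}
      zero_mem' := ⟨1, K.one_mem, fun x => by simp⟩
      add_mem' := fun h h' => InE.add huu hvv huv h h'
      neg_mem' := fun h => InE.neg huu hvv huv h }
  have hF₀A : ∀ c ∈ F₀, c ∈ A := fun c hc => inE_rat O hu hv huu hvv huv hc
  have hbig : ∀ p : ℕ, p.Prime → CharP F p → p ^ 2 ≤ Nat.card A := by
    intro p hp hchar
    haveI : Fintype F₀ := Fintype.ofFinite _
    haveI : CharP F₀ p := (RingHom.charP_iff _ F₀.subtype.injective p).2 hchar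
    obtain ⟨d, -, hd⟩ := FiniteField.card F₀ p
    obtain ⟨e, -, he⟩ := FiniteField.card F p
    obtain ⟨i, -, hi'⟩ := (Nat.dvd_prime_pow hp).1
      (he ▸ Nat.card_eq_fintype_card (α := F) ▸ AddSubgroup.card_addSubgroup_dvd_card A :
        Nat.card A ∣ p ^ (e : ℕ))
    have hlt : Nat.card F₀ < Nat.card A := by
      haveI : Fintype A := Fintype.ofFinite _
      rw [Nat.card_eq_fintype_card, Nat.card_eq_fintype_card]
      refine Fintype.card_lt_of_injective_of_notMem (fun c : F₀ => (⟨c, hF₀A c c.2⟩ : A))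
        (fun a b e => Subtype.ext (congrArg (fun x : A => (x : F)) e)) (b := ⟨l, hE⟩) ?_
      rintro ⟨c, e⟩
      have : (c : F) = l := congrArg Subtype.val e
      exact hl (this ▸ c.2)
    rw [Nat.card_eq_fintype_card, hd] at hlt
    rw [hi'] at hlt ⊢
    have := (Nat.pow_lt_pow_iff_right hp.one_lt).1 hlt
    exact Nat.pow_le_pow_right hp.pos (by have := d.pos; omega)
  have hgen : ∀ T : Subfield F, (∀ b ∈ A, b ∈ T) → T = ⊤ := fun T hT =>
    SubfieldSL.eq_top_of_mem hr hc (fun c hc => hT c (hF₀A c hc)) (hT l hE) hl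
  have hsq : ∀ s : F, s ^ 2 ∈ A := by
    intro s
    by_cases hs : s = 0
    · rw [hs, zero_pow two_ne_zero]; exact A.zero_mem
    obtain ⟨y, hy, σ, t₁, t₂, hσ, -, eu, ev⟩ := exists_diag (K := K) (u := u) (v := v)
      (e₂ := v') (e₃ := -u') (z := (0 : V)) hbig hgen (by
        obtain ⟨g, hg, e⟩ := inE_rat O hu' hv' hu'u' hv'v' (by rw [f_comm]; exact hv'u') F₀.one_mem
        refine ⟨g, hg, Matrix.mulVec_zero _, Act.of_lo (t₁ := 0) (t₂ := 0) ?_ ?_,
          Act.of_lo (t₁ := 0) (t₂ := 0) ?_ ?_⟩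
        · rw [e u, f_comm u u', hu'u, f_comm u v', hv'u]; module
        · rw [e v', hv'u', f_self hv'v']; module
        · rw [e v, f_comm v u', hu'v, f_comm v v', hv'v]; module
        · rw [Matrix.mulVec_neg, e u', f_self hu'u', f_comm u' v', hv'u']; module)
      (fun b hb => by
        obtain ⟨g, hg, e⟩ := InE.neg huu hvv huv hb
        refine ⟨g, hg, Matrix.mulVec_zero _, Act.of_up (t₁ := 0) (t₂ := 0) ?_ ?_,
          Act.of_up (t₁ := 0) (t₂ := 0) ?_ ?_⟩
        · rw [e u, f_self huu, huv]; module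
        · rw [e v', hv'u, hv'v]; module
        · rw [e v, hvu, f_self hvv]; module
        · rw [Matrix.mulVec_neg, e u', hu'u, hu'v]; module) hs
    rw [smul_zero, add_zero] at eu ev
    have h := (inE_rat O hu hv huu hvv huv F₀.one_mem).conj O hy
    rw [eu, ev] at h
    have h2 := InE.smul σ σ h
    show InE ζ R K u v (s ^ 2)
    convert h2 using 1
    rcases hσ with rfl | rfl <;> ring
  intro s
  by_cases h2 : (2 : F) = 0
  · haveI : CharP F 2 := CharTwo.of_one_ne_zero_of_two_eq_zero one_ne_zero h2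
    obtain ⟨y, hy⟩ := FiniteField.isSquare_of_char_two (ringChar.eq F 2) s
    show s ∈ A
    rw [hy, ← sq]
    exact hsq y
  · show s ∈ A
    rw [show s = ((s + 1) / 2) ^ 2 - ((s - 1) / 2) ^ 2 by field_simp; ring]
    exact A.sub_mem (hsq _) (hsq _)

/-- All rational planes are full. -/
theorem full_all (O : Over F₀ ζ R P K) {u v : V} (hu : IsR F₀ P u) (hv : IsR F₀ P v)
    (huu : R u = 0) (hvv : R v = 0) (huv : f u v = 0) (hi : Indep2 F₀ u v)
    (hF : FullP ζ R K u v) :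
    ∀ a b, IsR F₀ P a → IsR F₀ P b → R a = 0 → R b = 0 → f a b = 0 → Indep2 F₀ a b →
      FullP ζ R K a b := by
  have S := O.str
  have step : ∀ {a b b' : V}, IsR F₀ P a → IsR F₀ P b → IsR F₀ P b' → R a = 0 → R b = 0 → R b' = 0 →
      f a b = 0 → f a b' = 0 → f b b' = 0 → Indep2 F₀ a b →
      (∀ s ∈ F₀, ∀ t ∈ F₀, b' ≠ s • a + t • b) → FullP ζ R K a b → FullP ζ R K a b' := by
    intro a b b' ha hb hb' haa hbb hb'b' hab hab' hbb' hi hout hF
    obtain ⟨z, hz, hzz, hzv, hzb⟩ := exists_one S (k := 2) (by omega) ![a, b' - b]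
      (fun i => by fin_cases i; exacts [ha, hb'.sub hb]) hb (fun d hd e => by
        have e' : b = d 0 • a + d 1 • (b' - b) := e.trans (by rw [Fin.sum_univ_two]; rfl)
        by_cases h1 : d 1 = 0
        · refine one_ne_zero (hi (-(d 0)) (F₀.neg_mem (hd 0)) 1 F₀.one_mem ?_).2
          rw [e', h1]; module
        · refine hout (-(d 0 / d 1)) (F₀.neg_mem (F₀.div_mem (hd 0) (hd 1)))
            ((1 + d 1) / d 1) (F₀.div_mem (F₀.add_mem F₀.one_mem (hd 1)) (hd 1)) ?_
          refine smul_right_injective V h1 ?_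
          show d 1 • b' = d 1 • ((-(d 0 / d 1)) • a + ((1 + d 1) / d 1) • b)
          rw [smul_add, smul_smul, smul_smul, mul_neg, mul_div_cancel₀ _ h1, mul_div_cancel₀ _ h1,
            add_smul, one_smul]
          calc d 1 • b' = (-d 0) • a + b + d 1 • b := by
                conv_rhs => arg 1; arg 2; rw [e']
                module
            _ = _ := by module)
    have hza : f z a = 0 := hzv 0
    have hzd : f z (b' - b) = 0 := hzv 1
    obtain ⟨k, hk, ek⟩ := inE_rat O hz (hb'.sub hb) hzz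
      (R_sub hb'b' hbb (by rw [f_comm]; exact hbb') S.ne) hzd F₀.one_mem
    intro s
    have h := (hF s).conj O hk
    rw [ek a, ek b, f_comm a z, hza, f_sub_right, f_sub_right, hab', hab, f_comm b z, hzb, hbb',
      f_self hbb] at h
    simpa using h
  have step' : ∀ {a b b' : V}, IsR F₀ P a → IsR F₀ P b → IsR F₀ P b' → R a = 0 → R b = 0 →
      R b' = 0 → f a b = 0 → f a b' = 0 → Indep2 F₀ a b →
      (∀ s ∈ F₀, ∀ t ∈ F₀, b' ≠ s • a + t • b) → FullP ζ R K a b → FullP ζ R K a b' := by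
    intro a b b' ha hb hb' haa hbb hb'b' hab hab' hi hout hF
    by_cases hbb' : f b b' = 0
    · exact step ha hb hb' haa hbb hb'b' hab hab' hbb' hi hout hF
    obtain ⟨m, hm, hmm, hmv, hmout⟩ := exists_out_gen S ![a, b, b']
      (fun i => by fin_cases i <;> assumption) ![a, b, b'] (fun i => by fin_cases i <;> assumption)
      ![a] (fun i => by fin_cases i; exact ha) (fun c hc hperp => by
        rw [Fin.sum_univ_three] at hperp ⊢
        have e1 : f (c 0 • a + c 1 • b + c 2 • b') b = 0 := hperp 1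
        have e2 : f (c 0 • a + c 1 • b + c 2 • b') b' = 0 := hperp 2
        simp only [f_add_left, f_smul_left, hab, hab', f_self hbb, f_self hb'b', f_comm b' b,
          mul_zero, zero_add, add_zero, mul_eq_zero, hbb', or_false] at e1 e2
        refine ⟨![c 0], fun i => by fin_cases i; exact hc 0, ?_⟩
        rw [Fin.sum_univ_one]
        show c 0 • a + c 1 • b + c 2 • b' = c 0 • a
        rw [e1, e2, zero_smul, zero_smul, add_zero, add_zero])
      (by have := S.dim; omega) (by have := S.dim; omega)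
    have hm3 : ∀ p ∈ F₀, ∀ q ∈ F₀, ∀ s ∈ F₀, m ≠ p • a + q • b + s • b' := fun p hp q hq s hs e =>
      hmout ![p, q, s] (fun i => by fin_cases i <;> assumption)
        (by rw [e, Fin.sum_univ_three]; rfl)
    have hma : f a m = 0 := by rw [f_comm]; exact hmv 0
    have him : Indep2 F₀ a m := fun s hs t ht e => by
      by_cases ht0 : t = 0
      · rw [ht0, zero_smul, add_zero, smul_eq_zero] at e
        exact ⟨e.resolve_right hi.left_ne, ht0⟩
      · exfalso
        refine hm3 (-(s / t)) (F₀.neg_mem (F₀.div_mem hs ht)) 0 F₀.zero_mem 0 F₀.zero_mem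
          (smul_right_injective V ht0 ?_)
        show t • m = t • ((-(s / t)) • a + (0 : F) • b + (0 : F) • b')
        rw [eq_neg_of_add_eq_zero_right e]
        match_scalars <;> field_simp <;> ring
    refine step ha hm hb' haa hmm hb'b' hma hab' (hmv 2) him (fun s hs t ht e => ?_)
      (step ha hb hm haa hbb hmm hab hma (by rw [f_comm]; exact hmv 1) hi
        (fun s hs t ht e => hm3 s hs t ht 0 F₀.zero_mem (by rw [e]; module)) hF)
    by_cases ht0 : t = 0
    · exact hout s hs 0 F₀.zero_mem (by rw [e, ht0]; module)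
    · refine hm3 (-(s / t)) (F₀.neg_mem (F₀.div_mem hs ht)) 0 F₀.zero_mem t⁻¹ (F₀.inv_mem ht) ?_
      rw [e]
      match_scalars <;> field_simp <;> ring
  intro a b ha hb haa hbb hab hi'
  obtain ⟨m, hm, hmm, hmv, hmout⟩ := exists_out_gen S ![u, a]
    (fun i => by fin_cases i <;> assumption) ![u, v, a, b] (fun i => by fin_cases i <;> assumption)
    ![u, a] (fun i => by fin_cases i <;> assumption) (fun c hc _ => ⟨c, hc, rfl⟩)
    (by have := S.dim; omega) (by have := S.dim; omega)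
  have hmu : f m u = 0 := hmv 0
  have hma : f m a = 0 := hmv 1
  have hm4 : ∀ p ∈ F₀, ∀ q ∈ F₀, ∀ s ∈ F₀, ∀ t ∈ F₀,
      m ≠ p • u + q • v + s • a + t • b := fun p hp q hq s hs t ht e =>
    hmout ![p, q, s, t] (fun i => by fin_cases i <;> assumption)
      (by rw [e, Fin.sum_univ_four]; rfl)
  have f1 := step' hu hv hm huu hvv hmm huv (by rw [f_comm]; exact hmu) hi
    (fun s hs t ht e => hm4 s hs t ht 0 F₀.zero_mem 0 F₀.zero_mem (by rw [e]; module)) hF
  have him : Indep2 F₀ m u := fun s hs t ht e => by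
    by_cases hs0 : s = 0
    · rw [hs0, zero_smul, zero_add, smul_eq_zero] at e
      exact ⟨hs0, e.resolve_right hi.left_ne⟩
    · exfalso
      refine hm4 (-(t / s)) (F₀.neg_mem (F₀.div_mem ht hs)) 0 F₀.zero_mem 0 F₀.zero_mem 0
        F₀.zero_mem (smul_right_injective V hs0 ?_)
      show s • m = s • ((-(t / s)) • u + (0 : F) • v + (0 : F) • a + (0 : F) • b)
      rw [eq_neg_of_add_eq_zero_left e]
      match_scalars <;> field_simp <;> ring
  have f2 : FullP ζ R K m a := by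
    by_cases hl : ∃ t ∈ F₀, a = t • u
    · obtain ⟨t, -, rfl⟩ := hl
      have ht0 : t ≠ 0 := fun h => hi'.left_ne (by rw [h, zero_smul])
      intro s
      have h := InE.smul (a := m) (b := t • u) 1 t⁻¹ (s := s * t)
        (by rw [one_smul, inv_smul_smul₀ ht0]; exact f1.symm _)
      rwa [one_mul, mul_inv_cancel_right₀ ht0] at h
    refine step' hm hu ha hmm huu haa hmu hma him (fun s hs t ht e => ?_) f1.symm
    by_cases hs0 : s = 0
    · exact hl ⟨t, ht, by rw [e, hs0]; module⟩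
    · refine hm4 (-(t / s)) (F₀.neg_mem (F₀.div_mem ht hs)) 0 F₀.zero_mem s⁻¹ (F₀.inv_mem hs) 0
        F₀.zero_mem ?_
      rw [e]
      match_scalars <;> field_simp <;> ring
  have hia : Indep2 F₀ a m := fun s hs t ht e => by
    by_cases ht0 : t = 0
    · rw [ht0, zero_smul, add_zero, smul_eq_zero] at e
      exact ⟨e.resolve_right hi'.left_ne, ht0⟩
    · exfalso
      refine hm4 0 F₀.zero_mem 0 F₀.zero_mem (-(s / t)) (F₀.neg_mem (F₀.div_mem hs ht)) 0
        F₀.zero_mem (smul_right_injective V ht0 ?_)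
      show t • m = t • ((0 : F) • u + (0 : F) • v + (-(s / t)) • a + (0 : F) • b)
      rw [eq_neg_of_add_eq_zero_right e]
      match_scalars <;> field_simp <;> ring
  exact step' ha hm hb haa hmm hbb (by rw [f_comm]; exact hma) hab hia (fun s hs t ht e => by
    by_cases ht0 : t = 0
    · refine one_ne_zero (hi' (-s) (F₀.neg_mem hs) 1 F₀.one_mem ?_).2
      rw [e, ht0]; module
    · refine hm4 0 F₀.zero_mem 0 F₀.zero_mem (-(s / t)) (F₀.neg_mem (F₀.div_mem hs ht)) t⁻¹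
        (F₀.inv_mem ht) ?_
      rw [e]
      match_scalars <;> field_simp <;> ring) f2.symm

/-- Full rational planes give all of `Ω`. -/
theorem omega_le (O : Over F₀ ζ R P K)
    (hF : ∀ a b, IsR F₀ P a → IsR F₀ P b → R a = 0 → R b = 0 → f a b = 0 → Indep2 F₀ a b →
      FullP ζ R K a b) : omegaGL ⇑R ≤ K := by
  have S := O.str
  have hdim : 5 ≤ finrank F V := by
    rw [Module.finrank_fintype_fun_eq_card]; have := S.dim; omega
  have hfull : ∀ e, IsR F₀ P e → R e = 0 → e ≠ 0 → Orth.Full (K.comap (toMat R)) e := by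
    intro e he hee he0 a hea
    obtain ⟨e', he', he'e', -, he'e⟩ := exists_one S (k := 0) (by omega) ![] (fun i => i.elim0) he
      (fun c _ h => he0 (by rw [h]; simp))
    have hline : ∀ c : F, Orth.InA (K.comap (toMat R)) e (c • e) := fun c g hg => by
      have : g = 1 := Subtype.ext (LinearEquiv.ext fun x => by
        rw [hg x, QuadraticMap.map_smul, hee, smul_zero, zero_mul, sub_zero,
          QuadraticMap.polar_smul_left, smul_eq_mul]
        show _ = x
        module)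
      rw [this]; exact one_mem _
    have hee' : polar R e e = 0 := by rw [QuadraticMap.polar_self, hee, smul_zero]
    have hpol : ∀ {b : V}, f b e = 0 → polar R e b = 0 := fun h => by
      rw [QuadraticMap.polar_comm]; exact (mul_eq_zero.1 h).resolve_left S.ne
    have hsing : ∀ {b : V}, IsR F₀ P b → R b = 0 → f b e = 0 → ∀ c : F,
        Orth.InA (K.comap (toMat R)) e (c • b) := by
      intro b hb hbb hbe c
      by_cases hs : ∃ s ∈ F₀, b = s • e
      · obtain ⟨s, -, rfl⟩ := hs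
        rw [smul_smul]; exact hline _
      intro g hg
      have hi : Indep2 F₀ e b := fun s hs' t ht e0 => by
        by_cases ht0 : t = 0
        · rw [ht0, zero_smul, add_zero, smul_eq_zero] at e0
          exact ⟨e0.resolve_right he0, ht0⟩
        · exfalso
          refine hs ⟨-(s / t), F₀.neg_mem (F₀.div_mem hs' ht), smul_right_injective V ht0 ?_⟩
          show t • b = t • ((-(s / t)) • e)
          rw [smul_smul, mul_neg, mul_div_cancel₀ _ ht0, neg_smul]
          exact eq_neg_of_add_eq_zero_right e0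
      obtain ⟨k, hk, ek⟩ := hF e b he hb hee hbb (by rw [f_comm]; exact hbe) hi (c / ζ)
      show toMat R g ∈ K
      have : toMat R g = k := gl_ext fun x => by
        rw [toMat_mulVec, hg x, ek x, QuadraticMap.map_smul, hbb, smul_zero, zero_mul, sub_zero,
          QuadraticMap.polar_smul_left, smul_eq_mul]
        simp only [pf, QuadraticMap.polar_comm R x, ← mul_assoc, div_mul_cancel₀ _ S.ne]
        module
      rw [this]; exact hk
    let π : V →ₗ[F] V :=
      { toFun := fun y => y - f y e • e'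
        map_add' := fun y y' => by simp only [f_add_left]; module
        map_smul' := fun c y => by simp only [f_smul_left, RingHom.id_apply]; module }
    have hπ : ∀ y, f (π y) e = 0 := fun y => by
      show f (y - f y e • e') e = 0
      rw [f_sub_left, f_smul_left, he'e, mul_one, sub_self]
    have hpi : ∀ (i : ι) (c : F), Orth.InA (K.comap (toMat R)) e (c • π (col P i)) := by
      intro i c
      have hci := col_rat (F₀ := F₀) (P := P) i
      have hr : IsR F₀ P (π (col P i)) := hci.sub (he'.smul (f_rat S hci he))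
      by_cases hs : ∃ s ∈ F₀, π (col P i) = s • e
      · obtain ⟨s, -, h⟩ := hs
        rw [h, smul_smul]; exact hline _
      obtain ⟨x, y, hx, hxx, hxe, hy, hyy, hye, μ, -, h⟩ := exists_decomp S (k := 1) (by omega)
        ![e] (fun j => by fin_cases j; exact he) hr (fun j => by fin_cases j; exact hπ _)
        (fun d hd h => hs ⟨d 0, hd 0, by rw [h, Fin.sum_univ_one]; rfl⟩)
      rw [h, smul_add, smul_smul]
      exact Orth.InA.add hee (by rw [QuadraticMap.polar_smul_right, hpol (hxe 0), smul_zero])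
        (by rw [QuadraticMap.polar_smul_right, hpol (hye 0), smul_zero])
        (hsing hx hxx (hxe 0) c) (hsing hy hyy (hye 0) _)
    have hsum : ∀ (s : Finset ι) (cc : ι → F),
        polar R e (∑ i ∈ s, cc i • π (col P i)) = 0 ∧
          Orth.InA (K.comap (toMat R)) e (∑ i ∈ s, cc i • π (col P i)) := by
      intro s cc
      induction s using Finset.induction with
      | empty => exact ⟨by simp, by simpa using Orth.inA_zero e⟩
      | insert i s hi ih =>
        have h0 : polar R e (cc i • π (col P i)) = 0 := by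
          rw [QuadraticMap.polar_smul_right, hpol (hπ _), smul_zero]
        rw [Finset.sum_insert hi]
        exact ⟨by rw [QuadraticMap.polar_add_right, h0, ih.1, add_zero],
          Orth.InA.add hee h0 ih.1 (hpi i _) ih.2⟩
    have ha : π a = a := by
      show a - f a e • e' = a
      rw [pf, QuadraticMap.polar_comm, hea, mul_zero, zero_smul, sub_zero]
    rw [← ha, eq_sum_col P a, map_sum]
    simp only [map_smul]
    exact (hsum _ _).2
  obtain ⟨e, he, hee, -, hout⟩ := exists_out S (k := 0) (by omega) ![] (fun i => i.elim0)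
  have he0 : e ≠ 0 := fun h => hout ![] (fun i => i.elim0) (by rw [h]; simp)
  obtain ⟨e', he', he'e', -, he'e⟩ := exists_one S (k := 0) (by omega) ![] (fun i => i.elim0) he
    (fun c _ h => he0 (by rw [h]; simp))
  have he'0 : e' ≠ 0 := fun h => one_ne_zero (α := F) (by rw [← he'e, h, f_zero_left])
  have hle := Orth.le_of_full_pair (K := K.comap (toMat R)) S.nd hdim hee he'e' (fun h => by
    have h1 : f e' e = 0 := by rw [pf, QuadraticMap.polar_comm, h, mul_zero]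
    rw [he'e] at h1
    exact one_ne_zero h1) (hfull e he hee he0) (hfull e' he' he'e' he'0)
  rw [omegaGL_eq S.nd (by have := S.dim; omega)]
  exact Subgroup.map_le_iff_le_comap.2 hle

omit [Fintype F] in
theorem maps_of_mem_subfield {g : GL ι F} (hg : g ∈ subfieldSubgroup F₀ P) :
    ∃ c : F, ∀ w, IsR F₀ P w → ∃ w', IsR F₀ P w' ∧ (g : Mn) *ᵥ w = c • w' := by
  obtain ⟨X, hX, rfl⟩ := hg
  obtain ⟨_, ⟨M, rfl⟩, s, hs, rfl⟩ := Subgroup.mem_sup_of_normal_right.1 hX
  obtain ⟨d, hd⟩ := (Cfsg.Geo.mem_scalars_iff s).1 hs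
  refine ⟨d, ?_⟩
  rintro _ ⟨x, hx, rfl⟩
  refine ⟨(P : Mn) *ᵥ ((M : Matrix ι ι F₀).map (F₀.subtype : F₀ →+* F) *ᵥ x),
    ⟨_, fun i => ?_, rfl⟩, ?_⟩
  · exact Subfield.sum_mem _ fun j _ => F₀.mul_mem (Subtype.prop _) (hx j)
  · rw [MulEquiv.coe_toMonoidHom, MulAut.conj_apply, Units.val_mul, Units.val_mul,
      Matrix.mulVec_mulVec, Matrix.mul_assoc, Units.inv_mul, Matrix.mul_one, Units.val_mul, hd]
    rw [← Matrix.mulVec_smul, ← Matrix.mulVec_mulVec, Matrix.mul_smul, Matrix.mul_one,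
      Matrix.smul_mulVec]
    rfl

/-- `Ω` is not in the subfield subgroup. -/
theorem not_omega_le (S : OS F₀ ζ R P) {r : ℕ} (hr : r.Prime)
    (hc : Fintype.card F = Nat.card F₀ ^ r) : ¬ omegaGL ⇑R ≤ subfieldSubgroup F₀ P := by
  intro hle
  obtain ⟨l, hl⟩ : ∃ l : F, l ∉ F₀ := by
    by_contra hall
    push Not at hall
    have h2' : Nat.card F₀ = Fintype.card F := by
      rw [← Nat.card_eq_fintype_card]
      exact Nat.card_congr (Equiv.subtypeUnivEquiv hall)
    rw [h2'] at hc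
    have := Nat.pow_right_injective (Fintype.one_lt_card : 1 < Fintype.card F)
      (show Fintype.card F ^ 1 = Fintype.card F ^ r by rw [pow_one]; exact hc)
    have := hr.two_le
    omega
  obtain ⟨v, hv, hvv, -, hvout⟩ := exists_out S (k := 0) (by omega) ![] (fun i => i.elim0)
  have hv0 : v ≠ 0 := fun e => hvout ![] (fun i => i.elim0) (by rw [e]; simp)
  obtain ⟨u, hu, huu, huv, huout⟩ := exists_out S (k := 1) (by omega) ![v]
    (fun i => by fin_cases i; exact hv)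
  obtain ⟨w, hw, -, hwv, hwout⟩ := exists_out S (k := 2) (by omega) ![u, v]
    (fun i => by fin_cases i <;> assumption)
  obtain ⟨z, hz, -, hzv, hzu⟩ := exists_one S (k := 1) (by omega) ![v]
    (fun i => by fin_cases i; exact hv) hu huout
  obtain ⟨g, hg, e⟩ := exists_E S huu hvv (huv 0 : f u v = 0) l
  obtain ⟨c, hmaps⟩ := maps_of_mem_subfield (hle hg)
  have key : ∀ {x : V}, IsR F₀ P x → x ≠ 0 → ∀ {a : F}, IsR F₀ P (a • x) → a ∈ F₀ := by
    intro x hx hx0 a ha
    obtain ⟨x', hx', rfl⟩ := hx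
    obtain ⟨y', hy', e'⟩ := ha
    rw [← Matrix.mulVec_smul] at e'
    have e2 := Matrix.mulVec_injective_iff_isUnit.2 P.isUnit e'
    obtain ⟨i, hi⟩ : ∃ i, x' i ≠ 0 := by
      by_contra hcon
      push Not at hcon
      exact hx0 (by rw [show x' = 0 from funext hcon, Matrix.mulVec_zero])
    have e3 : y' i = a * x' i := congrFun e2 i
    rw [show a = y' i / x' i by rw [eq_div_iff hi, e3]]
    exact F₀.div_mem (hy' i) (hx' i)
  have hw0 : w ≠ 0 := fun e' => hwout 0 (fun _ => F₀.zero_mem) (by rw [e']; simp)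
  have hcF : c ∈ F₀ := by
    obtain ⟨w', hw', e'⟩ := hmaps w hw
    have hwu : f w u = 0 := hwv 0
    have hwv' : f w v = 0 := hwv 1
    rw [e w, hwu, hwv'] at e'
    have hc0 : c ≠ 0 := fun h => hw0 (by simpa [h] using e')
    have h1 := key hw hw0 (a := c⁻¹) (by
      have : c⁻¹ • w = w' := by
        rw [show w = c • w' by simpa using e', smul_smul, inv_mul_cancel₀ hc0, one_smul]
      rw [this]; exact hw')
    simpa using F₀.inv_mem h1
  obtain ⟨z', hz', e'⟩ := hmaps z hz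
  have hzv0 : f z v = 0 := hzv 0
  rw [e z, hzu, hzv0] at e'
  refine hl (key hv hv0 ?_)
  have : l • v = c • z' - z := by rw [← e']; simp
  rw [this]
  exact (hz'.smul hcF).sub hz

/-- The subfield subgroup is maximal. -/
theorem orth_subfield_maximal (S : OS F₀ ζ R P) {r : ℕ} (hr : r.Prime)
    (hc : Fintype.card F = Nat.card F₀ ^ r) :
    IsMaximalIn (omegaGL ⇑R) (subfieldSubgroup F₀ P ⊓ omegaGL ⇑R) := by
  refine ⟨lt_of_le_of_ne inf_le_right fun e => not_omega_le S hr hc (e.ge.trans inf_le_left),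
    fun K hle hKG => ?_⟩
  by_cases hKH : K ≤ subfieldSubgroup F₀ P
  · exact Or.inl (le_antisymm (le_inf hKH hKG) hle)
  have O : Over F₀ ζ R P K := ⟨S, hKG, hle⟩
  obtain ⟨g, hgK, hgS⟩ := SetLike.not_le_iff_exists.1 hKH
  obtain ⟨a, b, ha, hb, haa, hbb, hab, hi, hF⟩ := full_of_wit O hr hc (wit_of_moved O hr hc hgK hgS)
  exact Or.inr (le_antisymm hKG (omega_le O (full_all O ha hb haa hbb hab hi hF)))

end CfsgLib.MaxSub.SubfieldOrth
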