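/-
Stabilisers of non-degenerate subspaces are maximal in `Ω` of odd dimension at least seven, odd characteristic.
-/
import Cfsg.Agent.Lib.MaxSub.SubspaceMaximalOrthOdd
import Cfsg.Agent.Lib.MaxSub.SubspaceMaximalOrthGL

set_option autoImplicit false
set_option maxHeartbeats 400000

namespace CfsgLib.MaxSub.Orth

open Matrix Module Cfsg Cfsg.Geo
open CfsgLib.WittExtension (quadIso)

variable {F : Type*} [Field F] [Fintype F] {ι : Type} [Fintype ι] [DecidableEq ι]

/-- Even-dimensional non-degenerate subspaces of a space of odd dimension at least seven. -/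
theorem nondegenerate_maximal_odd {Q : (ι → F) → F} (hQ : IsNondegenerateQuadraticForm Q)
    (h2 : (2 : F) ≠ 0) (hn : 7 ≤ Fintype.card ι) (hodd : Odd (Fintype.card ι))
    {W : Submodule F (ι → F)} (h0 : W ≠ ⊥) (heven : Even (finrank F W))
    (hW : IsNondegenerateOn (QuadraticMap.polar Q) W)
    (hex : ¬ (Fintype.card F ≤ 3 ∧ finrank F W = 2 ∧ IsPlusTypeOn Q W)) :
    IsMaximalIn (omegaGL Q) (subspaceStabilizer W ⊓ omegaGL Q) := by
  obtain ⟨R, rfl, hR⟩ := exists_form hQ
  have hd : finrank F (ι → F) = Fintype.card ι := Module.finrank_fintype_fun_eq_card F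
  have hWn := nondeg_of hW
  refine isMaximalIn_of_maxStab hR (by omega) ?_
  have hdim := finrank_orth hR W
  have hPn : ∀ x ∈ orth R W, (∀ y ∈ orth R W, QuadraticMap.polar R x y = 0) → x = 0 :=
    fun x hx h => hR.1 x fun z => by
      have h1 := Submodule.finrank_sup_add_finrank_inf_eq W (orth R W)
      have h2 : W ⊓ orth R W = ⊥ := eq_bot_iff.2 fun x hx =>
        (Submodule.mem_bot F).2 (hWn x hx.1 fun y hy => orth_comm hx.2 hy)
      rw [h2, finrank_bot] at h1
      have h3 : W ⊔ orth R W = ⊤ := Submodule.eq_top_of_finrank_eq (by omega)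
      obtain ⟨a, ha, b, hb, rfl⟩ := Submodule.mem_sup.1 (h3 ▸ Submodule.mem_top : z ∈ W ⊔ orth R W)
      show QuadraticMap.polar R x (a + b) = 0
      rw [QuadraticMap.polar_add_right, orth_comm hx ha, h b hb, add_zero]
  obtain ⟨m, hm⟩ := hodd
  obtain ⟨k, hk⟩ := heven
  by_cases hle : 2 * finrank F W ≤ Fintype.card ι
  · refine maxStab_nondeg_odd hR (by omega) h2 h0 hWn (by omega) (by omega) (fun g hg => ?_) ?_
    · have := Submodule.finrank_mono hg
      rw [LinearEquiv.finrank_map_eq] at this
      omega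
    · rintro ⟨hq, hd2, z, hz, hz0, hQz⟩
      exact hex ⟨hq, hd2, plane_plus hd2 hz hz0 hQz⟩
  · have hP0 : orth R W ≠ ⊥ := fun h => by
      rw [h, finrank_bot] at hdim; omega
    have h := maxStab_nondeg_odd hR (by omega) h2 hP0 hPn (by omega) (by rw [orth_orth hR]; omega)
      (fun g hg => by
        have := Submodule.finrank_mono hg
        rw [LinearEquiv.finrank_map_eq, orth_orth hR] at this
        omega)
      (fun h => by omega)
    rwa [MaxStab, St_orth_eq hR] at h

end CfsgLib.MaxSub.Orth
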