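/-
Tensor-wreath subgroups of orthogonal groups in even characteristic which are not maximal:
they normalise a space of operators with a larger stabiliser.
-/
import Cfsg.Agent.Lib.Aschbacher.Tensor
import Cfsg.Agent.Lib.Aschbacher.ProperGeneral
import Cfsg.Prelude.Def_GeometricClasses
import Mathlib.Algebra.CharP.Two

set_option autoImplicit false

namespace CfsgLib.MaxSub.TensorSymp

open Matrix Function
open CfsgLib.Aschbacher

variable {F : Type*} [Field F] [CharP F 2] {k t : ℕ}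

local notation "Mk" => Matrix (Fin k) (Fin k) F
local notation "MT" => Matrix (Fin t → Fin k) (Fin t → Fin k) F

omit [CharP F 2] in
theorem pureMat_eq_zero {A : Fin t → Mk} {i : Fin t} (h : A i = 0) : pureMat A = 0 := by
  ext x y
  rw [pureMat_apply, Finset.prod_eq_zero (Finset.mem_univ i) (by rw [h]; rfl)]
  rfl

omit [CharP F 2] in
theorem pureMat_add (A : Fin t → Mk) (i : Fin t) (a b : Mk) :
    pureMat (update A i a) + pureMat (update A i b) = pureMat (update A i (a + b)) := by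
  ext x y
  simp only [Matrix.add_apply, pureMat_apply,
    ← Finset.mul_prod_erase Finset.univ _ (Finset.mem_univ i), update_self]
  have : ∀ c : Mk, ∏ j ∈ Finset.univ.erase i, update A i c j (x j) (y j) =
      ∏ j ∈ Finset.univ.erase i, A j (x j) (y j) := fun c =>
    Finset.prod_congr rfl fun j hj => by rw [update_of_ne (Finset.ne_of_mem_erase hj)]
  rw [this, this, this, add_mul]

omit [CharP F 2] in
theorem pureMat_smul_one (A : Fin t → Mk) (i : Fin t) (r : F) :
    pureMat (update A i (r • (1 : Mk))) = r • pureMat (update A i 1) := by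
  ext x y
  simp only [Matrix.smul_apply, pureMat_apply,
    ← Finset.mul_prod_erase Finset.univ _ (Finset.mem_univ i), update_self, smul_eq_mul, mul_assoc]
  congr 2
  exact Finset.prod_congr rfl fun j hj => by
    rw [update_of_ne (Finset.ne_of_mem_erase hj), update_of_ne (Finset.ne_of_mem_erase hj)]

omit [CharP F 2] in
theorem factor_commute {i : Fin t} {Z : Mk} {A : Fin t → Mk} (h : Commute Z (A i)) :
    Commute (factor i Z) (pureMat A) := by
  show _ * _ = _ * _
  rw [factor, pureMat_mul, pureMat_mul]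
  congr 1
  funext j
  by_cases hj : j = i
  · subst hj; simp only [Pi.mul_apply, update_self]; exact h.eq
  · simp [hj]

omit [CharP F 2] in
theorem factor_mul_pure (i : Fin t) (Z : Mk) (A : Fin t → Mk) :
    factor i Z * pureMat A = pureMat (update A i (Z * A i)) ∧
      pureMat A * factor i Z = pureMat (update A i (A i * Z)) := by
  constructor <;> rw [factor, pureMat_mul] <;> congr 1 <;> funext j <;> by_cases hj : j = i
  all_goals first
    | (subst hj; simp)
    | simp [hj]

variable (J : Matrix (Fin k) (Fin k) F)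

/-- The tensor power of a bilinear form. -/
noncomputable def jPow (t : ℕ) : Matrix (Fin t → Fin k) (Fin t → Fin k) F := pureMat fun _ => J

/-- A quadratic form polarising to the tensor power of `J` and vanishing on pure tensors. -/
structure Setup (c : F) (Q : ((Fin t → Fin k) → F) → F) : Prop where
  hc : c ≠ 0
  smul : ∀ (a : F) x, Q (a • x) = a ^ 2 * Q x
  polar : ∀ x y, QuadraticMap.polar Q x y = c * (x ⬝ᵥ (jPow J t *ᵥ y))
  pure : ∀ xs : Fin t → (Fin k → F), Q (fun a => ∏ i, xs i (a i)) = 0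

variable {J} {c : F} {Q : ((Fin t → Fin k) → F) → F}

omit [CharP F 2] in
theorem single_eq_prod (y : Fin t → Fin k) :
    (Pi.single y (1 : F)) = fun a => ∏ i, (Pi.single (y i) (1 : F) : Fin k → F) (a i) := by
  funext a
  simp only [Pi.single_apply]
  rw [Fintype.prod_boole]
  simp [funext_iff]

omit [CharP F 2] in
theorem Setup.isometry (hS : Setup J c Q) {g : GL (Fin t → Fin k) F}
    (hg : g.1ᵀ * jPow J t * g.1 = jPow J t) (hcol : ∀ y, Q (g.1 *ᵥ Pi.single y 1) = 0) :
    g ∈ Cfsg.isometryGroup F Q := by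
  have hadd : ∀ u v, Q (u + v) = Q u + Q v + c * (u ⬝ᵥ (jPow J t *ᵥ v)) := fun u v => by
    rw [← hS.polar, QuadraticMap.polar]; ring
  have hinv : ∀ u v, (g.1 *ᵥ u) ⬝ᵥ (jPow J t *ᵥ (g.1 *ᵥ v)) = u ⬝ᵥ (jPow J t *ᵥ v) := by
    intro u v
    rw [← Matrix.vecMul_transpose, ← Matrix.dotProduct_mulVec, Matrix.mulVec_mulVec,
      Matrix.mulVec_mulVec, hg]
  let D : ((Fin t → Fin k) → F) →+ F := AddMonoidHom.mk' (fun u => Q (g.1 *ᵥ u) - Q u) fun u v => by
    rw [Matrix.mulVec_add, hadd, hadd u v, hinv]; ring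
  intro u v
  suffices h : D u = 0 from sub_eq_zero.mp h
  conv_lhs => rw [← Finset.univ_sum_single u, map_sum]
  refine Finset.sum_eq_zero fun y _ => ?_
  show Q _ - Q _ = 0
  rw [show (Pi.single y (u y) : (Fin t → Fin k) → F) = u y • Pi.single y 1 by
      rw [← Pi.single_smul', smul_eq_mul, mul_one],
    Matrix.mulVec_smul, hS.smul, hS.smul, hcol, single_eq_prod, hS.pure, mul_zero, sub_zero]

omit [CharP F 2] in
theorem Setup.transpose_of_isometry (hS : Setup J c Q) {g : GL (Fin t → Fin k) F}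
    (hg : g ∈ Cfsg.isometryGroup F Q) : g.1ᵀ * jPow J t * g.1 = jPow J t := by
  have hQ : ∀ u, Q (g.1 *ᵥ u) = Q u := fun u => hg u u
  ext x y
  have h : QuadraticMap.polar Q (g.1 *ᵥ Pi.single x 1) (g.1 *ᵥ Pi.single y 1) =
      QuadraticMap.polar Q (Pi.single x 1) (Pi.single y 1) := by
    simp only [QuadraticMap.polar, ← Matrix.mulVec_add, hQ]
  rw [hS.polar, hS.polar] at h
  have h' := mul_left_cancel₀ hS.hc h
  rw [← Matrix.vecMul_transpose, ← Matrix.dotProduct_mulVec, Matrix.mulVec_mulVec,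
    Matrix.mulVec_mulVec] at h'
  simpa using h'

/-- A family giving a transvection-like isometry. -/
structure Valid (J : Mk) (A : Fin t → Mk) : Prop where
  symm : ∀ i, (J * A i)ᵀ = J * A i
  alt : ∃ i, ∀ a, (J * A i) a a = 0
  nil : ∃ i, A i * A i = 0

omit [CharP F 2] in
theorem pure_sq {A : Fin t → Mk} (h : ∃ i, A i * A i = 0) : pureMat A * pureMat A = 0 := by
  obtain ⟨i, hi⟩ := h
  rw [pureMat_mul]
  exact pureMat_eq_zero (i := i) hi

/-- The involution `1 + M` for a square-zero `M`. -/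
def involU (M : MT) (h : M * M = 0) : GL (Fin t → Fin k) F where
  val := 1 + M
  inv := 1 + M
  val_inv := by
    rw [mul_add, mul_one, add_mul, one_mul, h, add_zero, add_assoc]
    ext x y; simp [CharTwo.add_self_eq_zero]
  inv_val := by
    rw [mul_add, mul_one, add_mul, one_mul, h, add_zero, add_assoc]
    ext x y; simp [CharTwo.add_self_eq_zero]

theorem Setup.invol_mem (hS : Setup J c Q) (hJt : Jᵀ = J) {A : Fin t → Mk} (hA : Valid J A) :
    involU (pureMat A) (pure_sq hA.nil) ∈ Cfsg.isometryGroup F Q := by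
  have hJA : jPow J t * pureMat A = pureMat fun i => J * A i := pureMat_mul _ _
  have hMJ : (pureMat A)ᵀ * jPow J t = jPow J t * pureMat A := by
    rw [hJA, show (pureMat A)ᵀ = pureMat fun i => (A i)ᵀ from rfl, jPow, pureMat_mul]
    congr 1
    funext i
    rw [Pi.mul_apply, ← hA.symm i, Matrix.transpose_mul, hJt]
  refine hS.isometry ?_ fun y => ?_
  · show (1 + pureMat A)ᵀ * jPow J t * (1 + pureMat A) = _
    rw [Matrix.transpose_add, Matrix.transpose_one, add_mul, one_mul, mul_add, mul_one, add_mul, hMJ,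
      mul_assoc, pure_sq hA.nil, mul_zero, add_zero, add_assoc]
    ext x z; simp [CharTwo.add_self_eq_zero]
  · show Q ((1 + pureMat A) *ᵥ Pi.single y 1) = 0
    have hpure : Q (pureMat A *ᵥ Pi.single y 1) = 0 := by
      have e : pureMat A *ᵥ Pi.single y 1 = fun a => ∏ i, (fun b => A i b (y i)) (a i) := by
        funext a; simp [pureMat_apply]
      rw [e]; exact hS.pure fun i b => A i b (y i)
    have hB : (Pi.single y (1 : F)) ⬝ᵥ (jPow J t *ᵥ (pureMat A *ᵥ Pi.single y 1)) = 0 := by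
      obtain ⟨i, hi⟩ := hA.alt
      rw [Matrix.mulVec_mulVec, hJA]
      simp only [Matrix.mulVec_single, MulOpposite.op_one, one_smul, single_dotProduct, one_mul]
      exact Finset.prod_eq_zero (Finset.mem_univ i) (hi (y i))
    have h := hS.polar (Pi.single y 1) (pureMat A *ᵥ Pi.single y 1)
    have h0 : Q (Pi.single y 1) = 0 := by rw [single_eq_prod]; exact hS.pure _
    rw [hB, mul_zero, QuadraticMap.polar, h0, hpure, sub_zero, sub_zero] at h
    rwa [Matrix.add_mulVec, Matrix.one_mulVec]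

omit [CharP F 2] in
theorem Setup.factor_mem (hS : Setup J c Q) {s : GL (Fin k) F} (hs : s.1ᵀ * J * s.1 = J) (i : Fin t) :
    pureGL (update (1 : Fin t → GL (Fin k) F) i s) ∈ Cfsg.isometryGroup F Q := by
  refine hS.isometry ?_ fun y => ?_
  · show (pureMat _)ᵀ * jPow J t * pureMat _ = _
    rw [show ∀ A : Fin t → Mk, (pureMat A)ᵀ = pureMat fun j => (A j)ᵀ from fun _ => rfl, jPow,
      pureMat_mul, pureMat_mul]
    congr 1
    funext j
    by_cases hj : j = i
    · subst hj; simpa using hs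
    · simp [hj]
  · have e : (pureGL (update (1 : Fin t → GL (Fin k) F) i s)).1 *ᵥ Pi.single y 1 =
        fun a => ∏ j, (fun b => (update (1 : Fin t → GL (Fin k) F) i s j).1 b (y j)) (a j) := by
      funext a; simp [pureGL, pureMat_apply]
    rw [e]; exact hS.pure fun j b => (update (1 : Fin t → GL (Fin k) F) i s j).1 b (y j)

/-- A commutator of two such isometries. -/
theorem Setup.invol_omega (hS : Setup J c Q) (hJt : Jᵀ = J) {A : Fin t → Mk} (hA : Valid J A)
    {i₀ : Fin t} {s : GL (Fin k) F} (hs : s.1ᵀ * J * s.1 = J) {X' : Mk}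
    (hsX : s.1 * A i₀ * (s⁻¹).1 = A i₀ + X') (hnil : ∃ j, j ≠ i₀ ∧ A j * A j = 0)
    (h : pureMat (update A i₀ X') * pureMat (update A i₀ X') = 0) :
    involU _ h ∈ Cfsg.Geo.omegaGL Q := by
  rw [Cfsg.Geo.omegaGL, Subgroup.map_subtype_commutator]
  have hc := Subgroup.commutator_mem_commutator (hS.invol_mem hJt hA) (hS.factor_mem hs i₀)
  set g := involU (pureMat A) (pure_sq hA.nil) with hgdef
  set d := pureGL (update (1 : Fin t → GL (Fin k) F) i₀ s) with hddef
  convert hc using 1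
  apply Units.ext
  have hgi : (g⁻¹).1 = 1 + pureMat A := rfl
  have hconj : d.1 * pureMat A * (d⁻¹).1 = pureMat A + pureMat (update A i₀ X') := by
    conv_rhs => arg 1; rw [← update_eq_self i₀ A]
    rw [pureMat_add, ← hsX]
    show pureMat _ * pureMat A * pureMat _ = _
    rw [pureMat_mul, pureMat_mul]
    congr 1
    funext j
    by_cases hj : j = i₀
    · subst hj; simp
    · simp [hj]
  have hz : pureMat A * pureMat (update A i₀ X') = 0 := by
    obtain ⟨j, hj, hj2⟩ := hnil
    rw [pureMat_mul]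
    exact pureMat_eq_zero (i := j) (by simp [hj, hj2])
  show 1 + pureMat (update A i₀ X') = (g.1 * d.1) * (g⁻¹).1 * (d⁻¹).1
  have hdd : d.1 * (1 + pureMat A) * (d⁻¹).1 = 1 + (pureMat A + pureMat (update A i₀ X')) := by
    rw [mul_add, add_mul, mul_one, Units.mul_inv, hconj]
  rw [hgi, mul_assoc g.1, mul_assoc g.1, hdd]
  show _ = (1 + pureMat A) * _
  rw [add_mul, one_mul, mul_add, mul_one, mul_add, pure_sq hA.nil, hz, add_zero, add_zero]
  ext x y; simp only [Matrix.add_apply]
  linear_combination -CharTwo.add_self_eq_zero (pureMat A x y)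

variable (W : Submodule F (Matrix (Fin k) (Fin k) F))

/-- The span of the copies of `W` in the factors. -/
noncomputable def opSpace (t : ℕ) : Submodule F (Matrix (Fin t → Fin k) (Fin t → Fin k) F) :=
  ⨆ i : Fin t, W.map (factorLin i)

omit [CharP F 2] in
theorem factor_mem_opSpace (i : Fin t) {Z : Mk} (hZ : Z ∈ W) : factor i Z ∈ opSpace W t :=
  Submodule.mem_iSup_of_mem i ⟨Z, hZ, rfl⟩

/-- The stabiliser of the span. -/
noncomputable def opStab (t : ℕ) : Subgroup (GL (Fin t → Fin k) F) where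
  carrier := {g | ∀ S, S ∈ opSpace W t ↔ g.1 * S * (g⁻¹).1 ∈ opSpace W t}
  one_mem' := by simp
  mul_mem' {a b} ha hb S := by
    rw [hb S, ha]
    simp [mul_assoc]
  inv_mem' {a} ha S := by
    rw [ha ((a⁻¹).1 * S * ((a⁻¹)⁻¹).1)]
    simp [mul_assoc]

omit [CharP F 2] in
theorem mem_opStab {g : GL (Fin t → Fin k) F}
    (h : ∀ (i : Fin t), ∀ Z ∈ W, g.1 * factor i Z * (g⁻¹).1 ∈ opSpace W t) : g ∈ opStab W t := by
  let φ : MT →ₗ[F] MT := (LinearMap.mulLeft F g.1).comp (LinearMap.mulRight F (g⁻¹).1)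
  have hφ : ∀ S, φ S = g.1 * S * (g⁻¹).1 := fun S => (mul_assoc _ _ _).symm
  have hinj : Injective φ := fun a b hab => by
    rw [hφ, hφ] at hab
    exact (Units.mul_right_inj g).mp ((Units.mul_left_inj g⁻¹).mp hab)
  have hle : (opSpace W t).map φ ≤ opSpace W t := by
    rw [opSpace, Submodule.map_iSup]
    refine iSup_le fun i => ?_
    rintro _ ⟨_, ⟨Z, hZ, rfl⟩, rfl⟩
    rw [hφ]
    exact h i Z hZ
  have he : (opSpace W t).map φ = opSpace W t := Submodule.eq_of_le_of_finrank_le hle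
    (LinearEquiv.finrank_eq (Submodule.equivMapOfInjective φ hinj _)).le
  intro S
  constructor
  · intro hS
    rw [← hφ]
    exact hle ⟨S, hS, rfl⟩
  · intro hS
    rw [← hφ, ← he] at hS
    obtain ⟨S', hS', e⟩ := hS
    exact hinj e ▸ hS'

omit [CharP F 2] in
theorem prop_of_pureMat_eq {X Y : Fin t → Mk} (hY : ∀ i, ∃ a b, Y i a b ≠ 0)
    (h : pureMat X = pureMat Y) (i : Fin t) : ∃ r : F, r ≠ 0 ∧ X i = r • Y i := by
  classical
  choose a b hab using hY
  have h0 := congrFun (congrFun h a) b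
  simp only [pureMat_apply] at h0
  have hne : ∀ j, X j (a j) (b j) ≠ 0 := fun j e =>
    Finset.prod_ne_zero_iff.mpr (fun l _ => hab l)
      (h0.symm.trans (Finset.prod_eq_zero (Finset.mem_univ j) e))
  set px := ∏ j ∈ Finset.univ.erase i, X j (a j) (b j)
  set py := ∏ j ∈ Finset.univ.erase i, Y j (a j) (b j)
  have hpx : px ≠ 0 := Finset.prod_ne_zero_iff.mpr fun j _ => hne j
  have hpy : py ≠ 0 := Finset.prod_ne_zero_iff.mpr fun j _ => hab j
  refine ⟨py / px, div_ne_zero hpy hpx, ?_⟩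
  ext p r
  have h1 := congrFun (congrFun h (update a i p)) (update b i r)
  simp only [pureMat_apply, ← Finset.mul_prod_erase Finset.univ _ (Finset.mem_univ i), update_self] at h1
  have e : ∀ Z : Fin t → Mk, ∏ j ∈ Finset.univ.erase i, Z j (update a i p j) (update b i r j) =
      ∏ j ∈ Finset.univ.erase i, Z j (a j) (b j) := fun Z => Finset.prod_congr rfl fun j hj => by
    rw [update_of_ne (Finset.ne_of_mem_erase hj), update_of_ne (Finset.ne_of_mem_erase hj)]
  rw [e, e] at h1
  rw [Matrix.smul_apply, smul_eq_mul, div_mul_eq_mul_div, eq_div_iff hpx, h1, mul_comm]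

omit [CharP F 2] in
theorem conj_factor_pure_perm (A : Fin t → GL (Fin k) F) (σ : Equiv.Perm (Fin t)) (i : Fin t) (Z : Mk) :
    (pureGL A * permGL k F σ).1 * factor i Z * ((pureGL A * permGL k F σ)⁻¹).1 =
      factor (σ i) ((A (σ i)).1 * Z * ((A (σ i))⁻¹).1) := by
  rw [_root_.mul_inv_rev, Units.val_mul, Units.val_mul]
  show pureMat _ * permMat k F σ * pureMat _ * (permMat k F σ⁻¹ * pureMat _) = _
  rw [mul_assoc (pureMat _), permMat_mul_pureMat, ← mul_assoc (pureMat _),
    mul_assoc _ (permMat k F σ), ← mul_assoc (permMat k F σ), permMat_mul, mul_inv_cancel, permMat_one,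
    one_mul, pureMat_mul, pureMat_mul, factor]
  congr 1
  funext j
  by_cases hj : j = σ i
  · subst hj; simp
  · have : σ.symm j ≠ i := fun h => hj (by simp [← h])
    simp [hj, this]

omit [CharP F 2] in
theorem tws_le_opStab [NeZero k] (hS : Setup J c Q) (hJ : IsUnit J)
    (hW : ∀ a : GL (Fin k) F, (∃ r : F, r ≠ 0 ∧ a.1ᵀ * J * a.1 = r • J) → ∀ Z ∈ W,
      a.1 * Z * (a⁻¹).1 ∈ W) :
    Cfsg.Geo.tensorWreathStandard k t F ⊓ Cfsg.Geo.omegaGL Q ≤ opStab W t := by
  rintro g ⟨hg, hgΩ⟩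
  obtain ⟨A, σ, rfl⟩ := exists_pure_perm hg
  have hiso : pureGL A * permGL k F σ ∈ Cfsg.isometryGroup F Q := Subgroup.map_subtype_le _ hgΩ
  have hT := hS.transpose_of_isometry hiso
  have hperm : ∀ τ : Equiv.Perm (Fin t), (permMat k F τ)ᵀ * jPow J t * permMat k F τ = jPow J t := by
    intro τ
    have ht : (permMat k F τ)ᵀ = permMat k F τ⁻¹ := by
      ext x y
      simp only [permMat, Matrix.transpose_apply, Matrix.of_apply]
      refine if_congr ⟨fun h => ?_, fun h => ?_⟩ rfl rfl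
      · subst h; funext i; simp
      · subst h; funext i; simp
    rw [ht, jPow, mul_assoc, ← show permMat k F τ * pureMat (fun _ => J) =
      pureMat (fun _ => J) * permMat k F τ from permMat_mul_pureMat τ _, ← mul_assoc,
      permMat_mul, inv_mul_cancel, permMat_one, one_mul]
  have hp : (pureMat fun i => (A i).1)ᵀ * jPow J t * (pureMat fun i => (A i).1) = jPow J t := by
    have e : pureMat (fun i => (A i).1) = (pureGL A * permGL k F σ).1 * permMat k F σ⁻¹ := by
      show _ = pureMat _ * permMat k F σ * permMat k F σ⁻¹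
      rw [mul_assoc, permMat_mul, mul_inv_cancel, permMat_one, mul_one]
    rw [e, Matrix.transpose_mul]
    calc _ = (permMat k F σ⁻¹)ᵀ * ((pureGL A * permGL k F σ).1ᵀ * jPow J t *
          (pureGL A * permGL k F σ).1) * permMat k F σ⁻¹ := by simp only [mul_assoc]
      _ = _ := by rw [hT, hperm]
  rw [show (pureMat fun i => (A i).1)ᵀ = pureMat fun i => (A i).1ᵀ from rfl, jPow, pureMat_mul,
    pureMat_mul] at hp
  have hY : ∀ _ : Fin t, ∃ a b, J a b ≠ 0 := fun _ => by
    by_contra h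
    push Not at h
    exact hJ.ne_zero (Matrix.ext h)
  refine mem_opStab W fun i Z hZ => ?_
  rw [conj_factor_pure_perm]
  obtain ⟨r, hr, e⟩ := prop_of_pureMat_eq hY hp (σ i)
  exact factor_mem_opSpace W _ (hW _ ⟨r, hr, e⟩ Z hZ)

/-- The overgroup between the tensor-wreath group and `Ω`. -/
theorem exists_between (hS : Setup J c Q) (hJ : IsUnit J) (hJt : Jᵀ = J)
    (hW : ∀ a : GL (Fin k) F, (∃ r : F, r ≠ 0 ∧ a.1ᵀ * J * a.1 = r • J) → ∀ Z ∈ W,
      a.1 * Z * (a⁻¹).1 ∈ W)
    {s : GL (Fin k) F} (hs : s.1ᵀ * J * s.1 = J) {X X' N Z₀ : Mk}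
    (hsX : s.1 * X * (s⁻¹).1 = X + X') (hX'W : X' ∈ W) (hNW : N ∈ W) (hZ₀ : Z₀ ∈ W)
    (hX'2 : X' * X' = 0) (hN2 : N * N = 0) (hNs : ∀ r : F, N ≠ r • (1 : Mk))
    (hclX : ∀ Z ∈ W, ∃ β : F, X' * Z + Z * X' = β • (1 : Mk))
    (hclN : ∀ Z ∈ W, ∃ β : F, N * Z + Z * N = β • (1 : Mk))
    {β₀ : F} (hβ₀ : β₀ ≠ 0) (hZβ : X' * Z₀ + Z₀ * X' = β₀ • (1 : Mk))
    {i₀ i₁ : Fin t} (h01 : i₁ ≠ i₀) (hA₁ : Valid J (update (update (1 : Fin t → Mk) i₁ N) i₀ X))
    {A₂ : Fin t → Mk} (hA₂ : Valid J A₂) (hA₂0 : A₂ i₀ = X)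
    (hA₂n : ∃ j, j ≠ i₀ ∧ A₂ j * A₂ j = 0) {x y : Fin t → Fin k}
    (hxy : pureMat (update A₂ i₀ 1) x y ≠ 0) (hout : ∀ i, ∀ Z ∈ W, factor i Z x y = 0) :
    ∃ K : Subgroup (GL (Fin t → Fin k) F),
      Cfsg.Geo.tensorWreathStandard k t F ⊓ Cfsg.Geo.omegaGL Q < K ∧ K < Cfsg.Geo.omegaGL Q := by
  have : NeZero k := ⟨by rintro rfl; exact hxy (absurd (x i₀).2 (by omega))⟩
  set A₁ := update (update (1 : Fin t → Mk) i₁ N) i₀ X with hA₁def
  set B₁ := update A₁ i₀ X' with hB₁def
  have hB₁ : B₁ = update (update (1 : Fin t → Mk) i₁ N) i₀ X' := by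
    rw [hB₁def, hA₁def, update_idem]
  have hBi₀ : B₁ i₀ = X' := by simp [hB₁]
  have hBi₁ : B₁ i₁ = N := by simp [hB₁, h01]
  have h1z : pureMat B₁ * pureMat B₁ = 0 := pure_sq ⟨i₁, by rw [hBi₁, hN2]⟩
  have hA₁0 : A₁ i₀ = X := by simp [hA₁def]
  have hg₁ : involU (pureMat B₁) h1z ∈ Cfsg.Geo.omegaGL Q :=
    hS.invol_omega hJt hA₁ hs (by rw [hA₁0]; exact hsX) ⟨i₁, h01, by simp [hA₁def, h01, hN2]⟩ h1z
  set g₁ := involU (pureMat B₁) h1z with hg₁def
  have hconj : ∀ (M : MT) (h : M * M = 0) (S : MT),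
      (involU M h).1 * S * ((involU M h)⁻¹).1 = S + (M * S + S * M) + M * S * M := by
    intro M h S
    show (1 + M) * S * (1 + M) = _
    simp only [add_mul, mul_add, one_mul, mul_one]
    abel
  have hu1 : update B₁ i₀ 1 = update (1 : Fin t → Mk) i₁ N := by
    funext j
    by_cases hj : j = i₀
    · subst hj; simp [h01.symm]
    · simp [hB₁, hj]
  have hu2 : update B₁ i₁ 1 = update (1 : Fin t → Mk) i₀ X' := by
    funext j
    by_cases hj : j = i₁
    · subst hj; simp [h01]
    · by_cases hj0 : j = i₀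
      · subst hj0; simp [hj, hB₁]
      · simp [hB₁, hj, hj0]
  -- the conjugates of the operators
  have hkey : ∀ Z ∈ W, ∀ β : F, X' * Z + Z * X' = β • (1 : Mk) →
      g₁.1 * factor i₀ Z * (g₁⁻¹).1 = factor i₀ Z + β • factor i₁ N := by
    intro Z _ β hβ
    rw [hg₁def, hconj, (factor_mul_pure i₀ Z B₁).1, (factor_mul_pure i₀ Z B₁).2, pureMat_add, hBi₀, hβ,
      pureMat_smul_one, hu1, pureMat_mul,
      pureMat_eq_zero (A := update B₁ i₀ (X' * Z) * B₁) (i := i₁) (by simp [h01, hBi₁, hN2]),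
      add_zero]
    rfl
  have hg₁K : g₁ ∈ opStab W t := by
    refine mem_opStab W fun i Z hZ => ?_
    by_cases hi₀ : i = i₀
    · subst hi₀
      obtain ⟨β, hβ⟩ := hclX Z hZ
      rw [hkey Z hZ β hβ]
      exact add_mem (factor_mem_opSpace W _ hZ) (Submodule.smul_mem _ β (factor_mem_opSpace W _ hNW))
    rw [hg₁def, hconj]
    by_cases hi₁ : i = i₁
    · subst hi₁
      obtain ⟨β, hβ⟩ := hclN Z hZ
      rw [(factor_mul_pure i Z B₁).1, (factor_mul_pure i Z B₁).2, pureMat_add, hBi₁, hβ,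
        pureMat_smul_one, hu2, pureMat_mul,
        pureMat_eq_zero (A := update B₁ i (N * Z) * B₁) (i := i₀) (by simp [Ne.symm hi₀, hBi₀, hX'2]),
        add_zero]
      exact add_mem (factor_mem_opSpace W _ hZ) (Submodule.smul_mem _ β (factor_mem_opSpace W _ hX'W))
    · have hc : Commute (factor i Z) (pureMat B₁) :=
        factor_commute (by simp [hB₁, hi₀, hi₁])
      rw [← hc.eq, mul_assoc, h1z, mul_zero, add_zero,
        show factor i Z * pureMat B₁ + factor i Z * pureMat B₁ = 0 by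
          ext a b; simp [CharTwo.add_self_eq_zero], add_zero]
      exact factor_mem_opSpace W _ hZ
  refine ⟨opStab W t ⊓ Cfsg.Geo.omegaGL Q,
    lt_of_le_not_ge (le_inf (tws_le_opStab W hS hJ hW) inf_le_right) fun h => ?_,
    lt_of_le_not_ge inf_le_right fun h => ?_⟩
  · obtain ⟨A, σ, hA⟩ := exists_pure_perm (h ⟨hg₁K, hg₁⟩).1
    have e := hkey Z₀ hZ₀ β₀ hZβ
    rw [hA, conj_factor_pure_perm] at e
    set Y := (A (σ i₀)).1 * Z₀ * ((A (σ i₀))⁻¹).1
    by_cases hj : σ i₀ = i₀
    · rw [hj] at e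
      obtain ⟨r, hr⟩ := Matrix.mem_range_scalar_of_commute_single (M := N) fun a b _ => by
        have hc : Commute (factor i₁ (Matrix.single a b (1 : F))) (factor i₀ Z₀ + β₀ • factor i₁ N) := by
          rw [← e]; exact factor_commute (by simp [h01])
        have hc2 : Commute (factor i₁ (Matrix.single a b (1 : F))) (β₀ • factor i₁ N) := by
          have := hc.sub_right (factor_commute (A := update 1 i₀ Z₀) (by simp [h01]))
          rwa [show factor i₀ Z₀ + β₀ • factor i₁ N - pureMat (update 1 i₀ Z₀) = β₀ • factor i₁ N by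
            simp [factor]] at this
        have h3 := hc2.smul_right β₀⁻¹
        rw [smul_smul, inv_mul_cancel₀ hβ₀, one_smul] at h3
        exact factor_injective i₁ (by rw [← factor_mul, ← factor_mul]; exact h3.eq)
      exact hNs r (by rw [← hr]; simp [Matrix.smul_one_eq_diagonal])
    · have hc : Commute (factor i₀ X') (factor i₀ Z₀ + β₀ • factor i₁ N) := by
        rw [← e]; exact factor_commute (by simp [Ne.symm hj])
      have hc2 := hc.sub_right ((factor_commute (i := i₀) (Z := X') (A := update 1 i₁ N)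
        (by simp [Ne.symm h01])).smul_right β₀)
      rw [show factor i₀ Z₀ + β₀ • factor i₁ N - β₀ • pureMat (update 1 i₁ N) = factor i₀ Z₀ by
        simp [factor]] at hc2
      have h3 : X' * Z₀ = Z₀ * X' := factor_injective i₀ (by rw [← factor_mul, ← factor_mul]; exact hc2.eq)
      rw [h3] at hZβ
      refine hβ₀ ?_
      have h4 := congrFun (congrFun hZβ 0) 0
      simpa [CharTwo.add_self_eq_zero] using h4.symm
  · set B₂ := update A₂ i₀ X'
    have h2z : pureMat B₂ * pureMat B₂ = 0 := pure_sq ⟨i₀, by simp [B₂, hX'2]⟩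
    have hg₂ := (h (hS.invol_omega hJt hA₂ hs (by rw [hA₂0]; exact hsX) hA₂n h2z)).1
    have hmem := (hg₂ _).1 (factor_mem_opSpace W i₀ hZ₀)
    rw [hconj, (factor_mul_pure i₀ Z₀ B₂).1, (factor_mul_pure i₀ Z₀ B₂).2, pureMat_add,
      show B₂ i₀ = X' by simp [B₂], hZβ, pureMat_smul_one, pureMat_mul] at hmem
    obtain ⟨j, hj, hj2⟩ := hA₂n
    rw [pureMat_eq_zero (A := update B₂ i₀ (X' * Z₀) * update A₂ i₀ X') (i := j) (by simp [B₂, hj, hj2]), add_zero,
      Submodule.add_mem_iff_right _ (factor_mem_opSpace W i₀ hZ₀),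
      show update B₂ i₀ (1 : Mk) = update A₂ i₀ 1 by simp [B₂]] at hmem
    let ev : MT →ₗ[F] F := Matrix.entryLinearMap F F x y
    have hker : opSpace W t ≤ LinearMap.ker ev := iSup_le fun i => by
      rintro _ ⟨Z, hZ, rfl⟩
      exact hout i Z hZ
    have := hker hmem
    simp only [LinearMap.mem_ker, map_smul, smul_eq_mul, mul_eq_zero] at this
    exact hxy (this.resolve_left hβ₀)

end CfsgLib.MaxSub.TensorSymp
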