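/-
The two- and four-dimensional symplectic factors.
-/
import Cfsg.Agent.Lib.MaxSub.TensorWreathSymp
import Cfsg.Agent.Lib.PSLnGraph.Forms

set_option autoImplicit false

namespace CfsgLib.MaxSub.TensorSymp

open Matrix Function
open CfsgLib.Aschbacher

variable {F : Type*} [Field F] [CharP F 2]

/-- The standard alternating matrix. -/
def revJ (F : Type*) [Field F] (k : ℕ) : Matrix (Fin k) (Fin k) F := Matrix.of fun i j => if j = i.rev then 1 else 0

omit [CharP F 2] in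
theorem revJ_transpose {k : ℕ} : (revJ F k : Matrix (Fin k) (Fin k) F)ᵀ = revJ F k := by
  ext i j
  simp only [revJ, Matrix.transpose_apply, Matrix.of_apply]
  exact if_congr ⟨fun h => by rw [h, Fin.rev_rev], fun h => by rw [h, Fin.rev_rev]⟩ rfl rfl

omit [CharP F 2] in
theorem revJ_mul {k : ℕ} (A : Matrix (Fin k) (Fin k) F) (i j : Fin k) :
    ((revJ F k : Matrix (Fin k) (Fin k) F) * A : Matrix (Fin k) (Fin k) F) i j = A i.rev j := by
  simp [revJ, Matrix.mul_apply]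

omit [CharP F 2] in
theorem revJ_isUnit {k : ℕ} : IsUnit (revJ F k : Matrix (Fin k) (Fin k) F) :=
  ⟨⟨revJ F k, revJ F k, by ext i j; rw [revJ_mul]; simp [revJ, Matrix.one_apply, eq_comm],
    by ext i j; rw [revJ_mul]; simp [revJ, Matrix.one_apply, eq_comm]⟩, rfl⟩

/-- Trace zero matrices of size two. -/
def W2 (F : Type*) [Field F] : Submodule F (Matrix (Fin 2) (Fin 2) F) where
  carrier := {A | A 0 0 = A 1 1}
  add_mem' {A B} (ha : A 0 0 = A 1 1) (hb : B 0 0 = B 1 1) := by simp [ha, hb]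
  zero_mem' := by simp
  smul_mem' r A (ha : A 0 0 = A 1 1) := by simp [ha]

theorem core_two {t : ℕ} (ht : 4 ≤ t) {μ : F} (hμ0 : μ ≠ 0) (hμ1 : μ ≠ 1) {c : F}
    {Q : ((Fin t → Fin 2) → F) → F} (hS : Setup (revJ F 2) c Q) :
    ∃ K : Subgroup (GL (Fin t → Fin 2) F),
      Cfsg.Geo.tensorWreathStandard 2 t F ⊓ Cfsg.Geo.omegaGL Q < K ∧ K < Cfsg.Geo.omegaGL Q := by
  have two := CharTwo.two_eq_zero (R := F)
  let E : Matrix (Fin 2) (Fin 2) F := !![0, 1; 0, 0]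
  let s : GL (Fin 2) F :=
    ⟨!![μ, 0; 0, μ⁻¹], !![μ⁻¹, 0; 0, μ], by simp [hμ0, Matrix.one_fin_two], by simp [hμ0, Matrix.one_fin_two]⟩
  let δ : F := μ ^ 2 + 1
  have hδ : δ ≠ 0 := fun e => hμ1 (sub_eq_zero.mp (mul_self_eq_zero.mp
    (show (μ - 1) * (μ - 1) = 0 by linear_combination e - μ * two)))
  have hrev0 : (0 : Fin 2).rev = 1 := rfl
  have hrev1 : (1 : Fin 2).rev = 0 := rfl
  have symE : (revJ F 2 * E)ᵀ = revJ F 2 * E := by
    ext i j; fin_cases i <;> fin_cases j <;> simp [revJ_mul, E, hrev0, hrev1]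
  have symOne : (revJ F 2 * (1 : Matrix (Fin 2) (Fin 2) F))ᵀ = revJ F 2 * 1 := by rw [mul_one, revJ_transpose]
  have altOne : ∀ a : Fin 2, (revJ F 2 * (1 : Matrix (Fin 2) (Fin 2) F)) a a = 0 := by
    intro a; fin_cases a <;> simp [revJ]
  have hE2 : E * E = 0 := by ext i j; fin_cases i <;> fin_cases j <;> simp [E]
  have hcl : ∀ Z ∈ W2 F, E * Z + Z * E = Z 1 0 • (1 : Matrix (Fin 2) (Fin 2) F) := by
    intro Z (hZ : Z 0 0 = Z 1 1)
    ext i j
    fin_cases i <;> fin_cases j <;> simp [E, Matrix.mul_apply, Fin.sum_univ_two, Matrix.vecMul, dotProduct]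
    all_goals linear_combination hZ + Z 1 1 * two
  let i₀ : Fin t := ⟨0, by omega⟩
  let i₁ : Fin t := ⟨1, by omega⟩
  let i₂ : Fin t := ⟨2, by omega⟩
  let i₃ : Fin t := ⟨3, by omega⟩
  have h10 : i₁ ≠ i₀ := by simp [i₀, i₁, Fin.ext_iff]
  have h20 : i₂ ≠ i₀ := by simp [i₀, i₂, Fin.ext_iff]
  have h21 : i₂ ≠ i₁ := by simp [i₁, i₂, Fin.ext_iff]
  have h30 : i₃ ≠ i₀ := by simp [i₀, i₃, Fin.ext_iff]
  have h31 : i₃ ≠ i₁ := by simp [i₁, i₃, Fin.ext_iff]
  have h32 : i₃ ≠ i₂ := by simp [i₂, i₃, Fin.ext_iff]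
  let A₁ : Fin t → Matrix (Fin 2) (Fin 2) F := update (update 1 i₁ E) i₀ E
  let A₂ : Fin t → Matrix (Fin 2) (Fin 2) F := update (update (update 1 i₂ E) i₁ E) i₀ E
  have hA₁ : Valid (revJ F 2) A₁ := by
    refine ⟨fun i => ?_, ⟨i₃, fun a => by simpa [A₁, h30, h31] using altOne a⟩, ⟨i₀, by simp [A₁, hE2]⟩⟩
    simp only [A₁, update_apply, Pi.one_apply]
    split_ifs <;> first | exact symE | exact symOne
  have hA₂ : Valid (revJ F 2) A₂ := by
    refine ⟨fun i => ?_, ⟨i₃, fun a => by simpa [A₂, h30, h31, h32] using altOne a⟩, ⟨i₀, by simp [A₂, hE2]⟩⟩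
    simp only [A₂, update_apply, Pi.one_apply]
    split_ifs <;> first | exact symE | exact symOne
  refine exists_between (W2 F) hS revJ_isUnit revJ_transpose ?_ (s := s) ?_ (X := E) (X' := δ • E) (N := E)
    (Z₀ := !![0, 0; 1, 0]) ?_ (Submodule.smul_mem _ _ (show E 0 0 = E 1 1 by simp [E]))
    (show E 0 0 = E 1 1 by simp [E]) (show (!![0, 0; 1, 0] : Matrix (Fin 2) (Fin 2) F) 0 0 = _ by simp)
    (by rw [Matrix.smul_mul, Matrix.mul_smul, hE2, smul_zero, smul_zero]) hE2 ?_ ?_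
    (fun Z hZ => ⟨_, hcl Z hZ⟩) hδ ?_ h10 hA₁ hA₂ (by simp [A₂]) ⟨i₁, h10, by simp [A₂, h10, hE2]⟩
    (x := fun _ => 0) (y := fun i => if i = i₁ ∨ i = i₂ then 1 else 0) ?_ ?_
  · intro a _ Z (hZ : Z 0 0 = Z 1 1)
    have h1 := Matrix.trace_units_conj a Z
    rw [Matrix.trace_fin_two, Matrix.trace_fin_two, hZ] at h1
    show (a.1 * Z * (a⁻¹).1) 0 0 = (a.1 * Z * (a⁻¹).1) 1 1
    linear_combination h1 + (Z 1 1 - (a.1 * Z * (a⁻¹).1) 1 1) * two
  · show (!![μ, 0; 0, μ⁻¹] : Matrix (Fin 2) (Fin 2) F)ᵀ * revJ F 2 * !![μ, 0; 0, μ⁻¹] = revJ F 2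
    ext i j
    fin_cases i <;> fin_cases j <;>
      simp [Matrix.mul_apply, Fin.sum_univ_two, revJ, Matrix.transpose_apply, hrev0, hrev1, hμ0]
  · show (!![μ, 0; 0, μ⁻¹] : Matrix (Fin 2) (Fin 2) F) * E * !![μ⁻¹, 0; 0, μ] = _
    ext i j
    fin_cases i <;> fin_cases j <;> simp [E, δ, Matrix.mul_apply, Fin.sum_univ_two]
    linear_combination -two
  · intro r e
    have := congrFun (congrFun e 0) 1
    simp [E] at this
  · intro Z hZ
    exact ⟨δ * Z 1 0, by rw [Matrix.smul_mul, Matrix.mul_smul, ← smul_add, hcl Z hZ, smul_smul]⟩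
  · rw [Matrix.smul_mul, Matrix.mul_smul, ← smul_add, hcl _ (show (!![0, 0; 1, 0] : Matrix (Fin 2) (Fin 2) F) 0 0 = _ by simp)]
    simp
  · rw [pureMat_apply]
    refine Finset.prod_ne_zero_iff.mpr fun i _ => ?_
    by_cases hi0 : i = i₀
    · subst hi0; simp [h10.symm, h20.symm]
    by_cases hi1 : i = i₁
    · subst hi1; simp [A₂, h10, E]
    by_cases hi2 : i = i₂
    · subst hi2; simp [A₂, h20, h21, E]
    · simp [A₂, hi0, hi1, hi2]
  · intro i Z _
    rw [factor_apply, if_neg]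
    intro h
    by_cases hi : i = i₁
    · subst hi; simpa using h i₂ h21
    · simpa using h i₁ (Ne.symm hi)

/-- The five-dimensional space of operators on a four-dimensional symplectic space. -/
def Good4 (β : Matrix (Fin 4) (Fin 4) F) : Prop :=
  βᵀ = β ∧ (∀ i, β i i = 0) ∧ β 0 3 + β 1 2 = 0

/-- Operators `A` with `J A` alternating and of zero contraction. -/
def W4 (F : Type*) [Field F] : Submodule F (Matrix (Fin 4) (Fin 4) F) where
  carrier := {A | Good4 (revJ F 4 * A)}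
  add_mem' {A B} ha hb := by
    show Good4 _
    rw [Matrix.mul_add]
    exact ⟨by rw [Matrix.transpose_add, ha.1, hb.1], fun i => by simp [ha.2.1, hb.2.1], by
      simp only [Matrix.add_apply]; linear_combination ha.2.2 + hb.2.2⟩
  zero_mem' := ⟨by simp, by simp, by simp⟩
  smul_mem' r A ha := by
    show Good4 _
    rw [Matrix.mul_smul]
    exact ⟨by rw [Matrix.transpose_smul, ha.1], fun i => by simp [ha.2.1], by
      simp only [Matrix.smul_apply, smul_eq_mul]; linear_combination r * ha.2.2⟩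

/-- The Pfaffian of size four. -/
def pf4 (β : Matrix (Fin 4) (Fin 4) F) : F := β 0 1 * β 2 3 + β 0 2 * β 1 3 + β 0 3 * β 1 2

theorem det_eq_pf {β : Matrix (Fin 4) (Fin 4) F} (h : βᵀ = β) (hd : ∀ i, β i i = 0) :
    β.det = pf4 β ^ 2 := by
  have hs : ∀ i j, β j i = β i j := fun i j => congrFun (congrFun h i) j
  have two := CharTwo.two_eq_zero (R := F)
  rw [pf4, Matrix.det_succ_row_zero]
  simp [Fin.sum_univ_succ, Matrix.det_fin_three, Fin.succAbove, hd, hs 0 1, hs 0 2, hs 0 3, hs 1 2, hs 1 3,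
    hs 2 3]
  linear_combination (-2 * (β 0 1 * β 2 3 * β 0 2 * β 1 3 + β 0 1 * β 2 3 * β 0 3 * β 1 2 +
    β 0 2 * β 1 3 * β 0 3 * β 1 2)) * two

theorem good4_congr {β b : Matrix (Fin 4) (Fin 4) F} (hβ : Good4 β) {u : F} (hu : u ≠ 0)
    (hb : bᵀ * revJ F 4 * b = u • revJ F 4) : Good4 (bᵀ * β * b) := by
  have two := CharTwo.two_eq_zero (R := F)
  have hneg : ∀ M : Matrix (Fin 4) (Fin 4) F, -M = M := fun M => by ext i j; simp [CharTwo.neg_eq]
  have hsym : ∀ X : Matrix (Fin 4) (Fin 4) F, Xᵀ = X → (bᵀ * X * b)ᵀ = bᵀ * X * b := fun X hX => by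
    rw [Matrix.transpose_mul, Matrix.transpose_mul, Matrix.transpose_transpose, hX, mul_assoc]
  have halt : ∀ X : Matrix (Fin 4) (Fin 4) F, Xᵀ = X → (∀ i, X i i = 0) → ∀ i, (bᵀ * X * b) i i = 0 := by
    intro X hX hXd i
    have h := PSLnGraph.alt_quad (G := X) (by rw [hneg, hX]) hXd (fun l => b l i)
    rw [← h, mul_assoc]
    simp [Matrix.mul_apply, dotProduct, Matrix.mulVec]
  refine ⟨hsym β hβ.1, halt β hβ.1 hβ.2.1, ?_⟩
  have hJd : ∀ i, (revJ F 4 : Matrix (Fin 4) (Fin 4) F) i i = 0 := fun i => by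
    fin_cases i <;> simp [revJ, Fin.ext_iff]
  have hsq : ∀ x y : F, x ^ 2 = y ^ 2 → x = y := fun x y h => sub_eq_zero.mp (mul_self_eq_zero.mp
    (show (x - y) * (x - y) = 0 by linear_combination h - (x * y - y * y) * two))
  have key : ∀ X : Matrix (Fin 4) (Fin 4) F, Xᵀ = X → (∀ i, X i i = 0) →
      pf4 (bᵀ * X * b) = b.det * pf4 X := fun X hX hXd => hsq _ _ (by
    rw [← det_eq_pf (hsym X hX) (halt X hX hXd), Matrix.det_mul, Matrix.det_mul, Matrix.det_transpose,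
      det_eq_pf hX hXd]
    ring)
  have k1 := key β hβ.1 hβ.2.1
  have k2 := key (revJ F 4) revJ_transpose hJd
  have k3 := key (β + revJ F 4) (by rw [Matrix.transpose_add, hβ.1, revJ_transpose])
    (fun i => by simp [hβ.2.1, hJd])
  rw [Matrix.mul_add, Matrix.add_mul, hb] at k3
  rw [hb] at k2
  set γ := bᵀ * β * b
  have r03 : ((3 : Fin 4) = (0 : Fin 4).rev) := rfl
  have r12 : ((2 : Fin 4) = (1 : Fin 4).rev) := rfl
  simp [pf4, revJ, Fin.rev] at k1 k2 k3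
  have hmain : u * (γ 0 3 + γ 1 2) = 0 := by
    linear_combination k3 - k1 - k2 + b.det * hβ.2.2
  exact (mul_eq_zero.mp hmain).resolve_left hu

set_option maxHeartbeats 1000000 in
theorem core_four {t : ℕ} (ht : 2 ≤ t) {c : F} {Q : ((Fin t → Fin 4) → F) → F}
    (hS : Setup (revJ F 4) c Q) :
    ∃ K : Subgroup (GL (Fin t → Fin 4) F),
      Cfsg.Geo.tensorWreathStandard 4 t F ⊓ Cfsg.Geo.omegaGL Q < K ∧ K < Cfsg.Geo.omegaGL Q := by
  have two := CharTwo.two_eq_zero (R := F)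
  let Ea : Matrix (Fin 4) (Fin 4) F := !![0, 0, 1, 0; 0, 0, 0, 1; 0, 0, 0, 0; 0, 0, 0, 0]
  let Eb : Matrix (Fin 4) (Fin 4) F := !![0, 1, 0, 0; 0, 0, 0, 0; 0, 0, 0, 1; 0, 0, 0, 0]
  let Fb : Matrix (Fin 4) (Fin 4) F := !![0, 0, 0, 0; 1, 0, 0, 0; 0, 0, 0, 0; 0, 0, 1, 0]
  let Y : Matrix (Fin 4) (Fin 4) F := !![0, 0, 0, 1; 0, 0, 0, 0; 0, 0, 0, 0; 0, 0, 0, 0]
  let S : Matrix (Fin 4) (Fin 4) F := !![1, 0, 0, 0; 0, 1, 0, 0; 0, 1, 1, 0; 0, 0, 0, 1]
  have hSS : S * S = 1 := by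
    ext i j; fin_cases i <;> fin_cases j <;> simp [S, Matrix.mul_apply, Fin.sum_univ_four, CharTwo.add_self_eq_zero]
  let s : GL (Fin 4) F := ⟨S, S, hSS, hSS⟩
  have memW : ∀ A : Matrix (Fin 4) (Fin 4) F, A ∈ W4 F ↔ Good4 (revJ F 4 * A) := fun _ => Iff.rfl
  have hEbW : Eb ∈ W4 F := by
    rw [memW]
    refine ⟨?_, ?_, ?_⟩
    · ext i j; fin_cases i <;> fin_cases j <;> simp [revJ_mul, Eb, Fin.rev]
    · intro i; fin_cases i <;> simp [revJ_mul, Eb, Fin.rev]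
    · simp [revJ_mul, Eb, Fin.rev]
  have hFbW : Fb ∈ W4 F := by
    rw [memW]
    refine ⟨?_, ?_, ?_⟩
    · ext i j; fin_cases i <;> fin_cases j <;> simp [revJ_mul, Fb, Fin.rev]
    · intro i; fin_cases i <;> simp [revJ_mul, Fb, Fin.rev]
    · simp [revJ_mul, Fb, Fin.rev]
  have hEb2 : Eb * Eb = 0 := by
    ext i j; fin_cases i <;> fin_cases j <;> simp [Eb, Matrix.mul_apply, Fin.sum_univ_four]
  have hY2 : Y * Y = 0 := by
    ext i j; fin_cases i <;> fin_cases j <;> simp [Y, Matrix.mul_apply, Fin.sum_univ_four]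
  have symEa : (revJ F 4 * Ea)ᵀ = revJ F 4 * Ea := by
    ext i j; fin_cases i <;> fin_cases j <;> simp [revJ_mul, Ea, Fin.rev]
  have altEa : ∀ a : Fin 4, (revJ F 4 * Ea) a a = 0 := by
    intro a; fin_cases a <;> simp [revJ_mul, Ea, Fin.rev]
  have symEb : (revJ F 4 * Eb)ᵀ = revJ F 4 * Eb := ((memW Eb).1 hEbW).1
  have symY : (revJ F 4 * Y)ᵀ = revJ F 4 * Y := by
    ext i j; fin_cases i <;> fin_cases j <;> simp [revJ_mul, Y, Fin.rev]
  have symOne : (revJ F 4 * (1 : Matrix (Fin 4) (Fin 4) F))ᵀ = revJ F 4 * 1 := by rw [mul_one, revJ_transpose]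
  have hout0 : ∀ Z ∈ W4 F, Z 0 3 = 0 := by
    intro Z hZ
    have h := ((memW Z).1 hZ).2.1 3
    rwa [revJ_mul] at h
  have hcl : ∀ Z ∈ W4 F, Eb * Z + Z * Eb = Z 1 0 • (1 : Matrix (Fin 4) (Fin 4) F) := by
    intro Z hZ
    obtain ⟨hsym, hd, hτ⟩ := (memW Z).1 hZ
    have s01 := congrFun (congrFun hsym 0) 1
    have s02 := congrFun (congrFun hsym 0) 2
    have s03 := congrFun (congrFun hsym 0) 3
    have s12 := congrFun (congrFun hsym 1) 2
    have s13 := congrFun (congrFun hsym 1) 3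
    have s23 := congrFun (congrFun hsym 2) 3
    have d0 := hd 0
    have d1 := hd 1
    have d2 := hd 2
    have d3 := hd 3
    simp [revJ_mul, Fin.rev, Matrix.transpose_apply] at s01 s02 s03 s12 s13 s23 d0 d1 d2 d3 hτ
    ext i j
    fin_cases i <;> fin_cases j <;>
      simp [Eb, Matrix.mul_apply, Fin.sum_univ_four, Matrix.vecMul, dotProduct, d0, d1, d2, d3]
    all_goals grobner
  let i₀ : Fin t := ⟨0, by omega⟩
  let i₁ : Fin t := ⟨1, by omega⟩
  have h10 : i₁ ≠ i₀ := by simp [i₀, i₁, Fin.ext_iff]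
  have hA₁ : Valid (revJ F 4) (update (update (1 : Fin t → Matrix (Fin 4) (Fin 4) F) i₁ Eb) i₀ Ea) := by
    refine ⟨fun i => ?_, ⟨i₀, fun a => by simpa using altEa a⟩, ⟨i₁, by simp [h10, hEb2]⟩⟩
    simp only [update_apply, Pi.one_apply]
    split_ifs <;> first | exact symEa | exact symEb | exact symOne
  have hA₂ : Valid (revJ F 4) (update (update (1 : Fin t → Matrix (Fin 4) (Fin 4) F) i₁ Y) i₀ Ea) := by
    refine ⟨fun i => ?_, ⟨i₀, fun a => by simpa using altEa a⟩, ⟨i₁, by simp [h10, hY2]⟩⟩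
    simp only [update_apply, Pi.one_apply]
    split_ifs <;> first | exact symEa | exact symY | exact symOne
  refine exists_between (W4 F) hS revJ_isUnit revJ_transpose ?_ (s := s) ?_ (X := Ea) (X' := Eb) (N := Eb)
    (Z₀ := Fb) ?_ hEbW hEbW hFbW hEb2 hEb2 ?_ (fun Z hZ => ⟨_, hcl Z hZ⟩) (fun Z hZ => ⟨_, hcl Z hZ⟩)
    (β₀ := 1) one_ne_zero ?_ h10 hA₁ hA₂ (by simp) ⟨i₁, h10, by simp [h10, hY2]⟩
    (x := fun _ => 0) (y := fun i => if i = i₁ then 3 else 0) ?_ ?_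
  · rintro a ⟨r, hr, ha⟩ Z hZ
    rw [memW] at hZ ⊢
    have hb : ((a⁻¹).1)ᵀ * revJ F 4 * (a⁻¹).1 = r⁻¹ • (revJ F 4 : Matrix (Fin 4) (Fin 4) F) := by
      have h1 := congrArg (fun M => r⁻¹ • (((a⁻¹).1)ᵀ * M * (a⁻¹).1)) ha
      have e1 : ((a⁻¹).1)ᵀ * a.1ᵀ = 1 := by rw [← Matrix.transpose_mul, Units.mul_inv, Matrix.transpose_one]
      rw [show ((a⁻¹).1)ᵀ * (a.1ᵀ * revJ F 4 * a.1) * (a⁻¹).1 = revJ F 4 by
        simp only [← mul_assoc, e1, one_mul]; rw [mul_assoc, Units.mul_inv, mul_one]] at h1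
      rw [h1, Matrix.mul_smul, Matrix.smul_mul, smul_smul, inv_mul_cancel₀ hr, one_smul]
    have hJa : revJ F 4 * a.1 = r • (((a⁻¹).1)ᵀ * revJ F 4) := by
      have e1 : ((a⁻¹).1)ᵀ * a.1ᵀ = 1 := by rw [← Matrix.transpose_mul, Units.mul_inv, Matrix.transpose_one]
      rw [← Matrix.mul_smul, ← ha, ← mul_assoc, ← mul_assoc, e1, one_mul]
    have e : revJ F 4 * (a.1 * Z * (a⁻¹).1) = r • (((a⁻¹).1)ᵀ * (revJ F 4 * Z) * (a⁻¹).1) := by
      rw [← mul_assoc, ← mul_assoc, hJa]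
      simp only [Matrix.smul_mul, mul_assoc]
    have hg := good4_congr hZ (inv_ne_zero hr) hb
    rw [e]
    exact ⟨by rw [Matrix.transpose_smul, hg.1], fun i => by rw [Matrix.smul_apply, hg.2.1, smul_zero], by
      simp only [Matrix.smul_apply, smul_eq_mul]; linear_combination r * hg.2.2⟩
  · show Sᵀ * revJ F 4 * S = revJ F 4
    ext i j
    fin_cases i <;> fin_cases j <;>
      simp [S, Matrix.mul_apply, Fin.sum_univ_four, revJ, Fin.rev, CharTwo.add_self_eq_zero]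
  · show S * Ea * S = Ea + Eb
    ext i j
    fin_cases i <;> fin_cases j <;> simp [S, Ea, Eb, Matrix.mul_apply, Fin.sum_univ_four]
  · intro r e
    have := congrFun (congrFun e 0) 1
    simp [Eb] at this
  · rw [hcl _ hFbW]; simp [Fb]
  · rw [pureMat_apply]
    refine Finset.prod_ne_zero_iff.mpr fun i _ => ?_
    by_cases hi0 : i = i₀
    · subst hi0; simp [h10.symm]
    by_cases hi1 : i = i₁
    · subst hi1; simp [h10, Y]
    · simp [hi0, hi1]
  · intro i Z hZ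
    rw [factor_apply]
    by_cases hi : i = i₁
    · subst hi
      simp [hout0 Z hZ]
    · rw [if_neg fun h => ?_]
      simpa using h i₁ (Ne.symm hi)

end CfsgLib.MaxSub.TensorSymp
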