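/-
Normalising the frame of a symplectic tensor power.
-/
import Cfsg.Agent.Lib.MaxSub.TensorWreathSympData

set_option autoImplicit false

namespace CfsgLib.MaxSub.TensorSymp

open Matrix Function
open CfsgLib.Aschbacher

variable {F : Type*} [Field F] [CharP F 2] {n k t : ℕ}

/-- A symplectic form of degree two or four has a standard basis, up to a scalar. -/
theorem exists_standard {G : Matrix (Fin k) (Fin k) F} (hk : k = 2 ∨ k = 4) (hG : Gᵀ = G)
    (hd : ∀ i, G i i = 0) (hdet : G.det ≠ 0) :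
    ∃ (C : GL (Fin k) F) (r : F), r ≠ 0 ∧ C.1ᵀ * G * C.1 = r • revJ F k := by
  have hneg : -G = G := by ext i j; simp [CharTwo.neg_eq]
  obtain ⟨m, hm, P, P', s, hP, hP', hs⟩ := PSLnGraph.exists_symp (G := G) (by rw [hneg, hG]) hd hdet
  rw [Fintype.card_fin] at hm
  obtain ⟨φ, hφ⟩ : ∃ φ : Fin k ≃ Fin m ⊕ Fin m, (Matrix.J (Fin m) F).submatrix φ φ = revJ F k := by
    rcases hk with rfl | rfl
    · obtain rfl : m = 1 := by omega
      refine ⟨(finSumFinEquiv (m := 1) (n := 1)).symm, ?_⟩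
      ext i j
      fin_cases i <;> fin_cases j <;>
        simp [Matrix.J, revJ, finSumFinEquiv, Fin.addCases, CharTwo.neg_eq]
    · obtain rfl : m = 2 := by omega
      refine ⟨(Equiv.swap (2 : Fin 4) 3).trans (finSumFinEquiv (m := 2) (n := 2)).symm, ?_⟩
      ext i j
      fin_cases i <;> fin_cases j <;>
        simp [Matrix.J, revJ, finSumFinEquiv, Fin.addCases, Equiv.swap_apply_def, Fin.rev, Fin.castLT,
          Fin.subNat, CharTwo.neg_eq]
  let C : Matrix (Fin k) (Fin k) F := P.submatrix id φ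
  have hC : Cᵀ * G * C = (s⁻¹ : Fˣ).1 • revJ F k := by
    rw [← hφ, ← hs]
    ext i j
    simp [C, Matrix.mul_apply]
  have hu : IsUnit C := by
    have h : (P'.submatrix φ id) * C = 1 := by
      rw [Matrix.submatrix_mul _ _ _ id _ bijective_id |>.symm, hP', Matrix.submatrix_one_equiv]
    exact IsUnit.of_mul_eq_one_right _ h
  exact ⟨hu.unit, _, (s⁻¹).ne_zero, hC⟩

omit [CharP F 2] in
theorem gram_det_ne_zero {f₁ : (Fin k → F) → (Fin k → F) → F} (hf₁ : Cfsg.Geo.IsSymplecticForm f₁) :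
    (Cfsg.Geo.gramMatrix f₁).det ≠ 0 := by
  intro h0
  have hb := hf₁.bilinear
  obtain ⟨v, hv, hGv⟩ := Matrix.exists_mulVec_eq_zero_iff.mpr h0
  obtain ⟨⟨x, hx⟩, -⟩ := hf₁.nondegenerate v hv
  apply hx
  let B : LinearMap.BilinForm F (Fin k → F) :=
    LinearMap.mk₂ F f₁ hb.add_left hb.smul_left (fun v x y => hb.add_right v x y)
      (fun c v x => hb.smul_right c v x)
  show B x v = 0
  have hB : LinearMap.toMatrix₂' F B = Cfsg.Geo.gramMatrix f₁ := by
    ext a b; simp [B, Cfsg.Geo.gramMatrix, LinearMap.toMatrix₂'_apply]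
  rw [← Matrix.toLinearMap₂'_toMatrix' (R := F) B, hB, Matrix.toLinearMap₂'_apply', hGv,
    dotProduct_zero]

/-- The stabiliser of a symplectic tensor power is not maximal. -/
theorem exists_between_frame {Q : (Fin n → F) → F} (hQ : Cfsg.Geo.IsNondegenerateQuadraticForm Q)
    (e : Fin n ≃ (Fin t → Fin k)) (P : GL (Fin n) F) {f₁ : (Fin k → F) → (Fin k → F) → F}
    (hk : k = 2 ∨ k = 4) (hf₁ : Cfsg.Geo.IsSymplecticForm f₁)
    (hT : Cfsg.Geo.IsTensorPowerFormStructure id (QuadraticMap.polar Q) f₁ e P)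
    (hpure : ∀ xs : Fin t → (Fin k → F), Q (Matrix.mulVec (P : Matrix (Fin n) (Fin n) F)
      ((fun a : Fin t → Fin k => ∏ i, xs i (a i)) ∘ e)) = 0)
    (core : ∀ (c : F) (Q' : ((Fin t → Fin k) → F) → F), Setup (revJ F k) c Q' →
      ∃ K : Subgroup (GL (Fin t → Fin k) F),
        Cfsg.Geo.tensorWreathStandard k t F ⊓ Cfsg.Geo.omegaGL Q' < K ∧ K < Cfsg.Geo.omegaGL Q') :
    ∃ K : Subgroup (GL (Fin n) F),
      Cfsg.Geo.tensorWreathSubgroup k t e P ⊓ Cfsg.Geo.omegaGL Q < K ∧ K < Cfsg.Geo.omegaGL Q := by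
  set G := Cfsg.Geo.gramMatrix f₁ with hGdef
  have hG : Gᵀ = G := by
    ext a b
    show f₁ _ _ = f₁ _ _
    rw [hf₁.skew, CharTwo.neg_eq]
  have hdet : G.det ≠ 0 := gram_det_ne_zero hf₁
  obtain ⟨C, r, hr, hC⟩ := exists_standard hk hG (fun i => hf₁.alternating _) hdet
  obtain ⟨c, hc, hform⟩ := hT
  set D : GL (Fin t → Fin k) F := pureGL fun _ => C with hD
  let L : ((Fin t → Fin k) → F) → (Fin n → F) := fun x => P.1 *ᵥ ((D.1 *ᵥ x) ∘ e)
  let ψ : GL (Fin t → Fin k) F ≃* GL (Fin n) F := (MulAut.conj D).trans (frU e P)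
  have hL : ∀ g x, (ψ g).1 *ᵥ L x = L (g.1 *ᵥ x) := by
    intro g x
    show ((frU e P (D * g * D⁻¹)) : GL (Fin n) F).1 *ᵥ _ = _
    rw [frU_val, frAlg_apply]
    simp only [L, Units.val_mul, ← Matrix.mulVec_mulVec, Matrix.mulVec_mulVec _ ((P⁻¹).1) P.1,
      Units.inv_mul, Matrix.one_mulVec]
    congr 1
    rw [Matrix.submatrix_mulVec_equiv]
    simp only [comp_assoc, Equiv.self_comp_symm, comp_id, Matrix.mulVec_mulVec, mul_assoc,
      Units.inv_mul, mul_one]
  have hLsurj : Surjective L := by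
    intro v
    refine ⟨(D⁻¹).1 *ᵥ (((P⁻¹).1 *ᵥ v) ∘ e.symm), ?_⟩
    simp only [L, Matrix.mulVec_mulVec, Units.mul_inv, Matrix.one_mulVec, comp_assoc,
      Equiv.symm_comp_self, comp_id]
  set Q' : ((Fin t → Fin k) → F) → F := fun x => Q (L x) with hQ'
  have hLsmul : ∀ (a : F) x, L (a • x) = a • L x := by
    intro a x
    simp only [L, Matrix.mulVec_smul]
    rw [show (a • (D.1 *ᵥ x)) ∘ e = a • ((D.1 *ᵥ x) ∘ e) from rfl, Matrix.mulVec_smul]
  have hLadd : ∀ x y, L (x + y) = L x + L y := by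
    intro x y
    simp only [L, Matrix.mulVec_add]
    rw [show (D.1 *ᵥ x + D.1 *ᵥ y) ∘ e = (D.1 *ᵥ x) ∘ e + (D.1 *ᵥ y) ∘ e from rfl, Matrix.mulVec_add]
  have hS : Setup (revJ F k) (c * r ^ t) Q' := by
    refine ⟨mul_ne_zero hc (pow_ne_zero _ hr), fun a x => by simp only [hQ', hLsmul, hQ.smul],
      fun x y => ?_, fun xs => ?_⟩
    · have h := hform (D.1 *ᵥ x) (D.1 *ᵥ y)
      have e1 : QuadraticMap.polar Q' x y = QuadraticMap.polar Q (L x) (L y) := by
        simp only [QuadraticMap.polar, hQ', hLadd]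
      have e2 : (∑ a, ∑ b, (D.1 *ᵥ x) a * (∏ i, G (a i) (b i)) * id ((D.1 *ᵥ y) b)) =
          (D.1 *ᵥ x) ⬝ᵥ (jPow G t *ᵥ (D.1 *ᵥ y)) := by
        simp [dotProduct, Matrix.mulVec, jPow, pureMat_apply, Finset.mul_sum, mul_assoc]
      rw [e1, h, ← hGdef, e2, ← Matrix.vecMul_transpose, ← Matrix.dotProduct_mulVec, Matrix.mulVec_mulVec,
        Matrix.mulVec_mulVec, mul_assoc c]
      congr 1
      have e3 : D.1ᵀ * jPow G t * D.1 = r ^ t • jPow (revJ F k) t := by
        show (pureMat _)ᵀ * pureMat _ * pureMat _ = _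
        rw [show ∀ A : Fin t → Matrix (Fin k) (Fin k) F, (pureMat A)ᵀ = pureMat fun j => (A j)ᵀ from
          fun _ => rfl, pureMat_mul, pureMat_mul]
        have : ((fun _ => C.1ᵀ) * (fun _ => G) * fun _ => C.1 : Fin t → Matrix (Fin k) (Fin k) F) =
            fun _ => r • revJ F k := funext fun _ => hC
        rw [this, pureMat_smul, Finset.prod_const, Finset.card_univ, Fintype.card_fin]
        rfl
      rw [e3, Matrix.smul_mulVec, dotProduct_smul, smul_eq_mul]
    · have e4 : D.1 *ᵥ (fun a => ∏ i, xs i (a i)) = fun a => ∏ i, (C.1 *ᵥ xs i) (a i) := by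
        funext a
        show ∑ b : Fin t → Fin k, (∏ i, C.1 (a i) (b i)) * ∏ i, xs i (b i) = _
        simp only [← Finset.prod_mul_distrib]
        exact (Fintype.prod_sum fun i l => C.1 (a i) l * xs i l).symm
      show Q (L _) = 0
      simp only [L, e4]
      exact hpure _
  obtain ⟨K, hK1, hK2⟩ := core _ _ hS
  have hiso : (Cfsg.isometryGroup F Q').map ψ.toMonoidHom = Cfsg.isometryGroup F Q := by
    ext h
    rw [Subgroup.mem_map_equiv]
    constructor
    · intro hh u v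
      obtain ⟨x, rfl⟩ := hLsurj u
      show Q (h.1 *ᵥ L x) = Q (L x)
      rw [← ψ.apply_symm_apply h, hL]
      exact hh x x
    · intro hh x y
      show Q (L ((ψ.symm h).1 *ᵥ x)) = Q (L x)
      rw [← hL, ψ.apply_symm_apply]
      exact hh (L x) (L x)
  have hΩ : (Cfsg.Geo.omegaGL Q').map ψ.toMonoidHom = Cfsg.Geo.omegaGL Q := by
    rw [Cfsg.Geo.omegaGL, Cfsg.Geo.omegaGL, Subgroup.map_subtype_commutator,
      Subgroup.map_subtype_commutator, Subgroup.map_commutator, hiso]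
  have hW : (Cfsg.Geo.tensorWreathStandard k t F).map ψ.toMonoidHom =
      Cfsg.Geo.tensorWreathSubgroup k t e P := by
    rw [Cfsg.Geo.tensorWreathSubgroup, map_glReindex_conj]
    have hDmem : D ∈ Cfsg.Geo.tensorWreathStandard k t F :=
      Subgroup.subset_closure (Or.inl (isPureTensor_pureGL _))
    ext h
    rw [Subgroup.mem_map_equiv, Subgroup.mem_map_equiv]
    show D⁻¹ * (frU e P).symm h * D ∈ _ ↔ _
    rw [Subgroup.mul_mem_cancel_right _ hDmem, Subgroup.mul_mem_cancel_left _ (inv_mem hDmem)]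
  have hinj : Injective ψ.toMonoidHom := ψ.injective
  refine ⟨K.map ψ.toMonoidHom, ?_, ?_⟩
  · rw [← hW, ← hΩ, ← Subgroup.map_inf _ _ _ hinj]
    exact Subgroup.map_lt_map_iff_of_injective hinj |>.mpr hK1
  · rw [← hΩ]
    exact Subgroup.map_lt_map_iff_of_injective hinj |>.mpr hK2

end CfsgLib.MaxSub.TensorSymp
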